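import Cfsg.Agent.Aschbacher.FormedTensorCases
import Cfsg.Agent.Aschbacher.FormedPowerCases
import Cfsg.Agent.Aschbacher.FormedSympCases
import Cfsg.Prelude.Def_ClassicalGeometry

/-! Lemmas for Aschbacher's theorem in the symplectic case. -/

set_option autoImplicit false
set_option linter.unusedSectionVars false
set_option linter.style.haveILetI false

namespace Cfsg.Agent.Symplectic.Asch

open scoped MatrixGroups Matrix Kronecker
open Cfsg Cfsg.Geo Cfsg.Agent.Aschbacher

variable {ι : Type} [Fintype ι] [DecidableEq ι] {F : Type*} [Field F]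
variable {f : (ι → F) → (ι → F) → F}

local notation "σ₀" => RingEquiv.refl F

/-- A subspace with a non-degenerate alternating form has even dimension. -/
theorem even_finrank_of_nondegenerate (h : FormSpace σ₀ (-1) f) (halt : ∀ v, f v v = 0)
    {W : Submodule F (ι → F)} (hW : IsNondegenerateOn f W) : Even (Module.finrank F W) := by
  classical
  let b := Module.finBasis F W
  let A : Matrix (Fin (Module.finrank F W)) (Fin (Module.finrank F W)) F :=
    Matrix.of fun i j => f (b i) (b j)
  have hA : A.det ≠ 0 := by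
    intro hdet
    obtain ⟨x, hx, hxA⟩ := Matrix.exists_mulVec_eq_zero_iff.mpr hdet
    let w : W := ∑ j, x j • b j
    have hw : (w : ι → F) ≠ 0 := by
      intro h0
      apply hx
      funext j
      exact Fintype.linearIndependent_iff.mp b.linearIndependent x (Subtype.ext h0) j
    obtain ⟨⟨y, hy, hyw⟩, -⟩ := hW _ w.2 hw
    apply hyw
    let ψ : W →ₗ[F] F :=
      { toFun := fun z => f z w
        map_add' := fun a c => by simp [h.sesq.add_left]
        map_smul' := fun c a => by simp [h.sesq.smul_left] }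
    have hψ : ψ = 0 := b.ext fun i => by
      show f (b i) (w : ι → F) = 0
      let φ : W →ₗ[F] F :=
        { toFun := fun z => f (b i) z
          map_add' := fun a c => by simp [h.sesq.add_right]
          map_smul' := fun c a => by simp [h.sesq.smul_right] }
      show φ w = 0
      simp only [w, map_sum, map_smul, smul_eq_mul]
      have := congrFun hxA i
      simp only [Matrix.mulVec, dotProduct, A, Matrix.of_apply, Pi.zero_apply] at this
      rw [← this]
      exact Finset.sum_congr rfl fun j _ => mul_comm _ _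
    exact LinearMap.congr_fun hψ ⟨y, hy⟩
  have := even_card_of_alternating (A := A) (fun i j => by
    show f (b i) (b j) = - f (b j) (b i)
    rw [h.herm (b j) (b i), RingEquiv.refl_apply, neg_one_mul]) (fun i => halt _)
    ((Matrix.isUnit_iff_isUnit_det A).mpr (Ne.isUnit hA))
  simpa using this

theorem even_of_decomposition (h : FormSpace σ₀ (-1) f) (halt : ∀ v, f v v = 0) {t k : ℕ}
    {D : Fin t → Submodule F (ι → F)} (hD : IsNondegenerateMDecomposition f k D) : Even k := by
  have := hD.decomp.two_le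
  rw [← hD.decomp.finrank_eq ⟨0, by omega⟩]
  exact even_finrank_of_nondegenerate h halt (hD.nondegenerate _)

/-- A subspace invariant under a field subalgebra has dimension divisible by the degree. -/
theorem dvd_finrank_of_invariant [Nonempty ι] {d : ℕ} {K : Subalgebra F (Matrix ι ι F)}
    (hK : IsFieldSubalgebra d K) {W : Submodule F (ι → F)}
    (hW : ∀ k ∈ K, ∀ v ∈ W, k *ᵥ v ∈ W) : d ∣ Module.finrank F W := by
  letI := (isField_of_isFieldSubalgebra hK).toField
  let φ : K →+* Module.End F W :=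
    { toFun := fun k => ((Matrix.toLin' (k : Matrix ι ι F)).restrict fun v hv => by
        rw [Matrix.toLin'_apply]; exact hW k k.2 v hv)
      map_one' := LinearMap.ext fun v => Subtype.ext (by simp)
      map_mul' := fun a b => LinearMap.ext fun v => Subtype.ext (by simp)
      map_zero' := LinearMap.ext fun v => Subtype.ext (by simp)
      map_add' := fun a b => LinearMap.ext fun v => Subtype.ext (by simp [Matrix.add_mulVec]) }
  letI : Module K W := Module.compHom W φ
  haveI hst : IsScalarTower F K W := ⟨fun c k v => Subtype.ext (by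
    show ((c • k : K) : Matrix ι ι F).mulVec (v : ι → F) = c • ((k : Matrix ι ι F).mulVec (v : ι → F))
    simp [Matrix.smul_mulVec])⟩
  refine ⟨Module.finrank K W, ?_⟩
  rw [← hK.finrank_eq]
  exact (@Module.finrank_mul_finrank F K W _ _ _ _ _ _ hst _ _).symm

/-- A self-adjoint field with alternating twisted forms has degree dividing the Witt index. -/
theorem field_dvd_half [Fintype F] [Nonempty ι] (h : FormSpace σ₀ (-1) f) {r n : ℕ}
    (hn : Fintype.card ι = 2 * n) {K : Subalgebra F (Matrix ι ι F)} (hK : IsFieldSubalgebra r K)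
    (hs : ∀ X ∈ K, adj σ₀ f X = X) (hk : ∀ k ∈ K, ∀ v, f (k *ᵥ v) v = 0) : r ∣ n := by
  classical
  let S : Set (Submodule F (ι → F)) :=
    {W | IsTotallySingularFor f W ∧ ∀ k ∈ K, ∀ v ∈ W, k *ᵥ v ∈ W}
  have hne : S.Nonempty := ⟨⊥, fun u hu v _ => by
    rw [(Submodule.mem_bot F).mp hu, h.zero_left], fun k _ v hv => by
    rw [(Submodule.mem_bot F).mp hv, Matrix.mulVec_zero]; exact zero_mem _⟩
  obtain ⟨W, hW, hmax⟩ := (wellFounded_gt (α := Submodule F (ι → F))).has_min S hne
  obtain ⟨hTS, hinv⟩ := hW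
  have hperp : fperp h W ≤ W := by
    intro v hv
    by_contra hvW
    let C : Submodule F (ι → F) :=
      (K.toSubmodule).map ({ toFun := fun k => k *ᵥ v
                             map_add' := fun a b => Matrix.add_mulVec a b v
                             map_smul' := fun c a => Matrix.smul_mulVec c a v } :
        Matrix ι ι F →ₗ[F] (ι → F))
    have hCmem : ∀ z, z ∈ C ↔ ∃ k ∈ K, k *ᵥ v = z := fun z => Submodule.mem_map
    have hv' := (FormSpace.mem_fperp h).mp hv
    have hWC : ∀ u ∈ W, ∀ z ∈ C, f u z = 0 := by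
      intro u hu z hz
      obtain ⟨k, hkK, rfl⟩ := (hCmem z).mp hz
      have e : f (k *ᵥ u) v = f u (k *ᵥ v) := by rw [h.adj_spec, hs k hkK]
      rw [← e]
      exact h.refl (hv' _ (hinv k hkK u hu))
    have hCC : ∀ u ∈ C, ∀ z ∈ C, f u z = 0 := by
      intro u hu z hz
      obtain ⟨k, hkK, rfl⟩ := (hCmem u).mp hu
      obtain ⟨l, hlK, rfl⟩ := (hCmem z).mp hz
      have e : f (l *ᵥ (k *ᵥ v)) v = f (k *ᵥ v) (l *ᵥ v) := by rw [h.adj_spec, hs l hlK]
      rw [← e, Matrix.mulVec_mulVec]
      exact hk _ (K.mul_mem hlK hkK) v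
    refine hmax (W ⊔ C) ⟨?_, ?_⟩ (lt_of_le_of_ne le_sup_left fun he => hvW (he ▸ Submodule.mem_sup_right
      ((hCmem v).mpr ⟨1, K.one_mem, Matrix.one_mulVec v⟩)))
    · intro u hu z hz
      obtain ⟨a, ha, b, hb, rfl⟩ := Submodule.mem_sup.mp hu
      obtain ⟨c, hc, d, hd, rfl⟩ := Submodule.mem_sup.mp hz
      rw [h.sesq.add_left, h.sesq.add_right, h.sesq.add_right, hTS a ha c hc, hWC a ha d hd,
        h.refl (hWC c hc b hb), hCC b hb d hd]
      simp
    · intro k hkK u hu
      obtain ⟨a, ha, b, hb, rfl⟩ := Submodule.mem_sup.mp hu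
      rw [Matrix.mulVec_add]
      refine Submodule.add_mem_sup (hinv k hkK a ha) ?_
      obtain ⟨l, hlK, rfl⟩ := (hCmem b).mp hb
      exact (hCmem _).mpr ⟨k * l, K.mul_mem hkK hlK, (Matrix.mulVec_mulVec v k l).symm⟩
  have heq : fperp h W = W := le_antisymm hperp fun u hu =>
    (FormSpace.mem_fperp h).mpr fun z hz => hTS u hu z hz
  have h1 := h.le_finrank_fperp W
  have h2 : Module.finrank F W ≤ n := by
    by_contra hlt
    push Not at hlt
    have hG : IsUnit (gramMatrix f) := isUnit_gram h.sesq h.nondeg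
    let ψ : (ι → F) →ₗ[F] (W →ₗ[F] F) :=
      LinearMap.mk₂ F (fun (u : ι → F) (w : W) => f (w : ι → F) u)
        (fun a b w => h.sesq.add_right _ a b)
        (fun c a w => by simp [h.sesq.smul_right])
        (fun a b c => by simp [h.sesq.add_left])
        (fun c a b => by simp [h.sesq.smul_left])
    have hker : LinearMap.ker ψ = fperp h W := by
      ext u
      rw [LinearMap.mem_ker, FormSpace.mem_fperp h]
      exact ⟨fun h0 z hz => h.refl (LinearMap.congr_fun h0 ⟨z, hz⟩),
        fun h0 => LinearMap.ext fun z => h.refl (h0 z z.2)⟩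
    have hsurj : Function.Surjective ψ := by
      intro l
      obtain ⟨l', hl'⟩ := l.exists_extend
      let a : ι → F := fun i => l' (Pi.single i 1)
      refine ⟨(gramMatrix f)⁻¹ *ᵥ a, LinearMap.ext fun w => ?_⟩
      show f (w : ι → F) ((gramMatrix f)⁻¹ *ᵥ a) = l w
      rw [h.sesq.eq_formOfGram, formOfGram_eq]
      show (w : ι → F) ⬝ᵥ (gramMatrix f *ᵥ ((gramMatrix f)⁻¹ *ᵥ a)) = l w
      rw [Matrix.mulVec_mulVec, Matrix.mul_nonsing_inv _ ((Matrix.isUnit_iff_isUnit_det _).mp hG),
        Matrix.one_mulVec, ← hl']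
      show ∑ i, (w : ι → F) i * l' (Pi.single i 1) = l' (w : ι → F)
      conv_rhs => rw [pi_eq_sum_univ' (w : ι → F)]
      simp [map_sum]
    have h3 := ψ.finrank_range_add_finrank_ker
    rw [LinearMap.range_eq_top.mpr hsurj, finrank_top, hker, heq, Module.finrank_linearMap,
      Module.finrank_self, mul_one, Module.finrank_pi, hn] at h3
    omega
  rw [heq, hn] at h1
  have h3 : Module.finrank F W = n := by omega
  exact h3 ▸ dvd_finrank_of_invariant hK hinv

/-- In characteristic two, two complementary totally singular halves give a quadratic form. -/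
theorem quad_of_tsPair (h : FormSpace σ₀ (-1) f) (h2 : (2 : F) = 0) {H : Subgroup (GL ι F)}
    (hH : FixesForm (matrixSet H) f) {k : ℕ} {D : Fin 2 → Submodule F (ι → F)}
    (hD : IsMDecomposition k D) (hts : ∀ i, IsTotallySingularFor f (D i))
    (hle : H ≤ decompositionStabilizer D) :
    ∃ Q : (ι → F) → F, IsNondegenerateQuadraticForm Q ∧ (∀ u v, QuadraticMap.polar Q u v = f u v) ∧
      H ≤ quadSimilarityGroup Q := by
  haveI : CharP F 2 := CharTwo.of_one_ne_zero_of_two_eq_zero one_ne_zero h2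
  have hsup : D 0 ⊔ D 1 = ⊤ := by
    rw [eq_top_iff, ← hD.iSup_eq_top]
    exact iSup_le fun i => by fin_cases i <;> simp
  have hdis : Disjoint (D 0) (D 1) := hD.indep.pairwiseDisjoint (by decide : (0 : Fin 2) ≠ 1)
  have hc : IsCompl (D 0) (D 1) := ⟨hdis, codisjoint_iff.mpr hsup⟩
  have hdec : ∀ v, ∃ a ∈ D 0, ∃ b ∈ D 1, a + b = v := fun v =>
    Submodule.mem_sup.mp (hsup ▸ Submodule.mem_top)
  choose a ha b hb hab using hdec
  have huniq : ∀ v x y, x ∈ D 0 → y ∈ D 1 → x + y = v → a v = x ∧ b v = y := by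
    intro v x y hx hy hxy
    have e : a v - x = y - b v := by
      rw [sub_eq_sub_iff_add_eq_add, hab v, add_comm y x, hxy]
    have h0 : a v - x = 0 := Submodule.disjoint_def.mp hdis _ (sub_mem (ha v) hx)
      (e ▸ sub_mem hy (hb v))
    rw [sub_eq_zero] at h0
    refine ⟨h0, ?_⟩
    have := hab v
    rw [h0] at this
    exact add_left_cancel (this.trans hxy.symm)
  have hadd : ∀ u v, a (u + v) = a u + a v ∧ b (u + v) = b u + b v := fun u v =>
    huniq _ _ _ (add_mem (ha u) (ha v)) (add_mem (hb u) (hb v))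
      (by rw [add_add_add_comm, hab, hab])
  have hsm : ∀ (c : F) v, a (c • v) = c • a v ∧ b (c • v) = c • b v := fun c v =>
    huniq _ _ _ (Submodule.smul_mem _ c (ha v)) (Submodule.smul_mem _ c (hb v))
      (by rw [← smul_add, hab])
  have hsy : ∀ u v, f u v = f v u := fun u v => by
    rw [h.herm v u, RingEquiv.refl_apply, neg_one_mul, CharTwo.neg_eq]
  let Q : (ι → F) → F := fun v => f (a v) (b v)
  have hpol : ∀ u v, QuadraticMap.polar Q u v = f u v := by
    intro u v
    show f (a (u + v)) (b (u + v)) - f (a u) (b u) - f (a v) (b v) = f u v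
    conv_rhs => rw [← hab u, ← hab v]
    rw [(hadd u v).1, (hadd u v).2]
    simp only [h.sesq.add_left, h.sesq.add_right, hts 0 _ (ha u) _ (ha v), hts 1 _ (hb u) _ (hb v),
      hsy (b u) (a v)]
    ring
  refine ⟨Q, ⟨fun c v => ?_, ?_, ?_⟩, hpol, fun g hg => ⟨1, fun v => ?_⟩⟩
  · show f (a (c • v)) (b (c • v)) = c ^ 2 * f (a v) (b v)
    rw [(hsm c v).1, (hsm c v).2, h.sesq.smul_left, h.sesq.smul_right, RingEquiv.refl_apply]
    ring
  · rw [show QuadraticMap.polar Q = f from funext fun u => funext (hpol u)]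
    exact ⟨h.sesq.add_left, h.sesq.smul_left, h.sesq.add_right,
      fun c u v => by rw [h.sesq.smul_right, RingEquiv.refl_apply]⟩
  · rw [show QuadraticMap.polar Q = f from funext fun u => funext (hpol u)]
    exact h.nondeg
  · obtain ⟨π, hπ⟩ := hle hg
    have hmap : ∀ i, ∀ x ∈ D i, (g : Matrix ι ι F) *ᵥ x ∈ D (π i) := fun i x hx => by
      rw [← hπ i]
      exact ⟨x, hx, Matrix.toLin'_apply _ _⟩
    have hgab : (g : Matrix ι ι F) *ᵥ a v + (g : Matrix ι ι F) *ᵥ b v = (g : Matrix ι ι F) *ᵥ v := by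
      rw [← Matrix.mulVec_add, hab]
    have hfix := hH _ (mem_matrixSet hg) (a v) (b v)
    rw [Units.val_one, one_mul]
    have h01 : π 0 ≠ π 1 := fun e => by simpa using π.injective e
    have h0 := hmap 0 _ (ha v)
    have h1 := hmap 1 _ (hb v)
    rcases Fin.exists_fin_two.mp ⟨π 0, rfl⟩ with e0 | e0 <;>
      rcases Fin.exists_fin_two.mp ⟨π 1, rfl⟩ with e1 | e1
    · exact absurd (e0.trans e1.symm) h01
    · rw [e0] at h0; rw [e1] at h1
      obtain ⟨q1, q2⟩ := huniq _ _ _ h0 h1 hgab
      show f (a _) (b _) = f (a v) (b v)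
      rw [q1, q2, hfix]
    · rw [e0] at h0; rw [e1] at h1
      rw [add_comm] at hgab
      obtain ⟨q1, q2⟩ := huniq _ _ _ h1 h0 hgab
      show f (a _) (b _) = f (a v) (b v)
      rw [q1, q2, hsy, hfix]
    · exact absurd (e0.trans e1.symm) h01

/-- A quadratic form fixed by an absolutely irreducible normal subgroup in characteristic two. -/
theorem quad_of_fixed [Finite F] [Nonempty ι] (h : FormSpace σ₀ (-1) f) (h2 : (2 : F) = 0)
    (hdim : 2 ≤ Fintype.card ι) {H P : Subgroup (GL ι F)} (hH : FixesForm (matrixSet H) f)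
    (hPH : P ≤ H) (hP : ActsAbsolutelyIrreducibly (matrixSet P))
    (hn : ∀ g ∈ H, ∀ x ∈ P, g * x * g⁻¹ ∈ P) {Q : (ι → F) → F}
    (hQ : IsNondegenerateQuadraticForm Q) (hfix : FixesQuadForm (matrixSet P) Q) :
    ∃ Q' : (ι → F) → F, IsNondegenerateQuadraticForm Q' ∧ (∀ u v, QuadraticMap.polar Q' u v = f u v) ∧
      H ≤ quadSimilarityGroup Q' := by
  haveI : CharP F 2 := CharTwo.of_one_ne_zero_of_two_eq_zero one_ne_zero h2
  have hPf : FixesForm (matrixSet P) f := fun s hs => hH s (Set.image_mono hPH hs)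
  have hsQ := isSesq_of_bilinear hQ.polar_bilinear
  obtain ⟨c, hcG⟩ := invariant_unique hP (isUnit_gram hsQ hQ.nondegenerate)
    (fun s hs => (fixes_iff_gtr hsQ s).mp (fixesForm_polar hfix s hs))
    (fun s hs => (fixes_iff_gtr h.sesq s).mp (hPf s hs))
  have hcf : ∀ u v, f u v = c * QuadraticMap.polar Q u v := fun u v => by
    rw [h.sesq.eq_formOfGram, hsQ.eq_formOfGram u, hcG]
    simp only [formOfGram, Matrix.smul_apply, smul_eq_mul, Finset.mul_sum]
    exact Finset.sum_congr rfl fun a _ => Finset.sum_congr rfl fun b _ => by ring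
  let Q' : (ι → F) → F := fun v => c * Q v
  have hpol : ∀ u v, QuadraticMap.polar Q' u v = f u v := fun u v => by
    rw [hcf u v]; show c * Q (u + v) - c * Q u - c * Q v = c * (Q (u + v) - Q u - Q v); ring
  refine ⟨Q', ⟨fun a v => ?_, ?_, ?_⟩, hpol, fun g hg => ⟨1, fun v => ?_⟩⟩
  · show c * Q (a • v) = a ^ 2 * (c * Q v)
    rw [hQ.smul]; ring
  · rw [show QuadraticMap.polar Q' = f from funext fun u => funext (hpol u)]
    exact ⟨h.sesq.add_left, h.sesq.smul_left, h.sesq.add_right,
      fun a u v => by rw [h.sesq.smul_right, RingEquiv.refl_apply]⟩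
  · rw [show QuadraticMap.polar Q' = f from funext fun u => funext (hpol u)]
    exact h.nondeg
  rw [Units.val_one, one_mul]
  -- the defect is additive and semilinear
  let δ : (ι → F) → F := fun w => Q' ((g : Matrix ι ι F) *ᵥ w) - Q' w
  have hQs : ∀ (a : F) w, Q' (a • w) = a ^ 2 * Q' w := fun a w => by
    show c * Q (a • w) = a ^ 2 * (c * Q w)
    rw [hQ.smul]; ring
  have hδadd : ∀ u w, δ (u + w) = δ u + δ w := by
    intro u w
    have e1 := hpol ((g : Matrix ι ι F) *ᵥ u) ((g : Matrix ι ι F) *ᵥ w)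
    have e2 := hpol u w
    rw [hH _ (mem_matrixSet hg)] at e1
    simp only [QuadraticMap.polar, ← Matrix.mulVec_add] at e1 e2
    show Q' _ - Q' (u + w) = _
    linear_combination e1 - e2
  have hδs : ∀ (a : F) w, δ (a • w) = a ^ 2 * δ w := fun a w => by
    show Q' ((g : Matrix ι ι F) *ᵥ (a • w)) - Q' (a • w) = _
    rw [Matrix.mulVec_smul, hQs, hQs]; ring
  have hδP : ∀ x ∈ P, ∀ w, δ ((x : Matrix ι ι F) *ᵥ w) = δ w := by
    intro x hx w
    have h1 : (g : Matrix ι ι F) *ᵥ ((x : Matrix ι ι F) *ᵥ w) =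
        ((g * x * g⁻¹ : GL ι F) : Matrix ι ι F) *ᵥ ((g : Matrix ι ι F) *ᵥ w) := by
      rw [Matrix.mulVec_mulVec, Matrix.mulVec_mulVec, ← Units.val_mul, ← Units.val_mul,
        inv_mul_cancel_right]
    have f1 : ∀ y ∈ P, ∀ z, Q' ((y : Matrix ι ι F) *ᵥ z) = Q' z := fun y hy z => by
      show c * Q _ = c * Q z
      rw [hfix _ (mem_matrixSet hy)]
    show Q' _ - Q' _ = _
    rw [h1, f1 _ (hn g hg x hx), f1 x hx]
  let W : Submodule F (ι → F) :=
    { carrier := {w | δ w = 0}
      add_mem' := fun {p q} hp hq => by show δ (p + q) = 0; rw [hδadd, hp, hq, add_zero]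
      zero_mem' := by
        show δ 0 = 0
        have := hδs 0 0
        simpa using this
      smul_mem' := fun a p hp => by show δ (a • p) = 0; rw [hδs, hp, mul_zero] }
  rcases eq_bot_or_eq_top hP.1 W (fun x hx w hw => (hδP x hx w).trans hw) with hW | hW
  · exfalso
    have hinj : Function.Injective δ := fun p q hpq => by
      have : p - q ∈ W := by
        show δ (p - q) = 0
        have e := hδadd (p - q) q
        rw [sub_add_cancel, hpq] at e
        exact (add_eq_right.mp e.symm)
      rw [hW, Submodule.mem_bot, sub_eq_zero] at this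
      exact this
    haveI := Fintype.ofFinite F
    have h1 := Fintype.card_le_of_injective δ hinj
    rw [Fintype.card_fun] at h1
    have h2 : Fintype.card F ^ 1 < Fintype.card F ^ Fintype.card ι :=
      Nat.pow_lt_pow_right Fintype.one_lt_card (by omega)
    rw [pow_one] at h2
    omega
  · exact sub_eq_zero.mp (show δ v = 0 from (hW ▸ Submodule.mem_top : v ∈ W))

/-- The factors of a tensor decomposition can be exchanged. -/
theorem tensorFormData_swap {H : Subgroup (GL ι F)} {a b : ℕ} {ε : F}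
    {e : ι ≃ Fin a × Fin b} {P : GL ι F} {G₁ : Matrix (Fin a) (Fin a) F}
    {G₂ : Matrix (Fin b) (Fin b) F} {c₁ c₂ : F}
    (d : TensorFormData σ₀ ε f H a b e P G₁ G₂ c₁ c₂) :
    TensorFormData σ₀ ε f H b a (e.trans (Equiv.prodComm _ _)) P G₂ G₁ c₂ c₁ := by
  refine ⟨d.two_le₂, d.two_le₁, by rw [mul_comm]; exact d.card, ?_, d.unit₂, d.unit₁, d.herm₂,
    d.herm₁, by rw [mul_comm]; exact d.sign, d.le.trans (tensorProductSubgroup_swap e P)⟩
  obtain ⟨c, hc, hG⟩ := d.gram
  refine ⟨c, hc, ?_⟩
  ext ⟨i, j⟩ ⟨i', j'⟩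
  have h1 := congrFun (congrFun hG (j, i)) (j', i')
  simp only [Matrix.smul_apply, Matrix.kroneckerMap_apply, smul_eq_mul] at h1 ⊢
  rw [mul_comm (G₂ i i'), ← h1]
  show f _ _ = f _ _
  congr 1 <;> congr 1 <;> funext z <;>
    simp only [Function.comp_apply, Pi.single_apply, Equiv.trans_apply, Equiv.prodComm_apply] <;>
    (rcases e z with ⟨p, q⟩; simp [and_comm])

/-- In odd characteristic the factor of a tensor power of an alternating form is alternating. -/
theorem power_factor_alternating [Nonempty ι] (h : FormSpace σ₀ (-1) f) (h2 : (2 : F) ≠ 0)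
    {H : Subgroup (GL ι F)} {k t : ℕ} {e : ι ≃ (Fin t → Fin k)} {P : GL ι F}
    {G₀ : Matrix (Fin k) (Fin k) F} (d : PowerFormData σ₀ f H k t e P G₀) :
    Odd t ∧ (∀ i j, G₀ i j = - G₀ j i) ∧ ∀ i, G₀ i i = 0 := by
  obtain ⟨c, hc, hG⟩ := d.gram
  have ht := d.two_le_t
  have hk := d.two_le_k
  have key : ∀ a b : Fin t → Fin k, (∏ i, G₀ (b i) (a i)) = - ∏ i, G₀ (a i) (b i) := by
    intro a b
    have e1 := congrFun (congrFun hG b) a
    have e2 := congrFun (congrFun hG a) b
    simp only [Matrix.smul_apply, pureMat, Matrix.of_apply, smul_eq_mul] at e1 e2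
    have e3 : gramMatrix (coordForm e P f) b a = - gramMatrix (coordForm e P f) a b := by
      show f _ _ = - f _ _
      rw [h.herm, RingEquiv.refl_apply, neg_one_mul]
    rw [e1, e2, ← mul_neg] at e3
    exact mul_left_cancel₀ hc e3
  obtain ⟨i₀, j₀, hij⟩ : ∃ i₀ j₀, G₀ i₀ j₀ ≠ 0 := by
    by_contra hall
    push Not at hall
    have h00 : G₀ = 0 := Matrix.ext hall
    haveI : Nonempty (Fin k) := ⟨⟨0, by omega⟩⟩
    have hu := d.unit
    rw [h00] at hu
    exact not_isUnit_zero hu
  obtain ⟨t', rfl⟩ : ∃ t', t = t' + 1 := ⟨t - 1, by omega⟩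
  have hg : ∀ i j, G₀ j i * G₀ j₀ i₀ ^ t' = - (G₀ i j * G₀ i₀ j₀ ^ t') := fun i j => by
    have := key (Fin.cons i fun _ => i₀) (Fin.cons j fun _ => j₀)
    simpa [Fin.prod_univ_succ] using this
  have hji : G₀ j₀ i₀ ≠ 0 := fun h0 => by
    have := hg i₀ j₀
    rw [h0, zero_mul, eq_comm, neg_eq_zero] at this
    exact mul_ne_zero hij (pow_ne_zero _ hij) this
  set s := - (G₀ i₀ j₀ / G₀ j₀ i₀) ^ t' with hsdef
  have hs : ∀ i j, G₀ j i = s * G₀ i j := fun i j => by
    rw [hsdef, div_pow, neg_mul, div_mul_eq_mul_div, ← neg_div, eq_div_iff (pow_ne_zero _ hji),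
      hg i j]
    ring
  have hs2 : s * s = 1 := by
    have := hs j₀ i₀
    rw [hs i₀ j₀, ← mul_assoc] at this
    exact mul_right_cancel₀ hij (this.symm.trans (one_mul _).symm)
  have hst : s ^ (t' + 1) = -1 := by
    have h0 := key (fun _ => i₀) (fun _ => j₀)
    simp only [Finset.prod_const, Finset.card_univ, Fintype.card_fin, hs i₀ j₀, mul_pow] at h0
    rw [← neg_one_mul ((G₀ i₀ j₀) ^ (t' + 1))] at h0
    exact mul_right_cancel₀ (pow_ne_zero _ hij) h0
  have hsm : s = -1 := by
    rcases mul_self_eq_one_iff.mp hs2 with h1 | h1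
    · rw [h1, one_pow] at hst
      exact absurd (by linear_combination hst) h2
    · exact h1
  refine ⟨?_, fun i j => by rw [hs j i, hsm, neg_one_mul], fun i => ?_⟩
  · rw [hsm] at hst
    rcases Nat.even_or_odd (t' + 1) with he | ho
    · rw [he.neg_one_pow] at hst
      exact absurd (by linear_combination hst) h2
    · exact ho
  · have := hs i i
    rw [hsm, neg_one_mul] at this
    have h3 : (2 : F) * G₀ i i = 0 := by linear_combination this
    exact (mul_eq_zero.mp h3).resolve_left h2

/-- The tensor-power form structure in the vocabulary of the classes. -/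
theorem isTensorPowerFormStructure_of_data (h : FormSpace σ₀ (-1) f) {H : Subgroup (GL ι F)}
    {k t : ℕ} {e : ι ≃ (Fin t → Fin k)} {P : GL ι F} {G₀ : Matrix (Fin k) (Fin k) F}
    (d : PowerFormData σ₀ f H k t e P G₀) :
    IsTensorPowerFormStructure id f (formOfGram σ₀ G₀) e P := by
  obtain ⟨c, hc, hG⟩ := d.gram
  refine ⟨c, hc, fun x y => ?_⟩
  show coordForm e P f x y = _
  rw [(h.coord e P).sesq.eq_formOfGram, hG, gram_formOfGram]
  simp only [formOfGram, Matrix.smul_apply, pureMat, Matrix.of_apply, smul_eq_mul, id,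
    RingEquiv.refl_apply, Finset.mul_sum]
  exact Finset.sum_congr rfl fun a _ => Finset.sum_congr rfl fun b _ => by ring

/-- The tensor form structure in the vocabulary of the classes. -/
theorem isTensorFormStructure_of_data (h : FormSpace σ₀ (-1) f) {H : Subgroup (GL ι F)}
    {a b : ℕ} {ε : F} {e : ι ≃ Fin a × Fin b} {P : GL ι F} {G₁ : Matrix (Fin a) (Fin a) F}
    {G₂ : Matrix (Fin b) (Fin b) F} {c₁ c₂ : F}
    (d : TensorFormData σ₀ ε f H a b e P G₁ G₂ c₁ c₂) :
    IsTensorFormStructure id f (formOfGram σ₀ G₁) (formOfGram σ₀ G₂) e P := by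
  obtain ⟨c, hc, hG⟩ := d.gram
  refine ⟨c, hc, fun x y => ?_⟩
  show coordForm e P f x y = _
  rw [(h.coord e P).sesq.eq_formOfGram, hG, gram_formOfGram, gram_formOfGram]
  simp only [formOfGram, Matrix.smul_apply, smul_eq_mul, id, RingEquiv.refl_apply, Finset.mul_sum]
  exact Finset.sum_congr rfl fun p _ => Finset.sum_congr rfl fun r _ => by ring

end Cfsg.Agent.Symplectic.Asch
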