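import Cfsg.Agent.Symplectic.Std

/-! The centre of the symplectic group. -/

set_option autoImplicit false

namespace Cfsg.Agent.Symplectic

open scoped Matrix

variable {m : ℕ} {F : Type*} [Field F]

theorem sf_self (u : Fin m ⊕ Fin m → F) : Cfsg.sympForm m F u u = 0 := by
  rw [← spB_apply]; exact alt_self (spB_alt m F) u

theorem sf_swap (u v : Fin m ⊕ Fin m → F) : Cfsg.sympForm m F u v = - Cfsg.sympForm m F v u := by
  simp only [← spB_apply]; exact alt_swap (spB_alt m F) u v

theorem sf_add_left (u v w : Fin m ⊕ Fin m → F) :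
    Cfsg.sympForm m F (u + v) w = Cfsg.sympForm m F u w + Cfsg.sympForm m F v w := by
  simp only [← spB_apply, map_add, LinearMap.add_apply]

theorem sf_add_right (u v w : Fin m ⊕ Fin m → F) :
    Cfsg.sympForm m F u (v + w) = Cfsg.sympForm m F u v + Cfsg.sympForm m F u w := by
  simp only [← spB_apply, map_add]

theorem sf_smul_left (c : F) (u v : Fin m ⊕ Fin m → F) :
    Cfsg.sympForm m F (c • u) v = c * Cfsg.sympForm m F u v := by
  simp only [← spB_apply, map_smul, LinearMap.smul_apply, smul_eq_mul]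

theorem sf_smul_right (c : F) (u v : Fin m ⊕ Fin m → F) :
    Cfsg.sympForm m F u (c • v) = c * Cfsg.sympForm m F u v := by
  simp only [← spB_apply, map_smul, smul_eq_mul]

theorem sf_exists_one {v : Fin m ⊕ Fin m → F} (hv : v ≠ 0) : ∃ x, Cfsg.sympForm m F v x = 1 := by
  simpa using exists_partner (spB_nondeg m F) (spB_alt m F) hv

theorem sf_invariant (g : Matrix.symplecticGroup (Fin m) F) (u v : Fin m ⊕ Fin m → F) :
    Cfsg.sympForm m F ((g : Mat m F) *ᵥ u) ((g : Mat m F) *ᵥ v) = Cfsg.sympForm m F u v :=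
  (mem_symplectic_iff_form _).mp g.2 u v

theorem sp_mulVec_ne_zero (g : Matrix.symplecticGroup (Fin m) F) {v : Fin m ⊕ Fin m → F}
    (hv : v ≠ 0) : (g : Mat m F) *ᵥ v ≠ 0 :=
  fun h => hv ((spEquiv m F g).1.map_eq_zero_iff.mp h)

/-- if `T v c` equals `T w c` then `w` is a multiple of `v` -/
theorem mem_span_of_T_eq {v w : Fin m ⊕ Fin m → F} {c : F} (hc : c ≠ 0) (hv : v ≠ 0)
    (h : T v c = T w c) : ∃ a : F, w = a • v := by
  by_cases hw : w = 0
  · exact ⟨0, by simp [hw]⟩
  obtain ⟨x, hx⟩ := sf_exists_one hw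
  refine ⟨Cfsg.sympForm m F x v * (Cfsg.sympForm m F x w)⁻¹, ?_⟩
  have h1 := congrArg (fun g : Matrix.symplecticGroup (Fin m) F => (g : Mat m F) *ᵥ x) h
  simp only [T_mulVec, add_right_inj] at h1
  have hxw : Cfsg.sympForm m F x w ≠ 0 := by rw [sf_swap, hx]; simp
  have h2 : Cfsg.sympForm m F x w • w = Cfsg.sympForm m F x v • v :=
    (smul_right_injective _ hc) (by simp only [smul_smul]; exact h1.symm)
  rw [mul_comm, mul_smul, ← h2, smul_smul, inv_mul_cancel₀ hxw, one_smul]

theorem mem_center_iff (g : Matrix.symplecticGroup (Fin m) F) :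
    g ∈ Subgroup.center (Matrix.symplecticGroup (Fin m) F) ↔
      ∃ c : F, ∀ v, (g : Mat m F) *ᵥ v = c • v := by
  constructor
  · intro hg
    have key : ∀ v, ∃ a : F, (g : Mat m F) *ᵥ v = a • v := by
      intro v
      by_cases hv : v = 0
      · exact ⟨0, by simp [hv]⟩
      refine mem_span_of_T_eq (c := (1 : F)) one_ne_zero hv ?_
      rw [← T_conj, ← Subgroup.mem_center_iff.mp hg (T v 1), mul_assoc, mul_inv_cancel, mul_one]
    obtain ⟨a, ha⟩ := LinearMap.exists_eq_smul_id_of_forall_notLinearIndependent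
      (f := Matrix.toLin' (g : Mat m F)) (fun v => by
        obtain ⟨a, ha⟩ := key v
        intro hli
        have := (LinearIndependent.pair_iff.mp hli) a (-1) (by simp [Matrix.toLin'_apply, ha])
        simp at this)
    exact ⟨a, fun v => by simpa using LinearMap.congr_fun ha v⟩
  · rintro ⟨c, hc⟩
    rw [Subgroup.mem_center_iff]
    intro h
    refine sp_ext fun v => ?_
    simp only [Submonoid.coe_mul, ← Matrix.mulVec_mulVec, hc, Matrix.mulVec_smul]

theorem scalar_sq {c : F} (hm : 1 ≤ m) (g : Matrix.symplecticGroup (Fin m) F)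
    (hg : ∀ v, (g : Mat m F) *ᵥ v = c • v) : c ^ 2 = 1 := by
  let e : Fin m ⊕ Fin m → F := Pi.single (Sum.inl ⟨0, hm⟩) 1
  have he : e ≠ 0 := fun h => by
    have := congrFun h (Sum.inl ⟨0, hm⟩)
    simp [e] at this
  obtain ⟨x, hx⟩ := sf_exists_one he
  have := sf_invariant g e x
  rw [hg, hg, sf_smul_left, sf_smul_right, hx] at this
  linear_combination this

/-- the scalar element `c • 1` for `c ^ 2 = 1` -/
def scalarElt (m : ℕ) {F : Type*} [Field F] (c : {c : F // c ^ 2 = 1}) :
    Matrix.symplecticGroup (Fin m) F :=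
  ⟨c.1 • (1 : Mat m F), by
    rw [mem_symplectic_iff_form]
    intro u v
    simp only [Matrix.smul_mulVec, Matrix.one_mulVec, sf_smul_left, sf_smul_right]
    linear_combination (Cfsg.sympForm m F u v) * c.2⟩

theorem scalarElt_mulVec (c : {c : F // c ^ 2 = 1}) (v : Fin m ⊕ Fin m → F) :
    (scalarElt m c : Mat m F) *ᵥ v = c.1 • v := by
  simp [scalarElt, Matrix.smul_mulVec]

/-- centre = square roots of unity -/
noncomputable def centerEquiv (hm : 1 ≤ m) :
    {c : F // c ^ 2 = 1} ≃ Subgroup.center (Matrix.symplecticGroup (Fin m) F) := by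
  refine Equiv.ofBijective (fun c => ⟨scalarElt m c, (mem_center_iff _).mpr ⟨c.1, scalarElt_mulVec c⟩⟩)
    ⟨fun a b h => ?_, fun g => ?_⟩
  · have h' := congrArg (fun g : Subgroup.center (Matrix.symplecticGroup (Fin m) F) =>
      ((g.1 : Mat m F)) (Sum.inl ⟨0, hm⟩) (Sum.inl ⟨0, hm⟩)) h
    simp [scalarElt] at h'
    exact Subtype.ext h'
  · obtain ⟨c, hc⟩ := (mem_center_iff _).mp g.2
    exact ⟨⟨c, scalar_sq hm _ hc⟩, Subtype.ext (sp_ext fun v => by rw [scalarElt_mulVec, hc])⟩

theorem card_sq_eq_one [Fintype F] :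
    Nat.card {c : F // c ^ 2 = 1} = Nat.gcd 2 (Fintype.card F - 1) := by
  classical
  have hset : {c : F | c ^ 2 = 1} = {1, -1} := by
    ext c; simp
  change Nat.card ({c : F | c ^ 2 = 1} : Set F) = _
  rw [Nat.card_coe_set_eq, hset]
  have hq := Fintype.one_lt_card (α := F)
  by_cases h2 : ringChar F = 2
  · have hev := FiniteField.even_card_of_char_two h2
    have : (-1 : F) = 1 := by
      haveI : CharP F 2 := ringChar.of_eq h2
      exact CharTwo.neg_eq 1
    rw [this, Set.pair_eq_singleton, Set.ncard_singleton]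
    symm
    rw [← Nat.coprime_iff_gcd_eq_one, Nat.coprime_two_left, Nat.odd_iff]
    omega
  · have hodd := FiniteField.odd_card_of_char_ne_two h2
    rw [Set.ncard_pair (Ring.neg_one_ne_one_of_char_ne_two h2).symm]
    symm
    exact Nat.gcd_eq_left (by omega)

theorem card_center [Fintype F] (hm : 1 ≤ m) :
    Nat.card (Subgroup.center (Matrix.symplecticGroup (Fin m) F)) =
      Nat.gcd 2 (Fintype.card F - 1) := by
  rw [← Nat.card_congr (centerEquiv hm), card_sq_eq_one]

end Cfsg.Agent.Symplectic
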