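import Mathlib

/-!
Alternating bilinear forms on finite dimensional spaces: Witt extension, symplectic bases,
the isometry group and its transvections.
-/

set_option autoImplicit false

namespace Cfsg.Agent.Symplectic

open LinearMap (BilinForm)

variable {F V : Type*} [Field F] [AddCommGroup V] [Module F V]

/-- the isometry group of a bilinear form -/
def Isom (B : BilinForm F V) : Subgroup (V ≃ₗ[F] V) where
  carrier := {g | ∀ u v, B (g u) (g v) = B u v}
  mul_mem' {a b} ha hb u v := by
    show B (a (b u)) (a (b v)) = B u v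
    rw [ha, hb]
  one_mem' u v := rfl
  inv_mem' {a} ha u v := by
    show B (a.symm u) (a.symm v) = B u v
    rw [← ha (a.symm u) (a.symm v), a.apply_symm_apply, a.apply_symm_apply]

theorem mem_isom {B : BilinForm F V} {g : V ≃ₗ[F] V} :
    g ∈ Isom B ↔ ∀ u v, B (g u) (g v) = B u v := Iff.rfl

section Alt

variable {B : BilinForm F V}

theorem alt_self (hA : B.IsAlt) (x : V) : B x x = 0 := hA.self_eq_zero x

theorem alt_swap (hA : B.IsAlt) (x y : V) : B x y = - B y x := by
  rw [← hA.neg_eq x y, neg_neg]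

/-- the underlying function of a transvection -/
def tvFun (B : BilinForm F V) (w : V) (c : F) : V →ₗ[F] V :=
  LinearMap.id + c • (B.flip w).smulRight w

theorem tvFun_apply (B : BilinForm F V) (w : V) (c : F) (x : V) :
    tvFun B w c x = x + (c * B x w) • w := by
  simp [tvFun, mul_smul]

theorem tvFun_comp (hA : B.IsAlt) (w : V) (c d : F) :
    (tvFun B w c).comp (tvFun B w d) = tvFun B w (c + d) := by
  refine LinearMap.ext fun x => ?_
  simp [tvFun_apply, alt_self hA, add_mul, add_smul, add_assoc]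
  abel

theorem tvFun_zero (B : BilinForm F V) (w : V) : tvFun B w 0 = LinearMap.id := by
  simp [tvFun]

/-- the transvection `x ↦ x + c B(x,w) w` -/
def tv (hA : B.IsAlt) (w : V) (c : F) : V ≃ₗ[F] V :=
  LinearEquiv.ofLinearMap (tvFun B w c) (tvFun B w (-c))
    (by rw [tvFun_comp hA, add_neg_cancel, tvFun_zero])
    (by rw [tvFun_comp hA, neg_add_cancel, tvFun_zero])

@[simp] theorem tv_apply (hA : B.IsAlt) (w : V) (c : F) (x : V) :
    tv hA w c x = x + (c * B x w) • w := tvFun_apply B w c x

theorem tv_mem (hA : B.IsAlt) (w : V) (c : F) : tv hA w c ∈ Isom B := by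
  intro u v
  simp only [tv_apply, map_add, map_smul, LinearMap.add_apply, LinearMap.smul_apply, smul_eq_mul,
    alt_self hA, alt_swap hA w v]
  ring

theorem tv_mul (hA : B.IsAlt) (w : V) (c d : F) : tv hA w c * tv hA w d = tv hA w (c + d) := by
  refine LinearEquiv.toLinearMap_injective ?_
  exact tvFun_comp hA w c d

theorem tv_zero (hA : B.IsAlt) (w : V) : tv hA w 0 = 1 := by
  refine LinearEquiv.ext fun x => ?_
  show tv hA w 0 x = x
  simp

theorem tv_inv (hA : B.IsAlt) (w : V) (c : F) : (tv hA w c)⁻¹ = tv hA w (-c) := by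
  apply inv_eq_of_mul_eq_one_right
  rw [tv_mul, add_neg_cancel, tv_zero]

theorem tv_smul (hA : B.IsAlt) (w : V) (a c : F) : tv hA (a • w) c = tv hA w (a ^ 2 * c) := by
  refine LinearEquiv.ext fun x => ?_
  simp only [tv_apply, map_smul, smul_eq_mul, smul_smul]
  ring_nf

theorem tv_conj (hA : B.IsAlt) {g : V ≃ₗ[F] V} (hg : g ∈ Isom B) (w : V) (c : F) :
    g * tv hA w c * g⁻¹ = tv hA (g w) c := by
  refine LinearEquiv.ext fun x => ?_
  show g (tv hA w c (g.symm x)) = tv hA (g w) c x
  simp only [tv_apply, map_add, map_smul, g.apply_symm_apply]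
  rw [← hg (g.symm x) w, g.apply_symm_apply]

/-- the set of all transvections -/
def tvSet (hA : B.IsAlt) : Set (V ≃ₗ[F] V) := {g | ∃ w c, g = tv hA w c}

theorem closure_tvSet_le (hA : B.IsAlt) : Subgroup.closure (tvSet hA) ≤ Isom B := by
  rw [Subgroup.closure_le]
  rintro _ ⟨w, c, rfl⟩
  exact tv_mem hA w c

variable [FiniteDimensional F V]

theorem exists_apply_ne_zero (hB : B.Nondegenerate) {x : V} (hx : x ≠ 0) : ∃ y, B x y ≠ 0 := by
  by_contra h
  push_neg at h
  exact hx (hB.1 x h)

theorem exists_partner (hB : B.Nondegenerate) (hA : B.IsAlt) {x : V} (hx : x ≠ 0) :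
    ∃ y, B x y = 1 := by
  obtain ⟨y, hy⟩ := exists_apply_ne_zero hB hx
  exact ⟨(B x y)⁻¹ • y, by simp [hy]⟩

/-- every linear functional on a subspace is given by the form -/
theorem exists_rep (hB : B.Nondegenerate) (hA : B.IsAlt) (X : Submodule F V) (f : X →ₗ[F] F) :
    ∃ y : V, ∀ z : X, B (z : V) y = f z := by
  obtain ⟨l, hl⟩ := f.exists_extend
  refine ⟨-(B.toDual hB).symm l, fun z => ?_⟩
  rw [← hl, map_neg, alt_swap hA, neg_neg]
  exact BilinForm.apply_toDual_symm_apply l (z : V)

theorem orth_le_iff_apply (hB : B.Nondegenerate) (hA : B.IsAlt) (X : Submodule F V) (x : V) :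
    (∀ y ∈ B.orthogonal X, B y x = 0) ↔ x ∈ X := by
  conv_rhs => rw [← BilinForm.orthogonal_orthogonal hB hA.isRefl X]
  exact Iff.rfl

/-- a partial isometry on a proper subspace extends by one dimension -/
theorem witt_step (hB : B.Nondegenerate) (hA : B.IsAlt) (X : Submodule F V) (φ : X →ₗ[F] V)
    (hi : Function.Injective φ) (hφ : ∀ x x' : X, B (φ x) (φ x') = B (x : V) (x' : V))
    (hX : X ≠ ⊤) :
    ∃ y y' : V, y ∉ X ∧ y' ∉ LinearMap.range φ ∧ ∀ z : X, B (φ z) y' = B (z : V) y := by
  classical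
  set Y := LinearMap.range φ with hY
  have hdim : Module.finrank F Y = Module.finrank F X := LinearMap.finrank_range_of_inj hi
  by_cases hXo : B.orthogonal X ≤ X
  · obtain ⟨y, hy⟩ : ∃ y, y ∉ X := by
      by_contra h
      push_neg at h
      exact hX (eq_top_iff.mpr fun v _ => h v)
    let e := LinearEquiv.ofInjective φ hi
    obtain ⟨y', hy'⟩ := exists_rep hB hA Y (((B.flip y).comp X.subtype).comp e.symm.toLinearMap)
    have key : ∀ z : X, B (φ z) y' = B (z : V) y := by
      intro z
      have := hy' (e z)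
      simpa [e] using this
    refine ⟨y, y', hy, ?_, key⟩
    rintro ⟨w, hw⟩
    apply hy
    have hmem : y - (w : V) ∈ B.orthogonal X := by
      intro z hz
      have h1 : B (φ ⟨z, hz⟩) (φ w) = B z y := by rw [hw]; exact key ⟨z, hz⟩
      rw [hφ] at h1
      show B z (y - (w : V)) = 0
      rw [map_sub]
      exact sub_eq_zero.mpr h1.symm
    simpa using X.add_mem (hXo hmem) w.2
  · obtain ⟨y, hyo, hy⟩ := SetLike.not_le_iff_exists.mp hXo
    have hnot : ¬ B.orthogonal Y ≤ Y := by
      intro hle
      have hd : Module.finrank F (B.orthogonal Y) = Module.finrank F (B.orthogonal X) := by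
        rw [BilinForm.finrank_orthogonal hB, BilinForm.finrank_orthogonal hB, hdim]
      let R : Submodule F X := (B.orthogonal X).comap X.subtype
      have hle' : B.orthogonal Y ≤ R.map φ := by
        intro v hv
        obtain ⟨w, hw⟩ := hle hv
        refine ⟨w, ?_, hw⟩
        intro z hz
        show B z (w : V) = 0
        rw [← hφ ⟨z, hz⟩ w, hw]
        exact hv _ ⟨_, rfl⟩
      have h1 := (Submodule.finrank_mono hle').trans (Submodule.finrank_map_le φ R)
      have h2 : Module.finrank F R = Module.finrank F ↥(X ⊓ B.orthogonal X) := by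
        rw [← Submodule.map_comap_subtype, Submodule.finrank_map_subtype_eq]
      have h3 : X ⊓ B.orthogonal X < B.orthogonal X :=
        lt_of_le_of_ne inf_le_right fun h => hXo (inf_eq_right.mp h)
      have := Submodule.finrank_lt_finrank_of_lt h3
      omega
    obtain ⟨y', hyo', hy'⟩ := SetLike.not_le_iff_exists.mp hnot
    exact ⟨y, y', hy, hy', fun z => (hyo' _ ⟨z, rfl⟩).trans (hyo _ z.2).symm⟩

/-- Witt's lemma, in the form: an isometric injection of a subspace extends to an isometry -/
theorem witt (hB : B.Nondegenerate) (hA : B.IsAlt) (X : Submodule F V) (φ : X →ₗ[F] V)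
    (hi : Function.Injective φ) (hφ : ∀ x x' : X, B (φ x) (φ x') = B (x : V) (x' : V)) :
    ∃ g ∈ Isom B, ∀ x : X, g (x : V) = φ x := by
  classical
  induction h : Module.finrank F V - Module.finrank F X using Nat.strong_induction_on
    generalizing X with
  | _ n ih =>
    by_cases hX : X = ⊤
    · subst hX
      let g0 : V →ₗ[F] V := φ.comp Submodule.topEquiv.symm.toLinearMap
      have hg0 : Function.Injective g0 := hi.comp Submodule.topEquiv.symm.injective
      refine ⟨LinearEquiv.ofBijective g0 ⟨hg0, LinearMap.injective_iff_surjective.mp hg0⟩, ?_, ?_⟩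
      · intro u v
        exact hφ _ _
      · intro x
        exact congrArg φ (Subtype.ext rfl)
    · obtain ⟨y, y', hy, hy', hyy⟩ := witt_step hB hA X φ hi hφ hX
      let f : V →ₗ.[F] V := ⟨X, φ⟩
      let f' := f.supSpanSingleton y y' hy
      have hdom : f'.domain = X ⊔ Submodule.span F {y} := f.domain_supSpanSingleton y y' hy
      have hrep : ∀ u : f'.domain, ∃ (x : X) (c : F), (u : V) = x + c • y ∧
          f'.toFun u = φ x + c • y' := by
        rintro ⟨u, hu⟩
        have hu2 : u ∈ X ⊔ Submodule.span F {y} := hdom ▸ hu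
        obtain ⟨x, hx, z, hz, rfl⟩ := Submodule.mem_sup.mp hu2
        obtain ⟨c, rfl⟩ := Submodule.mem_span_singleton.mp hz
        refine ⟨⟨x, hx⟩, c, rfl, ?_⟩
        have := f.supSpanSingleton_apply_mk y y' hy x hx c
        exact this
      have hi' : Function.Injective f'.toFun := by
        rw [← LinearMap.ker_eq_bot, LinearMap.ker_eq_bot']
        intro u hu
        obtain ⟨x, c, h1, h2⟩ := hrep u
        rw [h2] at hu
        by_cases hc : c = 0
        · subst hc
          have : φ x = φ 0 := by simpa using hu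
          apply Subtype.ext
          simp [h1, hi this]
        · exfalso
          apply hy'
          refine ⟨-c⁻¹ • x, ?_⟩
          rw [map_smul, eq_neg_of_add_eq_zero_left hu, smul_neg, neg_smul, neg_neg, smul_smul,
            inv_mul_cancel₀ hc, one_smul]
      have hφ' : ∀ u v : f'.domain, B (f'.toFun u) (f'.toFun v) = B (u : V) (v : V) := by
        intro u v
        obtain ⟨x, c, h1, h2⟩ := hrep u
        obtain ⟨x', c', h1', h2'⟩ := hrep v
        rw [h2, h2', h1, h1']
        simp only [map_add, map_smul, LinearMap.add_apply, LinearMap.smul_apply, smul_eq_mul,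
          alt_self hA, alt_swap hA y' (φ x'), alt_swap hA y (x' : V), hφ, hyy]
      have hlt : X < f'.domain := by
        rw [hdom]
        refine lt_of_le_of_ne le_sup_left fun h' => hy ?_
        rw [h']
        exact Submodule.mem_sup_right (Submodule.mem_span_singleton_self y)
      have := Submodule.finrank_lt_finrank_of_lt hlt
      have := Submodule.finrank_le f'.domain
      obtain ⟨g, hg, hgx⟩ := ih (Module.finrank F V - Module.finrank F f'.domain) (by omega)
        f'.domain f'.toFun hi' hφ' rfl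
      refine ⟨g, hg, fun x => ?_⟩
      have hx' : (x : V) ∈ f'.domain := hlt.le x.2
      rw [show (x : V) = ((⟨(x : V), hx'⟩ : f'.domain) : V) from rfl, hgx]
      exact f.supSpanSingleton_apply_mk_of_mem y' hy x.2

/-- every isometry is a product of transvections -/
theorem isom_eq_closure (hB : B.Nondegenerate) (hA : B.IsAlt) :
    Subgroup.closure (tvSet hA) = Isom B := by
  classical
  refine le_antisymm (closure_tvSet_le hA) fun g hg => ?_
  set T := Subgroup.closure (tvSet hA)
  have hT : ∀ w c, tv hA w c ∈ T := fun w c => Subgroup.subset_closure ⟨w, c, rfl⟩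
  induction h : Module.finrank F V -
      Module.finrank F (LinearMap.ker (g.toLinearMap - LinearMap.id))
    using Nat.strong_induction_on generalizing g with
  | _ n ih =>
  set X := LinearMap.ker (g.toLinearMap - LinearMap.id)
  have hXmem : ∀ x, x ∈ X ↔ g x = x := fun x => by simp [X, sub_eq_zero]
  by_cases hX : X = ⊤
  · have : g = 1 := LinearEquiv.ext fun x => (hXmem x).mp (hX ▸ Submodule.mem_top)
    exact this ▸ T.one_mem
  obtain ⟨y, hy⟩ : ∃ y, y ∉ X := by
    by_contra h'
    push_neg at h'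
    exact hX (eq_top_iff.mpr fun v _ => h' v)
  have horth : ∀ x ∈ X, B x (g y) = B x y := fun x hx => by
    conv_lhs => rw [← (hXmem x).mp hx, hg]
  suffices hsuff : ∃ t ∈ T, (∀ x ∈ X, t x = x) ∧ t (g y) = y by
    obtain ⟨t, ht, htX, hty⟩ := hsuff
    set X' := LinearMap.ker ((t * g).toLinearMap - LinearMap.id)
    have hX'mem : ∀ x, x ∈ X' ↔ t (g x) = x := fun x => by simp [X', sub_eq_zero]
    have hlt : X < X' := by
      refine lt_of_le_of_ne (fun x hx => ?_) fun h' => hy ?_
      · rw [hX'mem, (hXmem x).mp hx, htX x hx]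
      · rw [h', hX'mem]; exact hty
    have := Submodule.finrank_lt_finrank_of_lt hlt
    have := Submodule.finrank_le X'
    have h2 := ih (Module.finrank F V - Module.finrank F X') (by omega) (t * g)
      (mul_mem (closure_tvSet_le hA ht) hg) rfl
    simpa using T.mul_mem (T.inv_mem ht) h2
  obtain ⟨h₀, hh₀, h1, h2⟩ :
      ∃ h₀ ∈ B.orthogonal X, B (g y) (y + h₀) ≠ 0 ∧ (B (y + h₀) y ≠ 0 ∨ h₀ = 0) := by
    by_cases hgy : B (g y) y = 0
    · have e1 : ∃ z ∈ B.orthogonal X, B z (g y) ≠ 0 := by
        by_contra h'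
        push_neg at h'
        have : g y ∈ X := (orth_le_iff_apply hB hA X _).mp h'
        exact hy ((hXmem y).mpr (g.injective ((hXmem (g y)).mp this)))
      have e2 : ∃ z ∈ B.orthogonal X, B z y ≠ 0 := by
        by_contra h'
        push_neg at h'
        exact hy ((orth_le_iff_apply hB hA X _).mp h')
      obtain ⟨z₁, hz₁, k₁⟩ := e1
      obtain ⟨z₂, hz₂, k₂⟩ := e2
      obtain ⟨z, hz, k, k'⟩ : ∃ z ∈ B.orthogonal X, B z (g y) ≠ 0 ∧ B z y ≠ 0 := by
        by_cases a₁ : B z₁ y = 0
        · by_cases a₂ : B z₂ (g y) = 0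
          · exact ⟨z₁ + z₂, add_mem hz₁ hz₂, by simp [a₂, k₁], by simp [a₁, k₂]⟩
          · exact ⟨z₂, hz₂, a₂, k₂⟩
        · exact ⟨z₁, hz₁, k₁, a₁⟩
      refine ⟨z, hz, ?_, Or.inl ?_⟩
      · rw [map_add, hgy, zero_add, alt_swap hA]; exact neg_ne_zero.mpr k
      · rw [map_add, LinearMap.add_apply, alt_self hA, zero_add]; exact k'
    · exact ⟨0, Submodule.zero_mem _, by simpa using hgy, Or.inr rfl⟩
  -- two transvections: `g y ↦ y + h₀ ↦ y`
  have move : ∀ a b : V, B a b ≠ 0 → (∀ x ∈ X, B x a = B x b) →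
      ∃ t ∈ T, (∀ x ∈ X, t x = x) ∧ t a = b := by
    intro a b hab hxab
    refine ⟨tv hA (b - a) (B a b)⁻¹, hT _ _, fun x hx => ?_, ?_⟩
    · simp [map_sub, hxab x hx]
    · simp [map_sub, alt_self hA, hab]
  have hperp : ∀ x ∈ X, B x (y + h₀) = B x y := fun x hx => by
    rw [map_add, hh₀ x hx, add_zero]
  obtain ⟨t₁, ht₁, ht₁X, ht₁y⟩ := move (g y) (y + h₀) h1
    (fun x hx => by rw [horth x hx, hperp x hx])
  rcases h2 with h2 | rfl
  · obtain ⟨t₂, ht₂, ht₂X, ht₂y⟩ := move (y + h₀) y h2 hperp
    refine ⟨t₂ * t₁, T.mul_mem ht₂ ht₁, fun x hx => ?_, ?_⟩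
    · show t₂ (t₁ x) = x
      rw [ht₁X x hx, ht₂X x hx]
    · show t₂ (t₁ (g y)) = y
      rw [ht₁y, ht₂y]
  · exact ⟨t₁, ht₁, ht₁X, by rw [ht₁y, add_zero]⟩

end Alt

/-- A hyperbolic system for `B`. -/
def IsHypSystem (B : BilinForm F V) {m : ℕ} (e f : Fin m → V) : Prop :=
  (∀ i j, B (e i) (f j) = if i = j then 1 else 0) ∧
  (∀ i j, B (e i) (e j) = 0) ∧ (∀ i j, B (f i) (f j) = 0)

theorem IsHypSystem.linearIndependent {B : BilinForm F V} (hA : B.IsAlt) {m : ℕ}
    {e f : Fin m → V} (h : IsHypSystem B e f) : LinearIndependent F (Sum.elim e f) := by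
  classical
  rw [Fintype.linearIndependent_iff]
  intro a ha
  have k1 : ∀ j, a (Sum.inl j) = 0 := by
    intro j
    have := congrArg (fun v => B v (f j)) ha
    simpa [h.1, h.2.2] using this
  have k2 : ∀ j, a (Sum.inr j) = 0 := by
    intro j
    have := congrArg (fun v => B (e j) v) ha
    simpa [h.1, h.2.1] using this
  rintro (j | j)
  exacts [k1 j, k2 j]

/-- classification of alternating forms -/
theorem exists_hyp_basis [FiniteDimensional F V] (B : BilinForm F V) (hA : B.IsAlt) :
    ∃ (m k : ℕ) (b : Module.Basis ((Fin m ⊕ Fin m) ⊕ Fin k) F V),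
      IsHypSystem B (fun i => b (Sum.inl (Sum.inl i))) (fun i => b (Sum.inl (Sum.inr i))) ∧
      ∀ (j : Fin k) (v : V), B (b (Sum.inr j)) v = 0 := by
  classical
  let P : ℕ → Prop := fun m => ∃ e f : Fin m → V, IsHypSystem B e f
  have hP0 : P 0 :=
    ⟨Fin.elim0, Fin.elim0, fun i => i.elim0, fun i => i.elim0, fun i => i.elim0⟩
  have hbound : ∀ m, P m → m ≤ Module.finrank F V := by
    rintro m ⟨e, f, h⟩
    have := (h.linearIndependent hA).fintype_card_le_finrank
    simp at this
    omega
  let m := Nat.findGreatest P (Module.finrank F V)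
  obtain ⟨e, f, hef⟩ : P m := Nat.findGreatest_spec (Nat.zero_le _) hP0
  let pr : V → V := fun v => v - ∑ i, B v (f i) • e i + ∑ i, B v (e i) • f i
  have pr_e : ∀ v j, B (pr v) (e j) = 0 := by
    intro v j
    simp [pr, hef.2.1, hef.1, alt_swap hA (f _) (e j)]
  have pr_f : ∀ v j, B (pr v) (f j) = 0 := by
    intro v j
    simp [pr, hef.1, hef.2.2]
  have pr_rad : ∀ v w, B (pr v) w = 0 := by
    intro v w
    by_contra hne
    have hprw : B (pr v) (pr w) = B (pr v) w := by
      conv_lhs => arg 2; simp only [pr]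
      simp [pr_e v, pr_f v]
    have hsw : ∀ (x : V) (j : Fin m), B x (e j) = 0 → B (e j) x = 0 := fun x j h => by
      rw [alt_swap hA, h, neg_zero]
    have hsw' : ∀ (x : V) (j : Fin m), B x (f j) = 0 → B (f j) x = 0 := fun x j h => by
      rw [alt_swap hA, h, neg_zero]
    let y := (B (pr v) w)⁻¹ • pr w
    have y_e : ∀ j, B y (e j) = 0 := fun j => by simp [y, pr_e w j]
    have y_f : ∀ j, B y (f j) = 0 := fun j => by simp [y, pr_f w j]
    have xy : B (pr v) y = 1 := by simp [y, hprw, hne]
    have : P (m + 1) := by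
      refine ⟨Fin.snoc e (pr v), Fin.snoc f y, ?_, ?_, ?_⟩ <;> intro i j <;>
        induction i using Fin.lastCases <;> induction j using Fin.lastCases <;>
        simp [hef.1, hef.2.1, hef.2.2, pr_e, pr_f, y_e, y_f, xy, alt_self hA,
          hsw _ _ (pr_e v _), hsw' _ _ (pr_f v _), hsw _ _ (y_e _), hsw' _ _ (y_f _),
          Fin.castSucc_ne_last, (Fin.castSucc_ne_last _).symm]
    exact Nat.findGreatest_is_greatest (Nat.lt_succ_self m) (hbound _ this) this
  let R := LinearMap.ker B
  let rb := Module.finBasis F R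
  let fam : (Fin m ⊕ Fin m) ⊕ Fin (Module.finrank F R) → V :=
    Sum.elim (Sum.elim e f) (fun j => (rb j : V))
  have hrad : ∀ (r : R) (v : V), B (r : V) v = 0 := fun r v =>
    LinearMap.congr_fun (LinearMap.mem_ker.mp r.2) v
  have hli : LinearIndependent F fam := by
    refine LinearIndependent.sum_type (hef.linearIndependent hA)
      (rb.linearIndependent.map' _ (Submodule.ker_subtype R)) ?_
    rw [Submodule.disjoint_def]
    intro x hx hx'
    obtain ⟨a, rfl⟩ := (Submodule.mem_span_range_iff_exists_fun F).mp hx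
    have hxR : ∑ i, a i • Sum.elim e f i ∈ R := by
      refine (Submodule.span_le.mpr ?_) hx'
      rintro _ ⟨j, rfl⟩
      exact (rb j).2
    have k := hrad ⟨_, hxR⟩
    have k1 : ∀ j, a (Sum.inl j) = 0 := fun j => by simpa [hef.1, hef.2.2] using k (f j)
    have k2 : ∀ j, a (Sum.inr j) = 0 := fun j => by
      have := k (e j)
      simpa [hef.1, hef.2.1, alt_swap hA (f _) (e j)] using this
    simp [k1, k2]
  have hspan : ⊤ ≤ Submodule.span F (Set.range fam) := by
    intro v _
    set S := Submodule.span F (Set.range fam)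
    have hbase : ∀ i, fam i ∈ S := fun i => Submodule.subset_span ⟨i, rfl⟩
    have h1 : pr v ∈ S := by
      have hR : pr v ∈ R := LinearMap.mem_ker.mpr (LinearMap.ext (pr_rad v))
      have := rb.sum_repr ⟨pr v, hR⟩
      apply_fun R.subtype at this
      simp only [map_sum, map_smul, Submodule.coe_subtype] at this
      rw [← this]
      exact sum_mem fun j _ => S.smul_mem _ (hbase (Sum.inr j))
    have h2 : v = pr v + ∑ i, B v (f i) • e i - ∑ i, B v (e i) • f i := by
      simp [pr]; abel
    rw [h2]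
    exact sub_mem (add_mem h1 (sum_mem fun i _ => S.smul_mem _ (hbase (Sum.inl (Sum.inl i)))))
      (sum_mem fun i _ => S.smul_mem _ (hbase (Sum.inl (Sum.inr i))))
  refine ⟨m, _, Module.Basis.mk hli hspan, ?_, ?_⟩
  · simpa [fam] using hef
  · intro j v
    simpa [fam] using hrad (rb j) v

end Cfsg.Agent.Symplectic
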