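import Cfsg.Prelude.Def_Classical
import Cfsg.Prelude.Def_ClassicalGeometry
import Cfsg.Agent.Symplectic.Alt

/-!
The standard alternating form on `F^(2m)`, and Mathlib's symplectic group as its isometry group.
-/

set_option autoImplicit false

namespace Cfsg.Agent.Symplectic

open LinearMap (BilinForm)
open scoped Matrix

section ring
variable {m : ℕ} {R : Type*} [CommRing R]

theorem sympForm_eq (u v : Fin m ⊕ Fin m → R) :
    Cfsg.sympForm m R u v =
      ∑ i, (u (Sum.inr i) * v (Sum.inl i) - u (Sum.inl i) * v (Sum.inr i)) := by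
  have h : Matrix.J (Fin m) R *ᵥ v = Sum.elim (fun i => - v (Sum.inr i)) (fun i => v (Sum.inl i)) := by
    rw [Matrix.J, Matrix.fromBlocks_mulVec]
    funext i
    rcases i with i | i <;> simp [Matrix.neg_mulVec]
  rw [Cfsg.sympForm, h]
  simp [dotProduct, Fintype.sum_sum_type, Finset.sum_sub_distrib, Finset.sum_add_distrib, sub_eq_neg_add]

theorem mem_symplectic_iff_form (A : Matrix (Fin m ⊕ Fin m) (Fin m ⊕ Fin m) R) :
    A ∈ Matrix.symplecticGroup (Fin m) R ↔
      ∀ u v, Cfsg.sympForm m R (A *ᵥ u) (A *ᵥ v) = Cfsg.sympForm m R u v := by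
  have key : ∀ u v, Cfsg.sympForm m R (A *ᵥ u) (A *ᵥ v)
      = u ⬝ᵥ ((Aᵀ * Matrix.J (Fin m) R * A) *ᵥ v) := by
    intro u v
    rw [Cfsg.sympForm, Matrix.mulVec_mulVec, Matrix.dotProduct_mulVec, Matrix.dotProduct_mulVec,
      ← Matrix.vecMul_transpose A u, Matrix.vecMul_vecMul, Matrix.mul_assoc]
  rw [SymplecticGroup.mem_iff']
  constructor
  · intro h u v
    rw [key, h]
    rfl
  · intro h
    refine Matrix.ext fun i j => ?_
    have := h (Pi.single i 1) (Pi.single j 1)
    rw [key, Cfsg.sympForm] at this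
    simpa using this

end ring

/-- abbreviation for the matrices acting on `F^(2m)` -/
abbrev Mat (m : ℕ) (F : Type*) : Type _ := Matrix (Fin m ⊕ Fin m) (Fin m ⊕ Fin m) F

variable {m : ℕ} {F : Type*} [Field F]

/-- the standard alternating bilinear form -/
noncomputable def spB (m : ℕ) (F : Type*) [Field F] : BilinForm F (Fin m ⊕ Fin m → F) :=
  Matrix.toBilin' (Matrix.J (Fin m) F)

@[simp] theorem spB_apply (u v : Fin m ⊕ Fin m → F) :
    spB m F u v = Cfsg.sympForm m F u v :=
  Matrix.toBilin'_apply' _ _ _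

theorem spB_alt (m : ℕ) (F : Type*) [Field F] : (spB m F).IsAlt := by
  intro x
  rw [spB_apply, sympForm_eq]
  simp [mul_comm]

theorem spB_nondeg (m : ℕ) (F : Type*) [Field F] : (spB m F).Nondegenerate :=
  BilinForm.nondegenerate_toBilin'_iff_det_ne_zero.mpr (Matrix.isUnit_det_J (Fin m) F).ne_zero

theorem spB_single (i j : Fin m ⊕ Fin m) :
    spB m F (Pi.single i 1) (Pi.single j 1) = Matrix.J (Fin m) F i j :=
  Matrix.toBilin'_single _ _ _

theorem toLin'_mem_isom {A : Matrix (Fin m ⊕ Fin m) (Fin m ⊕ Fin m) F}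
    (hA : A ∈ Matrix.symplecticGroup (Fin m) F) (u v : Fin m ⊕ Fin m → F) :
    spB m F (A *ᵥ u) (A *ᵥ v) = spB m F u v := by
  simp only [spB_apply]
  exact (mem_symplectic_iff_form A).mp hA u v

/-- a symplectic matrix as a linear equivalence -/
noncomputable def toEquiv (g : Matrix.symplecticGroup (Fin m) F) :
    (Fin m ⊕ Fin m → F) ≃ₗ[F] (Fin m ⊕ Fin m → F) :=
  LinearEquiv.ofLinearMap (Matrix.toLin' (g : Mat m F))
    (Matrix.toLin' ((g⁻¹ : Matrix.symplecticGroup (Fin m) F) : Mat m F))
    (by rw [← Matrix.toLin'_mul, ← Submonoid.coe_mul, mul_inv_cancel, Submonoid.coe_one,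
      Matrix.toLin'_one])
    (by rw [← Matrix.toLin'_mul, ← Submonoid.coe_mul, inv_mul_cancel, Submonoid.coe_one,
      Matrix.toLin'_one])

/-- Mathlib's symplectic group is the isometry group of the standard form. -/
noncomputable def spEquiv (m : ℕ) (F : Type*) [Field F] :
    Matrix.symplecticGroup (Fin m) F ≃* Isom (spB m F) where
  toFun g := ⟨toEquiv g, fun u v => toLin'_mem_isom g.2 u v⟩
  invFun g := ⟨LinearMap.toMatrix' g.1.toLinearMap, (mem_symplectic_iff_form _).mpr fun u v => by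
    rw [LinearMap.toMatrix'_mulVec, LinearMap.toMatrix'_mulVec, ← spB_apply, ← spB_apply]
    exact g.2 u v⟩
  left_inv g := Subtype.ext (LinearMap.toMatrix'_toLin' _)
  right_inv g := Subtype.ext (LinearEquiv.toLinearMap_injective (Matrix.toLin'_toMatrix' _))
  map_mul' g h := Subtype.ext (LinearEquiv.toLinearMap_injective (Matrix.toLin'_mul _ _))

@[simp] theorem spEquiv_apply (g : Matrix.symplecticGroup (Fin m) F) (v : Fin m ⊕ Fin m → F) :
    (spEquiv m F g).1 v = (g : Mat m F) *ᵥ v := rfl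

@[simp] theorem spEquiv_symm_mulVec (g : Isom (spB m F)) (v : Fin m ⊕ Fin m → F) :
    ((((spEquiv m F).symm g : Matrix.symplecticGroup (Fin m) F)) : Mat m F) *ᵥ v = g.1 v :=
  LinearMap.toMatrix'_mulVec _ _

theorem sp_ext {g h : Matrix.symplecticGroup (Fin m) F}
    (hgh : ∀ v, (g : Mat m F) *ᵥ v = (h : Mat m F) *ᵥ v) : g = h :=
  Subtype.ext (Matrix.ext_of_mulVec_single fun i => hgh _)

theorem sympTransvection_mulVec (v x : Fin m ⊕ Fin m → F) (c : F) :
    Cfsg.sympTransvection m v c *ᵥ x = x + (c * Cfsg.sympForm m F x v) • v := by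
  rw [Cfsg.sympTransvection, Matrix.add_mulVec, Matrix.one_mulVec, Matrix.smul_mulVec,
    Matrix.vecMulVec_mulVec, op_smul_eq_smul, smul_smul, dotProduct_comm]
  rfl

theorem sympTransvection_mem (v : Fin m ⊕ Fin m → F) (c : F) :
    Cfsg.sympTransvection m v c ∈ Matrix.symplecticGroup (Fin m) F := by
  rw [mem_symplectic_iff_form]
  intro a b
  have := tv_mem (spB_alt m F) v c a b
  simp only [tv_apply] at this
  simpa only [sympTransvection_mulVec, ← spB_apply] using this

/-- symplectic transvection as a group element -/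
def T (v : Fin m ⊕ Fin m → F) (c : F) : Matrix.symplecticGroup (Fin m) F :=
  ⟨Cfsg.sympTransvection m v c, sympTransvection_mem v c⟩

theorem T_mulVec (v x : Fin m ⊕ Fin m → F) (c : F) :
    (T v c : Mat m F) *ᵥ x = x + (c * Cfsg.sympForm m F x v) • v :=
  sympTransvection_mulVec v x c

theorem spEquiv_T (v : Fin m ⊕ Fin m → F) (c : F) :
    (spEquiv m F (T v c) : (Fin m ⊕ Fin m → F) ≃ₗ[F] _) = tv (spB_alt m F) v c :=
  LinearEquiv.ext fun x => by simp [T_mulVec]

theorem T_mul (v : Fin m ⊕ Fin m → F) (c d : F) : T v c * T v d = T v (c + d) := by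
  apply (spEquiv m F).injective
  apply Subtype.ext
  simp [spEquiv_T, tv_mul]

theorem T_zero (v : Fin m ⊕ Fin m → F) : T v (0 : F) = 1 :=
  sp_ext fun x => by simp [T_mulVec]

theorem T_inv (v : Fin m ⊕ Fin m → F) (c : F) : (T v c)⁻¹ = T v (-c) := by
  apply inv_eq_of_mul_eq_one_right
  rw [T_mul, add_neg_cancel, T_zero]

theorem T_smul (v : Fin m ⊕ Fin m → F) (a c : F) : T (a • v) c = T v (a ^ 2 * c) := by
  apply (spEquiv m F).injective
  apply Subtype.ext
  simp [spEquiv_T, tv_smul]

theorem T_conj (g : Matrix.symplecticGroup (Fin m) F) (v : Fin m ⊕ Fin m → F) (c : F) :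
    g * T v c * g⁻¹ = T ((g : Mat m F) *ᵥ v) c := by
  apply (spEquiv m F).injective
  apply Subtype.ext
  simp only [map_mul, map_inv, Subgroup.coe_mul, Subgroup.coe_inv, spEquiv_T]
  exact tv_conj (spB_alt m F) (spEquiv m F g).2 v c

/-- the set of transvections -/
def TSet (m : ℕ) (F : Type*) [Field F] : Set (Matrix.symplecticGroup (Fin m) F) :=
  {g | ∃ w c, g = T w c}

theorem closure_TSet (m : ℕ) (F : Type*) [Field F] : Subgroup.closure (TSet m F) = ⊤ := by
  apply Subgroup.map_injective (f := (Isom (spB m F)).subtype.comp (spEquiv m F).toMonoidHom)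
    ((Isom (spB m F)).subtype_injective.comp (spEquiv m F).injective)
  rw [MonoidHom.map_closure, ← MonoidHom.range_eq_map]
  have h1 : ((Isom (spB m F)).subtype.comp (spEquiv m F).toMonoidHom).range = Isom (spB m F) := by
    rw [MonoidHom.range_comp, MonoidHom.range_eq_top.mpr (spEquiv m F).surjective,
      ← MonoidHom.range_eq_map, Subgroup.range_subtype]
  rw [h1]
  refine (?_ : _ = Subgroup.closure (tvSet (spB_alt m F))).trans
    (isom_eq_closure (spB_nondeg m F) (spB_alt m F))
  congr 1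
  ext g
  constructor
  · rintro ⟨_, ⟨w, c, rfl⟩, rfl⟩
    exact ⟨w, c, spEquiv_T w c⟩
  · rintro ⟨w, c, rfl⟩
    exact ⟨T w c, ⟨w, c, rfl⟩, spEquiv_T w c⟩

/-- Witt's lemma in matrix form: Gram-preserving maps of independent families extend. -/
theorem exists_sp_map {ι : Type*} (a b : ι → (Fin m ⊕ Fin m → F))
    (ha : LinearIndependent F a) (hb : LinearIndependent F b)
    (h : ∀ i j, Cfsg.sympForm m F (a i) (a j) = Cfsg.sympForm m F (b i) (b j)) :
    ∃ g : Matrix.symplecticGroup (Fin m) F, ∀ i, (g : Mat m F) *ᵥ (a i) = b i := by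
  let e := Module.Basis.span ha
  let φ : Submodule.span F (Set.range a) →ₗ[F] (Fin m ⊕ Fin m → F) := e.constr F b
  have hφi : Function.Injective φ := by
    rw [← LinearMap.ker_eq_bot, LinearMap.ker_eq_bot']
    intro x hx
    simp only [φ, Module.Basis.constr_apply] at hx
    have := linearIndependent_iff.mp hb (e.repr x) hx
    simpa using this
  have hφ : ((spB m F).comp φ φ) = (spB m F).comp (Submodule.subtype _) (Submodule.subtype _) := by
    refine LinearMap.BilinForm.ext_basis e fun i j => ?_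
    have hc : ∀ k, φ (e k) = b k := fun k => e.constr_basis F b k
    simp only [LinearMap.BilinForm.comp_apply, hc, spB_apply]
    simp [h, e, Module.Basis.span_apply]
  obtain ⟨g, hg, hgx⟩ := witt (spB_nondeg m F) (spB_alt m F) _ φ hφi
    (fun x x' => LinearMap.congr_fun (LinearMap.congr_fun hφ x) x')
  refine ⟨(spEquiv m F).symm ⟨g, hg⟩, fun i => ?_⟩
  rw [spEquiv_symm_mulVec]
  have := hgx (e i)
  rw [show φ (e i) = b i from e.constr_basis F b i] at this
  simpa [e, Module.Basis.span_apply] using this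

theorem sp_transitive {v w : Fin m ⊕ Fin m → F} (hv : v ≠ 0) (hw : w ≠ 0) :
    ∃ g : Matrix.symplecticGroup (Fin m) F, (g : Mat m F) *ᵥ v = w := by
  obtain ⟨g, hg⟩ := exists_sp_map (m := m) (fun _ : Unit => v) (fun _ => w)
    (LinearIndependent.of_subsingleton () hv) (LinearIndependent.of_subsingleton () hw)
    (fun _ _ => by simp only [← spB_apply, alt_self (spB_alt m F)])
  exact ⟨g, hg ()⟩

theorem sp_transitive_hyp {u v u' v' : Fin m ⊕ Fin m → F}
    (h : Cfsg.sympForm m F u v = 1) (h' : Cfsg.sympForm m F u' v' = 1) :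
    ∃ g : Matrix.symplecticGroup (Fin m) F,
      (g : Mat m F) *ᵥ u = u' ∧ (g : Mat m F) *ᵥ v = v' := by
  have key : ∀ a b : Fin m ⊕ Fin m → F, Cfsg.sympForm m F a b = 1 →
      LinearIndependent F ![a, b] := by
    intro a b hab
    rw [LinearIndependent.pair_iff]
    intro s t hst
    simp only [← spB_apply] at hab
    have k1 := congrArg (fun x => spB m F x b) hst
    have k2 := congrArg (fun x => spB m F a x) hst
    simp only [map_add, map_smul, map_zero, LinearMap.add_apply, LinearMap.smul_apply, smul_eq_mul,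
      LinearMap.zero_apply, alt_self (spB_alt m F), hab, mul_zero, mul_one, add_zero, zero_add] at k1 k2
    exact ⟨k1, k2⟩
  have hs : ∀ a b : Fin m ⊕ Fin m → F, Cfsg.sympForm m F a b = - Cfsg.sympForm m F b a := fun a b => by
    simp only [← spB_apply]; exact alt_swap (spB_alt m F) a b
  have h0 : ∀ a : Fin m ⊕ Fin m → F, Cfsg.sympForm m F a a = 0 := fun a => by
    simp only [← spB_apply]; exact alt_self (spB_alt m F) a
  obtain ⟨g, hg⟩ := exists_sp_map ![u, v] ![u', v'] (key _ _ h) (key _ _ h') (by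
    intro i j; fin_cases i <;> fin_cases j <;> simp [h0, h, h', hs v u, hs v' u'])
  exact ⟨g, hg 0, hg 1⟩

end Cfsg.Agent.Symplectic
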