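import Cfsg.Agent.Symplectic.Simple

/-! The order of the symplectic group, by counting isotropic frames. -/

set_option autoImplicit false

namespace Cfsg.Agent.Symplectic

open scoped Matrix
open LinearMap (BilinForm)

noncomputable section

variable {m : ℕ} {F : Type*} [Field F]

/-- an isotropic frame: independent, pairwise orthogonal vectors -/
abbrev Frame (m : ℕ) (F : Type*) [Field F] (k : ℕ) : Type _ :=
  {a : Fin k → (Fin m ⊕ Fin m → F) //
    LinearIndependent F a ∧ ∀ i j, Cfsg.sympForm m F (a i) (a j) = 0}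

/-- the vectors orthogonal to a family -/
def perp {k : ℕ} (a : Fin k → (Fin m ⊕ Fin m → F)) : Submodule F (Fin m ⊕ Fin m → F) :=
  (spB m F).orthogonal (Submodule.span F (Set.range a))

theorem mem_perp {k : ℕ} {a : Fin k → (Fin m ⊕ Fin m → F)} {x : Fin m ⊕ Fin m → F} :
    x ∈ perp a ↔ ∀ i, Cfsg.sympForm m F (a i) x = 0 := by
  constructor
  · intro h i
    exact (spB_apply _ _).symm.trans (h _ (Submodule.subset_span ⟨i, rfl⟩))
  · intro h y hy
    show spB m F y x = 0
    induction hy using Submodule.span_induction with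
    | mem y hy => obtain ⟨i, rfl⟩ := hy; rw [spB_apply]; exact h i
    | zero => simp only [map_zero, LinearMap.zero_apply]
    | add y z _ _ hy hz => rw [map_add, LinearMap.add_apply, hy, hz, add_zero]
    | smul c y _ hy => rw [map_smul, LinearMap.smul_apply, hy, smul_zero]

theorem span_le_perp {k : ℕ} (a : Frame m F k) :
    Submodule.span F (Set.range a.1) ≤ perp a.1 := by
  rw [Submodule.span_le]
  rintro _ ⟨j, rfl⟩
  exact mem_perp.mpr fun i => a.2.2 i j

theorem finrank_perp {k : ℕ} {a : Fin k → (Fin m ⊕ Fin m → F)} (ha : LinearIndependent F a) :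
    Module.finrank F (perp a) = 2 * m - k := by
  rw [perp, BilinForm.finrank_orthogonal (spB_nondeg m F), finrank_span_eq_card ha]
  simp [two_mul]

/-- frames of length `k+1` extend frames of length `k` -/
def frameSucc (m : ℕ) (F : Type*) [Field F] (k : ℕ) :
    Frame m F (k + 1) ≃ Σ a : Frame m F k,
      {x : Fin m ⊕ Fin m → F // x ∈ perp a.1 ∧ x ∉ Submodule.span F (Set.range a.1)} where
  toFun b :=
    ⟨⟨Fin.init b.1, b.2.1.comp _ (Fin.castSucc_injective k), fun i j => b.2.2 _ _⟩,
      b.1 (Fin.last k), mem_perp.mpr fun _ => b.2.2 _ _, by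
        have h := b.2.1
        rw [← Fin.snoc_init_self b.1, linearIndependent_finSnoc] at h
        exact h.2⟩
  invFun p := ⟨Fin.snoc p.1.1 p.2.1, by
      rw [linearIndependent_finSnoc]
      exact ⟨p.1.2.1, p.2.2.2⟩, by
    intro i j
    have hx : ∀ i, Cfsg.sympForm m F (p.1.1 i) p.2.1 = 0 := mem_perp.mp p.2.2.1
    have hx' : ∀ i, Cfsg.sympForm m F p.2.1 (p.1.1 i) = 0 := fun i => by
      rw [sf_swap, hx i, neg_zero]
    induction i using Fin.lastCases <;> induction j using Fin.lastCases <;>
      simp [hx, hx', sf_self, p.1.2.2]⟩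
  left_inv b := Subtype.ext (Fin.snoc_init_self _)
  right_inv p := by
    refine Sigma.subtype_ext (Subtype.ext ?_) ?_
    · exact Fin.init_snoc (α := fun _ => Fin m ⊕ Fin m → F) p.2.1 p.1.1
    · exact Fin.snoc_last (α := fun _ => Fin m ⊕ Fin m → F) p.2.1 p.1.1

section count

variable [Fintype F]

theorem card_perp_diff {k : ℕ} (a : Frame m F k) :
    Nat.card {x : Fin m ⊕ Fin m → F // x ∈ perp a.1 ∧ x ∉ Submodule.span F (Set.range a.1)} =
      Fintype.card F ^ (2 * m - k) - Fintype.card F ^ k := by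
  have h : Nat.card {x : Fin m ⊕ Fin m → F // x ∈ perp a.1 ∧ x ∉ Submodule.span F (Set.range a.1)}
      = ((perp a.1 : Set (Fin m ⊕ Fin m → F)) \ (Submodule.span F (Set.range a.1) :
          Set (Fin m ⊕ Fin m → F))).ncard := Nat.card_coe_set_eq _
  rw [h, Set.ncard_sdiff (span_le_perp a), ← Nat.card_coe_set_eq, ← Nat.card_coe_set_eq]
  simp only [SetLike.coe_sort_coe]
  rw [Module.natCard_eq_pow_finrank (K := F) (V := perp a.1),
    Module.natCard_eq_pow_finrank (K := F) (V := Submodule.span F (Set.range a.1)),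
    finrank_perp a.2.1, finrank_span_eq_card a.2.1, Fintype.card_fin, Nat.card_eq_fintype_card]

theorem card_frame (m : ℕ) (F : Type*) [Field F] [Fintype F] (k : ℕ) :
    Nat.card (Frame m F k) =
      ∏ i ∈ Finset.range k, (Fintype.card F ^ (2 * m - i) - Fintype.card F ^ i) := by
  induction k with
  | zero =>
    rw [Finset.range_zero, Finset.prod_empty, Nat.card_eq_one_iff_unique]
    exact ⟨⟨fun a b => Subtype.ext (funext fun i => i.elim0)⟩,
      ⟨⟨fun i => i.elim0, linearIndependent_empty_type, fun i => i.elim0⟩⟩⟩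
  | succ k ih =>
    classical
    haveI := Fintype.ofFinite (Frame m F k)
    rw [Nat.card_congr (frameSucc m F k), Nat.card_sigma, Finset.prod_range_succ, ← ih]
    rw [Finset.sum_congr rfl (fun a _ => card_perp_diff a), Finset.sum_const, Finset.card_univ,
      smul_eq_mul, Nat.card_eq_fintype_card]

end count

theorem frame_smul {k : ℕ} (g : Matrix.symplecticGroup (Fin m) F) (a : Frame m F k) :
    LinearIndependent F (g • a.1) ∧ ∀ i j, Cfsg.sympForm m F ((g • a.1) i) ((g • a.1) j) = 0 :=
  ⟨a.2.1.map' (spEquiv m F g).1.toLinearMap (LinearEquiv.ker _), fun i j => by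
    show Cfsg.sympForm m F ((g : Mat m F) *ᵥ a.1 i) ((g : Mat m F) *ᵥ a.1 j) = 0
    rw [sf_invariant]; exact a.2.2 i j⟩

theorem orbit_frame {k : ℕ} (a : Frame m F k) :
    MulAction.orbit (Matrix.symplecticGroup (Fin m) F) a.1 =
      {b | LinearIndependent F b ∧ ∀ i j, Cfsg.sympForm m F (b i) (b j) = 0} := by
  ext b
  constructor
  · rintro ⟨g, rfl⟩
    exact frame_smul g a
  · rintro ⟨hb, hb'⟩
    obtain ⟨g, hg⟩ := exists_sp_map a.1 b a.2.1 hb (fun i j => by rw [a.2.2, hb'])
    exact ⟨g, funext hg⟩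

theorem card_sp_eq_frame_mul [Finite F] {k : ℕ} (a : Frame m F k) :
    Nat.card (Matrix.symplecticGroup (Fin m) F) = Nat.card (Frame m F k) *
      Nat.card (MulAction.stabilizer (Matrix.symplecticGroup (Fin m) F) a.1) := by
  rw [← Nat.card_congr
    (MulAction.orbitProdStabilizerEquivGroup (Matrix.symplecticGroup (Fin m) F) a.1), Nat.card_prod,
    orbit_frame]
  rfl

/-- the standard maximal frame -/
def stdFrame (m : ℕ) (F : Type*) [Field F] : Frame m F m :=
  ⟨fun i => ev i, ev_li id Function.injective_id, sf_ev⟩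

theorem fromBlocks_mulVec_ev {A B C D : Matrix (Fin m) (Fin m) F} (i : Fin m) :
    Matrix.fromBlocks A B C D *ᵥ (ev i : Fin m ⊕ Fin m → F) =
      Sum.elim (fun r => A r i) (fun r => C r i) := by
  funext j
  rcases j with j | j <;> simp [ev, Matrix.mulVec_single]

/-- the stabiliser of the standard maximal frame is the group of symmetric matrices -/
noncomputable def stabStdEquiv (m : ℕ) (F : Type*) [Field F] :
    {B : Matrix (Fin m) (Fin m) F // B.IsSymm} ≃
      MulAction.stabilizer (Matrix.symplecticGroup (Fin m) F) (stdFrame m F).1 := by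
  refine Equiv.ofBijective (fun B => ⟨⟨Matrix.fromBlocks 1 B.1 0 1, by
      rw [SymplecticGroup.fromBlocks_mem_iff]; simp [B.2.eq]⟩, ?_⟩) ⟨fun B B' h => ?_, fun g => ?_⟩
  · rw [MulAction.mem_stabilizer_iff]
    funext i
    show Matrix.fromBlocks 1 B.1 0 1 *ᵥ (ev i : Fin m ⊕ Fin m → F) = ev i
    rw [fromBlocks_mulVec_ev]
    funext j
    rcases j with j | j <;> simp [ev, Matrix.one_apply, Pi.single_apply]
  · have := congrArg (fun g : MulAction.stabilizer (Matrix.symplecticGroup (Fin m) F)
      (stdFrame m F).1 => Matrix.toBlocks₁₂ (g.1 : Mat m F)) h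
    simp at this
    exact Subtype.ext this
  · obtain ⟨⟨M, hM⟩, hg⟩ := g
    have hfix : ∀ i, M *ᵥ (ev i : Fin m ⊕ Fin m → F) = ev i := fun i =>
      congrFun (MulAction.mem_stabilizer_iff.mp hg) i
    obtain ⟨A, B, C, D, rfl⟩ : ∃ A B C D, M = Matrix.fromBlocks A B C D :=
      ⟨_, _, _, _, (Matrix.fromBlocks_toBlocks M).symm⟩
    have hA : A = 1 := Matrix.ext fun r i => by
      have := congrFun (hfix i) (Sum.inl r)
      rw [fromBlocks_mulVec_ev] at this
      simpa [ev, Matrix.one_apply, Pi.single_apply] using this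
    have hC : C = 0 := Matrix.ext fun r i => by
      have := congrFun (hfix i) (Sum.inr r)
      rw [fromBlocks_mulVec_ev] at this
      simpa [ev] using this
    obtain ⟨h1, h2, h3⟩ := SymplecticGroup.fromBlocks_mem_iff.mp hM
    subst hA hC
    simp only [Matrix.transpose_one, Matrix.one_mul, Matrix.transpose_zero, Matrix.zero_mul,
      sub_zero] at h3
    subst h3
    simp only [Matrix.mul_one, Matrix.transpose_one, Matrix.one_mul] at h2
    exact ⟨⟨B, h2⟩, rfl⟩

/-- symmetric matrices are functions on unordered pairs -/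
def symmMatrixEquiv (n : Type*) (R : Type*) :
    {B : Matrix n n R // B.IsSymm} ≃ (Sym2 n → R) where
  toFun B := Sym2.lift ⟨fun i j => B.1 i j, fun i j => (B.2.apply j i)⟩
  invFun f := ⟨Matrix.of fun i j => f s(i, j), Matrix.IsSymm.ext fun i j => by
    simp [Sym2.eq_swap]⟩
  left_inv B := Subtype.ext (Matrix.ext fun i j => rfl)
  right_inv f := funext fun z => Sym2.inductionOn z fun i j => rfl

theorem card_sp_eq (m : ℕ) (F : Type*) [Field F] [Fintype F] :
    Nat.card (Matrix.symplecticGroup (Fin m) F) =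
      (∏ i ∈ Finset.range m, (Fintype.card F ^ (2 * m - i) - Fintype.card F ^ i)) *
        Fintype.card F ^ ((m + 1).choose 2) := by
  rw [card_sp_eq_frame_mul (stdFrame m F), card_frame, ← Nat.card_congr (stabStdEquiv m F),
    Nat.card_congr (symmMatrixEquiv _ _), Nat.card_fun, Nat.card_eq_fintype_card,
    Nat.card_eq_fintype_card, Sym2.card, Fintype.card_fin]

theorem choose_two_succ (n : ℕ) : (n + 1).choose 2 = n.choose 2 + n := by
  rw [Nat.choose_succ_succ' n 1, Nat.choose_one_right, add_comm]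

/-- product of frame counts, normalised -/
theorem prod_frame_count (q m k : ℕ) (hq : 1 ≤ q) (hk : k ≤ m) :
    (∏ i ∈ Finset.range k, (q ^ (2 * m - i) - q ^ i)) *
        ∏ i ∈ Finset.range (m - k), (q ^ (2 * (i + 1)) - 1) =
      q ^ (k.choose 2) * ∏ i ∈ Finset.range m, (q ^ (2 * (i + 1)) - 1) := by
  induction k with
  | zero => simp
  | succ k ih =>
    have ih := ih (by omega)
    obtain ⟨d, hd⟩ : ∃ d, m - k = d + 1 := ⟨m - k - 1, by omega⟩
    rw [hd, Finset.prod_range_succ] at ih
    rw [Finset.prod_range_succ, show m - (k + 1) = d by omega, choose_two_succ, pow_add,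
      mul_right_comm (q ^ k.choose 2), ← ih]
    have : q ^ (2 * m - k) - q ^ k = q ^ k * (q ^ (2 * (d + 1)) - 1) := by
      rw [Nat.mul_sub, mul_one, ← pow_add]; congr 2; omega
    rw [this]
    ring

theorem card_sp (m : ℕ) (F : Type*) [Field F] [Fintype F] :
    Nat.card (Matrix.symplecticGroup (Fin m) F) =
      Fintype.card F ^ (m ^ 2) *
        ∏ i ∈ Finset.range m, (Fintype.card F ^ (2 * (i + 1)) - 1) := by
  have h := prod_frame_count (Fintype.card F) m m Fintype.card_pos le_rfl
  rw [Nat.sub_self, Finset.range_zero, Finset.prod_empty, mul_one] at h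
  rw [card_sp_eq, h, mul_right_comm, ← pow_add]
  congr 2
  induction m with
  | zero => rfl
  | succ n ih =>
    simp only [choose_two_succ]
    have : ∀ n : ℕ, n.choose 2 + (n + 1).choose 2 = n ^ 2 := by
      intro n
      induction n with
      | zero => rfl
      | succ n ih => rw [choose_two_succ (n+1), choose_two_succ n] at *; nlinarith
    have := this n
    rw [choose_two_succ] at this
    nlinarith

theorem card_pointwise_stab [Fintype F] {k : ℕ} (hk : k ≤ m) (a : Frame m F k) :
    Nat.card (MulAction.stabilizer (Matrix.symplecticGroup (Fin m) F) a.1) =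
      Fintype.card F ^ (m ^ 2 - k.choose 2) *
        ∏ i ∈ Finset.range (m - k), (Fintype.card F ^ (2 * (i + 1)) - 1) := by
  have h := card_sp_eq_frame_mul a
  rw [card_sp, card_frame] at h
  have hc : k.choose 2 ≤ m ^ 2 := by
    calc k.choose 2 ≤ k ^ 2 := Nat.choose_le_pow k 2
      _ ≤ m ^ 2 := Nat.pow_le_pow_left hk 2
  have hq : 1 < Fintype.card F := Fintype.one_lt_card
  have hpos : 0 < ∏ i ∈ Finset.range k, (Fintype.card F ^ (2 * m - i) - Fintype.card F ^ i) := by
    refine Finset.prod_pos fun i hi => Nat.sub_pos_of_lt ?_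
    have := Finset.mem_range.mp hi
    exact Nat.pow_lt_pow_right hq (by omega)
  refine Nat.eq_of_mul_eq_mul_left hpos ?_
  rw [← h, mul_left_comm, prod_frame_count _ m k (by omega) hk, ← mul_assoc, ← pow_add,
    Nat.sub_add_cancel hc]

theorem card_psp_mul (m : ℕ) (F : Type*) [Field F] [Fintype F] (hm : 1 ≤ m) :
    Nat.card (Cfsg.PSp m F) * Nat.gcd 2 (Fintype.card F - 1) =
      Fintype.card F ^ (m ^ 2) *
        ∏ i ∈ Finset.range m, (Fintype.card F ^ (2 * (i + 1)) - 1) := by
  rw [← card_sp, ← card_center hm, mul_comm, Subgroup.card_eq_card_quotient_mul_card_subgroup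
    (Subgroup.center (Matrix.symplecticGroup (Fin m) F)), mul_comm]

theorem card_psp (m : ℕ) (F : Type*) [Field F] [Fintype F] (hm : 1 ≤ m) :
    Nat.card (Cfsg.PSp m F) = Fintype.card F ^ (m ^ 2) *
        (∏ i ∈ Finset.range m, (Fintype.card F ^ (2 * (i + 1)) - 1)) /
      Nat.gcd 2 (Fintype.card F - 1) := by
  rw [← card_psp_mul m F hm, Nat.mul_div_cancel _ (Nat.gcd_pos_of_pos_left _ (by norm_num))]

end

end Cfsg.Agent.Symplectic
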