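import Cfsg.Agent.Symplectic.Center

/-! Primitivity on points, perfectness, and simplicity of the projective symplectic group. -/

set_option autoImplicit false

namespace Cfsg.Agent.Symplectic

open scoped Matrix LinearAlgebra.Projectivization Pointwise

variable {m : ℕ} {F : Type*} [Field F]

/-- the standard basis vector `inl i` -/
def ev (i : Fin m) : Fin m ⊕ Fin m → F := Pi.single (Sum.inl i) 1

theorem sf_ev (i j : Fin m) : Cfsg.sympForm m F (ev i) (ev j) = 0 := by
  rw [← spB_apply, ev, ev, spB_single]; simp [Matrix.J]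

theorem ev_ne_zero (i : Fin m) : (ev i : Fin m ⊕ Fin m → F) ≠ 0 := fun h => by
  have := congrFun h (Sum.inl i); simp [ev] at this

theorem ev_li {k : ℕ} (f : Fin k → Fin m) (hf : Function.Injective f) :
    LinearIndependent F (fun i => (ev (f i) : Fin m ⊕ Fin m → F)) := by
  have h := (Pi.basisFun F (Fin m ⊕ Fin m)).linearIndependent.comp (fun i => Sum.inl (f i))
    (fun a b hab => hf (Sum.inl.inj hab))
  simpa [Function.comp_def, ev] using h

/-- the "short root" element -/
def S (u w : Fin m ⊕ Fin m → F) (t : F) : Matrix.symplecticGroup (Fin m) F :=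
  T (u + w) t * T u (-t) * T w (-t)

theorem S_mulVec {u w : Fin m ⊕ Fin m → F} (h : Cfsg.sympForm m F u w = 0) (t : F)
    (x : Fin m ⊕ Fin m → F) :
    (S u w t : Mat m F) *ᵥ x =
      x + (t * Cfsg.sympForm m F x u) • w + (t * Cfsg.sympForm m F x w) • u := by
  have h' : Cfsg.sympForm m F w u = 0 := by rw [sf_swap, h, neg_zero]
  simp only [S, Submonoid.coe_mul, ← Matrix.mulVec_mulVec, T_mulVec, sf_add_left, sf_add_right,
    sf_smul_left, h, h', sf_self, mul_zero, add_zero]
  module

theorem commutator_mem_T (g : Matrix.symplecticGroup (Fin m) F) (v : Fin m ⊕ Fin m → F) (c : F) :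
    Abelianization.of (T ((g : Mat m F) *ᵥ v) c) = Abelianization.of (T v c) := by
  rw [← T_conj, map_mul, map_mul, map_inv, mul_comm (Abelianization.of g), mul_assoc, mul_inv_cancel,
    mul_one]

theorem perfect_of {m : ℕ} {F : Type*} [Field F]
    (h : (∃ a : F, a ≠ 0 ∧ a ^ 2 ≠ 1) ∨ (2 ≤ m ∧ ∃ s : F, s ≠ 0 ∧ s + 1 ≠ 0) ∨ 3 ≤ m) :
    commutator (Matrix.symplecticGroup (Fin m) F) = ⊤ := by
  classical
  rw [eq_top_iff, ← closure_TSet m F, Subgroup.closure_le]
  rintro _ ⟨w, c, rfl⟩
  have key : ∀ g : Matrix.symplecticGroup (Fin m) F,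
      Abelianization.of g = 1 → g ∈ commutator (Matrix.symplecticGroup (Fin m) F) :=
    fun g hg => (QuotientGroup.eq_one_iff g).mp hg
  apply key
  by_cases hw : w = 0
  · subst hw
    have : T (0 : Fin m ⊕ Fin m → F) c = 1 := sp_ext fun x => by simp [T_mulVec]
    rw [this, map_one]
  -- the value does not depend on the vector
  have hind : ∀ v u : Fin m ⊕ Fin m → F, v ≠ 0 → u ≠ 0 → ∀ d,
      Abelianization.of (T v d) = Abelianization.of (T u d) := by
    intro v u hv hu d
    obtain ⟨g, hg⟩ := sp_transitive hu hv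
    rw [← hg, commutator_mem_T]
  let χ : F → Abelianization (Matrix.symplecticGroup (Fin m) F) := fun d => Abelianization.of (T w d)
  have hadd : ∀ d e, χ (d + e) = χ d * χ e := fun d e => by simp only [χ, ← T_mul, map_mul]
  have h0 : χ 0 = 1 := by simp only [χ, T_zero, map_one]
  show χ c = 1
  by_cases hc : c = 0
  · rw [hc, h0]
  -- the short root argument
  have short : 2 ≤ m → ∀ u v : Fin m ⊕ Fin m → F, LinearIndependent F ![u, v] →
      Cfsg.sympForm m F u v = 0 → ∀ t : F, t ≠ 0 →
      Abelianization.of (S u v t) = χ (-t) ∧ χ (-t) = χ (-1) := by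
    intro _ u v hli huv t ht
    have hu : u ≠ 0 := hli.ne_zero 0
    have hv : v ≠ 0 := hli.ne_zero 1
    have huv' : u + v ≠ 0 := fun h' => by
      simpa using (LinearIndependent.pair_iff.mp hli) 1 1 (by simpa using h')
    have e1 : ∀ r : F, Abelianization.of (S u v r) = χ (-r) := by
      intro r
      simp only [S, map_mul]
      rw [hind _ _ huv' hw, hind _ _ hu hw, hind _ _ hv hw]
      show χ r * χ (-r) * χ (-r) = χ (-r)
      rw [← hadd, add_neg_cancel, h0, one_mul]
    refine ⟨e1 t, ?_⟩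
    rw [← e1, ← e1]
    have hli' : LinearIndependent F ![t • u, v] := by
      rw [LinearIndependent.pair_iff] at hli ⊢
      intro a b hab
      have := hli (a * t) b (by rw [mul_smul]; exact hab)
      exact ⟨(mul_eq_zero.mp this.1).resolve_right ht, this.2⟩
    have huv2 : Cfsg.sympForm m F (t • u) v = 0 := by rw [sf_smul_left, huv, mul_zero]
    have hvu : Cfsg.sympForm m F v u = 0 := by rw [sf_swap, huv, neg_zero]
    obtain ⟨g, hg⟩ := exists_sp_map ![u, v] ![t • u, v] hli hli' (by
      intro i j; fin_cases i <;> fin_cases j <;>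
        simp [sf_self, huv, hvu, sf_smul_left, sf_smul_right])
    have hS : g * S u v 1 * g⁻¹ = S u v t := by
      have hgu : (g : Mat m F) *ᵥ u = t • u := hg 0
      have hgv : (g : Mat m F) *ᵥ v = v := hg 1
      have : g * S u v 1 * g⁻¹ = S (t • u) v 1 := by
        rw [S, S, ← hgu]
        conv_rhs => rw [← hgv, ← Matrix.mulVec_add, ← T_conj, ← T_conj, ← T_conj]
        group
      rw [this]
      refine sp_ext fun x => ?_
      simp only [S_mulVec huv, S_mulVec huv2, sf_smul_right]
      module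
    rw [← hS, map_mul, map_mul, map_inv, mul_comm (Abelianization.of g), mul_assoc, mul_inv_cancel,
      mul_one]
  have pair : ∀ hm : 2 ≤ m, LinearIndependent F
      ![(ev ⟨0, by omega⟩ : Fin m ⊕ Fin m → F), ev ⟨1, by omega⟩] := by
    intro hm
    have := ev_li (F := F) (![⟨0, by omega⟩, ⟨1, by omega⟩] : Fin 2 → Fin m) (by
      intro a b hab; fin_cases a <;> fin_cases b <;> simp_all)
    convert this using 1
    funext i; fin_cases i <;> rfl
  have const : 2 ≤ m → ∀ d : F, d ≠ 0 → χ d = χ (-1) := by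
    intro hm d hd
    have := (short hm _ _ (pair hm) (sf_ev _ _) (-d) (neg_ne_zero.mpr hd)).2
    rwa [neg_neg] at this
  rcases h with ⟨a, ha, ha2⟩ | ⟨hm, s, hs, hs1⟩ | hm
  · have hsq : ∀ d, χ (a ^ 2 * d) = χ d := fun d => by
      show Abelianization.of (T w (a ^ 2 * d)) = Abelianization.of (T w d)
      rw [← T_smul]
      exact hind _ _ (smul_ne_zero ha hw) hw d
    have := hsq (c / (a ^ 2 - 1))
    have ha3 : a ^ 2 - 1 ≠ 0 := sub_ne_zero.mpr ha2
    have e : a ^ 2 * (c / (a ^ 2 - 1)) = c + c / (a ^ 2 - 1) := by field_simp; ring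
    rw [e, hadd] at this
    exact mul_eq_right.mp this
  · rw [const hm c hc]
    have := hadd s 1
    rw [const hm _ hs1, const hm _ hs, const hm _ (one_ne_zero)] at this
    exact mul_eq_left.mp this.symm
  · have hm2 : 2 ≤ m := by omega
    rw [const hm2 c hc]
    let u : Fin m ⊕ Fin m → F := ev ⟨0, by omega⟩
    let v : Fin m ⊕ Fin m → F := ev ⟨1, by omega⟩
    let z : Fin m ⊕ Fin m → F := ev ⟨2, by omega⟩
    have hli : LinearIndependent F ![u, v, z] := by
      have := ev_li (F := F) (![⟨0, by omega⟩, ⟨1, by omega⟩, ⟨2, by omega⟩] : Fin 3 → Fin m) (by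
        intro a b hab; fin_cases a <;> fin_cases b <;> simp_all)
      convert this using 1
      funext i; fin_cases i <;> rfl
    have hli3 := Fintype.linearIndependent_iff.mp hli
    have l1 : LinearIndependent F ![u, v] := pair hm2
    have l2 : LinearIndependent F ![u, z] := by
      rw [LinearIndependent.pair_iff]
      intro a b hab
      have := hli3 ![a, 0, b] (by simpa [Fin.sum_univ_three] using hab)
      exact ⟨this 0, this 2⟩
    have l3 : LinearIndependent F ![u, v + z] := by
      rw [LinearIndependent.pair_iff]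
      intro a b hab
      have := hli3 ![a, b, b] (by simpa [Fin.sum_univ_three, smul_add, ← add_assoc] using hab)
      exact ⟨this 0, this 1⟩
    have o1 : Cfsg.sympForm m F u v = 0 := sf_ev _ _
    have o2 : Cfsg.sympForm m F u z = 0 := sf_ev _ _
    have o3 : Cfsg.sympForm m F u (v + z) = 0 := by rw [sf_add_right, o1, o2, add_zero]
    have hS : S u v (1 : F) * S u z 1 = S u (v + z) 1 := by
      refine sp_ext fun x => ?_
      have p1 : Cfsg.sympForm m F z v = 0 := sf_ev _ _
      have p2 : Cfsg.sympForm m F z u = 0 := sf_ev _ _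
      simp only [Submonoid.coe_mul, ← Matrix.mulVec_mulVec, S_mulVec o1, S_mulVec o2, S_mulVec o3,
        sf_add_left, sf_add_right, sf_smul_left, sf_self, o1, o2, p1, p2, mul_zero, add_zero]
      module
    have e := congrArg Abelianization.of hS
    rw [map_mul, (short hm2 _ _ l1 o1 1 one_ne_zero).1, (short hm2 _ _ l2 o2 1 one_ne_zero).1,
      (short hm2 _ _ l3 o3 1 one_ne_zero).1] at e
    exact mul_eq_left.mp e

theorem exists_sq_ne_one [Fintype F] (hq : 4 ≤ Fintype.card F) : ∃ a : F, a ≠ 0 ∧ a ^ 2 ≠ 1 := by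
  classical
  by_contra h
  push_neg at h
  have : (Finset.univ : Finset F) ⊆ {0, 1, -1} := by
    intro a _
    by_cases ha : a = 0
    · simp [ha]
    · rcases sq_eq_one_iff.mp (h a ha) with r | r <;> simp [r]
  have := (Finset.card_le_card this).trans Finset.card_le_three
  simp at this
  omega

theorem perfect [Fintype F] (m : ℕ)
    (h : 3 ≤ m ∨ (m = 2 ∧ 3 ≤ Fintype.card F) ∨ 4 ≤ Fintype.card F) :
    commutator (Matrix.symplecticGroup (Fin m) F) = ⊤ := by
  classical
  rcases h with h | ⟨h, hq⟩ | h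
  · exact perfect_of (Or.inr (Or.inr h))
  · refine perfect_of (Or.inr (Or.inl ⟨by omega, ?_⟩))
    by_contra hne
    push_neg at hne
    have : (Finset.univ : Finset F) ⊆ {0, -1} := by
      intro a _
      by_cases ha : a = 0
      · simp [ha]
      · simp [eq_neg_of_add_eq_zero_left (hne a ha)]
    have := (Finset.card_le_card this).trans Finset.card_le_two
    simp at this
    omega
  · exact perfect_of (Or.inl (exists_sq_ne_one h))

section points

theorem smul_mk_eq (g : Matrix.symplecticGroup (Fin m) F) {v : Fin m ⊕ Fin m → F} (hv : v ≠ 0) :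
    g • Projectivization.mk F v hv =
      Projectivization.mk F ((g : Mat m F) *ᵥ v) (sp_mulVec_ne_zero g hv) := rfl

theorem exists_smul_eq_one {m : ℕ} {F : Type*} [Field F] {v : Fin m ⊕ Fin m → F} (hv : v ≠ 0)
    (w : Fin m ⊕ Fin m → F) (hw : w ≠ 0) :
    ∃ g : Matrix.symplecticGroup (Fin m) F,
      g • Projectivization.mk F v hv = Projectivization.mk F w hw := by
  obtain ⟨g, hg⟩ := sp_transitive hv hw
  exact ⟨g, by rw [smul_mk_eq]; simp [hg]⟩

/-- Sp is transitive on pairs of distinct points with given orthogonality -/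
theorem exists_fix_move {P R R' : ℙ F (Fin m ⊕ Fin m → F)} (hR : R ≠ P) (hR' : R' ≠ P)
    (h : Cfsg.sympForm m F P.rep R.rep = 0 ↔ Cfsg.sympForm m F P.rep R'.rep = 0) :
    ∃ g : Matrix.symplecticGroup (Fin m) F, g • P = P ∧ g • R = R' := by
  classical
  let f := fun X : ℙ F (Fin m ⊕ Fin m → F) => Cfsg.sympForm m F P.rep X.rep
  let nrm := fun X : ℙ F (Fin m ⊕ Fin m → F) =>
    if f X = 0 then X.rep else (f X)⁻¹ • X.rep
  have val : ∀ X, Cfsg.sympForm m F P.rep (nrm X) = if f X = 0 then 0 else 1 := by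
    intro X
    simp only [nrm]
    split_ifs with h0
    · exact h0
    · rw [sf_smul_right]; exact inv_mul_cancel₀ h0
  have hn : ∀ X, nrm X ≠ 0 ∧ ∀ hne, Projectivization.mk F (nrm X) hne = X := by
    intro X
    simp only [nrm]
    split_ifs with h0
    · exact ⟨X.rep_nonzero, fun _ => X.mk_rep⟩
    · refine ⟨smul_ne_zero (inv_ne_zero h0) X.rep_nonzero, fun hne => ?_⟩
      conv_rhs => rw [← X.mk_rep]
      exact (Projectivization.mk_eq_mk_iff' F _ _ _ _).mpr ⟨_, rfl⟩
  have li : ∀ X, X ≠ P → LinearIndependent F ![P.rep, nrm X] := by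
    intro X hX
    rw [LinearIndependent.pair_iff' P.rep_nonzero]
    intro a ha
    apply hX
    rw [← (hn X).2 (hn X).1]
    conv_rhs => rw [← P.mk_rep]
    exact (Projectivization.mk_eq_mk_iff' F _ _ _ _).mpr ⟨a, ha⟩
  obtain ⟨g, hg⟩ := exists_sp_map ![P.rep, nrm R] ![P.rep, nrm R'] (li R hR) (li R' hR') (by
    have e : Cfsg.sympForm m F P.rep (nrm R) = Cfsg.sympForm m F P.rep (nrm R') := by
      rw [val, val]; simp only [f, h]
    intro i j; fin_cases i <;> fin_cases j <;>
      simp [sf_self, e, sf_swap (nrm R) P.rep, sf_swap (nrm R') P.rep])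
  refine ⟨g, ?_, ?_⟩
  · conv_lhs => rw [← P.mk_rep, smul_mk_eq]
    simp [show (g : Mat m F) *ᵥ P.rep = P.rep from hg 0]
  · conv_lhs => rw [← (hn R).2 (hn R).1, smul_mk_eq]
    simp only [show (g : Mat m F) *ᵥ nrm R = nrm R' from hg 1]
    exact (hn R').2 _

theorem rep_orth_mk {P : ℙ F (Fin m ⊕ Fin m → F)} {z : Fin m ⊕ Fin m → F} (hz : z ≠ 0) :
    Cfsg.sympForm m F P.rep (Projectivization.mk F z hz).rep = 0 ↔
      Cfsg.sympForm m F P.rep z = 0 := by
  obtain ⟨a, ha⟩ := Projectivization.exists_smul_eq_mk_rep F z hz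
  rw [← ha]
  show Cfsg.sympForm m F P.rep ((a : F) • z) = 0 ↔ _
  rw [sf_smul_right, mul_eq_zero, or_iff_right a.ne_zero]

theorem preprimitive (m : ℕ) (F : Type*) [Field F] :
    MulAction.IsPreprimitive (Matrix.symplecticGroup (Fin m) F) (ℙ F (Fin m ⊕ Fin m → F)) := by
  classical
  haveI : MulAction.IsPretransitive (Matrix.symplecticGroup (Fin m) F)
      (ℙ F (Fin m ⊕ Fin m → F)) := ⟨fun P R => by
    rw [← P.mk_rep, ← R.mk_rep]; exact exists_smul_eq_one _ _ _⟩
  refine ⟨fun {B} hB => ?_⟩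
  rw [MulAction.IsTrivialBlock, or_iff_not_imp_left, Set.not_subsingleton_iff]
  rintro ⟨P, hP, R, hR, hne⟩
  -- `B` is closed under moving points along the relation of `P, R`
  have step : ∀ Q ∈ B, ∀ X, X ∈ B → X ≠ Q → ∀ Y, Y ≠ Q →
      (Cfsg.sympForm m F Q.rep X.rep = 0 ↔ Cfsg.sympForm m F Q.rep Y.rep = 0) → Y ∈ B := by
    intro Q hQ X hX hXQ Y hY hiff
    obtain ⟨g, hgQ, hgX⟩ := exists_fix_move hXQ hY hiff
    have : g • B = B := hB.smul_eq_of_nonempty ⟨Q, ⟨Q, hQ, hgQ⟩, hQ⟩
    rw [← this, ← hgX]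
    exact Set.smul_mem_smul_set hX
  refine Set.eq_univ_of_forall fun Y => ?_
  by_cases hYP : Y = P
  · exact hYP ▸ hP
  by_cases hiff : Cfsg.sympForm m F P.rep R.rep = 0 ↔ Cfsg.sympForm m F P.rep Y.rep = 0
  · exact step P hP R hR hne.symm Y hYP hiff
  -- otherwise find an intermediate point
  suffices ∃ z, z ≠ 0 ∧ (Cfsg.sympForm m F P.rep R.rep = 0 ↔ Cfsg.sympForm m F P.rep z = 0) ∧
      (Cfsg.sympForm m F P.rep z = 0 ↔ Cfsg.sympForm m F Y.rep z = 0) ∧
      (∀ a : F, a • P.rep ≠ z) ∧ (∀ a : F, a • Y.rep ≠ z) by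
    obtain ⟨z, hz, h1, h2, h3, h4⟩ := this
    set Z := Projectivization.mk F z hz
    have hZP : Z ≠ P := fun h => by
      rw [← P.mk_rep, Projectivization.mk_eq_mk_iff'] at h
      obtain ⟨a, ha⟩ := h; exact h3 a ha
    have hZY : Z ≠ Y := fun h => by
      rw [← Y.mk_rep, Projectivization.mk_eq_mk_iff'] at h
      obtain ⟨a, ha⟩ := h; exact h4 a ha
    have hZB : Z ∈ B := step P hP R hR hne.symm Z hZP (h1.trans (rep_orth_mk hz).symm)
    refine step Z hZB P hP hZP.symm Y hZY.symm ?_
    have s : ∀ X : ℙ F (Fin m ⊕ Fin m → F), Cfsg.sympForm m F Z.rep X.rep = 0 ↔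
        Cfsg.sympForm m F X.rep z = 0 := fun X => by
      rw [sf_swap, neg_eq_zero]; exact rep_orth_mk hz
    rw [s, s]
    exact h2
  by_cases hPR : Cfsg.sympForm m F P.rep R.rep = 0
  · have hPY : Cfsg.sympForm m F P.rep Y.rep ≠ 0 := fun h => hiff ⟨fun _ => h, fun _ => hPR⟩
    let L : (Fin m ⊕ Fin m → F) →ₗ[F] F × F := (spB m F P.rep).prod (spB m F Y.rep)
    have hker : LinearMap.ker L ≠ ⊥ := by
      intro hker
      have hL : Function.Injective L := LinearMap.ker_eq_bot.mp hker
      have hd := LinearMap.finrank_le_finrank_of_injective hL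
      simp at hd
      -- then P, R span everything, so P would be in the radical
      have li : LinearIndependent F ![P.rep, R.rep] := by
        rw [LinearIndependent.pair_iff' P.rep_nonzero]
        intro a ha
        apply hne
        rw [← P.mk_rep, ← R.mk_rep]
        exact ((Projectivization.mk_eq_mk_iff' F _ _ _ _).mpr ⟨a, ha⟩).symm
      have hspan := li.span_eq_top_of_card_eq_finrank' (by
        have := li.fintype_card_le_finrank
        simp at this ⊢; omega)
      obtain ⟨x, hx⟩ := sf_exists_one P.rep_nonzero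
      have hx' : x ∈ LinearMap.ker (spB m F P.rep) := by
        have : Submodule.span F (Set.range ![P.rep, R.rep]) ≤ LinearMap.ker (spB m F P.rep) := by
          rw [Submodule.span_le]
          rintro _ ⟨i, rfl⟩
          fin_cases i <;> simp [sf_self, hPR]
        exact this (hspan ▸ Submodule.mem_top)
      simp [hx] at hx'
    obtain ⟨z, hzL, hz⟩ := Submodule.exists_mem_ne_zero_of_ne_bot hker
    simp only [L, LinearMap.mem_ker, LinearMap.prod_apply, Function.prod_apply, Prod.mk_eq_zero,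
      spB_apply] at hzL
    refine ⟨z, hz, by simp [hPR, hzL.1], by simp [hzL.1, hzL.2], fun a ha => ?_, fun a ha => ?_⟩
    · have := hzL.2
      rw [← ha, sf_smul_right, sf_swap, mul_neg, neg_eq_zero, mul_eq_zero,
        or_iff_left hPY] at this
      exact hz (by rw [← ha, this, zero_smul])
    · have := hzL.1
      rw [← ha, sf_smul_right, mul_eq_zero, or_iff_left hPY] at this
      exact hz (by rw [← ha, this, zero_smul])
  · obtain ⟨z1, hz1⟩ := sf_exists_one (m := m) (F := F) P.rep_nonzero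
    obtain ⟨z2, hz2⟩ := sf_exists_one (m := m) (F := F) Y.rep_nonzero
    obtain ⟨z, hzP, hzY⟩ : ∃ z, Cfsg.sympForm m F P.rep z ≠ 0 ∧ Cfsg.sympForm m F Y.rep z ≠ 0 := by
      by_cases a1 : Cfsg.sympForm m F Y.rep z1 = 0
      · by_cases a2 : Cfsg.sympForm m F P.rep z2 = 0
        · exact ⟨z1 + z2, by simp [sf_add_right, hz1, a2], by simp [sf_add_right, a1, hz2]⟩
        · exact ⟨z2, a2, by simp [hz2]⟩
      · exact ⟨z1, by simp [hz1], a1⟩
    refine ⟨z, fun h => hzP ?_, by simp [hPR, hzP], by simp [hzP, hzY], fun a ha => hzP ?_,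
      fun a ha => hzY ?_⟩
    · subst h; simp [← spB_apply]
    · rw [← ha, sf_smul_right, sf_self, mul_zero]
    · rw [← ha, sf_smul_right, sf_self, mul_zero]

end points

theorem center_eq_fixed (g : Matrix.symplecticGroup (Fin m) F)
    (h : ∀ P : ℙ F (Fin m ⊕ Fin m → F), g • P = P) :
    g ∈ Subgroup.center (Matrix.symplecticGroup (Fin m) F) := by
  rw [mem_center_iff]
  obtain ⟨a, ha⟩ := LinearMap.exists_eq_smul_id_of_forall_notLinearIndependent
    (f := Matrix.toLin' (g : Mat m F)) (fun v => by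
      intro hli
      have hv : v ≠ 0 := hli.ne_zero 0
      have := h (Projectivization.mk F v hv)
      rw [smul_mk_eq, Projectivization.mk_eq_mk_iff'] at this
      obtain ⟨a, ha⟩ := this
      have := (LinearIndependent.pair_iff.mp hli) a (-1) (by simp [Matrix.toLin'_apply, ha])
      simp at this)
  exact ⟨a, fun v => by simpa using LinearMap.congr_fun ha v⟩

/-- the root group of a point -/
def rootGroup (P : ℙ F (Fin m ⊕ Fin m → F)) : Subgroup (Matrix.symplecticGroup (Fin m) F) where
  carrier := Set.range (T P.rep)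
  mul_mem' := by rintro _ _ ⟨c, rfl⟩ ⟨d, rfl⟩; exact ⟨c + d, (T_mul _ c d).symm⟩
  one_mem' := ⟨0, T_zero _⟩
  inv_mem' := by rintro _ ⟨c, rfl⟩; exact ⟨-c, (T_inv _ c).symm⟩

theorem T_mem_rootGroup {v : Fin m ⊕ Fin m → F} (hv : v ≠ 0) (c : F) :
    T v c ∈ rootGroup (Projectivization.mk F v hv) := by
  obtain ⟨a, ha⟩ := Projectivization.exists_smul_eq_mk_rep F v hv
  refine ⟨((a : F)⁻¹) ^ 2 * c, ?_⟩
  rw [← ha, show a • v = (a : F) • v from rfl, T_smul, ← mul_assoc, ← mul_pow,
    mul_inv_cancel₀ a.ne_zero, one_pow, one_mul]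

theorem rootGroup_eq {v : Fin m ⊕ Fin m → F} (hv : v ≠ 0) {g : Matrix.symplecticGroup (Fin m) F}
    (hg : g ∈ rootGroup (Projectivization.mk F v hv)) : ∃ c, g = T v c := by
  obtain ⟨c, rfl⟩ := hg
  obtain ⟨a, ha⟩ := Projectivization.exists_smul_eq_mk_rep F v hv
  exact ⟨(a : F) ^ 2 * c, by rw [← ha]; exact T_smul _ _ _⟩

/-- the Iwasawa structure -/
def iwasawa (m : ℕ) (F : Type*) [Field F] :
    MulAction.IwasawaStructure (Matrix.symplecticGroup (Fin m) F) (ℙ F (Fin m ⊕ Fin m → F)) where
  T := rootGroup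
  is_comm P := ⟨⟨fun a b => by
    obtain ⟨_, c, rfl⟩ := a
    obtain ⟨_, d, rfl⟩ := b
    exact Subtype.ext (by simp only [Subgroup.coe_mul, T_mul, add_comm])⟩⟩
  is_conj g P := by
    conv_lhs => rw [← P.mk_rep, smul_mk_eq]
    ext x
    rw [Subgroup.mem_pointwise_smul_iff_inv_smul_mem]
    constructor
    · intro hx
      obtain ⟨c, rfl⟩ := rootGroup_eq _ hx
      refine ⟨c, ?_⟩
      rw [← map_inv, MulAut.smul_def, MulAut.conj_apply, inv_inv, ← T_conj]
      group
    · rintro ⟨c, hc⟩
      rw [← map_inv, MulAut.smul_def, MulAut.conj_apply, inv_inv] at hc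
      have : x = T ((g : Mat m F) *ᵥ P.rep) c := by rw [← T_conj, hc]; group
      exact this ▸ T_mem_rootGroup _ c
  is_generator := by
    rw [eq_top_iff, ← closure_TSet m F, Subgroup.closure_le]
    rintro _ ⟨w, c, rfl⟩
    by_cases hw : w = 0
    · have : T w c = 1 := sp_ext fun x => by simp [hw, T_mulVec]
      rw [this]; exact Subgroup.one_mem _
    · exact Subgroup.mem_iSup_of_mem _ (T_mem_rootGroup hw c)

/-- normal subgroups of a perfect symplectic group are central or everything -/
theorem normal_subgroup_cases (hperf : commutator (Matrix.symplecticGroup (Fin m) F) = ⊤)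
    (N : Subgroup (Matrix.symplecticGroup (Fin m) F)) [N.Normal] :
    N ≤ Subgroup.center (Matrix.symplecticGroup (Fin m) F) ∨ N = ⊤ := by
  haveI := preprimitive m F
  by_cases h : MulAction.fixedPoints N (ℙ F (Fin m ⊕ Fin m → F)) = Set.univ
  · left
    intro n hn
    exact center_eq_fixed n fun P => Set.eq_univ_iff_forall.mp h P ⟨n, hn⟩
  · right
    exact top_le_iff.mp (hperf ▸ (iwasawa m F).commutator_le N h)

theorem isSimpleGroup_psp [Fintype F] (m : ℕ) (hm : 1 ≤ m)
    (h : 3 ≤ m ∨ (m = 2 ∧ 3 ≤ Fintype.card F) ∨ 4 ≤ Fintype.card F) :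
    IsSimpleGroup (Cfsg.PSp m F) := by
  have hperf := perfect (F := F) m h
  have hne : Subgroup.center (Matrix.symplecticGroup (Fin m) F) ≠ ⊤ := by
    intro htop
    let e : Fin m ⊕ Fin m → F := ev ⟨0, hm⟩
    obtain ⟨c, hc⟩ := (mem_center_iff (T e 1)).mp (htop ▸ Subgroup.mem_top _)
    obtain ⟨x, hx⟩ := sf_exists_one (ev_ne_zero (F := F) (⟨0, hm⟩ : Fin m))
    have h1 := hc e
    have h2 := hc x
    rw [T_mulVec, sf_self, mul_zero, zero_smul, add_zero] at h1
    have hc1 : c = 1 := by
      by_contra hc1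
      exact ev_ne_zero (F := F) (⟨0, hm⟩ : Fin m)
        (smul_eq_zero.mp (show (c - 1) • e = 0 by rw [sub_smul, one_smul, ← h1, sub_self])
          |>.resolve_left (sub_ne_zero.mpr hc1))
    rw [T_mulVec, hc1, one_smul, add_eq_left, sf_swap, hx, one_mul, neg_smul, one_smul,
      neg_eq_zero] at h2
    exact ev_ne_zero _ h2
  haveI : Nontrivial (Cfsg.PSp m F) :=
    QuotientGroup.nontrivial_iff.mpr hne
  refine ⟨fun N hN => ?_⟩
  have hN' := Subgroup.map_comap_eq_self_of_surjective (QuotientGroup.mk'_surjective _) N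
  rcases normal_subgroup_cases hperf (N.comap (QuotientGroup.mk' _)) with h' | h'
  · left
    rw [← hN', Subgroup.map_eq_bot_iff, QuotientGroup.ker_mk']
    exact h'
  · right
    rw [← hN', h']
    exact Subgroup.map_top_of_surjective _ (QuotientGroup.mk'_surjective _)

end Cfsg.Agent.Symplectic
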