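import Cfsg.Agent.H95.Symp

/-! A rational structure of a symplectic form over a subfield: basic tools. -/

set_option autoImplicit false

namespace Cfsg.Agent.Symplectic

open scoped MatrixGroups Matrix
open Matrix Cfsg.Agent.H95

variable {ι : Type} [Fintype ι] [DecidableEq ι] {F : Type*} [Field F]

/-- `V₀` is an `F₀`-structure on which `f` takes values in `F₀`. -/
structure RatForm (f : (ι → F) → (ι → F) → F) (F₀ : Subfield F) (V₀ : AddSubgroup (ι → F)) :
    Prop where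
  symp : Geo.IsSymplecticForm f
  smul_mem : ∀ c ∈ F₀, ∀ v ∈ V₀, c • v ∈ V₀
  rat : ∀ u ∈ V₀, ∀ v ∈ V₀, f u v ∈ F₀
  dual : ∀ x, (∀ v ∈ V₀, f x v ∈ F₀) → x ∈ V₀
  span_eq : Submodule.span F (V₀ : Set (ι → F)) = ⊤

variable {f : (ι → F) → (ι → F) → F}

section elements

variable (hf : Geo.IsSymplecticForm f)
include hf

theorem rt_add (u : ι → F) (a b : F) : rt hf u a * rt hf u b = rt hf u (a + b) := by
  refine gl_ext fun x => ?_
  simp only [mul_mulVec, rt_mulVec hf, f_add_left hf, f_smul_left hf, f_self hf]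
  module

theorem rt_zero (u : ι → F) : rt hf u 0 = 1 :=
  gl_ext fun x => by simp [rt_mulVec hf]

theorem rt_inv (u : ι → F) (a : F) : (rt hf u a)⁻¹ = rt hf u (-a) :=
  inv_eq_of_mul_eq_one_right (by rw [rt_add hf, add_neg_cancel, rt_zero hf])

/-- short root element attached to an orthogonal pair -/
def th (u v : ι → F) (c : F) : GL ι F :=
  rt hf (u + v) c * rt hf u (-c) * rt hf v (-c)

theorem th_mulVec {u v : ι → F} (h : f u v = 0) (c : F) (x : ι → F) :
    (th hf u v c : Matrix ι ι F) *ᵥ x = x + (c * f x u) • v + (c * f x v) • u := by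
  simp only [th, mul_mulVec, rt_mulVec hf, f_add_left hf, f_add_right hf, f_smul_left hf, h,
    f_symm_zero hf h, f_self hf]
  module

theorem th_mem_iso (u v : ι → F) (c : F) : th hf u v c ∈ isoGrp f :=
  Subgroup.mul_mem _ (Subgroup.mul_mem _ (rt_mem_iso hf _ _) (rt_mem_iso hf _ _)) (rt_mem_iso hf _ _)

theorem conj_th {g : GL ι F} (hg : g ∈ isoGrp f) (u v : ι → F) (c : F) :
    g * th hf u v c * g⁻¹ =
      th hf ((g : Matrix ι ι F) *ᵥ u) ((g : Matrix ι ι F) *ᵥ v) c := by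
  simp only [th, ← mulVec_add, ← conj_rt hf hg]
  group

theorem th_add {u v : ι → F} (h : f u v = 0) (a b : F) :
    th hf u v a * th hf u v b = th hf u v (a + b) := by
  refine gl_ext fun x => ?_
  simp only [mul_mulVec, th_mulVec hf h, f_add_left hf, f_smul_left hf, f_self hf, h,
    f_symm_zero hf h]
  module

theorem th_zero {u v : ι → F} (h : f u v = 0) : th hf u v 0 = 1 :=
  gl_ext fun x => by simp [th_mulVec hf h]

theorem th_inv {u v : ι → F} (h : f u v = 0) (a : F) : (th hf u v a)⁻¹ = th hf u v (-a) :=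
  inv_eq_of_mul_eq_one_right (by rw [th_add hf h, add_neg_cancel, th_zero hf h])

theorem th_comm (u v : ι → F) (h : f u v = 0) (c : F) : th hf u v c = th hf v u c := by
  refine gl_ext fun x => ?_
  rw [th_mulVec hf h, th_mulVec hf (f_symm_zero hf h)]
  abel

theorem th_neg_left {u v : ι → F} (h : f u v = 0) (c : F) : th hf (-u) v c = th hf u v (-c) := by
  refine gl_ext fun x => ?_
  rw [th_mulVec hf h, th_mulVec hf (by rw [f_neg_left hf, h, neg_zero]), f_neg_right hf]
  module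

theorem th_smul_right {u v : ι → F} (h : f u v = 0) (s c : F) :
    th hf u (s • v) c = th hf u v (s * c) := by
  refine gl_ext fun x => ?_
  rw [th_mulVec hf h, th_mulVec hf (by rw [f_smul_right hf, h, mul_zero]), f_smul_right hf]
  module

/-- the involution that is `-1` on a hyperbolic plane -/
def neg2 (u v : ι → F) : GL ι F :=
  rt hf u 1 * rt hf v 1 * rt hf u 1 * (rt hf u 1 * rt hf v 1 * rt hf u 1)

theorem neg2_mem_iso (u v : ι → F) : neg2 hf u v ∈ isoGrp f := by
  have : rt hf u 1 * rt hf v 1 * rt hf u 1 ∈ isoGrp f :=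
    Subgroup.mul_mem _ (Subgroup.mul_mem _ (rt_mem_iso hf _ _) (rt_mem_iso hf _ _)) (rt_mem_iso hf _ _)
  exact Subgroup.mul_mem _ this this

theorem neg2_fix {u v x : ι → F} (hu : f x u = 0) (hv : f x v = 0) :
    (neg2 hf u v : Matrix ι ι F) *ᵥ x = x := by
  simp only [neg2, mul_mulVec, rt_fix hf hu, rt_fix hf hv]

theorem neg2_left {u v : ι → F} (h : f u v = 1) :
    (neg2 hf u v : Matrix ι ι F) *ᵥ u = -u := by
  simp only [neg2, mul_mulVec, rt_mulVec hf, f_add_left hf, f_smul_left hf, f_self hf, h,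
    f_skew hf v u]
  module

theorem neg2_right {u v : ι → F} (h : f u v = 1) :
    (neg2 hf u v : Matrix ι ι F) *ᵥ v = -v := by
  simp only [neg2, mul_mulVec, rt_mulVec hf, f_add_left hf, f_smul_left hf, f_self hf, h,
    f_skew hf v u]
  module

end elements

/-- orthogonal projection off the plane of `e, e'` -/
def pr (f : (ι → F) → (ι → F) → F) (e e' x : ι → F) : ι → F :=
  x - (f x e' • e - f x e • e')

namespace RatForm

variable {F₀ : Subfield F} {V₀ : AddSubgroup (ι → F)} (R : RatForm f F₀ V₀)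
include R

theorem exists_ne {x : ι → F} (hx : x ≠ 0) : ∃ v ∈ V₀, f x v ≠ 0 := by
  by_contra h
  push Not at h
  obtain ⟨y, hy⟩ := exists_f_eq_one R.symp hx
  have : ∀ y ∈ Submodule.span F (V₀ : Set (ι → F)), f x y = 0 := by
    intro y hy
    induction hy using Submodule.span_induction with
    | mem y hy => exact h y hy
    | zero => exact f_zero_right R.symp x
    | add a b _ _ ha hb => rw [f_add_right R.symp, ha, hb, add_zero]
    | smul c a _ ha => rw [f_smul_right R.symp, ha, mul_zero]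
  exact one_ne_zero (hy.symm.trans (this y (R.span_eq ▸ Submodule.mem_top)))

theorem exists_partner {v : ι → F} (hv : v ∈ V₀) (h0 : v ≠ 0) : ∃ v' ∈ V₀, f v v' = 1 := by
  obtain ⟨u, hu, hne⟩ := R.exists_ne h0
  exact ⟨(f v u)⁻¹ • u, R.smul_mem _ (F₀.inv_mem (R.rat v hv u hu)) u hu,
    by rw [f_smul_right R.symp, inv_mul_cancel₀ hne]⟩

theorem pr_mem {e e' x : ι → F} (he : e ∈ V₀) (he' : e' ∈ V₀) (hx : x ∈ V₀) :
    pr f e e' x ∈ V₀ :=
  V₀.sub_mem hx (V₀.sub_mem (R.smul_mem _ (R.rat x hx e' he') e he)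
    (R.smul_mem _ (R.rat x hx e he) e' he'))

theorem pr_left {e e' x : ι → F} (h : f e e' = 1) : f (pr f e e' x) e = 0 := by
  rw [pr, f_sub_left R.symp, f_sub_left R.symp, f_smul_left R.symp, f_smul_left R.symp,
    f_self R.symp, f_skew R.symp e' e, h]
  ring

theorem pr_right {e e' x : ι → F} (h : f e e' = 1) : f (pr f e e' x) e' = 0 := by
  rw [pr, f_sub_left R.symp, f_sub_left R.symp, f_smul_left R.symp, f_smul_left R.symp,
    f_self R.symp, h]
  ring

theorem pr_symm (e e' x y : ι → F) : f x (pr f e e' y) = f (pr f e e' x) y := by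
  simp only [pr, f_sub_left R.symp, f_sub_right R.symp, f_smul_left R.symp, f_smul_right R.symp]
  rw [f_skew R.symp e y, f_skew R.symp e' y]
  ring

theorem pr_orth {e e' x y : ι → F} (he : f x e = 0) (he' : f x e' = 0) :
    f x (pr f e e' y) = f x y := by
  simp only [pr, f_sub_right R.symp, f_smul_right R.symp, he, he']
  ring

/-- a rational vector orthogonal to a plane with prescribed non-zero pairing -/
theorem exists_perp_ne {e e' w : ι → F} (he : e ∈ V₀) (he' : e' ∈ V₀) (h : f e e' = 1)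
    (hw : pr f e e' w ≠ 0) :
    ∃ a ∈ V₀, f a e = 0 ∧ f a e' = 0 ∧ f w a ≠ 0 := by
  obtain ⟨u, hu, hne⟩ := R.exists_ne hw
  exact ⟨pr f e e' u, R.pr_mem he he' hu, R.pr_left h, R.pr_right h, by rwa [R.pr_symm]⟩

/-- a rational vector orthogonal to a given plane has a partner there -/
theorem exists_perp_partner {e e' a : ι → F} (he : e ∈ V₀) (he' : e' ∈ V₀) (h : f e e' = 1)
    (ha : a ∈ V₀) (h0 : a ≠ 0) (hae : f a e = 0) (hae' : f a e' = 0) :
    ∃ a' ∈ V₀, f a a' = 1 ∧ f a' e = 0 ∧ f a' e' = 0 := by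
  obtain ⟨u, hu, h1⟩ := R.exists_partner ha h0
  exact ⟨pr f e e' u, R.pr_mem he he' hu, by rw [R.pr_orth hae hae', h1], R.pr_left h, R.pr_right h⟩

theorem exists_not_mem_span (hn : 6 ≤ Fintype.card ι) (s : Finset (ι → F)) (hs : s.card ≤ 5) :
    ∃ v ∈ V₀, v ∉ Submodule.span F (s : Set (ι → F)) := by
  by_contra h
  push Not at h
  have : (⊤ : Submodule F (ι → F)) ≤ Submodule.span F (s : Set (ι → F)) :=
    R.span_eq ▸ Submodule.span_le.2 h
  have h1 := Submodule.finrank_mono this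
  rw [finrank_top, Module.finrank_fintype_fun_eq_card] at h1
  have h2 := finrank_span_finset_le_card (R := F) s
  rw [Set.finrank] at h2
  omega

/-- a rational hyperbolic plane orthogonal to a given one -/
theorem exists_plane (hn : 6 ≤ Fintype.card ι) {e e' : ι → F} (he : e ∈ V₀) (he' : e' ∈ V₀)
    (h : f e e' = 1) :
    ∃ a ∈ V₀, ∃ a' ∈ V₀, f a a' = 1 ∧ f a e = 0 ∧ f a e' = 0 ∧ f a' e = 0 ∧ f a' e' = 0 := by
  classical
  obtain ⟨v, hv, hvs⟩ := R.exists_not_mem_span hn {e, e'} (Finset.card_le_two.trans (by norm_num))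
  have h0 : pr f e e' v ≠ 0 := by
    intro h0
    apply hvs
    rw [pr, sub_eq_zero] at h0
    rw [h0, Finset.coe_insert, Finset.coe_singleton]
    exact Submodule.sub_mem _ (Submodule.smul_mem _ _ (Submodule.subset_span (by simp)))
      (Submodule.smul_mem _ _ (Submodule.subset_span (by simp)))
  obtain ⟨a', ha', h1, h2, h3⟩ := R.exists_perp_partner he he' h (R.pr_mem he he' hv) h0
    (R.pr_left h) (R.pr_right h)
  exact ⟨_, R.pr_mem he he' hv, a', ha', h1, R.pr_left h, R.pr_right h, h2, h3⟩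

/-- a rational hyperbolic plane orthogonal to two given ones -/
theorem exists_plane₂ (hn : 6 ≤ Fintype.card ι) {e e' a a' : ι → F} (he : e ∈ V₀) (he' : e' ∈ V₀)
    (ha : a ∈ V₀) (ha' : a' ∈ V₀) (h : f e e' = 1) (hA : f a a' = 1)
    (h1 : f a e = 0) (h2 : f a e' = 0) (h3 : f a' e = 0) (h4 : f a' e' = 0) :
    ∃ b ∈ V₀, ∃ b' ∈ V₀, f b b' = 1 ∧ f b e = 0 ∧ f b e' = 0 ∧ f b a = 0 ∧ f b a' = 0 ∧
      f b' e = 0 ∧ f b' e' = 0 ∧ f b' a = 0 ∧ f b' a' = 0 := by
  classical
  have hs := R.symp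
  obtain ⟨v, hv, hvs⟩ := R.exists_not_mem_span hn {e, e', a, a'}
    (Finset.card_le_four.trans (by norm_num))
  have key : ∀ y ∈ V₀, pr f a a' (pr f e e' y) ∈ V₀ ∧ f (pr f a a' (pr f e e' y)) e = 0 ∧
      f (pr f a a' (pr f e e' y)) e' = 0 ∧ f (pr f a a' (pr f e e' y)) a = 0 ∧
      f (pr f a a' (pr f e e' y)) a' = 0 := by
    intro y hy
    refine ⟨R.pr_mem ha ha' (R.pr_mem he he' hy), ?_, ?_, R.pr_left hA, R.pr_right hA⟩
    · rw [pr, f_sub_left hs, f_sub_left hs, f_smul_left hs, f_smul_left hs, h1, h3, R.pr_left h]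
      ring
    · rw [pr, f_sub_left hs, f_sub_left hs, f_smul_left hs, f_smul_left hs, h2, h4, R.pr_right h]
      ring
  obtain ⟨hb, be, be', ba, ba'⟩ := key v hv
  set b := pr f a a' (pr f e e' v) with hbdef
  have hb0 : b ≠ 0 := by
    intro h0
    apply hvs
    set S := Submodule.span F ((({e, e', a, a'} : Finset (ι → F)) : Set (ι → F)))
    have m1 : ∀ x ∈ ({e, e', a, a'} : Finset (ι → F)), x ∈ S := fun x hx => Submodule.subset_span hx
    have hpe : pr f e e' v ∈ S := by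
      rw [hbdef, pr, sub_eq_zero] at h0
      rw [h0]
      exact S.sub_mem (S.smul_mem _ (m1 a (by simp))) (S.smul_mem _ (m1 a' (by simp)))
    have hv' : v = pr f e e' v + (f v e' • e - f v e • e') := by rw [pr, sub_add_cancel]
    rw [hv']
    exact S.add_mem hpe (S.sub_mem (S.smul_mem _ (m1 e (by simp))) (S.smul_mem _ (m1 e' (by simp))))
  obtain ⟨u, hu, hbu⟩ := R.exists_partner hb hb0
  obtain ⟨hb', b'e, b'e', b'a, b'a'⟩ := key u hu
  refine ⟨b, hb, _, hb', ?_, be, be', ba, ba', b'e, b'e', b'a, b'a'⟩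
  rw [R.pr_orth ba ba', R.pr_orth be be', hbu]

end RatForm

/-- `M` contains the root elements of parameter `a` at all rational vectors. -/
def InA (hf : Geo.IsSymplecticForm f) (V₀ : AddSubgroup (ι → F)) (M : Subgroup (GL ι F)) (a : F) :
    Prop :=
  ∀ v ∈ V₀, rt hf v a ∈ M

theorem th_mem {hf : Geo.IsSymplecticForm f} {V₀ : AddSubgroup (ι → F)} {M : Subgroup (GL ι F)}
    {a : F} (h : InA hf V₀ M a) {u v : ι → F} (hu : u ∈ V₀) (hv : v ∈ V₀) :
    th hf u v a ∈ M := by
  refine M.mul_mem (M.mul_mem (h _ (V₀.add_mem hu hv)) ?_) ?_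
  · rw [← rt_inv hf]; exact M.inv_mem (h _ hu)
  · rw [← rt_inv hf]; exact M.inv_mem (h _ hv)

theorem conj_mem {M : Subgroup (GL ι F)} {g x : GL ι F} (hg : g ∈ M) (hx : x ∈ M) :
    g * x * g⁻¹ ∈ M :=
  M.mul_mem (M.mul_mem hg hx) (M.inv_mem hg)

variable {F₀ : Subfield F} {V₀ : AddSubgroup (ι → F)} {M : Subgroup (GL ι F)}

/-- one vector suffices -/
theorem inA_of_one (R : RatForm f F₀ V₀) (hS : ∀ c ∈ F₀, InA R.symp V₀ M c) {v : ι → F} {a : F}
    (hv : v ∈ V₀) (hv0 : v ≠ 0) (h : rt R.symp v a ∈ M) : InA R.symp V₀ M a := by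
  have hf := R.symp
  have move : ∀ x ∈ V₀, ∀ y ∈ V₀, f x y ≠ 0 → rt hf x a ∈ M → rt hf y a ∈ M := by
    intro x hx y hy hxy hxM
    have hg : rt hf (y - x) (f x y)⁻¹ ∈ M :=
      hS _ (F₀.inv_mem (R.rat x hx y hy)) _ (V₀.sub_mem hy hx)
    have := conj_mem hg hxM
    rwa [conj_rt hf (rt_mem_iso hf _ _), rt_move hf hxy] at this
  intro w hw
  rcases eq_or_ne w 0 with rfl | hw0
  · convert M.one_mem
    exact gl_ext fun x => by simp [rt_mulVec hf]
  obtain ⟨z, hz, h1, h2⟩ : ∃ z ∈ V₀, f v z ≠ 0 ∧ f w z ≠ 0 := by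
    obtain ⟨z1, hz1, k1⟩ := R.exists_ne hv0
    obtain ⟨z2, hz2, k2⟩ := R.exists_ne hw0
    by_cases a1 : f w z1 = 0
    · by_cases a2 : f v z2 = 0
      · exact ⟨z1 + z2, V₀.add_mem hz1 hz2, by simp [f_add_right hf, a2, k1],
          by simp [f_add_right hf, a1, k2]⟩
      · exact ⟨z2, hz2, a2, k2⟩
    · exact ⟨z1, hz1, k1, a1⟩
  exact move z hz w hw (f_symm_ne hf h2) (move v hv z hz h1 h)

end Cfsg.Agent.Symplectic
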