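import Cfsg.Agent.Symplectic.HermBasic
import Cfsg.Agent.Symplectic.RationalBasic

/-! Polarizations of unitary forms: transvections from short root elements. -/

set_option autoImplicit false

namespace Cfsg.Agent.Symplectic

open scoped MatrixGroups Matrix
open Matrix Cfsg.Agent.H95

variable {ι : Type} [Fintype ι] [DecidableEq ι] {F : Type*} [Field F]
  {σ : F ≃+* F} {f : (ι → F) → (ι → F) → F}
  {W₁ W₂ : Submodule F (ι → F)} {M : Subgroup (GL ι F)}

/-- a polarization -/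
structure HPolar (f : (ι → F) → (ι → F) → F) (W₁ W₂ : Submodule F (ι → F)) : Prop where
  ti₁ : ∀ u ∈ W₁, ∀ v ∈ W₁, f u v = 0
  ti₂ : ∀ u ∈ W₂, ∀ v ∈ W₂, f u v = 0
  compl : IsCompl W₁ W₂
  dim₂ : 5 ≤ Module.finrank F W₂

theorem HPolar.exists_split (h : HPolar f W₁ W₂) (x : ι → F) :
    ∃ a ∈ W₁, ∃ b ∈ W₂, a + b = x :=
  Submodule.mem_sup.1 (h.compl.sup_eq_top ▸ Submodule.mem_top)

variable (hf : Geo.IsUnitaryForm σ f)
include hf

theorem uh_mem_sl (u v : ι → F) (c : F) : uh hf u v c ∈ Geo.specialLinear ι F := by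
  by_cases h : OrthIso hf u v
  · have hd : ∀ a x : ι → F, dv f a ⬝ᵥ x = f x a := fun a x => u_dot hf a x
    have e1 : (c • dv f u) ⬝ᵥ v = 0 := by
      rw [smul_dotProduct, hd, u_symm_zero hf h.2.2, smul_zero]
    have e2 : ((-σ c) • dv f v) ⬝ᵥ u = 0 := by rw [smul_dotProduct, hd, h.2.2, smul_zero]
    have : uh hf u v c = H95.tv v (c • dv f u) e1 * H95.tv u ((-σ c) • dv f v) e2 := by
      refine gl_ext fun x => ?_
      simp only [mul_mulVec, uh_mulVec hf h, tv_mulVec, smul_dotProduct, hd, u_add_left hf,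
        u_smul_left hf, h.1, smul_eq_mul]
      module
    rw [this]
    exact Subgroup.mul_mem _ (tv_mem_specialLinear _ _ _) (tv_mem_specialLinear _ _ _)
  · rw [uh, dif_neg h]; exact Subgroup.one_mem _

theorem HPolar.exists_dual (h : HPolar f W₁ W₂) {u v : ι → F} (hu : u ∈ W₂) (hv : v ∈ W₂)
    (hind : ∀ t : F, v ≠ t • u) : ∃ p ∈ W₁, f u p = 0 ∧ f v p = 1 := by
  obtain ⟨x, h1, h2⟩ := exists_u_perp_one hf hind
  obtain ⟨p, hp, q, hq, rfl⟩ := h.exists_split x
  rw [u_add_left hf, h.ti₂ q hq u hu, add_zero] at h1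
  rw [u_add_left hf, h.ti₂ q hq v hv, add_zero] at h2
  exact ⟨p, hp, by rw [← u_conj hf, h1, map_zero], by rw [← u_conj hf, h2, map_one]⟩

theorem HPolar.exists_perp4 (h : HPolar f W₁ W₂) (a b c d : ι → F) :
    ∃ r ∈ W₂, r ≠ 0 ∧ f a r = 0 ∧ f b r = 0 ∧ f c r = 0 ∧ f d r = 0 := by
  let L : W₂ →ₗ[F] (Fin 4 → F) :=
    { toFun := fun r => ![f r a, f r b, f r c, f r d]
      map_add' := fun x y => by
        ext i; fin_cases i <;> simp [u_add_left hf]
      map_smul' := fun t x => by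
        ext i; fin_cases i <;> simp [u_smul_left hf] }
  have hne : L.ker ≠ ⊥ := by
    intro hb
    have := LinearMap.finrank_le_finrank_of_injective (LinearMap.ker_eq_bot.1 hb)
    rw [Module.finrank_fin_fun] at this
    have := h.dim₂
    omega
  obtain ⟨r, hr, hr0⟩ := L.ker.ne_bot_iff.1 hne
  have e := LinearMap.mem_ker.1 hr
  exact ⟨r, r.2, by simpa using hr0, u_symm_zero hf (congrFun e 0), u_symm_zero hf (congrFun e 1),
    u_symm_zero hf (congrFun e 2), u_symm_zero hf (congrFun e 3)⟩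

omit hf in
/-- `M` contains the short root elements between the two subspaces -/
def HShort (hf : Geo.IsUnitaryForm σ f) (W₁ W₂ : Submodule F (ι → F)) (M : Subgroup (GL ι F)) :
    Prop :=
  ∀ u ∈ W₁, ∀ v ∈ W₂, f u v = 0 → ∀ c : F, uh hf u v c ∈ M

theorem HShort.symm {W₁ W₂ : Submodule F (ι → F)} (h : HPolar f W₁ W₂)
    (hS : HShort hf W₁ W₂ M) : HShort hf W₂ W₁ M := fun u hu v hv huv c => by
  rw [uh_comm hf ⟨h.ti₂ u hu u hu, h.ti₁ v hv v hv, huv⟩]
  exact hS v hv u hu (u_symm_zero hf huv) _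

theorem exists_not_fixed : ∃ a : F, σ a ≠ a := by
  by_contra hcon
  push Not at hcon
  exact hf.ne_refl (RingEquiv.ext hcon)

omit hf in
theorem mul_conj_conj {G : Type*} [Group G] (g x y : G) :
    g * (x * y) * g⁻¹ = g * x * g⁻¹ * (g * y * g⁻¹) := by group

/-- a short root element inside `W₂` gives a transvection -/
theorem ut_of_short_same (h : HPolar f W₁ W₂) (hS : HShort hf W₁ W₂ M) {r y : ι → F}
    (hr : r ∈ W₂) (hy : y ∈ W₂) {γ : F} (hγ : σ γ = -γ) {c : F} (hc : c ≠ 0)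
    (hind : ∀ t : F, r ≠ t • y) (hm : uh hf r y c * ut hf r γ ∈ M) :
    ∃ l : F, l ≠ 0 ∧ σ l = -l ∧ ut hf y l ∈ M := by
  have ry : f r y = 0 := h.ti₂ r hr y hy
  have yr : f y r = 0 := h.ti₂ y hy r hr
  have rr : f r r = 0 := h.ti₂ r hr r hr
  have yy : f y y = 0 := h.ti₂ y hy y hy
  have hO : OrthIso hf r y := ⟨rr, yy, ry⟩
  obtain ⟨p, hp, hyp, hrp⟩ := h.exists_dual hf hy hr hind
  have py : f p y = 0 := u_symm_zero hf hyp
  have hP : OrthIso hf p y := ⟨h.ti₁ p hp p hp, yy, py⟩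
  have e1 : ∀ e : F, (uh hf p y e : Matrix ι ι F) *ᵥ r = r + e • y := fun e => by
    rw [uh_mulVec hf hP, hrp, ry]; module
  have e2 : ∀ e : F, (uh hf p y e : Matrix ι ι F) *ᵥ y = y := fun e => by
    rw [uh_mulVec hf hP, hyp, yy]; module
  have hO' : ∀ e : F, OrthIso hf (r + e • y) y := fun e =>
    ⟨by simp only [u_add_left hf, u_add_right hf, u_smul_left hf, u_smul_right hf, rr, yy, ry, yr,
        mul_zero, add_zero], yy, by rw [u_add_left hf, u_smul_left hf, ry, yy, mul_zero, add_zero]⟩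
  have X : ∀ e : F,
      uh hf r y (γ * e) * ut hf y (c * σ e - σ c * e + γ * (e * σ e)) ∈ M := by
    intro e
    have h1 := M.mul_mem (conj_mem (hS p hp y hy py e) hm) (M.inv_mem hm)
    rw [mul_conj_conj, conj_uh hf (uh_mem_iso hf _ _ _) hO, conj_ut hf (uh_mem_iso hf _ _ _) rr,
      e1, e2, _root_.mul_inv_rev, ut_inv hf rr, uh_inv hf hO] at h1
    convert h1 using 1
    refine gl_ext fun x => ?_
    simp only [mul_mulVec, ut_mulVec hf rr, ut_mulVec hf yy, ut_mulVec hf (hO' e).1,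
      uh_mulVec hf hO, uh_mulVec hf (hO' e), u_add_left hf, u_add_right hf, u_sub_left hf,
      u_smul_left hf, u_smul_right hf, rr, yy, ry, yr, map_mul, map_neg, hγ]
    module
  rcases eq_or_ne γ 0 with rfl | hγ0
  · obtain ⟨a, ha⟩ := exists_not_fixed hf
    obtain ⟨e, he⟩ : ∃ e : F, c * σ e - σ c * e ≠ 0 := by
      by_cases hcc : σ c = c
      · exact ⟨a, by rw [hcc, ← mul_sub]; exact mul_ne_zero hc (sub_ne_zero.2 ha)⟩
      · exact ⟨1, by rw [map_one, mul_one, mul_one]; exact sub_ne_zero.2 (Ne.symm hcc)⟩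
    refine ⟨_, he, ?_, ?_⟩
    · simp only [map_sub, map_mul, u_inv hf]; ring
    · have := X e
      rwa [zero_mul, uh_zero hf hO, one_mul, zero_mul, add_zero] at this
  obtain ⟨e, he⟩ := exists_trace_eq hf (s := 1) (map_one σ)
  refine ⟨γ * (e + σ e), by rw [he, mul_one]; exact hγ0, ?_, ?_⟩
  · rw [he, mul_one, hγ]
  set l := c * σ e - σ c * e + γ * (e * σ e) with hl
  have h1 := M.mul_mem (conj_mem (hS p hp y hy py 1) (X e)) (M.inv_mem (X e))
  rw [mul_conj_conj, conj_uh hf (uh_mem_iso hf _ _ _) hO, conj_ut hf (uh_mem_iso hf _ _ _) yy, e1,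
    e2, _root_.mul_inv_rev, ut_inv hf yy, uh_inv hf hO] at h1
  convert h1 using 1
  refine gl_ext fun x => ?_
  simp only [mul_mulVec, ut_mulVec hf yy, uh_mulVec hf hO, uh_mulVec hf (hO' 1), u_add_left hf,
    u_add_right hf, u_sub_left hf, u_smul_left hf, u_smul_right hf, rr, yy, ry, yr, map_mul,
    map_neg, hγ, map_one]
  module

/-- short root elements with independent second components -/
theorem ut_of_indep (h : HPolar f W₁ W₂) (hS : HShort hf W₁ W₂ M) {w₁ w₂ z₁ z₂ : ι → F}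
    (hw1 : w₁ ∈ W₁) (hw2 : w₂ ∈ W₂) (hz1 : z₁ ∈ W₁) (hz2 : z₂ ∈ W₂) (hz20 : z₂ ≠ 0)
    (hind : ∀ t : F, w₂ ≠ t • z₂) (hO : OrthIso hf (w₁ + w₂) (z₁ + z₂))
    (hm : ∀ c, uh hf (w₁ + w₂) (z₁ + z₂) c ∈ M) :
    ∃ y ∈ W₂, y ≠ 0 ∧ ∃ l : F, l ≠ 0 ∧ σ l = -l ∧ ut hf y l ∈ M := by
  obtain ⟨p, hp, hzp, hwp⟩ := h.exists_dual hf hz2 hw2 hind
  obtain ⟨d0, ⟨hd0, -⟩⟩ : ∃ p' : ι → F, f z₂ p' ≠ 0 ∧ True := by
    obtain ⟨-, y, hy⟩ := hf.nondegenerate z₂ hz20
    exact ⟨y, hy, trivial⟩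
  obtain ⟨r, hr, hr0, a1, a2, a3, a4⟩ := h.exists_perp4 hf w₁ z₁ p d0
  have hrind : ∀ t : F, r ≠ t • z₂ := fun t e => by
    apply hr0
    rw [e, u_smul_right hf] at a4
    rw [e, (map_eq_zero_iff σ σ.injective).1 ((mul_eq_zero.1 a4).resolve_right
      fun h0 => hd0 (u_symm_zero hf h0)), zero_smul]
  have pp : f p p = 0 := h.ti₁ p hp p hp
  have rr : f r r = 0 := h.ti₂ r hr r hr
  have hP : OrthIso hf p r := ⟨pp, rr, a3⟩
  have wr : f (w₁ + w₂) r = 0 := by rw [u_add_left hf, a1, h.ti₂ _ hw2 r hr, add_zero]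
  have zr : f (z₁ + z₂) r = 0 := by rw [u_add_left hf, a2, h.ti₂ _ hz2 r hr, add_zero]
  have zp : f (z₁ + z₂) p = 0 := by rw [u_add_left hf, hzp, h.ti₁ _ hz1 p hp, add_zero]
  have wp : f (w₁ + w₂) p = 1 := by rw [u_add_left hf, hwp, h.ti₁ _ hw1 p hp, zero_add]
  have e1 : (uh hf p r 1 : Matrix ι ι F) *ᵥ (w₁ + w₂) = w₁ + w₂ + r := by
    rw [uh_mulVec hf hP, wp, wr]; module
  have e2 : (uh hf p r 1 : Matrix ι ι F) *ᵥ (z₁ + z₂) = z₁ + z₂ := by
    rw [uh_mulVec hf hP, zp, zr]; module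
  have hRZ : OrthIso hf r (z₁ + z₂) := ⟨rr, hO.2.1, u_symm_zero hf zr⟩
  have hrz : ∀ c, uh hf r (z₁ + z₂) c ∈ M := by
    intro c
    have h1 := M.mul_mem (conj_mem (hS p hp r hr a3 1) (hm c)) (M.inv_mem (hm c))
    rw [conj_uh hf (uh_mem_iso hf _ _ _) hO, uh_inv hf hO, e1, e2] at h1
    have hWR : OrthIso hf (w₁ + w₂ + r) (z₁ + z₂) :=
      ⟨by simp only [u_add_left hf (w₁ + w₂) r, u_add_right hf _ (w₁ + w₂) r, hO.1, wr, rr,
          u_symm_zero hf wr, add_zero], hO.2.1,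
        by rw [u_add_left hf (w₁ + w₂) r, hO.2.2, u_symm_zero hf zr, add_zero]⟩
    convert h1 using 1
    refine gl_ext fun x => ?_
    obtain ⟨o1, o2, o3⟩ := hO
    generalize w₁ + w₂ = w at *
    generalize z₁ + z₂ = z at *
    simp only [mul_mulVec, uh_mulVec hf hRZ, uh_mulVec hf hWR,
      uh_mulVec hf (show OrthIso hf w z from ⟨o1, o2, o3⟩), u_add_left hf, u_add_right hf,
      u_sub_left hf, u_smul_left hf, o1, o2, o3, u_symm_zero hf o3, wr, zr,
      u_symm_zero hf wr, map_neg]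
    module
  have hRZ1 : OrthIso hf r z₁ := ⟨rr, h.ti₁ _ hz1 _ hz1, u_symm_zero hf a2⟩
  have hRZ2 : OrthIso hf r z₂ := ⟨rr, h.ti₂ _ hz2 _ hz2, h.ti₂ r hr _ hz2⟩
  have hskew : σ (f z₁ z₂) = -f z₁ z₂ := by
    have h0 := hO.2.1
    simp only [u_add_left hf, u_add_right hf, h.ti₁ _ hz1 _ hz1, h.ti₂ _ hz2 _ hz2, zero_add,
      add_zero] at h0
    rw [u_conj hf]
    linear_combination h0
  have hm2 : uh hf r z₂ 1 * ut hf r (f z₁ z₂) ∈ M := by
    have h1 := M.mul_mem (hrz 1) (M.inv_mem ((hS.symm hf h) r hr z₁ hz1 (u_symm_zero hf a2) 1))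
    rw [uh_inv hf hRZ1] at h1
    convert h1 using 1
    refine gl_ext fun x => ?_
    simp only [mul_mulVec, ut_mulVec hf rr, uh_mulVec hf hRZ, uh_mulVec hf hRZ1, uh_mulVec hf hRZ2,
      u_add_left hf, u_add_right hf, u_sub_left hf, u_smul_left hf, rr, hRZ1.2.2, hRZ2.2.2, a2,
      h.ti₁ _ hz1 _ hz1, map_neg, map_one]
    module
  exact ⟨z₂, hz2, hz20, ut_of_short_same hf h hS hr hz2 hskew one_ne_zero hrind hm2⟩

/-- short root elements with proportional components -/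
theorem ut_of_dep (h : HPolar f W₁ W₂) (hS : HShort hf W₁ W₂ M) {w₁ w₂ : ι → F}
    (hw1 : w₁ ∈ W₁) (hw2 : w₂ ∈ W₂) (hw10 : w₁ ≠ 0) (hw20 : w₂ ≠ 0) {μ ν : F} (hμν : μ ≠ ν)
    (hO : OrthIso hf (w₁ + w₂) (μ • w₁ + ν • w₂))
    (hm : ∀ c, uh hf (w₁ + w₂) (μ • w₁ + ν • w₂) c ∈ M) :
    (∃ y ∈ W₁, y ≠ 0 ∧ ∃ l : F, l ≠ 0 ∧ σ l = -l ∧ ut hf y l ∈ M) ∨
    ∃ y ∈ W₂, y ≠ 0 ∧ ∃ l : F, l ≠ 0 ∧ σ l = -l ∧ ut hf y l ∈ M := by
  have a11 := h.ti₁ _ hw1 _ hw1
  have a22 := h.ti₂ _ hw2 _ hw2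
  have w12 : f w₁ w₂ = 0 := by
    have h1 := hO.1
    have h3 := hO.2.2
    simp only [u_add_left hf, u_add_right hf, u_smul_right hf, a11, a22, zero_add, add_zero,
      mul_zero] at h1 h3
    exact (mul_eq_zero.1 (show (σ ν - σ μ) * f w₁ w₂ = 0 by
      linear_combination h3 - σ μ * h1)).resolve_left
      (sub_ne_zero.2 fun e => hμν (σ.injective e).symm)
  have hW : OrthIso hf w₁ w₂ := ⟨a11, a22, w12⟩
  have w21 := u_symm_zero hf w12
  have hX : ∀ c, ut hf w₁ (c * μ - σ (c * μ)) * ut hf w₂ (c * ν - σ (c * ν)) ∈ M := by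
    intro c
    have := M.mul_mem (hm c) (M.inv_mem (hS w₁ hw1 w₂ hw2 w12 (c * ν - σ (c * μ))))
    rw [uh_inv hf hW] at this
    convert this using 1
    refine gl_ext fun x => ?_
    simp only [mul_mulVec, ut_mulVec hf a11, ut_mulVec hf a22, uh_mulVec hf hW, uh_mulVec hf hO,
      u_add_left hf, u_add_right hf, u_sub_left hf, u_smul_left hf, u_smul_right hf, a11, a22,
      w12, w21, map_mul, map_neg, map_sub, u_inv hf]
    module
  obtain ⟨a, ha⟩ := exists_not_fixed hf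
  rcases eq_or_ne ν 0 with rfl | hν
  · left
    refine ⟨w₁, hw1, hw10, a - σ a, sub_ne_zero.2 (Ne.symm ha), by
      rw [map_sub, u_inv hf, neg_sub], ?_⟩
    have := hX (a / μ)
    rwa [div_mul_cancel₀ a hμν, mul_zero, map_zero, sub_zero, ut_zero hf w₂ a22, mul_one] at this
  right
  obtain ⟨-, y, hy⟩ := hf.nondegenerate w₂ hw20
  obtain ⟨p0, hp0, q0, hq0, rfl⟩ := h.exists_split y
  rw [u_add_right hf, h.ti₂ _ hw2 q0 hq0, add_zero] at hy
  set p := (σ (f w₂ p0))⁻¹ • p0 with hpdef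
  have hp : p ∈ W₁ := W₁.smul_mem _ hp0
  have hwp : f w₂ p = 1 := by
    rw [hpdef, u_smul_right hf, map_inv₀, u_inv hf, inv_mul_cancel₀ hy]
  obtain ⟨r, hr, hr0, b1, b2, -, -⟩ := h.exists_perp4 hf w₁ p p p
  have rr : f r r = 0 := h.ti₂ r hr r hr
  have hP : OrthIso hf p r := ⟨h.ti₁ p hp p hp, rr, b2⟩
  have e1 : (uh hf p r 1 : Matrix ι ι F) *ᵥ w₁ = w₁ := by
    rw [uh_mulVec hf hP, h.ti₁ _ hw1 p hp, b1]; module
  have e2 : (uh hf p r 1 : Matrix ι ι F) *ᵥ w₂ = w₂ + r := by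
    rw [uh_mulVec hf hP, hwp, h.ti₂ _ hw2 r hr]; module
  have w2r := h.ti₂ _ hw2 r hr
  have rw2 := h.ti₂ r hr _ hw2
  have hβ : σ (a - σ a) = -(a - σ a) := by rw [map_sub, u_inv hf, neg_sub]
  have hrind : ∀ t : F, r ≠ t • w₂ := fun t e => by
    have e' := u_symm_zero hf b2
    rw [e, u_smul_left hf, hwp, mul_one] at e'
    exact hr0 (by rw [e, e', zero_smul])
  have hO2 : OrthIso hf r w₂ := ⟨rr, a22, rw2⟩
  have hwr : f (w₂ + r) (w₂ + r) = 0 := by
    simp only [u_add_left hf, u_add_right hf, a22, rr, w2r, rw2, add_zero]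
  have hd : uh hf r w₂ (a - σ a) * ut hf r (a - σ a) ∈ M := by
    have := M.mul_mem (conj_mem (hS p hp r hr b2 1) (hX (a / ν))) (M.inv_mem (hX (a / ν)))
    rw [mul_conj_conj, conj_ut hf (uh_mem_iso hf _ _ _) a11, conj_ut hf (uh_mem_iso hf _ _ _) a22,
      e1, e2, _root_.mul_inv_rev, ut_inv hf a11, ut_inv hf a22, div_mul_cancel₀ a hν] at this
    convert this using 1
    refine gl_ext fun x => ?_
    simp only [mul_mulVec, ut_mulVec hf a11, ut_mulVec hf a22, ut_mulVec hf hwr, ut_mulVec hf rr,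
      uh_mulVec hf hO2, u_add_left hf, u_add_right hf, u_sub_left hf, u_smul_left hf, a11, a22,
      rr, w12, w21, w2r, rw2, b1, u_symm_zero hf b1, hβ]
    module
  exact ⟨w₂, hw2, hw20, ut_of_short_same hf h hS hr hw2 hβ (sub_ne_zero.2 (Ne.symm ha)) hrind hd⟩

/-- short root elements with a mixed vector give a transvection -/
theorem ut_of_mixed (h : HPolar f W₁ W₂) (h' : HPolar f W₂ W₁) (hS : HShort hf W₁ W₂ M)
    {w z : ι → F} (hw1 : w ∉ W₁) (hw2 : w ∉ W₂) (hz : ∀ t : F, z ≠ t • w) (hO : OrthIso hf w z)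
    (hm : ∀ c, uh hf w z c ∈ M) :
    (∃ y ∈ W₁, y ≠ 0 ∧ ∃ l : F, l ≠ 0 ∧ σ l = -l ∧ ut hf y l ∈ M) ∨
    ∃ y ∈ W₂, y ≠ 0 ∧ ∃ l : F, l ≠ 0 ∧ σ l = -l ∧ ut hf y l ∈ M := by
  have hm' : ∀ c, uh hf z w c ∈ M := fun c => by
    rw [uh_comm hf hO.symm]; exact hm _
  obtain ⟨a, ha, b, hb, rfl⟩ := h.exists_split w
  obtain ⟨c, hc, d, hd, rfl⟩ := h.exists_split z
  have ha0 : a ≠ 0 := fun e => hw2 (by rw [e, zero_add]; exact hb)
  have hb0 : b ≠ 0 := fun e => hw1 (by rw [e, add_zero]; exact ha)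
  by_cases hdd : ∃ t : F, d = t • b
  · obtain ⟨ν, rfl⟩ := hdd
    by_cases hcc : ∃ t : F, c = t • a
    · obtain ⟨μ, rfl⟩ := hcc
      refine ut_of_dep hf h hS ha hb ha0 hb0 (fun e => hz μ ?_) hO hm
      rw [e, smul_add]
    · push Not at hcc
      left
      have hO' := hO.symm
      rw [add_comm a b, add_comm c (ν • b)] at hO'
      rw [add_comm a b, add_comm c (ν • b)] at hm'
      exact ut_of_indep hf h' (hS.symm hf h) (W₂.smul_mem ν hb) hc hb ha ha0 hcc hO' hm'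
  · push Not at hdd
    right
    exact ut_of_indep hf h hS hc hd ha hb hb0 hdd hO.symm hm'

theorem exists_short_move' (h : HPolar f W₁ W₂) (hS : HShort hf W₁ W₂ M) {u v : ι → F}
    (hu : u ∈ W₂) (hv : v ∈ W₂) (hv0 : v ≠ 0) (hind : ∀ t : F, u ≠ t • v) :
    ∃ g ∈ M, g ∈ isoGrp f ∧ (g : Matrix ι ι F) *ᵥ u = v := by
  obtain ⟨p, hp, hvp, hup⟩ := h.exists_dual hf hv hu hind
  have d0 : ∀ t : F, v ≠ t • u := fun t e => by
    rcases eq_or_ne t 0 with rfl | ht
    · exact hv0 (by rw [e, zero_smul])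
    · exact hind t⁻¹ (by rw [e, inv_smul_smul₀ ht])
  obtain ⟨p', hp', hup', hvp'⟩ := h.exists_dual hf hu hv d0
  have pv : f p v = 0 := u_symm_zero hf hvp
  have p'u : f p' u = 0 := u_symm_zero hf hup'
  refine ⟨uh hf p' u (-1) * uh hf p v 1, M.mul_mem (hS p' hp' u hu p'u (-1)) (hS p hp v hv pv 1),
    Subgroup.mul_mem _ (uh_mem_iso hf _ _ _) (uh_mem_iso hf _ _ _), ?_⟩
  rw [mul_mulVec, uh_mulVec hf ⟨h.ti₁ p hp p hp, h.ti₂ v hv v hv, pv⟩,
    uh_mulVec hf ⟨h.ti₁ p' hp' p' hp', h.ti₂ u hu u hu, p'u⟩, hup, h.ti₂ u hu v hv]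
  simp only [one_mul, one_smul, mul_zero, zero_smul, sub_zero, u_add_left hf, hup', hvp',
    h.ti₂ u hu u hu, h.ti₂ v hv u hu, map_neg, map_one]
  module

/-- one transvection gives all on its side -/
theorem utIn_of_one [Finite F] (h : HPolar f W₁ W₂) (hS : HShort hf W₁ W₂ M) {y : ι → F}
    (hy : y ∈ W₂) (hy0 : y ≠ 0) {l : F} (hl : l ≠ 0) (hls : σ l = -l) (hyl : ut hf y l ∈ M) :
    ∀ v ∈ W₂, UtIn hf M v := by
  have yy := h.ti₂ y hy y hy
  have inv : ∀ u v : ι → F, u ≠ 0 → (∀ t : F, v ≠ t • u) → ∀ t : F, u ≠ t • v := by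
    intro u v hu hind t e
    rcases eq_or_ne t 0 with rfl | ht
    · exact hu (by rw [e, zero_smul])
    · exact hind t⁻¹ (by rw [e, inv_smul_smul₀ ht])
  obtain ⟨v0, hv0, hv0i⟩ : ∃ v ∈ W₂, ∀ t : F, v ≠ t • y := by
    by_contra hc
    push Not at hc
    have hle : W₂ ≤ Submodule.span F {y} := fun v hv => by
      obtain ⟨t, rfl⟩ := hc v hv
      exact Submodule.smul_mem _ _ (Submodule.mem_span_singleton_self y)
    have := Submodule.finrank_mono hle
    rw [finrank_span_singleton hy0] at this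
    have := h.dim₂
    omega
  have hv00 : v0 ≠ 0 := fun e => hv0i 0 (by rw [e, zero_smul])
  have hnorm : ∀ s : F, ut hf y (l * (s * σ s)) ∈ M := by
    intro s
    rcases eq_or_ne s 0 with rfl | hs
    · simp [ut_zero hf y yy]
    obtain ⟨g, hg, hgi, hgy⟩ := exists_short_move' hf h hS hy hv0 hv00 (inv _ _ hy0 hv0i)
    have h1 := conj_mem hg hyl
    rw [conj_ut hf hgi yy, hgy] at h1
    obtain ⟨g', hg', hgi', hgv⟩ := exists_short_move' hf h hS hv0 (W₂.smul_mem s hy)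
      (smul_ne_zero hs hy0) (fun t => by rw [smul_smul]; exact hv0i _)
    have h3 := conj_mem hg' h1
    rwa [conj_ut hf hgi' (h.ti₂ v0 hv0 v0 hv0), hgv, ut_smul_vec hf yy] at h3
  have base : UtIn hf M y := by
    intro m hm
    set t := m / l with ht
    have hts : σ t = t := by rw [ht, map_div₀, hm, hls, neg_div_neg_eq]
    have hmt : m = l * t := by rw [ht, mul_div_cancel₀ m hl]
    rw [hmt]
    by_cases h2 : (2 : F) = 0
    · haveI : CharP F 2 := CharTwo.of_one_ne_zero_of_two_eq_zero one_ne_zero h2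
      obtain ⟨s, hs⟩ := (Finite.injective_iff_surjective (f := fun s : F => s ^ 2)).1
        (fun a b e => frobenius_inj F 2 e) t
      have hs' : s ^ 2 = t := hs
      have hss : σ s = s := frobenius_inj F 2 (show σ s ^ 2 = s ^ 2 by rw [← map_pow, hs', hts])
      rw [← hs', pow_two]
      have := hnorm s
      rwa [hss] at this
    · have e1 : σ ((t + 1) / 2) = (t + 1) / 2 := by simp [hts, map_ofNat σ 2]
      have e2 : σ ((t - 1) / 2) = (t - 1) / 2 := by simp [hts, map_ofNat σ 2]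
      have := M.mul_mem (hnorm ((t + 1) / 2)) (M.inv_mem (hnorm ((t - 1) / 2)))
      rw [ut_inv hf yy, ut_add hf yy, e1, e2] at this
      convert this using 2
      field_simp
      ring
  intro v hv
  by_cases hdep : ∃ t : F, v = t • y
  · obtain ⟨t, rfl⟩ := hdep
    exact base.smul hf yy t
  · push Not at hdep
    have hv0' : v ≠ 0 := fun e => hdep 0 (by rw [e, zero_smul])
    obtain ⟨g, hg, hgi, hgy⟩ := exists_short_move' hf h hS hy hv hv0' (inv _ _ hy0 hdep)
    exact hgy ▸ base.conj hf yy hg hgi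

/-- an element of `SU` exchanging the members of a polarization -/
theorem exists_hpolar_swap (h : HPolar f W₁ W₂) (hd : Module.finrank F W₁ = Module.finrank F W₂) :
    ∃ w ∈ isoGrp f, w ∈ Geo.specialLinear ι F ∧ (∀ x ∈ W₁, (w : Matrix ι ι F) *ᵥ x ∈ W₂) ∧
      ∀ x ∈ W₂, (w : Matrix ι ι F) *ᵥ x ∈ W₁ := by
  obtain ⟨δ, hδ0, hδ⟩ := exists_skew_ne_zero hf
  set n := Module.finrank F W₁
  let b := Module.finBasis F W₁
  let L : W₂ →ₗ[F] (Fin n → F) :=
    { toFun := fun q i => f q (b i : ι → F)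
      map_add' := fun x y => by ext i; simp [u_add_left hf]
      map_smul' := fun t x => by ext i; simp [u_smul_left hf] }
  have hspan : ∀ x ∈ W₁, x ∈ Submodule.span F (Set.range fun i => (b i : ι → F)) := by
    intro x hx
    have := congrArg Subtype.val (b.sum_repr ⟨x, hx⟩)
    simp only [AddSubmonoidClass.coe_finset_sum, SetLike.val_smul] at this
    rw [← this]
    exact Submodule.sum_mem _ fun i _ => Submodule.smul_mem _ _ (Submodule.subset_span ⟨i, rfl⟩)
  have hLi : Function.Injective L := by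
    rw [← LinearMap.ker_eq_bot, LinearMap.ker_eq_bot']
    intro q hq
    by_contra hq0
    obtain ⟨-, y, hy⟩ := hf.nondegenerate (q : ι → F) (by simpa using hq0)
    obtain ⟨p, hp, r, hr, rfl⟩ := h.exists_split y
    rw [u_add_right hf, h.ti₂ _ q.2 r hr, add_zero] at hy
    have hz : f (q : ι → F) p = 0 := by
      have hp' := hspan p hp
      clear hy hp
      induction hp' using Submodule.span_induction with
      | mem z hz => obtain ⟨i, rfl⟩ := hz; exact congrFun hq i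
      | zero => exact u_zero_right hf _
      | add x y _ _ hx hy => rw [u_add_right hf, hx, hy, add_zero]
      | smul c x _ hx => rw [u_smul_right hf, hx, mul_zero]
    exact hy hz
  have hLs : Function.Surjective L :=
    (LinearMap.injective_iff_surjective_of_finrank_eq_finrank
      (by rw [Module.finrank_fin_fun, ← hd])).1 hLi
  choose e' he' using fun i : Fin n => hLs (Pi.single i 1)
  have pair : ∀ i j, f (e' j : ι → F) (b i : ι → F) = if i = j then 1 else 0 := by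
    intro i j
    have := congrFun (he' j) i
    simpa [L, Pi.single_apply] using this
  have pair' : ∀ i j, f (b i : ι → F) (e' j : ι → F) = if i = j then 1 else 0 := fun i j => by
    rw [← u_conj hf, pair]; split <;> simp
  have hdd : σ (-δ⁻¹) = -(-δ⁻¹) := by rw [map_neg, map_inv₀, hδ, inv_neg]
  have step : ∀ s : Finset (Fin n), ∃ w ∈ isoGrp f, w ∈ Geo.specialLinear ι F ∧
      (∀ i, (w : Matrix ι ι F) *ᵥ (b i : ι → F) =
        if i ∈ s then (-δ⁻¹) • (e' i : ι → F) else (b i : ι → F)) ∧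
      ∀ i, (w : Matrix ι ι F) *ᵥ (e' i : ι → F) =
        if i ∈ s then δ • (b i : ι → F) else (e' i : ι → F) := by
    intro s
    induction s using Finset.induction_on with
    | empty => exact ⟨1, Subgroup.one_mem _, Subgroup.one_mem _, by simp, by simp⟩
    | @insert k s hk ih =>
      obtain ⟨w, hw, hws, w1, w2⟩ := ih
      have bb := h.ti₁ _ (b k).2 _ (b k).2
      have ee := h.ti₂ _ (e' k).2 _ (e' k).2
      have k1 : f (b k : ι → F) (e' k : ι → F) = 1 := by rw [pair', if_pos rfl]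
      have k2 : f (e' k : ι → F) (b k : ι → F) = 1 := by rw [pair, if_pos rfl]
      set R := ut hf (b k : ι → F) δ * ut hf (e' k : ι → F) (-δ⁻¹) * ut hf (b k : ι → F) δ with hR
      have R1 : (R : Matrix ι ι F) *ᵥ (b k : ι → F) = (-δ⁻¹) • (e' k : ι → F) := by
        simp only [hR, mul_mulVec, ut_mulVec hf bb, ut_mulVec hf ee, u_add_left hf, u_smul_left hf,
          bb, k1, k2]
        match_scalars <;> field_simp <;> ring
      have R2 : (R : Matrix ι ι F) *ᵥ (e' k : ι → F) = δ • (b k : ι → F) := by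
        simp only [hR, mul_mulVec, ut_mulVec hf bb, ut_mulVec hf ee, u_add_left hf, u_smul_left hf,
          bb, ee, k1, k2]
        match_scalars <;> field_simp <;> ring
      have Rb : ∀ i, i ≠ k → (R : Matrix ι ι F) *ᵥ (b i : ι → F) = (b i : ι → F) := by
        intro i hi
        rw [hR, mul_mulVec, mul_mulVec]; simp [ut_mulVec hf bb, ut_mulVec hf ee, h.ti₁ _ (b i).2 _ (b k).2,
          pair' i k, hi]
      have Re : ∀ i, i ≠ k → (R : Matrix ι ι F) *ᵥ (e' i : ι → F) = (e' i : ι → F) := by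
        intro i hi
        rw [hR, mul_mulVec, mul_mulVec]; simp [ut_mulVec hf bb, ut_mulVec hf ee, h.ti₂ _ (e' i).2 _ (e' k).2,
          pair k i, Ne.symm hi]
      have hRi : R ∈ isoGrp f :=
        Subgroup.mul_mem _ (Subgroup.mul_mem _ (ut_mem_iso hf bb hδ) (ut_mem_iso hf ee hdd))
          (ut_mem_iso hf bb hδ)
      have hRs : R ∈ Geo.specialLinear ι F :=
        Subgroup.mul_mem _ (Subgroup.mul_mem _ (ut_mem_sl hf _ _) (ut_mem_sl hf _ _))
          (ut_mem_sl hf _ _)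
      refine ⟨R * w, Subgroup.mul_mem _ hRi hw, Subgroup.mul_mem _ hRs hws,
        fun i => ?_, fun i => ?_⟩
      · rw [mul_mulVec, w1]
        rcases eq_or_ne i k with rfl | hik
        · rw [if_neg hk, R1, if_pos (Finset.mem_insert_self i s)]
        · by_cases his : i ∈ s
          · rw [if_pos his, mulVec_smul, Re i hik, if_pos (Finset.mem_insert_of_mem his)]
          · rw [if_neg his, Rb i hik, if_neg (by simp [hik, his])]
      · rw [mul_mulVec, w2]
        rcases eq_or_ne i k with rfl | hik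
        · rw [if_neg hk, R2, if_pos (Finset.mem_insert_self i s)]
        · by_cases his : i ∈ s
          · rw [if_pos his, mulVec_smul, Rb i hik, if_pos (Finset.mem_insert_of_mem his)]
          · rw [if_neg his, Re i hik, if_neg (by simp [hik, his])]
  obtain ⟨w, hw, hws, w1, w2⟩ := step Finset.univ
  refine ⟨w, hw, hws, fun x hx => ?_, fun x hx => ?_⟩
  · have hx' := hspan x hx
    clear hx
    induction hx' using Submodule.span_induction with
    | mem z hz =>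
      obtain ⟨i, rfl⟩ := hz
      rw [w1, if_pos (Finset.mem_univ i)]
      exact W₂.smul_mem _ (e' i).2
    | zero => rw [mulVec_zero]; exact W₂.zero_mem
    | add x y _ _ hx hy => rw [mulVec_add]; exact W₂.add_mem hx hy
    | smul c x _ hx => rw [mulVec_smul]; exact W₂.smul_mem c hx
  · have hx' : x = ∑ i, f x (b i : ι → F) • (e' i : ι → F) := by
      have : (⟨x, hx⟩ : W₂) = ∑ i, f x (b i : ι → F) • e' i := by
        apply hLi
        rw [map_sum]
        simp only [map_smul, he']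
        exact pi_eq_sum_univ' _
      have := congrArg Subtype.val this
      simpa using this
    rw [hx', mulVec_sum]
    refine Submodule.sum_mem _ fun i _ => ?_
    rw [mulVec_smul, w2, if_pos (Finset.mem_univ i)]
    exact W₁.smul_mem _ (W₁.smul_mem _ (b i).2)

end Cfsg.Agent.Symplectic
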