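import Cfsg.Agent.Symplectic.RationalTwo

/-! The parameters in a group over a rational structure form a subfield; generation from them. -/

set_option autoImplicit false

namespace Cfsg.Agent.Symplectic

open scoped MatrixGroups Matrix
open Matrix Cfsg.Agent.H95

variable {ι : Type} [Fintype ι] [DecidableEq ι] {F : Type*} [Field F]
  {f : (ι → F) → (ι → F) → F} {F₀ : Subfield F} {V₀ : AddSubgroup (ι → F)}
  {M : Subgroup (GL ι F)}

namespace RatForm

variable (R : RatForm f F₀ V₀) (hS : ∀ c ∈ F₀, InA R.symp V₀ M c)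

omit hS in
theorem inA_add {a b : F} (ha : InA R.symp V₀ M a) (hb : InA R.symp V₀ M b) :
    InA R.symp V₀ M (a + b) := fun v hv => by
  rw [← rt_add R.symp]; exact M.mul_mem (ha v hv) (hb v hv)

omit hS in
theorem inA_neg {a : F} (ha : InA R.symp V₀ M a) : InA R.symp V₀ M (-a) := fun v hv => by
  rw [← rt_inv R.symp]; exact M.inv_mem (ha v hv)

omit hS in
theorem inA_sq_mul {a : F} (ha : InA R.symp V₀ M a) {s : F} (hs : s ∈ F₀) :
    InA R.symp V₀ M (a * s ^ 2) := fun v hv => by
  rw [← rt_smul_vec R.symp]; exact ha _ (R.smul_mem s hs v hv)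

include hS

/-- products, odd characteristic -/
theorem inA_mul_odd (h2 : (2 : F) ≠ 0) (hn : 6 ≤ Fintype.card ι) {a b : F}
    (ha : InA R.symp V₀ M a) (hb : InA R.symp V₀ M b) : InA R.symp V₀ M (a * b) := by
  have hf := R.symp
  have hbot : V₀ ≠ ⊥ := by
    intro hb0
    have := R.span_eq
    rw [hb0, AddSubgroup.coe_bot, Submodule.span_zero_singleton] at this
    haveI hne : Nonempty ι := Fintype.card_pos_iff.1 (by omega)
    exact bot_ne_top this
  obtain ⟨x, hx, hx0⟩ := V₀.bot_or_exists_ne_zero.resolve_left hbot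
  obtain ⟨y, hy, hxy⟩ := R.exists_partner hx hx0
  obtain ⟨u, hu, u', -, hU, ux, uy, -, -⟩ := R.exists_plane hn hx hy hxy
  have hu0 : u ≠ 0 := by rintro rfl; simp [f_zero_left hf] at hU
  have xu : f x u = 0 := f_symm_zero hf ux
  have yu : f y u = 0 := f_symm_zero hf uy
  have yx : f y x = -1 := by rw [f_skew hf, hxy]
  have move : ∀ e : F, (th hf u x e : Matrix ι ι F) *ᵥ y = y + (-e) • u ∧
      (th hf u x e : Matrix ι ι F) *ᵥ u = u := fun e => by
    constructor
    · rw [th_mulVec hf ux, yu, yx]; module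
    · rw [th_mulVec hf ux, f_self hf, ux]; module
  have hZ : rt hf u (a ^ 2 * b) * th hf u y (-(a * b)) ∈ M := by
    have h1 := M.mul_mem (conj_mem (th_mem ha hu hx) (hb y hy)) (M.inv_mem (hb y hy))
    rw [conj_rt hf (th_mem_iso hf _ _ _), (move a).1, rt_inv hf] at h1
    convert h1 using 1
    refine gl_ext fun t => ?_
    simp only [mul_mulVec, rt_mulVec hf, th_mulVec hf uy, f_add_left hf, f_add_right hf,
      f_smul_left hf, f_smul_right hf, f_self hf, uy, yu]
    module
  have h1 := M.mul_mem (conj_mem (th_mem (hS (-1) (F₀.neg_mem F₀.one_mem)) hu hx) hZ)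
    (M.inv_mem hZ)
  have h : f u (y + (-(-1 : F)) • u) = 0 := by
    rw [f_add_right hf, f_smul_right hf, uy, f_self hf]; ring
  rw [show ∀ g x y : GL ι F, g * (x * y) * g⁻¹ = g * x * g⁻¹ * (g * y * g⁻¹) from
      fun g x y => by group, conj_th hf (th_mem_iso hf _ _ _), conj_rt hf (th_mem_iso hf _ _ _),
    (move (-1)).1, (move (-1)).2, _root_.mul_inv_rev, th_inv hf uy, rt_inv hf] at h1
  have hd : rt hf u (-(2 * (a * b))) ∈ M := by
    convert h1 using 1
    refine gl_ext fun t => ?_
    simp only [mul_mulVec, rt_mulVec hf, th_mulVec hf uy, th_mulVec hf h, f_add_left hf,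
      f_add_right hf, f_smul_left hf, f_smul_right hf, f_self hf, uy, yu]
    module
  have hd' : InA hf V₀ M (-(2 * (a * b))) := inA_of_one R hS hu hu0 hd
  have e : a * b = -(-(2 * (a * b))) * (((1 : F) + 1 / 2) / 2) ^ 2 +
      -(-(-(2 * (a * b))) * (((1 : F) / 2 - 1) / 2) ^ 2) := by field_simp; ring
  have two : (2 : F) ∈ F₀ := by rw [← one_add_one_eq_two]; exact F₀.add_mem F₀.one_mem F₀.one_mem
  rw [e]
  exact R.inA_add (R.inA_sq_mul (R.inA_neg hd')
      (F₀.div_mem (F₀.add_mem F₀.one_mem (F₀.div_mem F₀.one_mem two)) two))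
    (R.inA_neg (R.inA_sq_mul (R.inA_neg hd')
      (F₀.div_mem (F₀.sub_mem (F₀.div_mem F₀.one_mem two) F₀.one_mem) two)))

set_option maxHeartbeats 1000000 in
/-- `a² b`, characteristic two -/
theorem inA_sq_prod_two [CharP F 2] (hn : 6 ≤ Fintype.card ι) {a b : F}
    (ha : InA R.symp V₀ M a) (hb : InA R.symp V₀ M b) : InA R.symp V₀ M (a ^ 2 * b) := by
  have hf := R.symp
  have two : (2 : F) = 0 := CharTwo.two_eq_zero
  have th1 : ∀ {x y : ι → F}, x ∈ V₀ → y ∈ V₀ → th hf x y 1 ∈ M := fun hx hy =>
    th_mem (hS 1 F₀.one_mem) hx hy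
  have hbot : V₀ ≠ ⊥ := by
    intro hb0
    have := R.span_eq
    rw [hb0, AddSubgroup.coe_bot, Submodule.span_zero_singleton] at this
    haveI hne : Nonempty ι := Fintype.card_pos_iff.1 (by omega)
    exact bot_ne_top this
  obtain ⟨x, hx, hx0⟩ := V₀.bot_or_exists_ne_zero.resolve_left hbot
  obtain ⟨y, hy, hxy⟩ := R.exists_partner hx hx0
  obtain ⟨u, hu, u', hu', hU, ux, uy, u'x, u'y⟩ := R.exists_plane hn hx hy hxy
  obtain ⟨v, hv, v', hv', hV, vx, vy, vu, vu', v'x, v'y, v'u, v'u'⟩ :=
    R.exists_plane₂ hn hx hy hu hu' hxy hU ux uy u'x u'y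
  have hv0 : v ≠ 0 := by rintro rfl; simp [f_zero_left hf] at hV
  have yx : f y x = 1 := by rw [f_skew hf, hxy, CharTwo.neg_eq]
  have U'u : f u' u = 1 := by rw [f_skew hf, hU, CharTwo.neg_eq]
  have xu : f x u = 0 := f_symm_zero hf ux
  have yu : f y u = 0 := f_symm_zero hf uy
  have yu' : f y u' = 0 := f_symm_zero hf u'y
  have xv : f x v = 0 := f_symm_zero hf vx
  have yv : f y v = 0 := f_symm_zero hf vy
  have uv : f u v = 0 := f_symm_zero hf vu
  have u'v : f u' v = 0 := f_symm_zero hf vu'
  have split : ∀ g x y : GL ι F, g * (x * y) * g⁻¹ = g * x * g⁻¹ * (g * y * g⁻¹) :=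
    fun g x y => by group
  set A := a ^ 2 * b with hA
  set B := a * b with hB
  have h6y : (th hf u x 1 : Matrix ι ι F) *ᵥ y = y + u := by
    rw [th_mulVec hf ux, yu, yx]; module
  have h6u : (th hf u x 1 : Matrix ι ι F) *ᵥ u = u := by
    rw [th_mulVec hf ux, f_self hf, ux]; module
  have h6v : (th hf u x 1 : Matrix ι ι F) *ᵥ v = v := by
    rw [th_mulVec hf ux, vu, vx]; module
  have h7u : (th hf y u' 1 : Matrix ι ι F) *ᵥ u = u + y := by
    rw [th_mulVec hf yu', uy, hU]; module
  have h7v : (th hf y u' 1 : Matrix ι ι F) *ᵥ v = v := by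
    rw [th_mulVec hf yu', vy, vu']; module
  have huy' : f (u + y) v = 0 := by rw [f_add_left hf, uv, yv, add_zero]
  have hvuy : f v (u + y) = 0 := f_symm_zero hf huy'
  have hvyu : f v (y + u) = 0 := by rw [f_add_right hf, vy, vu, add_zero]
  have hyu' : f (y + u) v = 0 := f_symm_zero hf hvyu
  have hZ : rt hf u A * th hf u y B ∈ M := by
    have h1 := M.mul_mem (conj_mem (th_mem ha hu hx) (hb y hy)) (hb y hy)
    rw [conj_rt hf (th_mem_iso hf _ _ _), th_mulVec hf ux, yu, yx] at h1
    convert h1 using 1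
    refine gl_ext fun t => ?_
    simp only [hA, hB, mul_mulVec, rt_mulVec hf, th_mulVec hf uy, f_add_left hf, f_add_right hf,
      f_smul_left hf, f_smul_right hf, f_self hf, uy, yu]
    match_scalars <;> grind
  have hD : rt hf v A * th hf u v A * th hf v y B ∈ M := by
    have h1 := M.mul_mem (conj_mem (th1 hv hu') hZ) hZ
    have eu : (th hf v u' 1 : Matrix ι ι F) *ᵥ u = u + v := by
      rw [th_mulVec hf vu', uv, hU]; module
    have ey : (th hf v u' 1 : Matrix ι ι F) *ᵥ y = y := by
      rw [th_mulVec hf vu', yv, yu']; module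
    have h : f (u + v) y = 0 := by rw [f_add_left hf, uy, vy, add_zero]
    rw [split, conj_th hf (th_mem_iso hf _ _ _), conj_rt hf (th_mem_iso hf _ _ _), eu, ey] at h1
    convert h1 using 1
    refine gl_ext fun t => ?_
    simp only [mul_mulVec, rt_mulVec hf, th_mulVec hf uy, th_mulVec hf h, th_mulVec hf uv,
      th_mulVec hf vy, f_add_left hf, f_add_right hf, f_smul_left hf, f_smul_right hf, f_self hf,
      uy, yu, uv, vu, vy, yv]
    match_scalars <;> grind
  have hvu : th hf v u B ∈ M := by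
    have h1 := M.mul_mem (conj_mem (th1 hu hx) hD) hD
    rw [split, split, conj_th hf (th_mem_iso hf _ _ _), conj_th hf (th_mem_iso hf _ _ _),
      conj_rt hf (th_mem_iso hf _ _ _), h6u, h6v, h6y] at h1
    convert h1 using 1
    refine gl_ext fun t => ?_
    simp only [mul_mulVec, rt_mulVec hf, th_mulVec hf uv, th_mulVec hf vu, th_mulVec hf hvyu,
      th_mulVec hf vy, f_add_left hf, f_add_right hf, f_smul_left hf, f_smul_right hf, f_self hf,
      uy, yu, uv, vu, vy, yv]
    match_scalars <;> grind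
  have hvy : th hf v y B ∈ M := by
    have h1 := M.mul_mem (conj_mem (th1 hy hu') hvu) hvu
    rw [conj_th hf (th_mem_iso hf _ _ _), h7v, h7u] at h1
    convert h1 using 1
    refine gl_ext fun t => ?_
    simp only [mul_mulVec, th_mulVec hf hvuy, th_mulVec hf vu, th_mulVec hf vy, f_add_left hf,
      f_add_right hf, f_smul_left hf, f_self hf, uv, vu, vy, yv, uy, yu]
    match_scalars <;> grind
  have hD2 : rt hf v A * th hf u v A ∈ M := by
    have h1 := M.mul_mem hD (M.inv_mem hvy)
    rwa [mul_inv_cancel_right] at h1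
  have hyv : th hf y v A ∈ M := by
    have h1 := M.mul_mem (conj_mem (th1 hy hu') hD2) hD2
    rw [split, conj_th hf (th_mem_iso hf _ _ _), conj_rt hf (th_mem_iso hf _ _ _), h7v, h7u] at h1
    convert h1 using 1
    refine gl_ext fun t => ?_
    simp only [mul_mulVec, rt_mulVec hf, th_mulVec hf huy', th_mulVec hf uv, th_mulVec hf yv,
      f_add_left hf, f_add_right hf, f_smul_left hf, f_self hf, uv, vu, vy, yv, uy, yu]
    match_scalars <;> grind
  have huv : th hf u v A ∈ M := by
    have h1 := M.mul_mem (conj_mem (th1 hu hx) hyv) hyv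
    rw [conj_th hf (th_mem_iso hf _ _ _), h6v, h6y] at h1
    convert h1 using 1
    refine gl_ext fun t => ?_
    simp only [mul_mulVec, th_mulVec hf hyu', th_mulVec hf uv, th_mulVec hf yv,
      f_add_left hf, f_add_right hf, f_smul_left hf, f_self hf, uv, vu, vy, yv, uy, yu]
    match_scalars <;> grind
  refine inA_of_one R hS hv hv0 ?_
  have h1 := M.mul_mem hD2 (M.inv_mem huv)
  rwa [mul_inv_cancel_right] at h1

/-- products -/
theorem inA_mul [Finite F] (hn : 6 ≤ Fintype.card ι) {a b : F}
    (ha : InA R.symp V₀ M a) (hb : InA R.symp V₀ M b) : InA R.symp V₀ M (a * b) := by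
  by_cases h2 : (2 : F) = 0
  · haveI : CharP F 2 := CharTwo.of_one_ne_zero_of_two_eq_zero one_ne_zero h2
    let A := {x : F // InA R.symp V₀ M x}
    let sq : A → A := fun x => ⟨x.1 ^ 2, by
      simpa using R.inA_sq_prod_two hS hn x.2 (hS 1 F₀.one_mem)⟩
    obtain ⟨s, hs⟩ := ((Finite.injective_iff_surjective (f := sq)).1 fun x y h =>
      Subtype.ext (frobenius_inj F 2 (congrArg Subtype.val h))) ⟨a, ha⟩
    have : s.1 ^ 2 = a := congrArg Subtype.val hs
    rw [← this]
    exact R.inA_sq_prod_two hS hn s.2 hb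
  · exact R.inA_mul_odd hS h2 hn ha hb

/-- The subfield of parameters. -/
def paramField [Finite F] (hn : 6 ≤ Fintype.card ι) : Subfield F where
  carrier := {a | InA R.symp V₀ M a}
  mul_mem' := fun ha hb => R.inA_mul hS hn ha hb
  one_mem' := hS 1 F₀.one_mem
  add_mem' := fun ha hb => R.inA_add ha hb
  zero_mem' := hS 0 F₀.zero_mem
  neg_mem' := fun ha => R.inA_neg ha
  inv_mem' := fun a ha => by
    change InA R.symp V₀ M a⁻¹
    rcases eq_or_ne a 0 with rfl | ha0
    · rw [_root_.inv_zero]; exact ha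
    haveI := Fintype.ofFinite F
    have hp : ∀ k : ℕ, InA R.symp V₀ M (a ^ k) := fun k => by
      induction k with
      | zero => rw [pow_zero]; exact hS 1 F₀.one_mem
      | succ k ih => rw [pow_succ]; exact R.inA_mul hS hn ih ha
    have hc := Fintype.one_lt_card (α := F)
    have : a⁻¹ = a ^ (Fintype.card F - 2) := by
      refine inv_eq_of_mul_eq_one_right ?_
      rw [← pow_succ', show Fintype.card F - 2 + 1 = Fintype.card F - 1 by omega,
        FiniteField.pow_card_sub_one_eq_one a ha0]
    rw [this]; exact hp _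

omit hS in
/-- A rational step preserves "all root elements lie in `M`". -/
theorem rootIn_add (hall : ∀ a, InA R.symp V₀ M a) {x y : ι → F}
    (hx : RootIn R.symp M x) (hy : y ∈ V₀) (t : F) : RootIn R.symp M (x + t • y) := by
  have hf := R.symp
  have rv : ∀ z ∈ V₀, RootIn hf M z := fun z hz l => hall l z hz
  rcases eq_or_ne y 0 with rfl | hy0
  · simpa using hx
  by_cases hxy : f x y = 0
  swap
  · have := hx.step hf (rv y hy) (t / f x y)
    rwa [div_mul_cancel₀ t hxy] at this
  by_cases hz : ∃ z ∈ V₀, f x z ≠ 0 ∧ f y z ≠ 0 ∧ f x z + t * f y z ≠ 0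
  · obtain ⟨z, hz, h1, h2, h3⟩ := hz
    have s1 : RootIn hf M (x + z) := by
      have := hx.step hf (rv z hz) (f x z)⁻¹
      rwa [inv_mul_cancel₀ h1, one_smul] at this
    have h4 : f (x + z) y ≠ 0 := by
      rw [f_add_left hf, hxy, zero_add]; exact f_symm_ne hf h2
    have s2 : RootIn hf M (x + z + t • y) := by
      have := s1.step hf (rv y hy) (t / f (x + z) y)
      rwa [div_mul_cancel₀ t h4] at this
    have h5 : f (x + z + t • y) z ≠ 0 := by
      rwa [f_add_left hf, f_add_left hf, f_smul_left hf, f_self hf, add_zero]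
    have := s2.step hf (rv z hz) (-1 / f (x + z + t • y) z)
    rw [div_mul_cancel₀ _ h5] at this
    convert this using 1
    module
  push Not at hz
  obtain ⟨z1, hz1, hy1⟩ := R.exists_partner hy hy0
  have two_val : ∀ z ∈ V₀, f y z = 1 → f x z = 0 ∨ f x z = -t := by
    intro z hzV h
    by_cases h0 : f x z = 0
    · exact .inl h0
    · refine .inr ?_
      have := hz z hzV h0 (by rw [h]; exact one_ne_zero)
      rw [h, mul_one] at this
      exact eq_neg_of_add_eq_zero_left this
  by_cases hK : ∀ k ∈ V₀, f y k = 0 → f x k = 0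
  · have hxe : x = f x z1 • y := by
      rw [← sub_eq_zero]
      by_contra hne
      obtain ⟨v, hv, hnv⟩ := R.exists_ne hne
      apply hnv
      have h := hK (v - f y v • z1) (V₀.sub_mem hv (R.smul_mem _ (R.rat y hy v hv) z1 hz1))
        (by rw [f_sub_right hf, f_smul_right hf, hy1, mul_one, sub_self])
      rw [f_sub_right hf, f_smul_right hf] at h
      rw [f_sub_left hf, f_smul_left hf]
      linear_combination h
    rw [hxe, ← add_smul]
    exact (rv y hy).smul hf _
  push Not at hK
  obtain ⟨k, hk, hyk, hxk⟩ := hK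
  have val : ∀ s ∈ F₀, f x z1 + s * f x k = 0 ∨ f x z1 + s * f x k = -t := by
    intro s hs
    have := two_val (z1 + s • k) (V₀.add_mem hz1 (R.smul_mem s hs k hk))
      (by rw [f_add_right hf, f_smul_right hf, hy1, hyk, mul_zero, add_zero])
    rwa [f_add_right hf, f_smul_right hf] at this
  have small : ∀ s ∈ F₀, s = 0 ∨ s = 1 := by
    intro s hs
    by_contra hcon
    push Not at hcon
    obtain ⟨hs0, hs1⟩ := hcon
    have h0 := val 0 F₀.zero_mem
    have h1 := val 1 F₀.one_mem
    have hs' := val s hs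
    rw [zero_mul, add_zero] at h0
    rw [one_mul] at h1
    have hs1' : s - 1 ≠ 0 := sub_ne_zero.2 hs1
    rcases h0 with h0 | h0 <;> rcases h1 with h1 | h1 <;> rcases hs' with h | h
    all_goals first
      | exact hxk (by linear_combination h1 - h0)
      | exact mul_ne_zero hs0 hxk (by linear_combination h - h0)
      | exact mul_ne_zero hs1' hxk (by linear_combination h - h1)
  have ht : t ≠ 0 := by
    intro ht
    rcases val 0 F₀.zero_mem with a | a <;> rcases val 1 F₀.one_mem with b | b <;>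
      exact hxk (by subst ht; linear_combination b - a)
  have hmem : t⁻¹ • x ∈ V₀ := by
    have base : ∀ z ∈ V₀, f y z = 1 → t⁻¹ * f x z ∈ F₀ := by
      intro z hzV h
      rcases two_val z hzV h with e | e
      · rw [e, mul_zero]; exact F₀.zero_mem
      · rw [e, mul_neg, inv_mul_cancel₀ ht]; exact F₀.neg_mem F₀.one_mem
    refine R.dual _ fun v hv => ?_
    rw [f_smul_left hf]
    rcases small _ (R.rat y hy v hv) with e | e
    · have h1 := base _ (V₀.add_mem hv hz1) (by rw [f_add_right hf, e, hy1, zero_add])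
      have h2 := F₀.sub_mem h1 (base z1 hz1 hy1)
      rwa [f_add_right hf, mul_add, add_sub_cancel_right] at h2
    · exact base v hv e
  have : x + t • y = t • (t⁻¹ • x + y) := by rw [smul_add, smul_inv_smul₀ ht]
  rw [this]
  exact (rv _ (V₀.add_mem hmem hy)).smul hf t

omit hS in
/-- All parameters give the whole isometry group. -/
theorem iso_le_of_all (hall : ∀ a, InA R.symp V₀ M a) : isoGrp f ≤ M := by
  refine iso_le_of_roots R.symp fun u => ?_
  have hu : u ∈ Submodule.span F (V₀ : Set (ι → F)) := R.span_eq ▸ Submodule.mem_top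
  obtain ⟨c, hcs, rfl⟩ := Submodule.mem_span_set.1 hu
  rw [Finsupp.sum]
  classical
  generalize hs : c.support = s at hcs ⊢
  clear hs hu
  induction s using Finset.induction_on with
  | empty => simpa using rootIn_zero R.symp M
  | @insert a s ha ih =>
    rw [Finset.sum_insert ha, add_comm]
    rw [Finset.coe_insert, Set.insert_subset_iff] at hcs
    exact R.rootIn_add hall (ih hcs.2) hcs.1 _

end RatForm

end Cfsg.Agent.Symplectic
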