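import Cfsg.Agent.Symplectic.HermBasic
import Cfsg.Agent.S5650

/-! A symplectic fixed-field structure of a unitary form. -/

set_option autoImplicit false

namespace Cfsg.Agent.Symplectic

open scoped MatrixGroups Matrix
open Matrix Cfsg.Agent.H95 Cfsg.Agent.S5650

variable {ι : Type} [Fintype ι] [DecidableEq ι] {F : Type*} [Field F]

/-- `ζ f` is alternating with values in the fixed field on the rational points of `P` -/
structure HAlt (σ : F ≃+* F) (f : (ι → F) → (ι → F) → F) (F₀ : Subfield F) (ζ : F) (P : GL ι F) :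
    Prop where
  herm : Geo.IsUnitaryForm σ f
  fixed : ∀ x, σ x = x ↔ x ∈ F₀
  zeta : σ ζ = -ζ
  zeta_ne : ζ ≠ 0
  rat : ∀ u ∈ V0 F₀ P, ∀ v ∈ V0 F₀ P, ζ * f u v ∈ F₀
  alt : ∀ u ∈ V0 F₀ P, f u u = 0

variable {σ : F ≃+* F} {f : (ι → F) → (ι → F) → F} {F₀ : Subfield F} {ζ : F} {P : GL ι F}
  {M : Subgroup (GL ι F)}

namespace HAlt

variable (H : HAlt σ f F₀ ζ P)
include H

theorem skew {u v : ι → F} (hu : u ∈ V0 F₀ P) (hv : v ∈ V0 F₀ P) : f v u = σ (f u v) ∧
    σ (f u v) = -f u v := by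
  refine ⟨(u_conj H.herm u v).symm, mul_left_cancel₀ H.zeta_ne ?_⟩
  have h := (H.fixed _).2 (H.rat u hu v hv)
  rw [map_mul, H.zeta] at h
  linear_combination -h

theorem swap {u v : ι → F} (hu : u ∈ V0 F₀ P) (hv : v ∈ V0 F₀ P) : f v u = -f u v := by
  rw [(H.skew hu hv).1, (H.skew hu hv).2]

theorem combination {θ : F} (hθ : σ θ ≠ θ) (x : ι → F) :
    ∃ a ∈ V0 F₀ P, ∃ b ∈ V0 F₀ P, x = a + θ • b := by
  have h : (1 : F) * σ θ - σ 1 * θ ≠ 0 := by simpa using sub_ne_zero.2 hθ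
  choose p r hp hr e using fun i =>
    exists_fixed_combination H.herm h ((((P⁻¹ : GL ι F) : Matrix ι ι F) *ᵥ x) i)
  refine ⟨(P : Matrix ι ι F) *ᵥ p, fun i => by rw [inv_mulVec_mulVec]; exact (H.fixed _).1 (hp i),
    (P : Matrix ι ι F) *ᵥ r, fun i => by rw [inv_mulVec_mulVec]; exact (H.fixed _).1 (hr i), ?_⟩
  rw [← mulVec_smul, ← mulVec_add]
  conv_lhs => rw [← mulVec_inv_mulVec P x]
  congr 1
  funext i
  rw [e i]
  simp [mul_comm]

theorem coords {θ : F} (hθ : σ θ ≠ θ) {s t : F} (hs : σ s = -s) (ht : σ t = -t)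
    (h : s + θ * t = 0) : s = 0 ∧ t = 0 := by
  have h' := congrArg σ h
  rw [map_add, map_mul, hs, ht, map_zero] at h'
  have e : (σ θ - θ) * t = 0 := by linear_combination -h' - h
  have ht0 : t = 0 := (mul_eq_zero.1 e).resolve_left (sub_ne_zero.2 hθ)
  exact ⟨by linear_combination h - θ * ht0, ht0⟩

theorem exists_ne {a : ι → F} (ha0 : a ≠ 0) : ∃ z ∈ V0 F₀ P, f z a ≠ 0 := by
  obtain ⟨θ, hθ⟩ : ∃ θ : F, σ θ ≠ θ := by
    by_contra hcon
    push Not at hcon
    exact H.herm.ne_refl (RingEquiv.ext hcon)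
  obtain ⟨⟨x, hx⟩, -⟩ := H.herm.nondegenerate a ha0
  obtain ⟨p, hp, r, hr, rfl⟩ := H.combination hθ x
  by_contra hcon
  push Not at hcon
  exact hx (by rw [u_add_left H.herm, u_smul_left H.herm, hcon p hp, hcon r hr]; ring)

/-- dual vectors for an independent rational pair -/
theorem exists_dual2 {a b : ι → F} (ha : a ∈ V0 F₀ P) (hb : b ∈ V0 F₀ P)
    (hind : ∀ t : F, a ≠ t • b) : ∃ z ∈ V0 F₀ P, f z b = 0 ∧ ζ * f z a = 1 := by
  obtain ⟨θ, hθ⟩ : ∃ θ : F, σ θ ≠ θ := by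
    by_contra hcon
    push Not at hcon
    exact H.herm.ne_refl (RingEquiv.ext hcon)
  obtain ⟨x, hx1, hx2⟩ := exists_u_perp_one H.herm hind
  obtain ⟨p, hp, r, hr, rfl⟩ := H.combination hθ x
  rw [u_add_left H.herm, u_smul_left H.herm] at hx1 hx2
  obtain ⟨e1, e2⟩ := H.coords hθ (H.skew hp hb).2 (H.skew hr hb).2 hx1
  have key : ∀ z ∈ V0 F₀ P, f z b = 0 → f z a ≠ 0 →
      ∃ z ∈ V0 F₀ P, f z b = 0 ∧ ζ * f z a = 1 := fun z hz h0 h1 =>
    ⟨(ζ * f z a)⁻¹ • z, mem_V0_smul F₀ P (F₀.inv_mem (H.rat z hz a ha)) hz,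
      by rw [u_smul_left H.herm, h0, mul_zero],
      by rw [u_smul_left H.herm, mul_comm ζ, mul_assoc, mul_comm (f z a), inv_mul_cancel₀
        (mul_ne_zero H.zeta_ne h1)]⟩
  by_cases h1 : f p a = 0
  · refine key r hr e2 fun h3 => ?_
    rw [h1, h3, mul_zero, add_zero] at hx2
    exact zero_ne_one hx2
  · exact key p hp e1 h1

/-- a non-zero rational vector orthogonal to four rational ones -/
theorem exists_perp4 (hn : 5 ≤ Fintype.card ι) {a b c d : ι → F} (ha : a ∈ V0 F₀ P)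
    (hb : b ∈ V0 F₀ P) (hc : c ∈ V0 F₀ P) (hd : d ∈ V0 F₀ P) :
    ∃ r ∈ V0 F₀ P, r ≠ 0 ∧ f r a = 0 ∧ f r b = 0 ∧ f r c = 0 ∧ f r d = 0 := by
  have hf := H.herm
  let emb : (ι → F₀) → (ι → F) := fun u => (P : Matrix ι ι F) *ᵥ fun i => (u i : F)
  have hmem : ∀ u, emb u ∈ V0 F₀ P := fun u i => by
    simp only [emb, inv_mulVec_mulVec]; exact (u i).2
  let w : Fin 4 → ι → F := ![a, b, c, d]
  have hw : ∀ k, w k ∈ V0 F₀ P := fun k => by fin_cases k <;> assumption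
  let L : (ι → F₀) →ₗ[F₀] (Fin 4 → F₀) :=
    { toFun := fun u k => ⟨ζ * f (emb u) (w k), H.rat _ (hmem u) _ (hw k)⟩
      map_add' := fun x y => funext fun k => Subtype.ext (by
        change ζ * f ((P : Matrix ι ι F) *ᵥ fun i => ((x + y) i : F)) (w k) = _
        rw [show (fun i => ((x + y) i : F)) = (fun i => (x i : F)) + fun i => (y i : F) from rfl,
          mulVec_add, u_add_left hf, mul_add]
        rfl)
      map_smul' := fun r x => funext fun k => Subtype.ext (by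
        change ζ * f ((P : Matrix ι ι F) *ᵥ fun i => ((r • x) i : F)) (w k) = _
        rw [show (fun i => ((r • x) i : F)) = (r : F) • fun i => (x i : F) from rfl,
          mulVec_smul, u_smul_left hf, mul_left_comm]
        rfl) }
  have hne : L.ker ≠ ⊥ := by
    intro hb
    have := LinearMap.finrank_le_finrank_of_injective (LinearMap.ker_eq_bot.1 hb)
    rw [Module.finrank_fin_fun, Module.finrank_fintype_fun_eq_card] at this
    omega
  obtain ⟨u, hu, hu0⟩ := L.ker.ne_bot_iff.1 hne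
  have e : ∀ k, f (emb u) (w k) = 0 := fun k =>
    (mul_eq_zero.1 (congrArg Subtype.val (congrFun (LinearMap.mem_ker.1 hu) k))).resolve_left
      H.zeta_ne
  refine ⟨emb u, hmem u, fun h0 => hu0 ?_, e 0, e 1, e 2, e 3⟩
  funext i
  apply Subtype.ext
  have h1 : (fun i => (u i : F)) = 0 := by
    rw [← inv_mulVec_mulVec P fun i => (u i : F), show (P : Matrix ι ι F) *ᵥ (fun i => (u i : F)) = 0
      from h0, mulVec_zero]
  exact congrFun h1 i

/-- `M` contains the transvections at all rational vectors -/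
def RatUt (M : Subgroup (GL ι F)) : Prop := ∀ v ∈ V0 F₀ P, UtIn H.herm M v

/-- move the first vector of an orthogonal pair -/
theorem exists_pair_move (hn : 5 ≤ Fintype.card ι) (hR : H.RatUt M) {a a' b : ι → F}
    (ha : a ∈ V0 F₀ P) (ha' : a' ∈ V0 F₀ P) (hb : b ∈ V0 F₀ P) (hab : f a b = 0) (hab' : f a' b = 0)
    (hia : ∀ t : F, a ≠ t • b) (hia' : ∀ t : F, a' ≠ t • b) :
    ∃ g ∈ M, g ∈ isoGrp f ∧ (g : Matrix ι ι F) *ᵥ a = a' ∧ (g : Matrix ι ι F) *ᵥ b = b := by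
  have hf := H.herm
  have step : ∀ x ∈ V0 F₀ P, ∀ y ∈ V0 F₀ P, f x b = 0 → f y b = 0 → f x y ≠ 0 →
      ∃ g ∈ M, g ∈ isoGrp f ∧ (g : Matrix ι ι F) *ᵥ x = y ∧ (g : Matrix ι ι F) *ᵥ b = b := by
    intro x hx y hy hxb hyb hxy
    have hz : y - x ∈ V0 F₀ P := (V0 F₀ P).sub_mem hy hx
    have zz := H.alt _ hz
    have hsk : σ (f x y)⁻¹ = -(f x y)⁻¹ := by rw [map_inv₀, (H.skew hx hy).2, inv_neg]
    refine ⟨ut hf (y - x) (f x y)⁻¹, hR _ hz _ hsk, ut_mem_iso hf zz hsk, ?_, ?_⟩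
    · rw [ut_mulVec hf zz, u_sub_right hf, H.alt x hx, sub_zero, inv_mul_cancel₀ hxy, one_smul]
      abel
    · rw [ut_mulVec hf zz, u_sub_right hf, u_symm_zero hf hyb, u_symm_zero hf hxb]; simp
  by_cases h : f a a' = 0
  swap
  · exact step a ha a' ha' hab hab' h
  obtain ⟨z1, hz1, k1, l1⟩ := H.exists_dual2 ha hb hia
  obtain ⟨z2, hz2, k2, l2⟩ := H.exists_dual2 ha' hb hia'
  obtain ⟨z, hz, hzb, hza, hza'⟩ : ∃ z ∈ V0 F₀ P, f z b = 0 ∧ f z a ≠ 0 ∧ f z a' ≠ 0 := by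
    have n1 : f z1 a ≠ 0 := fun h => by rw [h, mul_zero] at l1; exact zero_ne_one l1
    have n2 : f z2 a' ≠ 0 := fun h => by rw [h, mul_zero] at l2; exact zero_ne_one l2
    by_cases c1 : f z1 a' = 0
    · by_cases c2 : f z2 a = 0
      · exact ⟨z1 + z2, (V0 F₀ P).add_mem hz1 hz2, by rw [u_add_left hf, k1, k2, add_zero],
          by rwa [u_add_left hf, c2, add_zero], by rwa [u_add_left hf, c1, zero_add]⟩
      · exact ⟨z2, hz2, k2, c2, n2⟩
    · exact ⟨z1, hz1, k1, n1, c1⟩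
  obtain ⟨g1, g1M, g1i, e1, f1⟩ := step a ha z hz hab hzb fun h => hza (u_symm_zero hf h)
  obtain ⟨g2, g2M, g2i, e2, f2⟩ := step z hz a' ha' hzb hab' hza'
  exact ⟨g2 * g1, M.mul_mem g2M g1M, Subgroup.mul_mem _ g2i g1i, by rw [mul_mulVec, e1, e2],
    by rw [mul_mulVec, f1, f2]⟩

/-- one non-rational isotropic transvection vector gives all -/
theorem utIn_all (hn : 5 ≤ Fintype.card ι) (hR : H.RatUt M) {w : ι → F} (hww : f w w = 0)
    (hw : UtIn H.herm M w) (hout : ∀ c : F, c ≠ 0 → c • w ∉ V0 F₀ P) :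
    ∀ x, f x x = 0 → UtIn H.herm M x := by
  have hf := H.herm
  obtain ⟨θ, hθ⟩ : ∃ θ : F, σ θ ≠ θ := by
    by_contra hcon
    push Not at hcon
    exact hf.ne_refl (RingEquiv.ext hcon)
  have iso_iff : ∀ a ∈ V0 F₀ P, ∀ b ∈ V0 F₀ P, f (a + θ • b) (a + θ • b) = 0 → f a b = 0 := by
    intro a ha b hb h
    simp only [u_add_left hf, u_add_right hf, u_smul_left hf, u_smul_right hf, H.alt a ha,
      H.alt b hb, H.swap ha hb] at h
    exact (mul_eq_zero.1 (show (σ θ - θ) * f a b = 0 by linear_combination h)).resolve_left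
      (sub_ne_zero.2 hθ)
  obtain ⟨a, ha, b, hb, rfl⟩ := H.combination hθ w
  have hab := iso_iff a ha b hb hww
  have hab2 : ∀ t : F, a ≠ t • b := by
    intro t e
    subst e
    rcases eq_or_ne (t + θ) 0 with h | h
    · refine hout 1 one_ne_zero ?_
      rw [← add_smul, h, zero_smul, smul_zero]
      exact (V0 F₀ P).zero_mem
    · refine hout (t + θ)⁻¹ (inv_ne_zero h) ?_
      rw [← add_smul, inv_smul_smul₀ h]
      exact hb
  have hba : ∀ t : F, b ≠ t • a := fun t e => by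
    rcases eq_or_ne t 0 with rfl | ht
    · refine hout 1 one_ne_zero ?_
      rw [e, zero_smul, smul_zero, add_zero, one_smul]
      exact ha
    · exact hab2 t⁻¹ (by rw [e, inv_smul_smul₀ ht])
  have trans : ∀ p q p' : ι → F, p ∈ V0 F₀ P → q ∈ V0 F₀ P → p' ∈ V0 F₀ P → f p q = 0 →
      f p' q = 0 → (∀ t : F, p ≠ t • q) → (∀ t : F, p' ≠ t • q) →
      (UtIn hf M (p + θ • q) → UtIn hf M (p' + θ • q)) ∧
      (UtIn hf M (q + θ • p) → UtIn hf M (q + θ • p')) := by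
    intro p q p' hp hq hp' h h' i i'
    obtain ⟨g, gM, gi, e1, e2⟩ := H.exists_pair_move hn hR hp hp' hq h h' i i'
    constructor
    · intro hu
      have := hu.conj hf (by simp [u_add_left hf, u_add_right hf, u_smul_left hf, u_smul_right hf,
        H.alt p hp, H.alt q hq, h, u_symm_zero hf h]) gM gi
      rwa [mulVec_add, mulVec_smul, e1, e2] at this
    · intro hu
      have := hu.conj hf (by simp [u_add_left hf, u_add_right hf, u_smul_left hf, u_smul_right hf,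
        H.alt p hp, H.alt q hq, h, u_symm_zero hf h]) gM gi
      rwa [mulVec_add, mulVec_smul, e1, e2] at this
  have all : ∀ a' ∈ V0 F₀ P, ∀ b' ∈ V0 F₀ P, f a' b' = 0 → (∀ t : F, a' ≠ t • b') →
      (∀ t : F, b' ≠ t • a') → UtIn hf M (a' + θ • b') := by
    intro a' ha' b' hb' h1 h2 h3
    obtain ⟨d, hd, -, hd1⟩ := H.exists_dual2 ha hb hab2
    obtain ⟨d', hd', -, hd1'⟩ := H.exists_dual2 ha' hb' h2
    obtain ⟨c, hc, hc0, ca, ca', cd, cd'⟩ := H.exists_perp4 hn ha ha' hd hd'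
    have c1 : ∀ t : F, c ≠ t • a := fun t e => by
      rw [e, u_smul_left hf, H.swap hd ha, mul_neg, neg_eq_zero, mul_eq_zero] at cd
      rcases cd with h | h
      · exact hc0 (by rw [e, h, zero_smul])
      · rw [h, mul_zero] at hd1; exact zero_ne_one hd1
    have c2 : ∀ t : F, c ≠ t • a' := fun t e => by
      rw [e, u_smul_left hf, H.swap hd' ha', mul_neg, neg_eq_zero, mul_eq_zero] at cd'
      rcases cd' with h | h
      · exact hc0 (by rw [e, h, zero_smul])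
      · rw [h, mul_zero] at hd1'; exact zero_ne_one hd1'
    have a_c : ∀ t : F, a ≠ t • c := fun t e => by
      rcases eq_or_ne t 0 with rfl | ht
      · exact hab2 0 (by rw [e, zero_smul, zero_smul])
      · exact c1 t⁻¹ (by rw [e, inv_smul_smul₀ ht])
    have a'_c : ∀ t : F, a' ≠ t • c := fun t e => by
      rcases eq_or_ne t 0 with rfl | ht
      · exact h2 0 (by rw [e, zero_smul, zero_smul])
      · exact c2 t⁻¹ (by rw [e, inv_smul_smul₀ ht])
    have s1 : UtIn hf M (a + θ • c) :=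
      (trans b a c hb ha hc (u_symm_zero hf hab) ca hba c1).2 hw
    have s2 : UtIn hf M (a' + θ • c) :=
      (trans a c a' ha hc ha' (u_symm_zero hf ca) (u_symm_zero hf ca') a_c a'_c).1 s1
    exact (trans c a' b' hc ha' hb' ca' (u_symm_zero hf h1) c2 h3).2 s2
  intro x hx
  obtain ⟨a', ha', b', hb', rfl⟩ := H.combination hθ x
  by_cases h2 : ∃ t : F, a' = t • b'
  · obtain ⟨t, rfl⟩ := h2
    rw [← add_smul]
    exact (hR b' hb').smul hf (H.alt b' hb') _
  by_cases h3 : ∃ t : F, b' = t • a'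
  · obtain ⟨t, rfl⟩ := h3
    rw [smul_smul, ← one_smul F a', smul_smul, mul_one, ← add_smul]
    exact (hR a' ha').smul hf (H.alt a' ha') _
  push Not at h2 h3
  exact all a' ha' b' hb' (iso_iff a' ha' b' hb' hx) h2 h3

end HAlt

end Cfsg.Agent.Symplectic
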