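import Cfsg.Agent.Symplectic.HermSubPar

/-! Unitary subfield structures: parameters form a field; generation of the whole group. -/

set_option autoImplicit false

namespace Cfsg.Agent.Symplectic

open scoped MatrixGroups Matrix
open Matrix Cfsg.Agent.H95

variable {ι : Type} [Fintype ι] [DecidableEq ι] {F : Type*} [Field F]
  {σ : F ≃+* F} {f : (ι → F) → (ι → F) → F} {F₀ : Subfield F} {V : AddSubgroup (ι → F)}
  {M : Subgroup (GL ι F)}

namespace HSub

variable (H : HSub σ f F₀ V)
include H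

theorem exists_theta : ∃ θ ∈ F₀, σ θ ≠ θ := by
  obtain ⟨l, hl, hl1⟩ := H.tr
  obtain ⟨s, hs, hs0, hss⟩ := H.skew
  by_cases h2 : (2 : F) = 0
  · exact ⟨l, hl, fun e => one_ne_zero (by rw [← hl1, e]; linear_combination l * h2)⟩
  · exact ⟨s, hs, fun e => hs0 ((mul_eq_zero.1 (show (2 : F) * s = 0 by
      linear_combination -(hss.symm.trans e))).resolve_left h2)⟩

/-- a partner orthogonal to a given orthogonal vector -/
theorem partner_perp {a b : ι → F} (ha : H.Iso0 a) (hb : H.Iso0 b) (hab : f a b = 0)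
    (hind : ∀ t : F, a ≠ t • b) : ∃ v, H.Iso0 v ∧ f v b = 0 ∧ f v a = 1 ∧ f a v = 1 := by
  have hf := H.herm
  obtain ⟨d, hd, -, db, -⟩ := H.partner hb.1 hb.2.1 hb.2.2
  obtain ⟨y, hy, hya⟩ := H.exists_ne (a := a - σ (f d a) • b) fun e => hind _ (sub_eq_zero.1 e)
  set y' := y - f y b • d with hy'
  have y'V : y' ∈ V := V.sub_mem hy (H.smul _ (H.rat y hy b hb.1) d hd)
  have hy'b : f y' b = 0 := by rw [hy', u_sub_left hf, u_smul_left hf, db]; ring
  have hy'a : f y' a ≠ 0 := by
    rw [u_sub_right hf, u_smul_right hf, u_inv hf] at hya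
    rw [hy', u_sub_left hf, u_smul_left hf, mul_comm]
    exact hya
  set z := (f y' a)⁻¹ • y' with hz
  have zV : z ∈ V := H.smul _ (F₀.inv_mem (H.rat _ y'V a ha.1)) _ y'V
  have za : f z a = 1 := by rw [hz, u_smul_left hf, inv_mul_cancel₀ hy'a]
  have zb : f z b = 0 := by rw [hz, u_smul_left hf, hy'b, mul_zero]
  have az : f a z = 1 := by rw [← u_conj hf, za, map_one]
  clear_value z
  obtain ⟨t, ht, ht1⟩ := H.trace_rat (F₀.neg_mem (H.rat z zV z zV)) (H.neg_self_fix z)
  have e1 : f (z + t • a) a = 1 := by rw [u_add_left hf, u_smul_left hf, za, ha.2.2]; ring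
  refine ⟨z + t • a, ⟨V.add_mem zV (H.smul t ht a ha.1), ?_, ?_⟩, ?_, e1,
    by rw [← u_conj hf, e1, map_one]⟩
  · intro h0; rw [h0, u_zero_left hf] at e1; exact zero_ne_one e1
  · simp only [u_add_left hf, u_add_right hf, u_smul_left hf, u_smul_right hf, za, az, ha.2.2]
    linear_combination ht1
  · rw [u_add_left hf, u_smul_left hf, zb, hab]; ring

variable (hO : H.Over M)
include hO

theorem par_add {a b : F} (ha : H.Par M a) (hb : H.Par M b) : H.Par M (a + b) :=
  ⟨by rw [map_add, ha.1, hb.1]; ring, fun v hv h => by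
    rw [← ut_add H.herm h]; exact M.mul_mem (ha.2 v hv h) (hb.2 v hv h)⟩

theorem par_neg {a : F} (ha : H.Par M a) : H.Par M (-a) :=
  ⟨by rw [map_neg, ha.1], fun v hv h => by
    rw [← ut_inv H.herm h]; exact M.inv_mem (ha.2 v hv h)⟩

theorem par_fixed {a r : F} (ha : H.Par M a) (hr : r ∈ F₀) (hfix : σ r = r) :
    H.Par M (a * r) := by
  obtain ⟨c, hc, rfl⟩ := H.norm r hr hfix
  refine ⟨by rw [map_mul, ha.1, hfix]; ring, fun v hv h => ?_⟩
  rw [← ut_smul_vec H.herm h]
  exact ha.2 _ (H.smul c hc v hv) (by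
    rw [u_smul_left H.herm, u_smul_right H.herm, h]; ring)

omit hO in
theorem conj_mixed (hO : H.Over M) {a c : F} (ha : H.Par M a) {u v w : ι → F} (hu : u ∈ V)
    (huu : f u u = 0) (hvw : OrthIso H.herm v w) (huw : OrthIso H.herm u w) (huv : f u v = 1)
    (hc : uh H.herm v w c ∈ M) :
    ut H.herm w (a * (c * σ c)) * uh H.herm u w (a * c) ∈ M := by
  have hf := H.herm
  have hX := ha.2 u hu huu
  have h1 := M.mul_mem (M.inv_mem hX) (M.mul_mem (M.mul_mem hc hX) (M.inv_mem hc))
  have e1 : (uh hf v w c : Matrix ι ι F) *ᵥ u = u + c • w := by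
    rw [uh_mulVec hf hvw, huw.2.2, huv, mul_zero, mul_one, zero_smul, sub_zero]
  rw [conj_ut hf (uh_mem_iso hf v w c) huu, e1, ut_inv hf huu] at h1
  have huu' : f (u + c • w) (u + c • w) = 0 := by
    simp only [u_add_left hf, u_add_right hf, u_smul_left hf, u_smul_right hf, huw.1, huw.2.1,
      huw.2.2, u_symm_zero hf huw.2.2]
    ring
  convert h1 using 1
  refine gl_ext fun x => ?_
  simp only [mul_mulVec, ut_mulVec hf huu, ut_mulVec hf huw.2.1, ut_mulVec hf huu',
    uh_mulVec hf huw, u_add_left hf, u_add_right hf, u_sub_left hf, u_smul_left hf,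
    u_smul_right hf, huw.1, huw.2.1, huw.2.2, u_symm_zero hf huw.2.2, map_mul, ha.1]
  module

/-- short root elements with parameters in `A F₀` -/
theorem uh_par {u w : ι → F} (hu : H.Iso0 u) (hw : H.Iso0 w) (huw : f u w = 0)
    (hind : ∀ t : F, u ≠ t • w) {a : F} (ha : H.Par M a) {c : F} (hc : c ∈ F₀) :
    uh H.herm u w (a * c) ∈ M := by
  obtain ⟨v, hv, vw, -, uv⟩ := H.partner_perp hu hw huw hind
  have h1 := H.conj_mixed hO ha hu.1 hu.2.2 ⟨hv.2.2, hw.2.2, vw⟩ ⟨hu.2.2, hw.2.2, huw⟩ uv
    (H.uh_rat hO hv.1 hw.1 hc)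
  have hfix : σ (c * σ c) = c * σ c := by rw [map_mul, u_inv H.herm]; ring
  exact (M.mul_mem_cancel_left
    ((H.par_fixed hO ha (F₀.mul_mem hc (H.stable c hc)) hfix).2 w hw.1 hw.2.2)).1 h1

theorem par_mul (hn : 6 ≤ Fintype.card ι) {s : F} (hs : s ∈ F₀) (hss : σ s = -s) {a b : F}
    (ha : H.Par M a) (hb : H.Par M b) : H.Par M (a * b / s) := by
  have hf := H.herm
  obtain ⟨e, he, -⟩ := H.isProj_id.exists_iso H (by omega)
  obtain ⟨w, d, hw, hd, we, de, dw⟩ := H.exists_indep he (by omega)
  have wd : f w d = 1 := by rw [← u_conj hf, dw, map_one]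
  obtain ⟨l, hl, hl1⟩ := H.tr
  have hde : ∀ t : F, d ≠ t • e := H.not_line (v := w) (by rw [dw]; exact one_ne_zero)
    (u_symm_zero hf we)
  have hDE : OrthIso hf d e := ⟨hd.2.2, he.2.2, de⟩
  have hWE : OrthIso hf w e := ⟨hw.2.2, he.2.2, we⟩
  set c := b * (l / s) with hc
  have hcM : uh hf d e c ∈ M := H.uh_par hO hd he de hde hb (F₀.div_mem hl hs)
  have h1M : uh hf d e 1 ∈ M := H.uh_rat hO hd.1 he.1 F₀.one_mem
  have hc1 : uh hf d e (c + 1) ∈ M := by rw [← uh_add hf hDE]; exact M.mul_mem hcM h1M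
  have E := fun {k : F} (hk : uh hf d e k ∈ M) =>
    H.conj_mixed hO ha hw.1 hw.2.2 hDE hWE wd hk
  have hσc : c + σ c = b / s := by
    rw [hc, map_mul, map_div₀, hb.1, hss]
    linear_combination (b / s) * hl1
  refine H.par_of_one hO hn he (by rw [map_div₀, map_mul, ha.1, hb.1, hss]; ring) ?_
  have h2 := M.mul_mem (E hc1) (M.inv_mem (M.mul_mem (E hcM) (E h1M)))
  simp only [_root_.mul_inv_rev, ut_inv hf he.2.2, uh_inv hf hWE] at h2
  convert h2 using 1
  rw [mul_div_assoc, ← hσc]
  clear_value c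
  refine gl_ext fun x => ?_
  simp only [mul_mulVec, ut_mulVec hf he.2.2, uh_mulVec hf hWE, u_add_left hf, u_sub_left hf,
    u_smul_left hf, hw.2.2, he.2.2, we, u_symm_zero hf we, map_mul, map_add, map_neg, map_one,
    ha.1]
  module

/-- One parameter outside `F₀` gives all skew elements. -/
theorem par_all [Finite F] (hn : 6 ≤ Fintype.card ι) {a : F} (ha : H.Par M a) (haF : a ∉ F₀)
    {b : F} (hb : σ b = -b) : H.Par M b := by
  have hf := H.herm
  letI := Fintype.ofFinite F
  obtain ⟨s, hs, hs0, hss⟩ := H.skew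
  obtain ⟨θ, hθ, hθσ⟩ := H.exists_theta
  obtain ⟨l, hl, hl1⟩ := H.tr
  let C : Set F := {x | ∀ e ∈ F₀, H.Par M (s * (e * x + σ (e * x)))}
  have rfixed : ∀ e ∈ F₀, e + σ e ∈ F₀ ∧ σ (e + σ e) = e + σ e := fun e he =>
    ⟨F₀.add_mem he (H.stable e he), by rw [map_add, u_inv hf]; ring⟩
  have base : ∀ x ∈ F₀, x ∈ C := fun x hx e he => by
    obtain ⟨h1, h2⟩ := rfixed _ (F₀.mul_mem he hx)
    exact H.par_fixed hO (H.par_rat hO hs hss) h1 h2
  have mul : ∀ x ∈ C, ∀ y ∈ C, x * y ∈ C := by
    intro x hx y hy e he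
    have hne : θ - σ θ ≠ 0 := sub_ne_zero.2 (Ne.symm hθσ)
    set δ := (θ - σ θ)⁻¹ with hδ
    have hδF : δ ∈ F₀ := F₀.inv_mem (F₀.sub_mem hθ (H.stable θ hθ))
    have hδσ : σ δ = -δ := by rw [hδ, map_inv₀, map_sub, u_inv hf, ← neg_sub, inv_neg]
    have p1 := hx _ (F₀.mul_mem (F₀.neg_mem (H.stable θ hθ)) hδF)
    have p2 := hx δ hδF
    have q1 := hy e he
    have q2 := hy (e * θ) (F₀.mul_mem he hθ)
    convert H.par_add hO (H.par_mul hO hn hs hss p1 q1) (H.par_mul hO hn hs hss p2 q2) using 1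
    simp only [map_mul, map_neg, hδσ, u_inv hf]
    rw [hδ]
    field_simp
    ring
  let K : Subfield F :=
    { carrier := C
      mul_mem' := fun {x y} hx hy => mul x hx y hy
      one_mem' := base 1 F₀.one_mem
      zero_mem' := base 0 F₀.zero_mem
      add_mem' := fun {x y} hx hy e he => by
        have := H.par_add hO (hx e he) (hy e he)
        convert this using 1
        simp only [mul_add, map_add]; ring
      neg_mem' := fun {x} hx e he => by
        have := H.par_neg hO (hx e he)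
        convert this using 1
        rw [mul_neg, map_neg]; ring
      inv_mem' := fun x hx => by
        have hpow : ∀ k : ℕ, x ^ k ∈ C := fun k => by
          induction k with
          | zero => rw [pow_zero]; exact base 1 F₀.one_mem
          | succ k ih => rw [pow_succ]; exact mul _ ih x hx
        rcases eq_or_ne x 0 with rfl | hx0
        · rw [_root_.inv_zero]; exact base 0 F₀.zero_mem
        · have h1 : x ^ (Fintype.card F - 1) = 1 := FiniteField.pow_card_sub_one_eq_one x hx0
          have h2 := Fintype.one_lt_card (α := F)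
          rw [show Fintype.card F - 1 = Fintype.card F - 2 + 1 by omega, pow_succ] at h1
          rw [← eq_inv_of_mul_eq_one_left h1]
          exact hpow _ }
  have haK : a / s ∈ K := fun e he => by
    obtain ⟨h1, h2⟩ := rfixed e he
    have := H.par_fixed hO ha h1 h2
    convert this using 1
    rw [map_mul, map_div₀, ha.1, hss, neg_div_neg_eq]
    field_simp
  have hK : K = ⊤ := (H.simple K base).resolve_left fun e => haF (by
    rw [e] at haK
    simpa [hs0] using F₀.mul_mem haK hs)
  have := (show b / s ∈ K by rw [hK]; exact Subfield.mem_top _) l hl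
  convert this using 1
  rw [map_mul, map_div₀, hb, hss, neg_div_neg_eq, ← add_mul, hl1, one_mul, mul_div_cancel₀ _ hs0]

variable (hP : ∀ b, σ b = -b → H.Par M b)
include hP

theorem uh_all {e w : ι → F} (he : H.Iso0 e) (hw : w ∈ V) (hww : f w w = 0) (hew : f e w = 0)
    (c : F) : uh H.herm e w c ∈ M := by
  have hf := H.herm
  have hOI : OrthIso hf e w := ⟨he.2.2, hww, hew⟩
  by_cases hdep : ∃ t : F, w = t • e
  · obtain ⟨t, rfl⟩ := hdep
    have hsk : σ (c * t - σ c * σ t) = -(c * t - σ c * σ t) := by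
      rw [map_sub, map_mul, map_mul, u_inv hf, u_inv hf]; ring
    convert (hP _ hsk).2 e he.1 he.2.2 using 1
    refine gl_ext fun x => ?_
    rw [uh_mulVec hf hOI, ut_mulVec hf he.2.2, u_smul_right hf]
    module
  push Not at hdep
  have hw0 : H.Iso0 w := ⟨hw, fun h => hdep 0 (by rw [h, zero_smul]), hww⟩
  have hind : ∀ t : F, e ≠ t • w := fun t ht => by
    rcases eq_or_ne t 0 with rfl | ht0
    · exact he.2.1 (by rw [ht, zero_smul])
    · exact hdep t⁻¹ (by rw [ht, inv_smul_smul₀ ht0])
  obtain ⟨s, hs, hs0, hss⟩ := H.skew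
  obtain ⟨θ, hθ, hθσ⟩ := H.exists_theta
  obtain ⟨p, r, hp, hr, rfl⟩ := exists_fixed_combination hf (v := (1 : F)) (w := θ)
    (by simpa using sub_ne_zero.2 hθσ) c
  rw [show p * 1 + r * θ = s * p * s⁻¹ + s * r * (θ / s) by field_simp, ← uh_add hf hOI]
  exact M.mul_mem
    (H.uh_par hO he hw0 hew hind (hP _ (by rw [map_mul, hss, hp]; ring)) (F₀.inv_mem hs))
    (H.uh_par hO he hw0 hew hind (hP _ (by rw [map_mul, hss, hr]; ring)) (F₀.div_mem hθ hs))

/-- All transvections lie in `M`. -/
theorem utIn_of_par (hn : 6 ≤ Fintype.card ι) : ∀ x, f x x = 0 → UtIn H.herm M x := by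
  have hf := H.herm
  intro x hxx a ha
  rcases eq_or_ne x 0 with rfl | hx0
  · convert M.one_mem
    exact gl_ext fun y => by rw [ut_mulVec hf hxx]; simp
  obtain ⟨e, he, hxe⟩ : ∃ e, H.Iso0 e ∧ f x e ≠ 0 := by
    by_contra hcon
    push Not at hcon
    obtain ⟨v, hv, -⟩ := H.isProj_id.exists_iso H (by omega)
    let D : AddSubgroup (ι → F) :=
      { carrier := {y | f x y = 0}
        add_mem' := fun {p q} hp hq => by
          show f x (p + q) = 0
          rw [u_add_right hf, hp, hq, add_zero]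
        zero_mem' := u_zero_right hf x
        neg_mem' := fun {p} hp => by
          show f x (-p) = 0
          rw [u_neg_right hf, hp, neg_zero] }
    refine hx0 (H.eq_zero_of fun z hz => u_symm_zero hf ?_)
    exact H.gen_near hv D (fun c _ => by
      show f x (c • v) = 0
      rw [u_smul_right hf, hcon v hv, mul_zero]) (fun w hw _ => hcon w hw) hz
  obtain ⟨z, hz, hzz, hze, -⟩ := H.partner he.1 he.2.1 he.2.2
  let D : AddSubgroup (ι → F) :=
    { carrier := {d | ∃ t, EichOK hf e d t ∧ ue hf e d t ∈ M}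
      add_mem' := fun {p q} ⟨t₁, h₁, m₁⟩ ⟨t₂, h₂, m₂⟩ =>
        ⟨_, h₁.add hf h₂, by rw [← ue_mul hf h₁ h₂]; exact M.mul_mem m₁ m₂⟩
      zero_mem' := by
        have h : EichOK hf e 0 0 :=
          ⟨he.2.2, u_zero_left hf e, by rw [u_zero_left hf, map_zero, add_zero, neg_zero]⟩
        refine ⟨0, h, ?_⟩
        convert M.one_mem
        exact gl_ext fun y => by rw [ue_mulVec hf h, u_zero_right hf]; simp
      neg_mem' := fun {p} ⟨t, h, m⟩ => by
        have h' : EichOK hf e (-p) (σ t) := by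
          refine ⟨h.1, by rw [u_neg_left hf, h.2.1, neg_zero], ?_⟩
          rw [u_inv hf, u_neg_left hf, u_neg_right hf]
          linear_combination h.2.2
        refine ⟨σ t, h', ?_⟩
        rw [show ue hf e (-p) (σ t) = (ue hf e p t)⁻¹ from
          eq_inv_of_mul_eq_one_left (gl_ext fun y => by
            rw [mul_mulVec, ue_mulVec hf h, ue_mulVec hf h']
            simp only [u_add_left hf, u_smul_left hf, u_neg_right hf, h.1, h.2.1,
              u_symm_zero hf h.2.1, Units.val_one, one_mulVec]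
            match_scalars <;>
              first
              | ring1
              | linear_combination (f y e) * h.2.2)]
        exact M.inv_mem m }
  have all : ∀ y, ∀ c : F, c • (y - f y e • z) ∈ D := by
    intro y
    have hy : y ∈ Submodule.span F (V : Set (ι → F)) := H.span ▸ Submodule.mem_top
    induction hy using Submodule.span_induction with
    | mem y hy =>
      intro c
      let D' : AddSubgroup (ι → F) :=
        { carrier := {w | ∀ c : F, c • w ∈ D}
          add_mem' := fun {p q} hp hq c => by rw [smul_add]; exact D.add_mem (hp c) (hq c)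
          zero_mem' := fun c => by rw [smul_zero]; exact D.zero_mem
          neg_mem' := fun {p} hp c => by rw [smul_neg]; exact D.neg_mem (hp c) }
      refine H.gen_perp (by omega) he D' (fun w hw hwe k => ?_)
        (V.sub_mem hy (H.smul _ (H.rat y hy e he.1) z hz))
        (by rw [u_sub_left hf, u_smul_left hf, hze, mul_one, sub_self]) c
      have h : EichOK hf e (k • w) 0 := by
        refine ⟨he.2.2, by rw [u_smul_left hf, hwe, mul_zero], ?_⟩
        rw [map_zero, u_smul_left hf, u_smul_right hf, hw.2.2]; ring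
      refine ⟨0, h, ?_⟩
      convert H.uh_all hO hP he hw.1 hw.2.2 (u_symm_zero hf hwe) k using 1
      refine gl_ext fun y => ?_
      rw [ue_mulVec hf h, uh_mulVec hf ⟨he.2.2, hw.2.2, u_symm_zero hf hwe⟩, u_smul_right hf]
      module
    | zero => intro c; simp [u_zero_left hf, D.zero_mem]
    | add p q _ _ hp hq =>
      intro c
      convert D.add_mem (hp c) (hq c) using 1
      rw [u_add_left hf]; module
    | smul k p _ hp =>
      intro c
      convert hp (c * k) using 1
      rw [u_smul_left hf]; module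
  set x' := (f x e)⁻¹ • x with hx'
  have x'e : f x' e = 1 := by rw [hx', u_smul_left hf, inv_mul_cancel₀ hxe]
  have x'x' : f x' x' = 0 := by rw [hx', u_smul_left hf, u_smul_right hf, hxx]; ring
  clear_value x'
  set d := x' - z with hd
  obtain ⟨t, ht, tM⟩ : d ∈ D := by simpa [x'e, hd] using all x' 1
  set δ := f z d - t with hδ
  have hδσ : σ δ = -δ := by
    have h := ht.2.2
    simp only [hd, u_sub_left hf, u_sub_right hf, x'x', hzz] at h
    rw [hδ, hd, u_sub_right hf, hzz, sub_zero, map_sub, u_conj hf]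
    linear_combination -h
  have gM : ut hf e δ * ue hf e d t ∈ M := M.mul_mem ((hP δ hδσ).2 e he.1 he.2.2) tM
  have gx : ((ut hf e δ * ue hf e d t : GL ι F) : Matrix ι ι F) *ᵥ z = x' := by
    rw [mul_mulVec, ue_mulVec hf ht, ut_mulVec hf he.2.2, u_add_left hf, u_add_left hf,
      u_smul_left hf, u_smul_left hf, hze, ht.2.1, he.2.2, hδ, hd]
    module
  have hxz : x = f x e • x' := by rw [hx', smul_inv_smul₀ hxe]
  have := UtIn.conj hf hzz (fun l hl => (hP l hl).2 z hz hzz) gM (H.iso_of_mem hO gM)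
  rw [gx] at this
  rw [hxz]
  exact (this.smul hf x'x' (f x e)) a ha

end HSub

end Cfsg.Agent.Symplectic
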