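import Cfsg.Agent.Symplectic.HermSubPar

/-! Unitary subfield structures: an element outside the stabiliser yields a new parameter. -/

set_option autoImplicit false

namespace Cfsg.Agent.Symplectic

open scoped MatrixGroups Matrix
open Matrix Cfsg.Agent.H95

/-- Two non-conjugate involutions are centralised by an involution of their dihedral group. -/
theorem exists_invol_commute {G : Type*} [Group G] [Finite G] {t t' : G} (ht : t * t = 1)
    (ht' : t' * t' = 1) (hne : ∀ g : G, g * t * g⁻¹ ≠ t') :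
    ∃ z : G, z * z = 1 ∧ z ≠ 1 ∧ Commute z t ∧ Commute z t' ∧
      ∃ g : G, g * t * g⁻¹ = z * t ∨ g * t' * g⁻¹ = z * t := by
  set x := t * t' with hx
  have hti : t⁻¹ = t := inv_eq_of_mul_eq_one_right ht
  have hti' : t'⁻¹ = t' := inv_eq_of_mul_eq_one_right ht'
  have txt : t * x * t⁻¹ = x⁻¹ := by
    rw [hx, _root_.mul_inv_rev, hti, hti', ← mul_assoc, ht, one_mul]
  have t'x : t' = t * x := by rw [hx, ← mul_assoc, ht, one_mul]
  have tz : ∀ k : ℕ, t * x ^ k = (x ^ k)⁻¹ * t := fun k => by
    rw [← inv_pow, ← txt, conj_pow, inv_mul_cancel_right]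
  have conjt : ∀ j : ℕ, (x ^ j)⁻¹ * t * (x ^ j) = t * (x ^ j * x ^ j) := fun j => by
    rw [← mul_assoc, tz]
  have hm : 0 < orderOf x := (isOfFinOrder_of_finite x).orderOf_pos
  rcases Nat.even_or_odd (orderOf x) with ⟨k, hk⟩ | ⟨k, hk⟩
  · set z := x ^ k with hz
    have hzz : z * z = 1 := by rw [hz, ← pow_add, ← hk, pow_orderOf_eq_one]
    have hzi : z⁻¹ = z := inv_eq_of_mul_eq_one_right hzz
    have hzt : t * z = z * t := by rw [hz, tz, ← hz, hzi]
    have hzx : z * x = x * z := (Commute.pow_self x k).eq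
    refine ⟨z, hzz, pow_ne_one_of_lt_orderOf (by omega) (by omega), hzt.symm, ?_, ?_⟩
    · show z * t' = t' * z
      rw [t'x]
      exact ((show Commute z t from hzt.symm).mul_right hzx).eq
    · rcases Nat.even_or_odd k with ⟨j, hj⟩ | ⟨j, hj⟩
      · refine ⟨(x ^ j)⁻¹, Or.inl ?_⟩
        rw [inv_inv, conjt, ← pow_add, ← hj, ← hz, hzt]
      · refine ⟨(x ^ j)⁻¹, Or.inr ?_⟩
        rw [inv_inv, t'x, ← mul_assoc, mul_assoc (_ * t), (Commute.self_pow x j).eq,
          ← mul_assoc, conjt, mul_assoc, ← pow_add, ← pow_succ, ← two_mul, ← hj, ← hz, hzt]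
  · refine absurd ?_ (hne ((x ^ (k + 1))⁻¹))
    rw [inv_inv, conjt, ← pow_add, show k + 1 + (k + 1) = orderOf x + 1 by omega, pow_succ,
      pow_orderOf_eq_one, one_mul, ← t'x]

variable {ι : Type} [Fintype ι] [DecidableEq ι] {F : Type*} [Field F]
  {σ : F ≃+* F} {f : (ι → F) → (ι → F) → F} {F₀ : Subfield F} {V : AddSubgroup (ι → F)}
  {M : Subgroup (GL ι F)}

/-- the residual space -/
def resSp (g : GL ι F) : Submodule F (ι → F) :=
  LinearMap.range ((g : Matrix ι ι F).mulVecLin - LinearMap.id)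

theorem mem_resSp (g : GL ι F) (x : ι → F) : (g : Matrix ι ι F) *ᵥ x - x ∈ resSp g :=
  ⟨x, rfl⟩

theorem resSp_le {g : GL ι F} {W : Submodule F (ι → F)}
    (h : ∀ x, (g : Matrix ι ι F) *ᵥ x - x ∈ W) : resSp g ≤ W := by
  rintro _ ⟨x, rfl⟩; exact h x

theorem resSp_mul (g h : GL ι F) : resSp (g * h) ≤ resSp g ⊔ resSp h := by
  refine resSp_le fun x => ?_
  rw [mul_mulVec, ← sub_add_sub_cancel _ ((h : Matrix ι ι F) *ᵥ x) x]
  exact Submodule.add_mem_sup (mem_resSp g _) (mem_resSp h x)

/-- dimension of the residual space -/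
noncomputable def resDim (g : GL ι F) : ℕ := Module.finrank F (resSp g)

theorem resDim_mul (g h : GL ι F) : resDim (g * h) ≤ resDim g + resDim h :=
  (Submodule.finrank_mono (resSp_mul g h)).trans
    (Submodule.finrank_add_le_finrank_add_finrank _ _)

theorem resDim_conj_le (g h : GL ι F) : resDim (h * g * h⁻¹) ≤ resDim g := by
  have hle : resSp (h * g * h⁻¹) ≤ (resSp g).map (h : Matrix ι ι F).mulVecLin := by
    refine resSp_le fun x => ⟨_, mem_resSp g (((h⁻¹ : GL ι F) : Matrix ι ι F) *ᵥ x), ?_⟩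
    simp only [mulVecLin_apply, mulVec_sub, mul_mulVec, mulVec_inv_mulVec]
  exact (Submodule.finrank_mono hle).trans (Submodule.finrank_map_le _ _)

theorem resDim_conj (g h : GL ι F) : resDim (h * g * h⁻¹) = resDim g := by
  refine le_antisymm (resDim_conj_le g h) ?_
  have := resDim_conj_le (h * g * h⁻¹) h⁻¹
  rwa [show h⁻¹ * (h * g * h⁻¹) * h⁻¹⁻¹ = g by group] at this

theorem resDim_eq_zero {g : GL ι F} (h : resDim g = 0) : g = 1 := by
  refine gl_ext fun x => ?_
  have := mem_resSp g x
  rw [Submodule.finrank_eq_zero.1 h, Submodule.mem_bot, sub_eq_zero] at this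
  rw [this, Units.val_one, one_mulVec]

/-- An involution of determinant one does not have residual dimension one in odd characteristic. -/
theorem resDim_ne_one {g : GL ι F} (h2 : (2 : F) ≠ 0) (hg : g * g = 1)
    (hdet : g ∈ Geo.specialLinear ι F) : resDim g ≠ 1 := by
  intro h1
  obtain ⟨a, ha, hspan⟩ := finrank_eq_one_iff'.1 h1
  choose c hc using fun j => hspan ⟨_, mem_resSp g (Pi.single j 1)⟩
  have hc' : ∀ j, c j • (a : ι → F) = (g : Matrix ι ι F) *ᵥ Pi.single j 1 - Pi.single j 1 :=
    fun j => congrArg Subtype.val (hc j)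
  have e : (g : Matrix ι ι F) = tvMat (a : ι → F) c := by
    ext i j
    have := congrFun (hc' j) i
    simp only [Pi.smul_apply, smul_eq_mul, Pi.sub_apply, mulVec_single_one, col_apply] at this
    rw [tvMat, Matrix.add_apply, vecMulVec_apply, mul_comm, this, one_apply, Pi.single_apply]
    by_cases h : i = j <;> simp [h]
  have ha0 : (a : ι → F) ≠ 0 := fun h => ha (Subtype.ext h)
  obtain ⟨x, hx⟩ := a.2
  have hga : (g : Matrix ι ι F) *ᵥ (a : ι → F) = -(a : ι → F) := by
    rw [← hx]
    simp only [LinearMap.sub_apply, mulVecLin_apply, LinearMap.id_apply, mulVec_sub, ← mul_mulVec,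
      hg, Units.val_one, one_mulVec, neg_sub]
  rw [e, tvMat_mulVec] at hga
  have hca : c ⬝ᵥ (a : ι → F) = -2 := by
    obtain ⟨i, hi⟩ := Function.ne_iff.1 ha0
    have := congrFun hga i
    simp only [Pi.add_apply, Pi.smul_apply, smul_eq_mul, Pi.neg_apply] at this
    exact mul_right_cancel₀ hi (by linear_combination this)
  have hd : (g : Matrix ι ι F).det = 1 := by
    have h' : Matrix.GeneralLinearGroup.det g = 1 := hdet
    simpa using congrArg Units.val h'
  rw [e, tvMat, vecMulVec_eq Unit, det_one_add_replicateCol_mul_replicateRow, hca] at hd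
  exact h2 (by linear_combination -hd)

namespace HSub

variable (H : HSub σ f F₀ V)
include H

/-- `g` stabilises `V` -/
def Stab (_H : HSub σ f F₀ V) (g : GL ι F) : Prop := ∀ v ∈ V, (g : Matrix ι ι F) *ᵥ v ∈ V

theorem stab_of_scalar (hn : 4 ≤ Fintype.card ι) {z : GL ι F} (hz : z * z = 1) {c : F}
    (hc : c ≠ 0) (hcV : ∀ v ∈ V, c • ((z : Matrix ι ι F) *ᵥ v) ∈ V) : H.Stab z := by
  obtain ⟨v, hv, -⟩ := H.isProj_id.exists_iso H (by omega)
  obtain ⟨d, hd, -, -, hvd⟩ := H.partner hv.1 hv.2.1 hv.2.2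
  have h1 := H.rat _ (hcV _ (hcV v hv.1)) d hd
  rw [mulVec_smul, ← mul_mulVec, hz, Units.val_one, one_mulVec, u_smul_left H.herm,
    u_smul_left H.herm, hvd, mul_one, ← _root_.sq] at h1
  intro x hx
  have := H.smul _ (F₀.inv_mem (H.sq c h1)) _ (hcV x hx)
  rwa [inv_smul_smul₀ hc] at this

theorem invol_swap {z : GL ι F} (hz : z * z = 1) (hzi : z ∈ isoGrp f) (x y : ι → F) :
    f ((z : Matrix ι ι F) *ᵥ x) y = f x ((z : Matrix ι ι F) *ᵥ y) := by
  conv_rhs => rw [← mem_isoGrp.1 hzi, ← mul_mulVec, hz, Units.val_one, one_mulVec]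

/-- the eigen projection of an involution -/
theorem exists_eigen {z : GL ι F} (h2 : (2 : F) ≠ 0) (hz : z * z = 1) (hzi : z ∈ isoGrp f)
    (hzV : H.Stab z) {ε : F} (hε : ε = 1 ∨ ε = -1) {k : ℕ} (W : Submodule F (ι → F))
    (hW : Module.finrank F W ≤ k) (hWm : ∀ x, ε • ((z : Matrix ι ι F) *ᵥ x) - x ∈ W)
    (hk : k + 2 ≤ Fintype.card ι) :
    ∃ u, H.Iso0 u ∧ (z : Matrix ι ι F) *ᵥ u = ε • u := by
  have hf := H.herm
  have hε2 : ε * ε = 1 := by rcases hε with rfl | rfl <;> ring
  have hεF : ε ∈ F₀ := by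
    rcases hε with rfl | rfl
    exacts [F₀.one_mem, F₀.neg_mem F₀.one_mem]
  have hεσ : σ ε = ε := by rcases hε with rfl | rfl <;> simp
  have half : (2 : F)⁻¹ ∈ F₀ := by
    rw [← one_add_one_eq_two]; exact F₀.inv_mem (F₀.add_mem F₀.one_mem F₀.one_mem)
  have hσh : σ (2 : F)⁻¹ = 2⁻¹ := by rw [map_inv₀, map_ofNat]
  let P : (ι → F) →ₗ[F] (ι → F) :=
    (2 : F)⁻¹ • (LinearMap.id + ε • (z : Matrix ι ι F).mulVecLin)
  have Pe : ∀ x, P x = (2 : F)⁻¹ • (x + ε • ((z : Matrix ι ι F) *ᵥ x)) := fun x => rfl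
  have zP : ∀ x, (z : Matrix ι ι F) *ᵥ P x = ε • P x := fun x => by
    rw [Pe, mulVec_smul, mulVec_add, mulVec_smul, ← mul_mulVec, hz, Units.val_one, one_mulVec,
      smul_comm ε, smul_add ε, smul_smul ε ε, hε2, one_smul, add_comm]
  have hP : H.IsProj P k := by
    refine ⟨fun v hv => ?_, fun u v => ?_, fun u => ?_, W, hW, fun x => ?_⟩
    · rw [Pe]
      exact H.smul _ half _ (V.add_mem hv (H.smul _ hεF _ (hzV v hv)))
    · rw [Pe v, u_smul_right hf, u_add_right hf, u_smul_right hf,
        ← H.invol_swap hz hzi, zP u, u_smul_left hf, hεσ, hσh]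
      field_simp
      linear_combination -(f (P u) v) * hε2
    · rw [Pe (P u), zP, smul_smul, hε2, one_smul, ← two_smul F, inv_smul_smul₀ h2]
    · have : x - P x = (-(2 : F)⁻¹) • (ε • ((z : Matrix ι ι F) *ᵥ x) - x) := by
        rw [Pe]
        match_scalars <;> field_simp <;> ring
      rw [this]
      exact W.smul_mem _ (hWm x)
  obtain ⟨u, hu, Pu⟩ := hP.exists_iso H hk
  exact ⟨u, hu, by rw [← Pu]; exact zP u⟩

/-- no involution stabilises both `V` and a moved copy -/
theorem no_invol_odd (h2 : (2 : F) ≠ 0) {h z : GL ι F} (hhi : h ∈ isoGrp f)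
    (hno : ∀ u v, H.Iso0 u → H.Iso0 v → f ((h : Matrix ι ι F) *ᵥ v) u ≠ 0)
    (hz : z * z = 1) (hzi : z ∈ isoGrp f) (hzV : H.Stab z) (hzV' : H.Stab (h⁻¹ * z * h))
    (hr : 2 ≤ resDim z) (hr' : resDim z + 2 ≤ Fintype.card ι) : False := by
  have hf := H.herm
  obtain ⟨u, hu, hzu⟩ := H.exists_eigen h2 hz hzi hzV (Or.inl rfl) (resSp z) le_rfl
    (fun x => by rw [one_smul]; exact mem_resSp z x) hr'
  rw [one_smul] at hzu
  set z' := h⁻¹ * z * h with hz'
  have hz'2 : z' * z' = 1 := by
    calc z' * z' = h⁻¹ * (z * z) * h := by rw [hz']; group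
      _ = 1 := by rw [hz]; group
  have hd : resDim z' = resDim z := by
    rw [hz']; simpa using resDim_conj z h⁻¹
  set L := (z' : Matrix ι ι F).mulVecLin - LinearMap.id with hL
  have hker : Module.finrank F L.ker + resDim z = Fintype.card ι := by
    rw [← hd, ← Module.finrank_fintype_fun_eq_card F, add_comm]
    exact L.finrank_range_add_finrank_ker
  obtain ⟨v, hv, hzv⟩ := H.exists_eigen h2 hz'2
    (Subgroup.mul_mem _ (Subgroup.mul_mem _ (inv_mem hhi) hzi) hhi) hzV' (Or.inr rfl) L.ker le_rfl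
    (fun x => by
      rw [LinearMap.mem_ker, hL]
      simp only [LinearMap.sub_apply, mulVecLin_apply, LinearMap.id_apply, neg_one_smul,
        mulVec_sub, mulVec_neg, ← mul_mulVec, hz'2, Units.val_one, one_mulVec]
      abel) (by omega)
  refine hno u v hu hv ?_
  have h1 : f ((h : Matrix ι ι F) *ᵥ v) u = f ((z : Matrix ι ι F) *ᵥ (h : Matrix ι ι F) *ᵥ v)
      ((z : Matrix ι ι F) *ᵥ u) := (mem_isoGrp.1 hzi _ _).symm
  rw [hzu, ← mul_mulVec, show z * h = h * z' by rw [hz']; group, mul_mulVec, hzv, neg_one_smul,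
    mulVec_neg, u_neg_left hf] at h1
  exact (mul_eq_zero.1 (by linear_combination h1 :
    (2 : F) * f ((h : Matrix ι ι F) *ᵥ v) u = 0)).resolve_left h2

/-- no involution stabilises both `V` and a moved copy, characteristic two -/
theorem no_invol_two (h2 : (2 : F) = 0) {h z : GL ι F} (hhi : h ∈ isoGrp f)
    (hno : ∀ u v, H.Iso0 u → H.Iso0 v → f ((h : Matrix ι ι F) *ᵥ v) u ≠ 0)
    (hz : z * z = 1) (hzi : z ∈ isoGrp f) (hzV : H.Stab z) (hzV' : H.Stab (h⁻¹ * z * h))
    (hne : z ≠ 1) : False := by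
  have hf := H.herm
  have moved : ∀ z : GL ι F, z * z = 1 → z ∈ isoGrp f → H.Stab z → z ≠ 1 →
      ∃ v ∈ V, H.Iso0 ((z : Matrix ι ι F) *ᵥ v - v) := by
    intro z hz hzi hzV hne
    obtain ⟨v, hv, hv'⟩ : ∃ v ∈ V, (z : Matrix ι ι F) *ᵥ v ≠ v := by
      by_contra hcon
      push Not at hcon
      apply hne
      have : (z : Matrix ι ι F).mulVecLin = LinearMap.id := LinearMap.ext_on H.span hcon
      refine gl_ext fun x => ?_
      rw [Units.val_one, one_mulVec]
      exact LinearMap.congr_fun this x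
    refine ⟨v, hv, V.sub_mem (hzV v hv) hv, sub_ne_zero.2 hv', ?_⟩
    simp only [u_sub_left hf, u_sub_right hf, mem_isoGrp.1 hzi, ← H.invol_swap hz hzi v v]
    linear_combination (f v v - f ((z : Matrix ι ι F) *ᵥ v) v) * h2
  obtain ⟨v, -, hu⟩ := moved z hz hzi hzV hne
  have hz'2 : h⁻¹ * z * h * (h⁻¹ * z * h) = 1 := by
    calc _ = h⁻¹ * (z * z) * h := by group
      _ = 1 := by rw [hz]; group
  obtain ⟨v', -, hu'⟩ := moved _ hz'2
    (Subgroup.mul_mem _ (Subgroup.mul_mem _ (inv_mem hhi) hzi) hhi) hzV' (fun e => hne (by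
      rw [show z = h * (h⁻¹ * z * h) * h⁻¹ by group, e]; group))
  refine hno _ _ hu hu' ?_
  rw [mul_mulVec, mul_mulVec, mulVec_sub, mulVec_inv_mulVec]
  simp only [u_sub_left hf, u_sub_right hf, mem_isoGrp.1 hzi, H.invol_swap hz hzi]
  linear_combination (f ((h : Matrix ι ι F) *ᵥ v') v
    - f ((h : Matrix ι ι F) *ᵥ v') ((z : Matrix ι ι F) *ᵥ v)) * h2

/-- The orthogonal reflection at an anisotropic vector. -/
noncomputable def refl (_H : HSub σ f F₀ V) (x : ι → F) (hxx : f x x ≠ 0) : GL ι F :=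
  dl x ((f x x)⁻¹ • dv f x) (-1)
    (by rw [smul_dotProduct, show dv f x ⬝ᵥ x = f x x from u_dot _H.herm x x, smul_eq_mul,
      inv_mul_cancel₀ hxx])

theorem refl_mulVec {x : ι → F} (hxx : f x x ≠ 0) (y : ι → F) :
    (H.refl x hxx : Matrix ι ι F) *ᵥ y = y - (2 * f y x / f x x) • x := by
  rw [refl, dl_mulVec, smul_dotProduct, show dv f x ⬝ᵥ y = f y x from u_dot H.herm x y,
    smul_eq_mul, Units.val_neg, Units.val_one]
  match_scalars <;> ring

theorem refl_facts {x : ι → F} (hx : x ∈ V) (hxx : f x x ≠ 0) :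
    H.refl x hxx * H.refl x hxx = 1 ∧ H.refl x hxx ∈ isoGrp f ∧ H.Stab (H.refl x hxx) ∧
      (H.refl x hxx : Matrix ι ι F).det = -1 ∧ resSp (H.refl x hxx) ≤ F ∙ x := by
  have hf := H.herm
  refine ⟨gl_ext fun y => ?_, mem_isoGrp.2 fun u v => ?_, fun v hv => ?_, ?_,
    resSp_le fun y => Submodule.mem_span_singleton.2 ⟨-(2 * f y x / f x x), ?_⟩⟩
  · rw [mul_mulVec, H.refl_mulVec, H.refl_mulVec, Units.val_one, one_mulVec, u_sub_left hf,
      u_smul_left hf]
    match_scalars <;> field_simp <;> ring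
  · simp only [H.refl_mulVec, u_sub_left hf, u_sub_right hf, u_smul_left hf, u_smul_right hf,
      map_div₀, map_mul, map_ofNat, u_conj hf]
    field_simp
    ring
  · rw [H.refl_mulVec]
    exact V.sub_mem hv (H.smul _ (F₀.div_mem (F₀.mul_mem (by
      rw [← one_add_one_eq_two]; exact F₀.add_mem F₀.one_mem F₀.one_mem) (H.rat v hv x hx))
      (H.rat x hx x hx)) x hx)
  · rw [refl, dl_det, Units.val_neg, Units.val_one]
  · rw [H.refl_mulVec]; module

theorem refl_comm {x y : ι → F} (hxx : f x x ≠ 0) (hyy : f y y ≠ 0) (hxy : f x y = 0) :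
    Commute (H.refl x hxx) (H.refl y hyy) := by
  refine gl_ext fun v => ?_
  simp only [mul_mulVec, H.refl_mulVec, u_sub_left H.herm, u_smul_left H.herm, hxy,
    u_symm_zero H.herm hxy]
  module

variable (hO : H.Over M)
include hO

/-- Either all of `M` stabilises `V` up to scalars or there is a new parameter. -/
theorem exists_new [Finite F] (hn : 13 ≤ Fintype.card ι) {g : GL ι F} (hg : g ∈ M)
    (hgS : ¬ ∃ c : F, c ≠ 0 ∧ ∀ v ∈ V, c • ((g : Matrix ι ι F) *ᵥ v) ∈ V) :
    ∃ a, H.Par M a ∧ a ∉ F₀ := by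
  by_contra hA
  push Not at hA
  have hf := H.herm
  have no : ∀ h ∈ M, (¬ ∃ c : F, c ≠ 0 ∧ ∀ v ∈ V, c • ((h : Matrix ι ι F) *ᵥ v) ∈ V) →
      ∀ u v, H.Iso0 u → H.Iso0 v → f ((h : Matrix ι ι F) *ᵥ v) u ≠ 0 := by
    intro h hh hS u v hu hv h0
    exact hS (H.exists_scalar hO (by omega) hh fun v' hv' =>
      H.rational_all hO hA (by omega) hh hv hv'
        (H.orth_rational hO hA (by omega) hh hv hu h0))
  have toStab : ∀ z ∈ M, z * z = 1 →
      (∃ c : F, c ≠ 0 ∧ ∀ v ∈ V, c • ((z : Matrix ι ι F) *ᵥ v) ∈ V) → H.Stab z :=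
    fun z _ hz ⟨c, hc, hcV⟩ => H.stab_of_scalar (by omega) hz hc hcV
  have hgi := H.iso_of_mem hO hg
  by_cases h2 : (2 : F) = 0
  · obtain ⟨e, he, -⟩ := H.isProj_id.exists_iso H (by omega)
    obtain ⟨w, d, hw, hd, we, de, dw⟩ := H.exists_indep he (by omega)
    obtain ⟨s, hs, hs0, hss⟩ := H.skew
    have hsq : ∀ v, f v v = 0 → ut hf v s * ut hf v s = 1 := fun v hv => by
      rw [ut_add hf hv, show s + s = 0 by linear_combination s * h2, ut_zero hf v hv]
    set R := ut hf e s with hR
    set t := ut hf e s * ut hf w s with ht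
    have RM : R ∈ M := H.ut_rat hO he.1 he.2.2 hs hss
    have tM : t ∈ M := M.mul_mem RM (H.ut_rat hO hw.1 hw.2.2 hs hss)
    have tV : H.Stab t := fun v hv => by
      rw [ht, mul_mulVec, ut_mulVec hf he.2.2, ut_mulVec hf hw.2.2]
      have := V.add_mem hv (H.smul _ (F₀.mul_mem hs (H.rat v hv w hw.1)) w hw.1)
      exact V.add_mem this (H.smul _ (F₀.mul_mem hs (H.rat _ this e he.1)) e he.1)
    have hcomm : Commute (ut hf e s) (ut hf w s) := gl_ext fun x => by
      simp only [mul_mulVec, ut_mulVec hf he.2.2, ut_mulVec hf hw.2.2, u_add_left hf,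
        u_smul_left hf, we, u_symm_zero hf we]
      module
    have tsq : t * t = 1 := by
      rw [ht, hcomm.symm.mul_mul_mul_comm, hsq e he.2.2, hsq w hw.2.2, one_mul]
    have ew : ∀ c : F, e ≠ c • w := fun c hc => by
      have := congrArg (fun v => f d v) hc
      simp only [u_smul_right hf, dw, mul_one, de] at this
      exact he.2.1 (by rw [hc, (map_eq_zero_iff σ σ.injective).1 this.symm, zero_smul])
    have t2 : 2 ≤ resDim t := by
      obtain ⟨e', he', -, e'e, -⟩ := H.partner he.1 he.2.1 he.2.2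
      have m1 := mem_resSp t d
      have m2 := mem_resSp t e'
      rw [ht, mul_mulVec, ut_mulVec hf he.2.2, ut_mulVec hf hw.2.2, u_add_left hf, u_smul_left hf,
        we, de, dw] at m1
      rw [ht, mul_mulVec, ut_mulVec hf he.2.2, ut_mulVec hf hw.2.2, u_add_left hf, u_smul_left hf,
        we, e'e] at m2
      have hwm : w ∈ resSp t := by
        have := (resSp t).smul_mem s⁻¹ m1
        convert this using 1
        match_scalars <;> field_simp <;> ring
      have hem : e ∈ resSp t := by
        have := (resSp t).smul_mem s⁻¹ ((resSp t).sub_mem m2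
          ((resSp t).smul_mem (s * f e' w) hwm))
        convert this using 1
        match_scalars <;> field_simp <;> ring
      have hli : LinearIndependent F ![e, w] := by
        rw [LinearIndependent.pair_iff]
        intro a b hab
        rcases eq_or_ne a 0 with rfl | ha
        · rw [zero_smul, zero_add, smul_eq_zero] at hab
          exact ⟨rfl, hab.resolve_right hw.2.1⟩
        · refine absurd ?_ (ew (-a⁻¹ * b))
          rw [mul_smul, neg_smul, eq_neg_iff_add_eq_zero, ← inv_smul_smul₀ ha e, ← smul_add, hab,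
            smul_zero]
      have := Submodule.finrank_mono (show Submodule.span F (Set.range ![e, w]) ≤ resSp t by
        rw [Submodule.span_le]; rintro _ ⟨i, rfl⟩; fin_cases i <;> assumption)
      rw [finrank_span_eq_card hli, Fintype.card_fin] at this
      exact this
    have R1 : resDim R ≤ 1 := by
      refine (Submodule.finrank_mono (resSp_le (W := F ∙ e) fun x => ?_)).trans
        ((finrank_span_le_card ({e} : Set (ι → F))).trans (by simp))
      rw [hR, ut_mulVec hf he.2.2, add_sub_cancel_left]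
      exact Submodule.mem_span_singleton.2 ⟨_, rfl⟩
    set R' := g * R * g⁻¹ with hR'
    have R'M : R' ∈ M := M.mul_mem (M.mul_mem hg RM) (M.inv_mem hg)
    have R'sq : R' * R' = 1 := by
      calc R' * R' = g * (R * R) * g⁻¹ := by rw [hR']; group
        _ = 1 := by rw [hR, hsq e he.2.2]; group
    obtain ⟨z, hz, hz1, hzt, hzR, -⟩ := exists_invol_commute (t := (⟨t, tM⟩ : M))
      (t' := ⟨R', R'M⟩) (Subtype.ext tsq) (Subtype.ext R'sq) fun k hk => by
        have := congrArg (fun k : M => resDim (k : GL ι F)) hk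
        simp only [Subgroup.coe_mul, Subgroup.coe_inv, hR', resDim_conj] at this
        omega
    have zt : (z : GL ι F) * t = t * z := congrArg Subtype.val hzt.eq
    have zR : (z : GL ι F) * R' = R' * z := congrArg Subtype.val hzR.eq
    have hz' : (z : GL ι F) * z = 1 := congrArg Subtype.val hz
    have tne : t ≠ 1 := fun e => by
      rw [e] at t2
      have : resSp (1 : GL ι F) = ⊥ := le_bot_iff.1 (resSp_le fun x => by simp)
      rw [resDim, this, finrank_bot] at t2
      omega
    have zS : H.Stab z := toStab _ z.2 hz' <| by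
      by_contra hS
      refine H.no_invol_two h2 (H.iso_of_mem hO z.2) (no _ z.2 hS) tsq (H.iso_of_mem hO tM) tV
        ?_ tne
      rwa [mul_assoc, ← zt, inv_mul_cancel_left]
    set z' := g⁻¹ * (z : GL ι F) * g with hz'def
    have z'M : z' ∈ M := M.mul_mem (M.mul_mem (M.inv_mem hg) z.2) hg
    have z'sq : z' * z' = 1 := by
      calc z' * z' = g⁻¹ * ((z : GL ι F) * z) * g := by rw [hz'def]; group
        _ = 1 := by rw [hz']; group
    have z'R : z' * R = R * z' := by
      calc z' * R = g⁻¹ * ((z : GL ι F) * R') * g := by rw [hz'def, hR']; group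
        _ = g⁻¹ * (R' * z) * g := by rw [zR]
        _ = R * z' := by rw [hz'def, hR']; group
    have RV : H.Stab R := fun v hv => by
      rw [hR, ut_mulVec hf he.2.2]
      exact V.add_mem hv (H.smul _ (F₀.mul_mem hs (H.rat v hv e he.1)) e he.1)
    have z'S : H.Stab z' := toStab _ z'M z'sq <| by
      by_contra hS
      refine H.no_invol_two h2 (H.iso_of_mem hO z'M) (no _ z'M hS) (hsq e he.2.2)
        (H.iso_of_mem hO RM) RV (z := R) ?_ ?_
      · rwa [mul_assoc, ← z'R, inv_mul_cancel_left]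
      · intro e1
        have := congrArg (fun k : GL ι F => (k : Matrix ι ι F) *ᵥ d) e1
        obtain ⟨e', he', -, e'e, -⟩ := H.partner he.1 he.2.1 he.2.2
        have h3 := congrArg (fun k : GL ι F => (k : Matrix ι ι F) *ᵥ e') e1
        simp only [hR, ut_mulVec hf he.2.2, e'e, mul_one, Units.val_one, one_mulVec,
          add_eq_left, smul_eq_zero] at h3
        exact h3.elim hs0 he.2.1
    exact H.no_invol_two h2 hgi (no g hg hgS) hz' (H.iso_of_mem hO z.2) zS z'S
      fun e => hz1 (Subtype.ext e)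
  · obtain ⟨x, hx, hxo⟩ := H.exists_frame (m := 4) H.isProj_id (by omega)
    have fact := fun i => H.refl_facts (hx i).1 (hx i).2.2
    set r := fun i => H.refl (x i) (hx i).2.2 with hr
    have cm : ∀ {i j : Fin 4}, i ≠ j → Commute (r i) (r j) := fun hij =>
      H.refl_comm (hx _).2.2 (hx _).2.2 (hxo hij)
    set t := r 0 * r 1 with ht
    set t4 := r 0 * r 1 * (r 2 * r 3) with ht4
    have sq2 : ∀ {i j : Fin 4}, i ≠ j → r i * r j * (r i * r j) = 1 := fun hij => by
      rw [(cm hij).symm.mul_mul_mul_comm, (fact _).1, (fact _).1, one_mul]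
    have tsq : t * t = 1 := sq2 (by decide)
    have t4sq : t4 * t4 = 1 := by
      have : Commute (r 0 * r 1) (r 2 * r 3) :=
        Commute.mul_left ((cm (by decide)).mul_right (cm (by decide)))
          ((cm (by decide)).mul_right (cm (by decide)))
      rw [ht4, this.symm.mul_mul_mul_comm, sq2 (by decide), sq2 (by decide), one_mul]
    have sl2 : ∀ i j : Fin 4, r i * r j ∈ isoGrp f ⊓ Geo.specialLinear ι F := fun i j =>
      ⟨Subgroup.mul_mem _ (fact i).2.1 (fact j).2.1, by
        show Matrix.GeneralLinearGroup.det (r i * r j) = 1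
        refine Units.ext ?_
        rw [Matrix.GeneralLinearGroup.val_det_apply, Units.val_mul, det_mul, (fact i).2.2.2.1,
          (fact j).2.2.2.1, Units.val_one]
        norm_num⟩
    have st2 : ∀ i j : Fin 4, H.Stab (r i * r j) := fun i j v hv => by
      rw [mul_mulVec]; exact (fact i).2.2.1 _ ((fact j).2.2.1 v hv)
    have t4V : H.Stab t4 := fun v hv => by
      rw [ht4, mul_mulVec]; exact st2 0 1 _ (st2 2 3 v hv)
    have tV : H.Stab t := st2 0 1
    have tM : t ∈ M := hO.2 _ (sl2 0 1) tV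
    have t4M : t4 ∈ M := hO.2 _ (Subgroup.mul_mem _ (sl2 0 1) (sl2 2 3)) t4V
    have hli : LinearIndependent F x := by
      rw [Fintype.linearIndependent_iff]
      intro c hc i
      let L : (ι → F) →ₗ[F] F :=
        { toFun := fun y => f y (x i)
          map_add' := fun y z => u_add_left hf y z _
          map_smul' := fun c y => u_smul_left hf c y _ }
      have h1 := congrArg L hc
      rw [map_sum, map_zero, Finset.sum_eq_single i] at h1
      · rw [map_smul, smul_eq_mul] at h1
        exact (mul_eq_zero.1 h1).resolve_right (hx i).2.2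
      · intro j _ hji
        rw [map_smul, show L (x j) = 0 from hxo hji, smul_zero]
      · simp
    have rneg : ∀ i, (r i : Matrix ι ι F) *ᵥ x i = -x i := fun i => by
      simp only [hr]
      rw [H.refl_mulVec, mul_div_assoc, div_self (hx i).2.2, mul_one, two_smul]; abel
    have rfix : ∀ {i j}, i ≠ j → (r i : Matrix ι ι F) *ᵥ x j = x j := fun hij => by
      simp only [hr]
      rw [H.refl_mulVec, hxo (Ne.symm hij), mul_zero, zero_div, zero_smul, sub_zero]
    have rd : ∀ i, resDim (r i) ≤ 1 := fun i =>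
      (Submodule.finrank_mono (fact i).2.2.2.2).trans
        ((finrank_span_le_card ({x i} : Set (ι → F))).trans (by simp))
    have d2 : resDim t = 2 := by
      refine le_antisymm ((resDim_mul _ _).trans (Nat.add_le_add (rd 0) (rd 1))) ?_
      have hle : Submodule.span F (Set.range (x ∘ ![0, 1])) ≤ resSp t := by
        rw [Submodule.span_le]
        rintro _ ⟨i, rfl⟩
        have key : (t : Matrix ι ι F) *ᵥ x (![0, 1] i) = -x (![0, 1] i) := by
          rw [ht, mul_mulVec]; fin_cases i <;> simp [mulVec_neg, rneg, rfix]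
        have := mem_resSp t (x (![0, 1] i))
        rw [key] at this
        have := (resSp t).smul_mem (-(2 : F)⁻¹) this
        rw [SetLike.mem_coe, Function.comp_apply]
        rwa [show (-(2 : F)⁻¹) • (-x (![0, 1] i) - x (![0, 1] i)) = x (![0, 1] i) by
          match_scalars; field_simp; ring] at this
      have := Submodule.finrank_mono hle
      rwa [finrank_span_eq_card (hli.comp _ (by decide)), Fintype.card_fin] at this
    have d4 : resDim t4 = 4 := by
      refine le_antisymm ((resDim_mul _ _).trans (Nat.add_le_add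
        ((resDim_mul _ _).trans (Nat.add_le_add (rd 0) (rd 1)))
        ((resDim_mul _ _).trans (Nat.add_le_add (rd 2) (rd 3))))) ?_
      have hle : Submodule.span F (Set.range x) ≤ resSp t4 := by
        rw [Submodule.span_le]
        rintro _ ⟨i, rfl⟩
        have key : (t4 : Matrix ι ι F) *ᵥ x i = -x i := by
          rw [ht4, mul_mulVec, mul_mulVec, mul_mulVec]; fin_cases i <;> simp [mulVec_neg, rneg, rfix]
        have := mem_resSp t4 (x i)
        rw [key] at this
        have := (resSp t4).smul_mem (-(2 : F)⁻¹) this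
        rw [SetLike.mem_coe]
        rwa [show (-(2 : F)⁻¹) • (-x i - x i) = x i by match_scalars; field_simp; ring] at this
      have := Submodule.finrank_mono hle
      rwa [finrank_span_eq_card hli, Fintype.card_fin] at this
    set t' := g * t4 * g⁻¹ with ht'
    have t'M : t' ∈ M := M.mul_mem (M.mul_mem hg t4M) (M.inv_mem hg)
    have t'sq : t' * t' = 1 := by
      calc t' * t' = g * (t4 * t4) * g⁻¹ := by rw [ht']; group
        _ = 1 := by rw [t4sq]; group
    obtain ⟨z, hz, hz1, hzt, hzt', k, hk⟩ := exists_invol_commute (t := (⟨t, tM⟩ : M))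
      (t' := ⟨t', t'M⟩) (Subtype.ext tsq) (Subtype.ext t'sq) fun k hk => by
        have := congrArg (fun k : M => resDim (k : GL ι F)) hk
        simp only [Subgroup.coe_mul, Subgroup.coe_inv, ht', resDim_conj] at this
        omega
    have zt : (z : GL ι F) * t = t * z := congrArg Subtype.val hzt.eq
    have zt' : (z : GL ι F) * t' = t' * z := congrArg Subtype.val hzt'.eq
    have hz' : (z : GL ι F) * z = 1 := congrArg Subtype.val hz
    have hzsl : (z : GL ι F) ∈ Geo.specialLinear ι F := (hO.1 z.2).2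
    have r2 : 2 ≤ resDim (z : GL ι F) := by
      have h0 : resDim (z : GL ι F) ≠ 0 := fun h => hz1 (Subtype.ext (resDim_eq_zero h))
      have h1 := resDim_ne_one h2 hz' hzsl
      omega
    have r6 : resDim (z : GL ι F) ≤ 6 := by
      have hzt4 : resDim ((z : GL ι F) * t) ≤ 4 := by
        rcases hk with hk | hk <;>
          have := congrArg (fun k : M => resDim (k : GL ι F)) hk <;>
          simp only [Subgroup.coe_mul, Subgroup.coe_inv, ht', resDim_conj] at this <;> omega
      have := resDim_mul ((z : GL ι F) * t) t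
      rw [mul_assoc, tsq, mul_one] at this
      omega
    have zS : H.Stab z := toStab _ z.2 hz' <| by
      by_contra hS
      refine H.no_invol_odd h2 (H.iso_of_mem hO z.2) (no _ z.2 hS) tsq (H.iso_of_mem hO tM) tV
        ?_ d2.ge (by omega)
      rwa [mul_assoc, ← zt, inv_mul_cancel_left]
    set z' := g⁻¹ * (z : GL ι F) * g with hz'def
    have z'M : z' ∈ M := M.mul_mem (M.mul_mem (M.inv_mem hg) z.2) hg
    have z'sq : z' * z' = 1 := by
      calc z' * z' = g⁻¹ * ((z : GL ι F) * z) * g := by rw [hz'def]; group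
        _ = 1 := by rw [hz']; group
    have z't4 : z' * t4 = t4 * z' := by
      calc z' * t4 = g⁻¹ * ((z : GL ι F) * t') * g := by rw [hz'def, ht']; group
        _ = g⁻¹ * (t' * z) * g := by rw [zt']
        _ = t4 * z' := by rw [hz'def, ht']; group
    have z'S : H.Stab z' := toStab _ z'M z'sq <| by
      by_contra hS
      refine H.no_invol_odd h2 (H.iso_of_mem hO z'M) (no _ z'M hS) t4sq (H.iso_of_mem hO t4M) t4V
        ?_ (by omega) (by omega)
      rwa [mul_assoc, ← z't4, inv_mul_cancel_left]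
    exact H.no_invol_odd h2 hgi (no g hg hgS) hz' (H.iso_of_mem hO z.2) zS z'S r2 (by omega)

end HSub

end Cfsg.Agent.Symplectic
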