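import Cfsg.Agent.Symplectic.AutCount

/-! The graph automorphism of `Sp₄` in characteristic two, by 2 × 2 minors. -/

set_option autoImplicit false
set_option linter.unusedSectionVars false

namespace Cfsg.Agent.Symplectic.Graph

open scoped Matrix
open Matrix Module
open Cfsg.Agent.Symplectic

variable {F : Type*} [Field F]

abbrev I4 : Type := Fin 2 ⊕ Fin 2

local notation "𝕍" => I4 → F
local notation "f⟪" u ", " v "⟫" => Cfsg.sympForm 2 F u v

/-- the four isotropic coordinate pairs -/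
def pr : I4 → I4 × I4 := Sum.elim
  ![(.inl 0, .inl 1), (.inl 0, .inr 1)] ![(.inr 0, .inr 1), (.inl 1, .inr 0)]

/-- 2 × 2 minors on isotropic pairs -/
def tM (A : Mat 2 F) : Mat 2 F := Matrix.of fun K L =>
  A (pr K).1 (pr L).1 * A (pr K).2 (pr L).2 + A (pr K).1 (pr L).2 * A (pr K).2 (pr L).1

variable [CharP F 2]

theorem two0 : (2 : F) = 0 := CharTwo.two_eq_zero

theorem sf_pr (K : I4) :
    f⟪(Pi.single (pr K).1 1 : 𝕍), (Pi.single (pr K).2 1 : 𝕍)⟫ = 0 := by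
  rw [sympForm_eq]
  rcases K with i | i <;> fin_cases i <;> simp [pr]

theorem col_rel (s : Matrix.symplecticGroup (Fin 2) F) (L : I4) :
    (s : Mat 2 F) (.inl 0) (pr L).1 * (s : Mat 2 F) (.inr 0) (pr L).2 +
      (s : Mat 2 F) (.inr 0) (pr L).1 * (s : Mat 2 F) (.inl 0) (pr L).2 +
      ((s : Mat 2 F) (.inl 1) (pr L).1 * (s : Mat 2 F) (.inr 1) (pr L).2 +
      (s : Mat 2 F) (.inr 1) (pr L).1 * (s : Mat 2 F) (.inl 1) (pr L).2) = 0 := by
  have h := sf_invariant s (Pi.single (pr L).1 1) (Pi.single (pr L).2 1)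
  rw [sf_pr, sympForm_eq, Fin.sum_univ_two] at h
  simp only [Matrix.mulVec_single_one, Matrix.col_apply, CharTwo.sub_eq_add] at h
  linear_combination h

/-- Cauchy–Binet on the isotropic pairs -/
theorem binet (a0 a1 a2 a3 b0 b1 b2 b3 c0 c1 c2 c3 d0 d1 d2 d3 : F)
    (hA : (a0 * b2 + a2 * b0) + (a1 * b3 + a3 * b1) = 0)
    (hB : (c0 * d2 + c2 * d0) + (c1 * d3 + c3 * d1) = 0) :
    (a0 * b1 + a1 * b0) * (c0 * d1 + c1 * d0) + (a0 * b3 + a3 * b0) * (c0 * d3 + c3 * d0) +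
        ((a2 * b3 + a3 * b2) * (c2 * d3 + c3 * d2) + (a1 * b2 + a2 * b1) * (c1 * d2 + c2 * d1)) =
      (a0 * c0 + a1 * c1 + (a2 * c2 + a3 * c3)) * (b0 * d0 + b1 * d1 + (b2 * d2 + b3 * d3)) +
        (a0 * d0 + a1 * d1 + (a2 * d2 + a3 * d3)) * (b0 * c0 + b1 * c1 + (b2 * c2 + b3 * c3)) := by
  linear_combination
    -(c0 * d2 + c2 * d0) * hA - (a1 * b3 + a3 * b1) * hB
      - (a0 * b0 * c0 * d0 + a1 * b1 * c1 * d1 + a2 * b2 * c2 * d2 + a3 * b3 * c3 * d3
          - (a1 * b3 + a3 * b1) * (c0 * d2 + c2 * d0)) * (two0 (F := F))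

theorem tM_mul (s t : Matrix.symplecticGroup (Fin 2) F) :
    tM ((s * t : Matrix.symplecticGroup (Fin 2) F) : Mat 2 F) = tM (s : Mat 2 F) * tM (t : Mat 2 F) := by
  ext K L
  have hA := col_rel (⟨(s : Mat 2 F)ᵀ, SymplecticGroup.transpose_mem s.2⟩ :
    Matrix.symplecticGroup (Fin 2) F) K
  simp only [Matrix.transpose_apply] at hA
  have hB := col_rel t L
  simp only [Submonoid.coe_mul, tM, Matrix.of_apply, Matrix.mul_apply, Fintype.sum_sum_type,
    Fin.sum_univ_two]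
  have hb := binet _ _ _ _ _ _ _ _ _ _ _ _ _ _ _ _ hA hB
  simp only [pr, Sum.elim_inl, Sum.elim_inr, Matrix.cons_val_zero, Matrix.cons_val_one] at hb ⊢
  linear_combination -hb

theorem tM_one : tM (1 : Mat 2 F) = 1 := by
  ext K L
  rcases K with i | i <;> fin_cases i <;> rcases L with j | j <;> fin_cases j <;>
    simp [tM, pr, Matrix.one_apply, CharTwo.add_self_eq_zero]

/-- the minors as a homomorphism -/
def tauM : Matrix.symplecticGroup (Fin 2) F →* Mat 2 F where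
  toFun s := tM (s : Mat 2 F)
  map_one' := tM_one
  map_mul' := tM_mul

theorem T_entry (v : 𝕍) (c : F) (a b : I4) :
    (T v c : Mat 2 F) a b = (if a = b then 1 else 0) + c * v a * v b.swap := by
  have h := congrFun (T_mulVec v (Pi.single b 1) c) a
  rw [Matrix.mulVec_single_one, Matrix.col_apply] at h
  rw [h, Pi.add_apply, Pi.smul_apply, smul_eq_mul, Pi.single_apply, sympForm_eq, Fin.sum_univ_two]
  congr 1
  rcases b with i | i <;> fin_cases i <;>
    simp [CharTwo.sub_eq_add, CharTwo.neg_eq] <;> ring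

theorem numerals : (2 : F) = 0 ∧ (3 : F) = 1 ∧ (4 : F) = 0 ∧ (5 : F) = 1 ∧ (6 : F) = 0 ∧
    (7 : F) = 1 ∧ (8 : F) = 0 ∧ (10 : F) = 0 ∧ (12 : F) = 0 ∧ (14 : F) = 0 ∧ (16 : F) = 0 ∧
    (18 : F) = 0 ∧ (20 : F) = 0 ∧ (24 : F) = 0 ∧ (32 : F) = 0 := by
  have h := two0 (F := F)
  refine ⟨h, ?_, ?_, ?_, ?_, ?_, ?_, ?_, ?_, ?_, ?_, ?_, ?_, ?_, ?_⟩
  exacts [by linear_combination h, by linear_combination 2 * h, by linear_combination 2 * h,
    by linear_combination 3 * h, by linear_combination 3 * h, by linear_combination 4 * h,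
    by linear_combination 5 * h, by linear_combination 6 * h, by linear_combination 7 * h,
    by linear_combination 8 * h, by linear_combination 9 * h, by linear_combination 10 * h,
    by linear_combination 12 * h, by linear_combination 16 * h]

theorem tauM_T_mem (v : 𝕍) (c : F) : tauM (T v c) ∈ Matrix.symplecticGroup (Fin 2) F := by
  rw [mem_symplectic_iff_form]
  intro u w
  simp [tauM, tM, pr, T_entry, sympForm_eq, Matrix.mulVec, dotProduct, Fin.sum_univ_two,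
    Fintype.sum_sum_type, CharTwo.sub_eq_add]
  ring_nf
  simp [numerals]

variable [Finite F]

theorem tauM_mem (s : Matrix.symplecticGroup (Fin 2) F) :
    tauM s ∈ Matrix.symplecticGroup (Fin 2) F := by
  have h : Submonoid.closure (TSet 2 F) ≤ (Matrix.symplecticGroup (Fin 2) F).comap tauM := by
    rw [Submonoid.closure_le]
    rintro _ ⟨v, c, rfl⟩
    exact tauM_T_mem v c
  apply h
  rw [← Subgroup.closure_toSubmonoid_of_finite, closure_TSet]
  trivial

/-- the graph endomorphism of `Sp₄` -/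
def tau0 : Matrix.symplecticGroup (Fin 2) F →* Matrix.symplecticGroup (Fin 2) F :=
  tauM.codRestrict _ tauM_mem

theorem tau0_coe (s : Matrix.symplecticGroup (Fin 2) F) : (tau0 s : Mat 2 F) = tM (s : Mat 2 F) :=
  rfl

/-- squaring -/
noncomputable def fr (F : Type*) [Field F] [CharP F 2] [Finite F] : F ≃+* F :=
  RingEquiv.ofBijective (frobenius F 2)
    (Finite.injective_iff_bijective.mp (frobenius F 2).injective)

theorem fr_apply (x : F) : fr F x = x ^ 2 := rfl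

theorem semiSp_one_T (σ : F ≃+* F) (v : 𝕍) (c : F) :
    semiSp (1 : Cfsg.GSp 2 F) σ (T v c) = T (sigVec σ v) (σ c) := by
  have h := semiSp_T (1 : Cfsg.GSp 2 F) σ (one_ne_zero (α := F))
    (fun u v => by simp [semiVec, sf_sigVec]) v c
  rw [h]
  simp [semiVec]

theorem tau0_sq (s : Matrix.symplecticGroup (Fin 2) F) :
    tau0 (tau0 s) = semiSp (1 : Cfsg.GSp 2 F) (fr F) s := by
  suffices h : (tau0.comp tau0 : Matrix.symplecticGroup (Fin 2) F →* _) =
      (semiSp (1 : Cfsg.GSp 2 F) (fr F)).toMonoidHom from DFunLike.congr_fun h s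
  refine MonoidHom.eq_of_eqOn_dense (closure_TSet 2 F) ?_
  rintro _ ⟨v, c, rfl⟩
  show tau0 (tau0 (T v c)) = semiSp (1 : Cfsg.GSp 2 F) (fr F) (T v c)
  rw [semiSp_one_T]
  apply Subtype.ext
  ext K L
  rcases K with i | i <;> fin_cases i <;> rcases L with j | j <;> fin_cases j <;>
    (simp [tau0_coe, tM, pr, T_entry, sigVec, fr_apply]
     ring_nf
     try simp [numerals])

/-- the graph automorphism of `Sp₄` -/
noncomputable def tauSp :
    Matrix.symplecticGroup (Fin 2) F ≃* Matrix.symplecticGroup (Fin 2) F :=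
  MulEquiv.ofBijective tau0 (Finite.injective_iff_bijective.mp fun a b h =>
    (semiSp (1 : Cfsg.GSp 2 F) (fr F)).injective (by rw [← tau0_sq, h, tau0_sq]))

/-- the graph automorphism of `PSp₄` -/
noncomputable def tauP : MulAut (Cfsg.PSp 2 F) :=
  QuotientGroup.congr _ _ tauSp (center_map_aut _)

theorem tauP_psp (s : Matrix.symplecticGroup (Fin 2) F) : tauP (psp s) = psp (tau0 s) := rfl

theorem tauP_sq : tauP * tauP = semiPSp (1 : Cfsg.GSp 2 F) (fr F) :=
  MulEquiv.ext fun x => by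
    obtain ⟨s, rfl⟩ := psp_surjective x
    rw [MulAut.mul_apply, tauP_psp, tauP_psp, semiPSp_psp, tau0_sq]

/-- the first basis vector -/
def e0 : 𝕍 := Pi.single (.inl 0) 1

/-- the second basis vector -/
def e1 : 𝕍 := Pi.single (.inl 1) 1

theorem e0_ne : (e0 : 𝕍) ≠ 0 := by simp [e0]

theorem tau_T_apply (c : F) (y : 𝕍) :
    (tau0 (T e0 c) : Mat 2 F) *ᵥ y = y + c • (f⟪y, e0⟫ • e1 + f⟪y, e1⟫ • e0) := by
  funext a
  rcases a with i | i <;> fin_cases i <;>
    simp [tau0_coe, tM, pr, T_entry, e0, e1, sympForm_eq, Matrix.mulVec, dotProduct,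
      Fintype.sum_sum_type, Fin.sum_univ_two] <;> ring

variable [Fintype F]

theorem psp_inj {s t : Matrix.symplecticGroup (Fin 2) F} (h : psp s = psp t) : s = t := by
  obtain ⟨c, hc2, hc⟩ := psp_eq_iff.mp h
  have hc1 : c = 1 := by
    rcases sq_eq_one_iff.mp hc2 with h | h
    · exact h
    · rw [h, CharTwo.neg_eq]
  exact sp_ext fun v => by rw [hc, hc1, one_smul]

theorem not_isTr_tau : ¬ IsTr (tauP (psp (T (e0 : 𝕍) 1))) := by
  rintro ⟨v, c, -, -, h⟩
  rw [tauP_psp] at h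
  have he := psp_inj h
  have h0 := congrArg (fun s : Matrix.symplecticGroup (Fin 2) F =>
    (s : Mat 2 F) *ᵥ (Pi.single (.inr 0) 1 : 𝕍)) he
  have h1 := congrArg (fun s : Matrix.symplecticGroup (Fin 2) F =>
    (s : Mat 2 F) *ᵥ (Pi.single (.inr 1) 1 : 𝕍)) he
  simp only [tau_T_apply, T_mulVec, add_right_inj, one_smul] at h0 h1
  have a0 := congrFun h0 (.inl 0)
  have a1 := congrFun h0 (.inl 1)
  have b0 := congrFun h1 (.inl 0)
  simp [e0, e1, sympForm_eq] at a0 a1 b0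
  grind

theorem isTr_conj {x y : Cfsg.PSp 2 F} (hx : IsTr x) (h : IsConj x y) : IsTr y := by
  obtain ⟨v, c, hv, hc, rfl⟩ := hx
  obtain ⟨g, hg⟩ := isConj_iff.mp h
  obtain ⟨g, rfl⟩ := psp_surjective g
  refine ⟨(g : Mat 2 F) *ᵥ v, c, sp_mulVec_ne_zero g hv, hc, ?_⟩
  rw [← hg, ← map_inv, ← map_mul, ← map_mul, T_conj]

theorem isTr_isConj {x y : Cfsg.PSp 2 F} (hx : IsTr x) (hy : IsTr y) : IsConj x y := by
  have key : ∀ {z : Cfsg.PSp 2 F}, IsTr z → ∃ w : 𝕍, w ≠ 0 ∧ z = psp (T w 1) := by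
    rintro z ⟨v, c, hv, hc, rfl⟩
    obtain ⟨a, ha⟩ := (fr F).surjective c
    rw [fr_apply] at ha
    refine ⟨a • v, smul_ne_zero ?_ hv, by rw [T_smul, mul_one, ha]⟩
    rintro rfl; exact hc (by simpa using ha.symm)
  obtain ⟨v, hv, rfl⟩ := key hx
  obtain ⟨w, hw, rfl⟩ := key hy
  obtain ⟨g, hg⟩ := sp_transitive hv hw
  exact isConj_iff.mpr ⟨psp g, by rw [← map_inv, ← map_mul, ← map_mul, T_conj, hg]⟩

theorem small_cases (x : Cfsg.PSp 2 F)
    (hx : x ≠ 1 ∧ x ^ 2 = 1 ∧ Nat.card {y // IsConj x y} < Fintype.card F ^ (2 * 2)) :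
    IsTr x ∨ ∃ c : F, c ≠ 0 ∧ IsConj (tauP (psp (T (e0 : 𝕍) c))) x := by
  haveI : Fact (Nat.Prime 2) := ⟨Nat.prime_two⟩
  obtain ⟨hne, hp, hlt⟩ := hx
  obtain ⟨s, rfl, hs⟩ := exists_lift (p := 2) (by omega) hp
  by_cases hnt : ∃ v c, v ≠ 0 ∧ c ≠ 0 ∧ s = T v c
  · obtain ⟨v, c, hv, hc, he⟩ := hnt
    exact Or.inl ⟨v, c, hv, hc, by rw [he]⟩
  refine Or.inr ?_
  have hs1 : s ≠ 1 := fun h => hne (by rw [h, map_one])
  have hcls : Nat.card {t // IsConj s t} ≤ Nat.card {y // IsConj (psp s) y} :=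
    Nat.card_le_card_of_injective
      (fun t : {t // IsConj s t} => (⟨psp t.1, psp.map_isConj t.2⟩ : {y // IsConj (psp s) y}))
      (fun t t' h => Subtype.ext (psp_inj (congrArg Subtype.val h)))
  have hlt' := lt_of_le_of_lt hcls hlt
  have hR : 2 ≤ finrank F (LinearMap.range (nil s)) := by
    by_contra h
    exact hnt (exists_T_of_finrank_one s hs1 (by omega))
  have h1 : 1 ≤ finrank F (fixRange s) :=
    Submodule.one_le_finrank_iff.mpr (fixRange_ne_bot (p := 2) (by omega) hs hs1)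
  have hd : 2 ≤ finrank F (fixRange s) := by
    by_contra hd
    exact absurd (class_ge_of_one (p := 2) le_rfl hs hR (by omega)) (not_le.mpr hlt')
  have halt : ∀ z, f⟪nil s z, z⟫ = 0 := by
    intro z
    by_contra hz
    exact absurd (class_ge_of_four rfl hd (Or.inr ⟨z, hz⟩)) (not_le.mpr hlt')
  have hdim : finrank F (Fin 2 ⊕ Fin 2 → F) = 4 := by simp
  have hsum := (nil s).finrank_range_add_finrank_ker
  have r1 : finrank F (fixRange s) ≤ finrank F (LinearMap.range (nil s)) :=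
    Submodule.finrank_mono inf_le_left
  have r2 : finrank F (fixRange s) ≤ finrank F (LinearMap.ker (nil s)) :=
    Submodule.finrank_mono inf_le_right
  have hd2 : finrank F (fixRange s) ≤ 2 := by
    let b0 := Module.finBasis F (fixRange s)
    let a' : Frame 2 F (finrank F (fixRange s)) := ⟨fun i => (b0 i : 𝕍),
      b0.linearIndependent.map' (fixRange s).subtype (Submodule.ker_subtype _),
      fun i j => sf_fixRange s (b0 i).2 (b0 j).2⟩
    have h1 := Submodule.finrank_mono (span_le_perp a')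
    rw [finrank_span_eq_card a'.2.1, finrank_perp a'.2.1, Fintype.card_fin] at h1
    omega
  have hrange : fixRange s = LinearMap.range (nil s) :=
    Submodule.eq_of_le_of_finrank_le inf_le_left (by omega)
  have hker : fixRange s = LinearMap.ker (nil s) :=
    Submodule.eq_of_le_of_finrank_le inf_le_right (by omega)
  let b := Module.finBasisOfFinrankEq F (fixRange s) (show finrank F (fixRange s) = 2 by omega)
  obtain ⟨x0, hx0⟩ : ∃ x0, nil s x0 = (b 0 : 𝕍) := (b 0).2.1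
  obtain ⟨y0, hy0⟩ : ∃ y0, nil s y0 = (b 1 : 𝕍) := (b 1).2.1
  set u : 𝕍 := (b 0 : 𝕍) with hu
  set w : 𝕍 := (b 1 : 𝕍) with hw
  have hli : LinearIndependent F ![u, w] := by
    have := b.linearIndependent.map' (fixRange s).subtype (Submodule.ker_subtype _)
    rwa [show (⇑(fixRange s).subtype ∘ ⇑b) = ![u, w] from by
      funext i; fin_cases i <;> rfl] at this
  have huw : f⟪u, w⟫ = 0 := sf_fixRange s (b 0).2 (b 1).2
  have hux : f⟪u, x0⟫ = 0 := hx0 ▸ halt x0
  have hwy : f⟪w, y0⟫ = 0 := hy0 ▸ halt y0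
  have hwx : f⟪w, x0⟫ = f⟪u, y0⟫ := by
    have h1 := halt (x0 + y0)
    rw [map_add, hx0, hy0, sf_add_left, sf_add_right, sf_add_right, hux, hwy, zero_add,
      add_zero, CharTwo.add_eq_zero] at h1
    exact h1.symm
  have hdec : ∀ z, ∃ a c : F, nil s z = a • u + c • w ∧ z - a • x0 - c • y0 ∈ fixRange s := by
    intro z
    have hz : nil s z ∈ fixRange s := by rw [hrange]; exact ⟨z, rfl⟩
    have he := congrArg Subtype.val (b.sum_repr ⟨_, hz⟩)
    simp only [Fin.sum_univ_two, Submodule.coe_add, Submodule.coe_smul] at he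
    refine ⟨_, _, he.symm, ?_⟩
    refine (SetLike.ext_iff.mp hker _).mpr ?_
    rw [LinearMap.mem_ker, map_sub, map_sub, map_smul, map_smul, hx0, hy0, hu, hw, sub_sub]
    exact sub_eq_zero.mpr he.symm
  have hμ : f⟪u, y0⟫ ≠ 0 := by
    intro h0
    obtain ⟨z, hz⟩ := sf_exists_one (v := u) (hli.ne_zero 0)
    obtain ⟨a, c, -, hr⟩ := hdec z
    have h4 := sf_fixRange s (a := u) (b 0).2 hr
    rw [show z - a • x0 - c • y0 = z + (-a) • x0 + (-c) • y0 by module, sf_add_right, sf_add_right,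
      sf_smul_right, sf_smul_right, hux, h0, hz, mul_zero, mul_zero, add_zero, add_zero] at h4
    exact one_ne_zero h4
  obtain ⟨g, hg⟩ := exists_sp_map ![(e0 : 𝕍), e1] ![u, w] (by
    rw [LinearIndependent.pair_iff]
    intro a c h
    have h0 := congrFun h (.inl 0)
    have h1 := congrFun h (.inl 1)
    simp [e0, e1] at h0 h1
    exact ⟨h0, h1⟩) hli (by
    intro i j
    fin_cases i <;> fin_cases j <;> simp [sf_self, huw, sf_swap w u, e0, e1, sympForm_eq])
  have hgu : (g : Mat 2 F) *ᵥ (e0 : 𝕍) = u := hg 0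
  have hgw : (g : Mat 2 F) *ᵥ (e1 : 𝕍) = w := hg 1
  refine ⟨f⟪u, y0⟫⁻¹, inv_ne_zero hμ, ?_⟩
  rw [tauP_psp]
  refine psp.map_isConj (isConj_iff.mpr ⟨g, sp_ext fun z => ?_⟩)
  obtain ⟨z', rfl⟩ : ∃ z', (g : Mat 2 F) *ᵥ z' = z :=
    ⟨((g⁻¹ : Matrix.symplecticGroup (Fin 2) F) : Mat 2 F) *ᵥ z, by
      rw [Matrix.mulVec_mulVec, ← Submonoid.coe_mul, mul_inv_cancel, Submonoid.coe_one,
        Matrix.one_mulVec]⟩
  rw [Matrix.mulVec_mulVec, ← Submonoid.coe_mul, inv_mul_cancel_right, Submonoid.coe_mul,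
    ← Matrix.mulVec_mulVec, tau_T_apply, Matrix.mulVec_add, Matrix.mulVec_smul, Matrix.mulVec_add,
    Matrix.mulVec_smul, Matrix.mulVec_smul, ← sf_invariant g z' e0, ← sf_invariant g z' e1,
    hgu, hgw]
  set z := (g : Mat 2 F) *ᵥ z'
  obtain ⟨a, c, hz, hr⟩ := hdec z
  set r := z - a • x0 - c • y0 with hrdef
  have hzu : f⟪z, u⟫ = c * f⟪u, y0⟫ := by
    have he : z = r + a • x0 + c • y0 := by rw [hrdef]; abel
    rw [he, sf_add_left, sf_add_left, sf_smul_left, sf_smul_left, sf_fixRange s hr (b 0).2,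
      sf_swap x0 u, sf_swap y0 u, hux, CharTwo.neg_eq, CharTwo.neg_eq, mul_zero, zero_add, zero_add]
  have hzw : f⟪z, w⟫ = a * f⟪u, y0⟫ := by
    have he : z = r + a • x0 + c • y0 := by rw [hrdef]; abel
    rw [he, sf_add_left, sf_add_left, sf_smul_left, sf_smul_left, sf_fixRange s hr (b 1).2,
      sf_swap x0 w, sf_swap y0 w, hwy, hwx, CharTwo.neg_eq, CharTwo.neg_eq, mul_zero, add_zero,
      zero_add]
  rw [hzu, hzw, smul_add, smul_smul, smul_smul, ← mul_left_comm, inv_mul_cancel₀ hμ, mul_one,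
    ← mul_left_comm, inv_mul_cancel₀ hμ, mul_one]
  rw [nil_apply, sub_eq_iff_eq_add] at hz
  rw [hz]
  abel

theorem pres_cases (φ : MulAut (Cfsg.PSp 2 F)) : Pres φ ∨ Pres (tauP⁻¹ * φ) := by
  haveI : Fact (Nat.Prime 2) := ⟨Nat.prime_two⟩
  have hx0 : IsTr (psp (T (e0 : 𝕍) 1)) := ⟨e0, 1, e0_ne, one_ne_zero, rfl⟩
  have key : ∀ ψ : MulAut (Cfsg.PSp 2 F), IsTr (ψ (psp (T (e0 : 𝕍) 1))) → Pres ψ :=
    fun ψ h x hx => isTr_conj h (ψ.toMonoidHom.map_isConj (isTr_isConj hx0 hx))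
  rcases small_cases _ (small_map (p := 2) φ (isTr_small (p := 2) hx0)) with h | ⟨c, hc, h⟩
  · exact Or.inl (key φ h)
  · refine Or.inr (key _ (isTr_conj (x := psp (T (e0 : 𝕍) c)) ⟨e0, c, e0_ne, hc, rfl⟩ ?_))
    have h2 := (tauP⁻¹ : MulAut (Cfsg.PSp 2 F)).toMonoidHom.map_isConj h
    rw [MulAut.mul_apply]
    simpa using h2

theorem pres_semiPSp (g : Cfsg.GSp 2 F) (σ : F ≃+* F) : Pres (semiPSp g σ) := by
  rintro _ ⟨v, c, hv, hc, rfl⟩
  obtain ⟨μ, hμ0, hμ⟩ := exists_mult g.2 σ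
  exact ⟨_, _, semiVec_ne_zero g.1 σ hv, (div_ne_zero (by simpa using hc) hμ0 : σ c / μ ≠ 0),
    semiPSp_psp g σ _ |>.trans (by rw [semiSp_T g σ hμ0 hμ])⟩

theorem exists_decomp (φ : MulAut (Cfsg.PSp 2 F)) :
    φ ∈ semiRange 2 F ∨ tauP⁻¹ * φ ∈ semiRange 2 F := by
  haveI : Fact (Nat.Prime 2) := ⟨Nat.prime_two⟩
  rcases pres_cases φ with h | h
  · obtain ⟨g, σ, he⟩ := exists_semiPSp (p := 2) le_rfl h
    exact Or.inl ⟨(g, σ), he.symm⟩
  · obtain ⟨g, σ, he⟩ := exists_semiPSp (p := 2) le_rfl h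
    exact Or.inr ⟨(g, σ), he.symm⟩

theorem card_mulAut : Nat.card (MulAut (Cfsg.PSp 2 F)) = 2 * Nat.card (semiRange 2 F) := by
  conv_rhs => arg 1; rw [show 2 = Nat.card (Fin 2) by simp]
  rw [← Nat.card_prod]
  symm
  refine Nat.card_eq_of_bijective
    (fun z : Fin 2 × semiRange 2 F => if z.1 = 0 then z.2.1 else tauP * z.2.1) ⟨?_, ?_⟩
  · have hno : ∀ y y' : semiRange 2 F, y.1 ≠ tauP * y'.1 := by
      intro y y' h
      obtain ⟨⟨g, σ⟩, hy⟩ := y.2
      obtain ⟨⟨g', σ'⟩, hy'⟩ := y'.2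
      simp only at hy hy'
      rw [← hy, ← hy'] at h
      have ht : tauP = semiPSp g σ * (semiPSp g' σ')⁻¹ := by rw [h, mul_inv_cancel_right]
      rw [semiPSp_inv, semiPSp_mul] at ht
      refine not_isTr_tau (F := F) ?_
      rw [ht]
      exact pres_semiPSp _ _ _ ⟨e0, 1, e0_ne, one_ne_zero, rfl⟩
    rintro ⟨i, y⟩ ⟨j, y'⟩ h
    fin_cases i <;> fin_cases j <;> simp at h
    · rw [Subtype.ext h]
    · exact absurd h (hno y y')
    · exact absurd h.symm (hno y' y)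
    · rw [Subtype.ext h]
  · intro φ
    rcases exists_decomp φ with h | h
    · exact ⟨(0, ⟨φ, h⟩), by simp⟩
    · exact ⟨(1, ⟨_, h⟩), by simp⟩

theorem semiPSp_spG (s : Matrix.symplecticGroup (Fin 2) F) :
    semiPSp (spG s) (RingEquiv.refl F) = MulAut.conj (psp s) := MulEquiv.ext fun x => by
  obtain ⟨t, rfl⟩ := psp_surjective x
  rw [semiPSp_psp, MulAut.conj_apply, ← map_inv, ← map_mul, ← map_mul]
  congr 1

theorem semiPSp_fr_pow (n : ℕ) :
    semiPSp (1 : Cfsg.GSp 2 F) (fr F) ^ n = semiPSp 1 ((fr F : RingAut F) ^ n) := by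
  induction n with
  | zero => rw [pow_zero, pow_zero]; exact semiPSp_one.symm
  | succ n ih =>
    rw [pow_succ, ih, semiPSp_mul, pow_succ]
    congr 1
    refine Subtype.ext (Units.ext ?_)
    simp [gspMap_coe, Matrix.map_one]

theorem exists_fr_pow (σ : F ≃+* F) : ∃ n : ℕ, σ = (fr F : RingAut F) ^ n := by
  haveI : Fact (Nat.Prime 2) := ⟨Nat.prime_two⟩
  letI := ZMod.algebra F 2
  obtain ⟨n, hn⟩ := (FiniteField.bijective_frobeniusAlgEquivOfAlgebraic_pow (ZMod 2) F).2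
    (AlgEquiv.ofRingEquiv (f := σ) (fun x => RingHom.congr_fun (Subsingleton.elim
      ((σ : F →+* F).comp (algebraMap (ZMod 2) F)) (algebraMap (ZMod 2) F)) x))
  refine ⟨n.1, RingEquiv.ext fun x => ?_⟩
  have h := AlgEquiv.congr_fun hn x
  simp only [AlgEquiv.ofRingEquiv_apply] at h
  refine h.symm.trans ?_
  clear h hn
  induction (n : ℕ) generalizing x with
  | zero => simp
  | succ k ih => simp [pow_succ, fr_apply, ih]

theorem out_eq (φ : MulAut (Cfsg.PSp 2 F)) :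
    ∃ n : ℕ, (φ : Cfsg.Out (Cfsg.PSp 2 F)) =
      ((tauP : MulAut (Cfsg.PSp 2 F)) : Cfsg.Out (Cfsg.PSp 2 F)) ^ n := by
  have key : ∀ g σ, ∃ n : ℕ, ((semiPSp g σ : MulAut (Cfsg.PSp 2 F)) : Cfsg.Out (Cfsg.PSp 2 F)) =
      ((tauP : MulAut (Cfsg.PSp 2 F)) : Cfsg.Out (Cfsg.PSp 2 F)) ^ n := by
    intro g σ
    obtain ⟨c, hc⟩ := g.2
    obtain ⟨a, ha⟩ := (fr F).surjective (c : F)
    rw [fr_apply] at ha
    have ha0 : a ≠ 0 := fun h => c.ne_zero (by rw [← ha, h]; simp)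
    obtain ⟨z, hz⟩ : ∃ z : Fˣ, (z : F) = a := ⟨Units.mk0 a ha0, rfl⟩
    let k : Cfsg.GSp 2 F := (scalG z)⁻¹ * g
    have hmem : (k.1 : Mat 2 F) ∈ Matrix.symplecticGroup (Fin 2) F := by
      rw [mem_symplectic_iff_form]
      intro u v
      have h1 : f⟪((scalG (m := 2) z).1 : Mat 2 F) *ᵥ ((k.1 : Mat 2 F) *ᵥ u),
          ((scalG (m := 2) z).1 : Mat 2 F) *ᵥ ((k.1 : Mat 2 F) *ᵥ v)⟫ = c * f⟪u, v⟫ := by
        rw [Matrix.mulVec_mulVec, Matrix.mulVec_mulVec, ← Units.val_mul, ← Subgroup.coe_mul,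
          mul_inv_cancel_left]
        exact hc u v
      rw [scalG_mulVec, scalG_mulVec, sf_smul_left, sf_smul_right, ← mul_assoc, ← pow_two, hz,
        ha] at h1
      exact mul_left_cancel₀ c.ne_zero h1
    obtain ⟨n, hn⟩ := exists_fr_pow σ
    refine ⟨2 * n, ?_⟩
    have hg : semiPSp g σ = MulAut.conj (psp ⟨_, hmem⟩) * semiPSp 1 σ := by
      rw [← semiPSp_spG, show spG ⟨_, hmem⟩ = k from Subtype.ext (Units.ext rfl), semiPSp_mul]
      rw [show k * gspMap (RingEquiv.refl F) 1 = k from by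
        refine Subtype.ext (Units.ext ?_); simp [gspMap_coe, Matrix.map_one]]
      rw [show σ.trans (RingEquiv.refl F) = σ from RingEquiv.ext fun _ => rfl,
        semiPSp_eq_iff (p := 2) (by omega)]
      refine ⟨rfl, z, ?_⟩
      simp only [k]
      rw [mul_assoc]
      have hcomm : g * scalG z = scalG z * g := Subtype.ext (Units.ext
        (Matrix.ext_of_mulVec_single fun i => by
          rw [Subgroup.coe_mul, Units.val_mul, Subgroup.coe_mul, Units.val_mul,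
            ← Matrix.mulVec_mulVec, ← Matrix.mulVec_mulVec, scalG_mulVec, scalG_mulVec,
            Matrix.mulVec_smul]))
      rw [hcomm, inv_mul_cancel_left]
    have : ((semiPSp g σ : MulAut (Cfsg.PSp 2 F)) : Cfsg.Out (Cfsg.PSp 2 F)) =
        ((semiPSp 1 σ : MulAut (Cfsg.PSp 2 F)) : Cfsg.Out (Cfsg.PSp 2 F)) := by
      rw [hg, QuotientGroup.mk_mul, (QuotientGroup.eq_one_iff (MulAut.conj (psp (⟨_, hmem⟩ :
        Matrix.symplecticGroup (Fin 2) F)))).mpr (MonoidHom.mem_range.mpr ⟨_, rfl⟩), one_mul]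
    rw [this, hn, ← semiPSp_fr_pow, ← tauP_sq, QuotientGroup.mk_pow, QuotientGroup.mk_mul,
      ← pow_two, ← pow_mul]
  rcases exists_decomp φ with ⟨⟨g, σ⟩, h⟩ | ⟨⟨g, σ⟩, h⟩
  · obtain ⟨n, hn⟩ := key g σ
    exact ⟨n, by rw [← hn, ← h]⟩
  · obtain ⟨n, hn⟩ := key g σ
    refine ⟨n + 1, ?_⟩
    simp only at h
    rw [pow_succ', ← hn, h, ← QuotientGroup.mk_mul, mul_inv_cancel_left]

theorem out_cyclic : IsCyclic (Cfsg.Out (Cfsg.PSp 2 F)) := by
  refine ⟨⟨((tauP : MulAut (Cfsg.PSp 2 F)) : Cfsg.Out (Cfsg.PSp 2 F)), fun x => ?_⟩⟩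
  induction x using QuotientGroup.induction_on with
  | H φ =>
    obtain ⟨n, hn⟩ := out_eq φ
    exact ⟨n, by simp only [zpow_natCast]; exact hn.symm⟩

theorem card_inn : Nat.card (Cfsg.Inn (Cfsg.PSp 2 F)) = Nat.card (Cfsg.PSp 2 F) := by
  refine (Nat.card_congr (MonoidHom.ofInjective (f := MulAut.conj) ?_).toEquiv).symm
  intro x y h
  obtain ⟨s, rfl⟩ := psp_surjective x
  obtain ⟨t, rfl⟩ := psp_surjective y
  have hc : t⁻¹ * s ∈ Subgroup.center (Matrix.symplecticGroup (Fin 2) F) := by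
    rw [Subgroup.mem_center_iff]
    intro u
    have h1 := congrArg (fun e : MulAut (Cfsg.PSp 2 F) => e (psp u)) h
    simp only [MulAut.conj_apply, ← map_inv, ← map_mul] at h1
    have h2 := psp_inj h1
    calc u * (t⁻¹ * s) = t⁻¹ * (t * u * t⁻¹) * s := by group
      _ = t⁻¹ * s * u := by rw [← h2]; group
  rw [← mul_inv_cancel_left t s, map_mul, psp_eq_one.mpr hc, mul_one]

theorem card_out {f : ℕ} (hf : 1 ≤ f) (hF : Fintype.card F = 2 ^ f) :
    Nat.card (Cfsg.Out (Cfsg.PSp 2 F)) = 2 * f := by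
  haveI : Fact (Nat.Prime 2) := ⟨Nat.prime_two⟩
  have h := Subgroup.card_eq_card_quotient_mul_card_subgroup (Cfsg.Inn (Cfsg.PSp 2 F))
  rw [card_mulAut, card_semiRange (p := 2) (by omega), card_inn, card_ringAut (p := 2) hf hF,
    card_sp_eq_gcd_mul (by omega)] at h
  have hg : Nat.gcd 2 (Fintype.card F - 1) = 1 := by
    rw [← Nat.coprime_iff_gcd_eq_one, Nat.coprime_two_left, Nat.odd_iff]
    have := FiniteField.even_card_of_char_two (ringChar.eq F 2)
    have := Fintype.one_lt_card (α := F)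
    omega
  rw [hg, one_mul] at h
  exact (Nat.eq_of_mul_eq_mul_right Nat.card_pos (by rw [← h]; ring)).symm

end Cfsg.Agent.Symplectic.Graph
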