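import Cfsg.Agent.Symplectic.Simple
import Cfsg.Agent.Aschbacher.Proper
import Cfsg.Agent.Aschbacher.Structure

/-! The symplectic group is contained in no member of the geometric classes. -/

set_option autoImplicit false
set_option maxHeartbeats 1000000
set_option linter.unusedSectionVars false
set_option linter.style.haveILetI false

namespace Cfsg.Agent.Symplectic.Asch

open scoped MatrixGroups Matrix Kronecker
open Cfsg Cfsg.Geo Cfsg.Agent.Symplectic

variable {F : Type*} [Field F] {m : ℕ}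

local notation "GLs" => GL (Fin m ⊕ Fin m) F
local notation "𝕍" => (Fin m ⊕ Fin m → F)
local notation "sf" => sympForm m F

/-- The symplectic group into the general linear group. -/
def toG (m : ℕ) (F : Type*) [Field F] :
    Matrix.symplecticGroup (Fin m) F →* GL (Fin m ⊕ Fin m) F :=
  (Matrix.symplecticGroup (Fin m) F).subtype.toHomUnits

theorem toG_val (g : Matrix.symplecticGroup (Fin m) F) :
    (toG m F g : Mat m F) = (g : Mat m F) := rfl

theorem toG_injective : Function.Injective (toG m F) := fun a b h =>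
  Subtype.ext (congrArg (fun g : GLs => (g : Mat m F)) h)

theorem range_toG : (toG m F).range = spGL m F := by
  ext g
  constructor
  · rintro ⟨A, rfl⟩
    exact fun u v => (mem_symplectic_iff_form _).mp A.2 u v
  · intro hg
    exact ⟨⟨(g : Mat m F), (mem_symplectic_iff_form _).mpr fun u v => hg u v⟩, Units.ext rfl⟩

/-- The transvection as an element of the general linear group. -/
def tG (v : 𝕍) (c : F) : GLs := toG m F (T v c)

theorem tG_mem (v : 𝕍) (c : F) : tG v c ∈ spGL m F := range_toG.le ⟨_, rfl⟩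

theorem tG_mulVec (v x : 𝕍) (c : F) :
    (tG v c : Mat m F) *ᵥ x = x + (c * sf x v) • v := T_mulVec v x c

theorem sf_zero_right (u : 𝕍) : sf u 0 = 0 := by simp [sympForm]

theorem subspace_proper {W : Submodule F 𝕍} (h1 : W ≠ ⊥) (h2 : W ≠ ⊤) :
    ¬ spGL m F ≤ subspaceStabilizer W := by
  intro hc
  obtain ⟨w, hw, hw0⟩ := Submodule.exists_mem_ne_zero_of_ne_bot h1
  have key : ∀ v, v ∉ W → sf w v = 0 := by
    intro v hv
    by_contra hne
    have h := (H95.mem_subspaceStabilizer.mp (hc (tG_mem v 1)) w).mp hw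
    rw [tG_mulVec, one_mul] at h
    have h' := W.sub_mem h hw
    rw [add_sub_cancel_left] at h'
    exact hv ((W.smul_mem_iff hne).mp h')
  obtain ⟨v, hv⟩ : ∃ v, v ∉ W := by
    by_contra h; push Not at h; exact h2 (Submodule.eq_top_iff'.mpr h)
  obtain ⟨x, hx⟩ := sf_exists_one hw0
  by_cases hxW : x ∈ W
  · have h3 : x + v ∉ W := fun h => hv (by simpa using W.sub_mem h hxW)
    have := key _ h3
    rw [sf_add_right, hx, key v hv, add_zero] at this
    exact one_ne_zero this
  · exact one_ne_zero (hx.symm.trans (key x hxW))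

theorem decomp_proper {t k : ℕ} {D : Fin t → Submodule F 𝕍} (hD : IsMDecomposition k D)
    (hk : 2 ≤ k) : ¬ spGL m F ≤ decompositionStabilizer D := by
  intro hc
  let i : Fin t := ⟨0, by have := hD.two_le; omega⟩
  have hbot : ∀ j, D j ≠ ⊥ := fun j h => by
    have := hD.finrank_eq j
    rw [h, finrank_bot] at this
    omega
  have htop : D i ≠ ⊤ := by
    intro h
    obtain ⟨j, hj⟩ := @exists_ne (Fin t) (Fin.nontrivial_iff_two_le.2 hD.two_le) i
    have := hD.indep.pairwiseDisjoint hj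
    rw [Function.onFun, h, disjoint_top] at this
    exact hbot j this
  refine subspace_proper (hbot i) htop ?_
  rw [← range_toG, MonoidHom.range_eq_map, ← closure_TSet m F, MonoidHom.map_closure,
    Subgroup.closure_le]
  rintro _ ⟨_, ⟨v, c, rfl⟩, rfl⟩
  obtain ⟨σ, hσ⟩ := hc (tG_mem v c)
  have hmap : ∀ x ∈ D i, x + (c * sf x v) • v ∈ D (σ i) := fun x hx => by
    rw [← hσ i]
    exact ⟨x, hx, by rw [Matrix.toLin'_apply, tG_mulVec]⟩
  obtain ⟨x, hx, hx0, hxv⟩ : ∃ x ∈ D i, x ≠ 0 ∧ sf x v = 0 := by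
    let L : D i →ₗ[F] F :=
      { toFun := fun x => sf (x : 𝕍) v
        map_add' := fun a b => sf_add_left _ _ _
        map_smul' := fun a b => sf_smul_left _ _ _ }
    obtain ⟨x, hx, hx0⟩ := Submodule.exists_mem_ne_zero_of_ne_bot (p := LinearMap.ker L) (by
      intro h
      have := LinearMap.finrank_le_finrank_of_injective (LinearMap.ker_eq_bot.mp h)
      rw [Module.finrank_self, hD.finrank_eq] at this
      omega)
    exact ⟨x, x.2, fun h => hx0 (Subtype.ext h), LinearMap.mem_ker.mp hx⟩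
  have hσi : σ i = i := by
    have h := hmap x hx
    rw [hxv, mul_zero, zero_smul, add_zero] at h
    by_contra hne
    exact hx0 (Submodule.disjoint_def.mp (hD.indep.pairwiseDisjoint hne) x h hx)
  show tG v c ∈ subspaceStabilizer (D i)
  rw [H95.mem_subspaceStabilizer]
  intro y
  have h := hσ i
  rw [hσi] at h
  constructor
  · intro hy
    rw [← h]
    exact ⟨y, hy, Matrix.toLin'_apply _ _⟩
  · intro hy
    rw [← h] at hy
    obtain ⟨z, hz, hzy⟩ := hy
    rw [Matrix.toLin'_apply] at hzy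
    exact Matrix.mulVec_injective_iff_isUnit.mpr (tG v c).isUnit hzy ▸ hz

theorem scalar_of_commute_tG {M : Mat m F}
    (h : ∀ v, (tG v 1 : Mat m F) * M = M * (tG v 1 : GLs)) :
    ∃ l : F, M = l • (1 : Mat m F) := by
  refine Aschbacher.exists_scalar_of_forall_smul fun v => ?_
  by_cases hv : v = 0
  · exact ⟨0, by simp [hv]⟩
  obtain ⟨x, hx⟩ := sf_exists_one hv
  have h1 := congrArg (· *ᵥ x) (h v)
  simp only [← Matrix.mulVec_mulVec, tG_mulVec, one_mul, Matrix.mulVec_add, Matrix.mulVec_smul] at h1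
  have h2 := add_left_cancel h1
  refine ⟨- sf (M *ᵥ x) v, ?_⟩
  rw [neg_smul, h2, sf_swap x v, hx, neg_smul, one_smul, neg_neg]

theorem field_proper (hm : 2 ≤ m) {r : ℕ} {K : Subalgebra F (Mat m F)}
    (hK : IsFieldSubalgebra r K) (hr : 2 ≤ r) : ¬ spGL m F ≤ subalgebraNormalizer K := by
  intro hc
  haveI : Nonempty (Fin m ⊕ Fin m) := ⟨Sum.inl ⟨0, by omega⟩⟩
  have hall : ∀ k ∈ K, ∃ c : F, k = c • (1 : Mat m F) := by
    intro k hk
    refine scalar_of_commute_tG fun v => ?_
    set T := tG v (1 : F) with hT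
    have hTK : Aschbacher.cj T k ∈ K := Aschbacher.cj_mem_of_mem_normalizer (hc (tG_mem v 1)) hk
    rw [← Aschbacher.cj_eq_self_iff, ← sub_eq_zero]
    by_contra hne
    obtain ⟨Y, -, hY⟩ := hK.inv _ (K.sub_mem hTK hk) hne
    obtain ⟨w, hw⟩ := Aschbacher.exists_notMem_span_range ![v, k *ᵥ v] (by simp; omega)
    have hrange : ∀ x, (Aschbacher.cj T k - k) *ᵥ ((T : Mat m F) *ᵥ x) ∈
        Submodule.span F (Set.range ![v, k *ᵥ v]) := by
      intro x
      rw [Matrix.sub_mulVec, Matrix.mulVec_mulVec _ (Aschbacher.cj T k), ← Aschbacher.mul_eq_cj_mul,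
        ← Matrix.mulVec_mulVec, hT, tG_mulVec, tG_mulVec, Matrix.mulVec_add, Matrix.mulVec_smul,
        add_sub_add_left_eq_sub]
      exact Submodule.sub_mem _ (Submodule.smul_mem _ _ (Submodule.subset_span ⟨0, rfl⟩))
        (Submodule.smul_mem _ _ (Submodule.subset_span ⟨1, rfl⟩))
    have := hrange (((T⁻¹ : GLs) : Mat m F) *ᵥ (Y *ᵥ w))
    rw [Matrix.mulVec_mulVec _ (T : Mat m F), ← Units.val_mul, mul_inv_cancel,
      Units.val_one, Matrix.one_mulVec, Matrix.mulVec_mulVec, hY, Matrix.one_mulVec] at this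
    exact hw this
  have hle : Subalgebra.toSubmodule K ≤ F ∙ (1 : Mat m F) := fun X hX => by
    obtain ⟨c, rfl⟩ := hall X hX
    exact Submodule.smul_mem _ _ (Submodule.mem_span_singleton_self _)
  have h1 := Submodule.finrank_mono hle
  rw [finrank_span_singleton (one_ne_zero (α := Mat m F)),
    Subalgebra.finrank_toSubmodule, hK.finrank_eq] at h1
  omega

/-- A transvection in the coordinates of a change of basis. -/
theorem exists_tv_coord (P : GLs) (j : Fin m ⊕ Fin m) :
    ∃ φ : 𝕍, φ ≠ 0 ∧ φ j = 0 ∧ ∀ a : F, ∃ T ∈ spGL m F, ∀ x y,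
      ((P⁻¹ * T * P : GLs) : Mat m F) x y =
        (if x = y then 1 else 0) + (if x = j then a * φ y else 0) := by
  set v : 𝕍 := (P : Mat m F) *ᵥ Pi.single j 1 with hv
  refine ⟨fun y => sf ((P : Mat m F) *ᵥ Pi.single y 1) v, ?_, sf_self _,
    fun a => ⟨tG v a, tG_mem v a, fun x y => ?_⟩⟩
  · intro h0
    have hv0 : v ≠ 0 := fun h => by
      have := congrArg (((P⁻¹ : GLs) : Mat m F) *ᵥ ·) h
      simp only [hv, Matrix.mulVec_mulVec, ← Units.val_mul, inv_mul_cancel, Units.val_one,
        Matrix.one_mulVec, Matrix.mulVec_zero] at this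
      simpa using congrFun this j
    obtain ⟨x, hx⟩ := sf_exists_one hv0
    set z := ((P⁻¹ : GLs) : Mat m F) *ᵥ x with hz
    have hxz : (P : Mat m F) *ᵥ z = x := by
      rw [hz, Matrix.mulVec_mulVec, ← Units.val_mul, mul_inv_cancel, Units.val_one, Matrix.one_mulVec]
    let L : 𝕍 →ₗ[F] F :=
      { toFun := fun u => sf ((P : Mat m F) *ᵥ u) v
        map_add' := fun u w => by rw [Matrix.mulVec_add, sf_add_left]
        map_smul' := fun c u => by rw [Matrix.mulVec_smul, sf_smul_left]; rfl }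
    have hL : L = 0 := (Pi.basisFun F _).ext fun y => by
      rw [Pi.basisFun_apply]; exact congrFun h0 y
    have h1 : L z = 0 := by rw [hL]; rfl
    have h2 : sf x v = 0 := by rw [← hxz]; exact h1
    rw [sf_swap, hx] at h2
    exact one_ne_zero (neg_eq_zero.mp h2)
  · have h := congrFun (show ((P⁻¹ * tG v a * P : GLs) : Mat m F) *ᵥ Pi.single y 1 =
        Pi.single y 1 + (a * sf ((P : Mat m F) *ᵥ Pi.single y 1) v) • Pi.single j 1 by
      rw [Units.val_mul, Units.val_mul, ← Matrix.mulVec_mulVec, ← Matrix.mulVec_mulVec, tG_mulVec,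
        Matrix.mulVec_add, Matrix.mulVec_smul, hv, Matrix.mulVec_mulVec, Matrix.mulVec_mulVec,
        ← Units.val_mul, inv_mul_cancel, Units.val_one, Matrix.one_mulVec, Matrix.one_mulVec]) x
    rw [Matrix.mulVec_single_one] at h
    simpa [Pi.single_apply] using h

theorem subfield_proper (hm : 1 ≤ m) {F₀ : Subfield F} (hF : F₀ ≠ ⊤) (P : GLs) :
    ¬ spGL m F ≤ subfieldSubgroup F₀ P := by
  intro hc
  let j : Fin m ⊕ Fin m := Sum.inl ⟨0, hm⟩
  let i : Fin m ⊕ Fin m := Sum.inr ⟨0, hm⟩
  obtain ⟨φ, hφ, hφj, hφT⟩ := exists_tv_coord P j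
  have key : ∀ a : F, ∀ y, a * φ y ∈ F₀ := by
    intro a y
    obtain ⟨T, hT, hval⟩ := hφT a
    obtain ⟨g, hg, hgT⟩ := hc hT
    have hgeq : g = P⁻¹ * T * P := by
      rw [← hgT]
      simp [mul_assoc]
    obtain ⟨_, ⟨M, rfl⟩, z, hz, hMz⟩ := Subgroup.mem_sup_of_normal_right.mp hg
    obtain ⟨c, hcz⟩ := (mem_scalars_iff z).mp hz
    have hentry : ∀ x y, ((if x = y then 1 else 0) + (if x = j then a * φ y else 0) : F) =
        (c : F) * F₀.subtype ((M : Matrix _ _ F₀) x y) := by
      intro x y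
      rw [← hval, ← hgeq, ← hMz, Units.val_mul, hcz]
      simp
    have hii := hentry i i
    simp [i, j] at hii
    have hjy := hentry j y
    rw [if_pos rfl] at hjy
    have hne : ((M : Matrix _ _ F₀) i i : F) ≠ 0 := fun h => by
      simp [i] at h; simp [h] at hii
    have hc0 : (c : F) ∈ F₀ := by
      have : (c : F) = ((M : Matrix _ _ F₀) i i : F)⁻¹ := by
        refine eq_inv_of_mul_eq_one_left ?_
        simpa [i] using hii.symm
      rw [this]
      exact F₀.inv_mem (SetLike.coe_mem _)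
    have hmem : ((if j = y then 1 else 0) + a * φ y : F) ∈ F₀ := by
      rw [hjy]; exact F₀.mul_mem hc0 (SetLike.coe_mem _)
    by_cases hy : j = y
    · rw [← hy, hφj, mul_zero]; exact F₀.zero_mem
    · simpa [hy] using hmem
  obtain ⟨y, hy⟩ := Function.ne_iff.mp hφ
  refine hF (eq_top_iff.mpr fun x _ => ?_)
  have := key (x * (φ y)⁻¹) y
  rwa [mul_assoc, inv_mul_cancel₀ hy, mul_one] at this

theorem tensor_proper {a b : ℕ} (e : (Fin m ⊕ Fin m) ≃ Fin a × Fin b) (P : GLs)
    (ha : 2 ≤ a) (hb : 2 ≤ b) : ¬ spGL m F ≤ tensorProductSubgroup a b e P := by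
  intro hc
  let p : Fin a × Fin b := (⟨0, by omega⟩, ⟨0, by omega⟩)
  obtain ⟨φ, hφ, hφj, hφT⟩ := exists_tv_coord P (e.symm p)
  obtain ⟨T, hT, hval⟩ := hφT 1
  obtain ⟨g₁, ⟨g, ⟨A, B, hAB⟩, rfl⟩, hgT⟩ := hc hT
  have hgeq : glReindex e.symm g = P⁻¹ * T * P := by
    rw [← hgT]
    simp [mul_assoc]
  have key : ∀ x y, ((if x = y then 1 else 0) + (if x = p then φ (e.symm y) else 0) : F) =
      (A : Matrix (Fin a) (Fin a) F) x.1 y.1 * (B : Matrix (Fin b) (Fin b) F) x.2 y.2 := by
    intro x y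
    have h1 := hval (e.symm x) (e.symm y)
    rw [← hgeq] at h1
    have h2 : ((glReindex e.symm g : GLs) : Mat m F) (e.symm x) (e.symm y) =
        (g : Matrix (Fin a × Fin b) (Fin a × Fin b) F) x y := by
      show (g : Matrix (Fin a × Fin b) (Fin a × Fin b) F) (e (e.symm x)) (e (e.symm y)) = _
      rw [e.apply_symm_apply, e.apply_symm_apply]
    rw [h2, hAB] at h1
    simpa [e.symm.injective.eq_iff] using h1.symm
  have hrow : ∀ x, x ≠ p → ∀ y, (A : Matrix (Fin a) (Fin a) F) x.1 y.1 *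
      (B : Matrix (Fin b) (Fin b) F) x.2 y.2 = if x = y then 1 else 0 := fun x hx y => by
    rw [← key x y, if_neg hx, add_zero]
  -- both factors are diagonal
  obtain ⟨i', hi'⟩ := @exists_ne (Fin a) (Fin.nontrivial_iff_two_le.2 ha) p.1
  obtain ⟨k', hk'⟩ := @exists_ne (Fin b) (Fin.nontrivial_iff_two_le.2 hb) p.2
  have hB : ∀ k l, (A : Matrix (Fin a) (Fin a) F) i' i' * (B : Matrix (Fin b) (Fin b) F) k l =
      if k = l then 1 else 0 := fun k l => by
    rw [hrow (i', k) (fun h => hi' (congrArg Prod.fst h)) (i', l)]; simp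
  have hA : ∀ i l, (A : Matrix (Fin a) (Fin a) F) i l * (B : Matrix (Fin b) (Fin b) F) k' k' =
      if i = l then 1 else 0 := fun i l => by
    rw [hrow (i, k') (fun h => hk' (congrArg Prod.snd h)) (l, k')]; simp
  have hprod : ∀ y, (A : Matrix (Fin a) (Fin a) F) p.1 y.1 * (B : Matrix (Fin b) (Fin b) F) p.2 y.2 =
      if p = y then 1 else 0 := by
    intro y
    have h1 := hA p.1 y.1
    have h2 := hB p.2 y.2
    have h3 := hB k' k'
    rw [if_pos rfl] at h3
    have h4 : (A : Matrix (Fin a) (Fin a) F) p.1 y.1 * (B : Matrix (Fin b) (Fin b) F) p.2 y.2 =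
        ((A : Matrix (Fin a) (Fin a) F) p.1 y.1 * (B : Matrix (Fin b) (Fin b) F) k' k') *
        ((A : Matrix (Fin a) (Fin a) F) i' i' * (B : Matrix (Fin b) (Fin b) F) p.2 y.2) := by
      linear_combination (-((A : Matrix (Fin a) (Fin a) F) p.1 y.1) *
        (B : Matrix (Fin b) (Fin b) F) p.2 y.2) * h3
    rw [h4, h1, h2]
    rcases eq_or_ne p y with h | h
    · subst h; simp
    · rw [if_neg h]
      by_cases h5 : p.1 = y.1
      · rw [if_neg (fun h6 => h (Prod.ext h5 h6)), mul_zero]
      · rw [if_neg h5, zero_mul]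
  refine hφ (funext fun z => ?_)
  have h := key p (e z)
  rw [hprod, if_pos rfl, e.symm_apply_apply] at h
  simpa using h

theorem wreath_proper [Finite F] {k t : ℕ} (e : (Fin m ⊕ Fin m) ≃ (Fin t → Fin k)) (P : GLs)
    (hk : 2 ≤ k) (ht : 3 ≤ t) : ¬ spGL m F ≤ tensorWreathSubgroup k t e P := by
  classical
  intro hc
  let z : Fin k := ⟨0, by omega⟩
  let o : Fin k := ⟨1, by omega⟩
  have hzo : z ≠ o := by simp [z, o]
  let p : Fin t → Fin k := fun _ => z
  obtain ⟨φ, hφ, hφj, hφT⟩ := exists_tv_coord P (e.symm p)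
  obtain ⟨T, hT, hval⟩ := hφT 1
  obtain ⟨g₁, ⟨g, hg, rfl⟩, hgT⟩ := hc hT
  have hgeq : glReindex e.symm g = P⁻¹ * T * P := by
    rw [← hgT]
    simp [mul_assoc]
  obtain ⟨X, σ, hX⟩ := Aschbacher.exists_pure_perm hg
  have key : ∀ x y, ((if x = y then 1 else 0) + (if x = p then φ (e.symm y) else 0) : F) =
      ∏ i, X i (x i) (y (σ.symm i)) := by
    intro x y
    have h1 := hval (e.symm x) (e.symm y)
    rw [← hgeq] at h1
    have h2 : ((glReindex e.symm g : GLs) : Mat m F) (e.symm x) (e.symm y) =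
        (g : Matrix (Fin t → Fin k) (Fin t → Fin k) F) x y := by
      show (g : Matrix (Fin t → Fin k) (Fin t → Fin k) F) (e (e.symm x)) (e (e.symm y)) = _
      rw [e.apply_symm_apply, e.apply_symm_apply]
    have hkey : ∀ w : Fin t → Fin k, (y = w ∘ σ) ↔ (w = y ∘ σ.symm) := by
      intro w; constructor
      · rintro rfl; simp [Function.comp_assoc]
      · rintro rfl; simp [Function.comp_assoc]
    rw [h2, hX] at h1
    simpa [e.symm.injective.eq_iff, Matrix.mul_apply, Aschbacher.factorPerm, hkey,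
      Aschbacher.pureMat] using h1.symm
  have hone : ∀ x, x ≠ p → ∀ i, X i (x i) (x (σ.symm i)) ≠ 0 := by
    intro x hx i h0
    have h := key x x
    rw [if_pos rfl, if_neg hx, add_zero,
      Finset.prod_eq_zero (Finset.mem_univ i) h0] at h
    exact one_ne_zero h
  have hzero : ∀ x, x ≠ p → ∀ i c, c ≠ x (σ.symm i) → X i (x i) c = 0 := by
    intro x hx i c hcx
    let y := Function.update x (σ.symm i) c
    have hxy : x ≠ y := fun h => hcx (by simpa [y] using (congrFun h (σ.symm i)).symm)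
    have h := key x y
    rw [if_neg hxy, if_neg hx, add_zero] at h
    obtain ⟨l, -, hl⟩ := Finset.prod_eq_zero_iff.mp h.symm
    by_cases hli : l = i
    · subst hli; simpa [y] using hl
    · refine absurd ?_ (hone x hx l)
      simpa [y, Function.update_of_ne (σ.symm.injective.ne hli)] using hl
  -- every pair of coordinates extends to an index different from `p`
  have hext : ∀ i j : Fin t, ∀ a b : Fin k, (i = j → a = b) → ∃ x, x ≠ p ∧ x i = a ∧ x j = b := by
    intro i j a b hab
    obtain ⟨l, hl1, hl2⟩ : ∃ l, l ≠ i ∧ l ≠ j := by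
      obtain ⟨l, -, hl⟩ := Finset.exists_mem_notMem_of_card_lt_card
        (s := ({i, j} : Finset (Fin t))) (t := Finset.univ) (by
          have := Finset.card_le_two (a := i) (b := j)
          simp only [Finset.card_univ, Fintype.card_fin]
          omega)
      simp only [Finset.mem_insert, Finset.mem_singleton, not_or] at hl
      exact ⟨l, hl.1, hl.2⟩
    refine ⟨Function.update (Function.update (fun _ => o) j b) i a, fun h => ?_, by simp, ?_⟩
    · have := congrFun h l
      simp [Function.update_of_ne hl1, Function.update_of_ne hl2, p] at this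
      exact hzo this.symm
    · by_cases hij : j = i
      · subst hij; simp [hab rfl]
      · simp [Function.update_of_ne hij]
  have hσ : ∀ i, σ.symm i = i := by
    intro i
    by_contra hne
    obtain ⟨x, hx, hxi, hxj⟩ := hext i (σ.symm i) z z (fun _ => rfl)
    obtain ⟨x', hx', hxi', hxj'⟩ := hext i (σ.symm i) z o (fun h => absurd h.symm hne)
    have h1 := hone x hx i
    rw [hxi, hxj] at h1
    have h2 := hzero x' hx' i z (by rw [hxj']; exact hzo)
    rw [hxi'] at h2
    exact h1 h2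
  refine hφ (funext fun w => ?_)
  by_cases hw : e w = p
  · rw [← e.symm_apply_apply w, hw]; exact hφj
  obtain ⟨i, hi⟩ := Function.ne_iff.mp hw
  obtain ⟨x, hx, hxi, -⟩ := hext i i (p i) (p i) fun _ => rfl
  have h0 := hzero x hx i (e w i) (by rw [hσ i, hxi]; exact hi)
  rw [hxi] at h0
  have h := key p (e w)
  rw [if_neg (Ne.symm hw), if_pos rfl, zero_add, e.symm_apply_apply] at h
  rw [h, Pi.zero_apply]
  refine Finset.prod_eq_zero (Finset.mem_univ i) ?_
  rw [hσ i]
  exact h0

theorem symp_proper [Fintype F] (hm : 2 ≤ m) (hodd : Odd (Fintype.card F))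
    {R : Subgroup GLs} (hR : IsPGroup 2 R)
    (hsim : R ≤ similarityGroup (sympForm m F)) (hns : ¬ R ≤ scalars (Fin m ⊕ Fin m) F) :
    ¬ spGL m F ≤ subgroupNormalizer R := by
  intro hc
  have h2 : (2 : F) ≠ 0 := by
    intro h
    haveI : CharP F 2 := CharTwo.of_one_ne_zero_of_two_eq_zero one_ne_zero h
    exact Nat.not_odd_iff_even.mpr
      (Nat.even_iff.mpr (FiniteField.even_card_of_char_two (ringChar.eq F 2))) hodd
  have hperf : commutator (Matrix.symplecticGroup (Fin m) F) = ⊤ := perfect m (by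
    have : 1 < Fintype.card F := Fintype.one_lt_card
    have h3 : 3 ≤ Fintype.card F := by rcases hodd with ⟨s, hs⟩; omega
    omega)
  have hconj : ∀ g ∈ spGL m F, ∀ x ∈ R, g * x * g⁻¹ ∈ R := fun g hg x hx =>
    (Subgroup.mem_normalizer_iff.mp (hc hg) x).mp hx
  haveI : (R.comap (toG m F)).Normal := ⟨fun x hx g => by
    simp only [Subgroup.mem_comap, map_mul, map_inv]
    exact hconj _ (range_toG.le ⟨g, rfl⟩) _ hx⟩
  rcases normal_subgroup_cases hperf (R.comap (toG m F)) with hsc | hall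
  · refine hns fun x hx => ?_
    have hscal : ∀ g ∈ spGL m F, x * g * x⁻¹ * g⁻¹ ∈ scalars (Fin m ⊕ Fin m) F := by
      intro g hg
      have h1 : x * g * x⁻¹ * g⁻¹ ∈ R := by
        have := R.mul_mem hx (hconj g hg _ (R.inv_mem hx))
        simpa [mul_assoc] using this
      have hgS : x * g * x⁻¹ ∈ spGL m F := by
        obtain ⟨c, hcx⟩ := hsim hx
        intro u v
        show sf (((x * g * x⁻¹ : GLs) : Mat m F) *ᵥ u) (((x * g * x⁻¹ : GLs) : Mat m F) *ᵥ v) = _
        simp only [Units.val_mul, ← Matrix.mulVec_mulVec]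
        have hg' : ∀ u v, sf ((g : Mat m F) *ᵥ u) ((g : Mat m F) *ᵥ v) = sf u v := hg
        rw [hcx, hg', ← hcx]
        simp only [Matrix.mulVec_mulVec, ← Units.val_mul, mul_inv_cancel, Units.val_one,
          Matrix.one_mulVec]
      obtain ⟨A, hA⟩ := range_toG.ge ((spGL m F).mul_mem hgS ((spGL m F).inv_mem hg))
      obtain ⟨l, hl⟩ := (mem_center_iff A).mp (hsc (show toG m F A ∈ R by rw [hA]; exact h1))
      have hl0 : l ≠ 0 := fun h0 => by
        haveI : Nonempty (Fin m ⊕ Fin m) := ⟨Sum.inl ⟨0, by omega⟩⟩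
        obtain ⟨v, hv⟩ := exists_ne (0 : 𝕍)
        exact sp_mulVec_ne_zero A hv (by rw [hl, h0, zero_smul])
      rw [← hA]
      exact (mem_scalars_iff _).mpr ⟨Units.mk0 l hl0, Matrix.ext_of_mulVec_single fun i => by
        rw [toG_val, hl, Matrix.smul_mulVec, Matrix.one_mulVec]; rfl⟩
    have hperf' : ⁅spGL m F, spGL m F⁆ = spGL m F := by
      rw [← range_toG, MonoidHom.range_eq_map, ← Subgroup.map_commutator, ← commutator_def, hperf]
    have hxc := Aschbacher.commute_of_perfect hperf' hscal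
    obtain ⟨l, hl⟩ := scalar_of_commute_tG (M := (x : Mat m F)) fun v => by
      rw [← Units.val_mul, ← Units.val_mul, hxc _ (tG_mem v 1)]
    have hl0 : l ≠ 0 := fun h0 => by
      haveI : Nonempty (Fin m ⊕ Fin m) := ⟨Sum.inl ⟨0, by omega⟩⟩
      exact x.ne_zero (by rw [hl, h0, zero_smul])
    exact (mem_scalars_iff x).mpr ⟨Units.mk0 l hl0, hl⟩
  · let v : 𝕍 := Pi.single (Sum.inl ⟨0, by omega⟩) 1
    have hv : v ≠ 0 := fun h => one_ne_zero (α := F) (by simpa [v] using congrFun h (Sum.inl ⟨0, by omega⟩))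
    have hT : T v (1 : F) ∈ R.comap (toG m F) := hall ▸ Subgroup.mem_top _
    obtain ⟨n, hn⟩ := hR ⟨toG m F (T v 1), hT⟩
    have hn' : T v (1 : F) ^ 2 ^ n = 1 := toG_injective (by
      rw [map_pow, map_one]; exact congrArg Subtype.val hn)
    have hpow : ∀ l : ℕ, T v (1 : F) ^ l = T v (l : F) := by
      intro l
      induction l with
      | zero => rw [pow_zero, Nat.cast_zero, T_zero]
      | succ l ih => rw [pow_succ, ih, T_mul, Nat.cast_succ]
    obtain ⟨x, hx⟩ := sf_exists_one hv
    have h := congrArg (fun g : Matrix.symplecticGroup (Fin m) F => (g : Mat m F) *ᵥ x)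
      ((hpow _).symm.trans hn')
    simp only [T_mulVec, OneMemClass.coe_one, Matrix.one_mulVec, add_eq_left, sf_swap x v, hx,
      Nat.cast_pow, Nat.cast_ofNat, mul_neg, mul_one, neg_smul, neg_eq_zero] at h
    exact smul_ne_zero (pow_ne_zero _ h2) hv h

theorem quad_proper (hm : 2 ≤ m) (h2 : (2 : F) = 0) {Q : 𝕍 → F}
    (hQ : IsNondegenerateQuadraticForm Q)
    (hpol : ∀ u v, QuadraticMap.polar Q u v = sympForm m F u v) :
    ¬ spGL m F ≤ quadSimilarityGroup Q := by
  intro hc
  have hadd : ∀ u v, Q (u + v) = Q u + Q v + sf u v := fun u v => by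
    rw [← hpol, QuadraticMap.polar]; ring
  let u : 𝕍 := Pi.single (Sum.inl ⟨0, by omega⟩) 1
  let v : 𝕍 := Pi.single (Sum.inl ⟨1, by omega⟩) 1
  have huv : sf u v = 0 := sf_ev _ _
  have hne : u + v ≠ 0 := fun h => one_ne_zero (α := F) (by
    simpa [u, v, Pi.single_apply, Fin.ext_iff] using congrFun h (Sum.inl ⟨0, by omega⟩))
  have hu : u ≠ 0 := fun h => one_ne_zero (α := F) (by
    simpa [u] using congrFun h (Sum.inl ⟨0, by omega⟩))
  have hv : v ≠ 0 := fun h => one_ne_zero (α := F) (by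
    simpa [v] using congrFun h (Sum.inl ⟨1, by omega⟩))
  have key : ∀ w : 𝕍, w ≠ 0 → Q w = 1 := by
    intro w hw
    obtain ⟨c, hcQ⟩ := hc (tG_mem w 1)
    obtain ⟨x, hx⟩ := sf_exists_one hw
    have hx' : sf x w = 1 := by rw [sf_swap, hx]; linear_combination -h2
    have hq1 := hcQ x
    rw [tG_mulVec, hx', one_mul, one_smul, hadd, hx'] at hq1
    have hw0 := hcQ w
    rw [tG_mulVec, sf_self, mul_zero, zero_smul, add_zero] at hw0
    by_cases hQw : Q w = 1
    · exact hQw
    have hc1 : (c : F) = 1 := by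
      by_cases h0 : Q w = 0
      · have hxw := hcQ (x + w)
        have e : x + w + w = x := by
          funext i; simp only [Pi.add_apply]; linear_combination (w i) * h2
        rw [Matrix.mulVec_add, tG_mulVec, tG_mulVec, sf_self, mul_zero, zero_smul, add_zero, hx',
          one_mul, one_smul, e, hadd, h0, hx'] at hxw
        rw [h0] at hq1
        linear_combination hq1 - hxw - h2
      · exact mul_right_cancel₀ h0 (hw0.symm.trans (one_mul _).symm)
    rw [hc1, one_mul] at hq1
    linear_combination hq1 - h2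
  have := hadd u v
  rw [key _ hne, key _ hu, key _ hv, huv, add_zero] at this
  exact one_ne_zero (α := F) (by linear_combination -this)

end Cfsg.Agent.Symplectic.Asch
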