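import Cfsg.Agent.H95.Herm
import Cfsg.Agent.H95.Symp
import Cfsg.Agent.Unitary.Generation
import Mathlib

/-! Unitary forms as functions: transvections, short root elements, generation of `SU`. -/

set_option autoImplicit false

namespace Cfsg.Agent.Symplectic

open scoped MatrixGroups Matrix
open Matrix Cfsg.Agent.H95

variable {ι : Type} [Fintype ι] [DecidableEq ι] {F : Type*} [Field F]
  {σ : F ≃+* F} {f : (ι → F) → (ι → F) → F}

theorem u_neg_right (hf : Geo.IsUnitaryForm σ f) (v x : ι → F) : f v (-x) = -f v x := by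
  rw [← zero_sub, u_sub_right hf, u_zero_right hf, zero_sub]

section elements

variable (hf : Geo.IsUnitaryForm σ f)
include hf

/-- `x ↦ x + l f(x,v) v` for isotropic `v`, and the identity otherwise -/
noncomputable def ut (v : ι → F) (l : F) : GL ι F :=
  letI := Classical.propDecidable (f v v = 0)
  if h : f v v = 0 then H95.tv v (l • dv f v)
    (by rw [smul_dotProduct, show dv f v ⬝ᵥ v = f v v from u_dot hf v v, h, smul_zero])
  else 1

theorem ut_mulVec {v : ι → F} (h : f v v = 0) (l : F) (x : ι → F) :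
    (ut hf v l : Matrix ι ι F) *ᵥ x = x + (l * f x v) • v := by
  rw [ut, dif_pos h, tv_mulVec, smul_dotProduct, show dv f v ⬝ᵥ x = f x v from u_dot hf v x,
    smul_eq_mul]

theorem ut_mem_sl (v : ι → F) (l : F) : ut hf v l ∈ Geo.specialLinear ι F := by
  rw [ut]
  split
  · exact tv_mem_specialLinear _ _ _
  · exact Subgroup.one_mem _

theorem ut_mem_iso {v : ι → F} (h : f v v = 0) {l : F} (hl : σ l = -l) :
    ut hf v l ∈ isoGrp f := by
  rw [mem_isoGrp]
  intro x y
  rw [ut_mulVec hf h, ut_mulVec hf h, u_add_left hf, u_add_right hf, u_add_right hf,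
    u_smul_left hf, u_smul_right hf, u_smul_left hf, u_smul_right hf, h, map_mul, hl, u_conj hf]
  ring

theorem ut_add {v : ι → F} (h : f v v = 0) (a b : F) : ut hf v a * ut hf v b = ut hf v (a + b) := by
  refine gl_ext fun x => ?_
  simp only [mul_mulVec, ut_mulVec hf h, u_add_left hf, u_smul_left hf, h]
  module

theorem ut_zero (v : ι → F) (h : f v v = 0) : ut hf v 0 = 1 :=
  gl_ext fun x => by simp [ut_mulVec hf h]

theorem ut_inv {v : ι → F} (h : f v v = 0) (a : F) : (ut hf v a)⁻¹ = ut hf v (-a) :=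
  inv_eq_of_mul_eq_one_right (by rw [ut_add hf h, add_neg_cancel, ut_zero hf v h])

theorem ut_smul_vec {v : ι → F} (h : f v v = 0) (c l : F) :
    ut hf (c • v) l = ut hf v (l * (c * σ c)) := by
  refine gl_ext fun x => ?_
  have h' : f (c • v) (c • v) = 0 := by rw [u_smul_left hf, u_smul_right hf, h]; ring
  rw [ut_mulVec hf h', ut_mulVec hf h, u_smul_right hf]
  module

theorem conj_ut {g : GL ι F} (hg : g ∈ isoGrp f) {v : ι → F} (h : f v v = 0) (l : F) :
    g * ut hf v l * g⁻¹ = ut hf ((g : Matrix ι ι F) *ᵥ v) l := by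
  refine gl_ext fun x => ?_
  have h' : f ((g : Matrix ι ι F) *ᵥ v) ((g : Matrix ι ι F) *ᵥ v) = 0 := by
    rw [mem_isoGrp.1 hg, h]
  rw [mul_mulVec, mul_mulVec, ut_mulVec hf h, ut_mulVec hf h', mulVec_add, mulVec_smul,
    mulVec_inv_mulVec]
  congr 2
  conv_rhs => rw [← mulVec_inv_mulVec g x]
  rw [mem_isoGrp.1 hg]

/-- conditions on a pair of vectors carrying a short root element -/
def OrthIso (_hf : Geo.IsUnitaryForm σ f) (u v : ι → F) : Prop :=
  f u u = 0 ∧ f v v = 0 ∧ f u v = 0

omit hf in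
theorem OrthIso.symm {hf : Geo.IsUnitaryForm σ f} {u v : ι → F} (h : OrthIso hf u v) :
    OrthIso hf v u := ⟨h.2.1, h.1, u_symm_zero hf h.2.2⟩

/-- matrix of a short root element -/
def uhMat (f : (ι → F) → (ι → F) → F) (σ : F ≃+* F) (u v : ι → F) (c : F) : Matrix ι ι F :=
  1 + c • vecMulVec v (dv f u) - σ c • vecMulVec u (dv f v)

theorem uhMat_mulVec (u v : ι → F) (c : F) (x : ι → F) :
    uhMat f σ u v c *ᵥ x = x + (c * f x u) • v - (σ c * f x v) • u := by
  have key : ∀ a b : ι → F, vecMulVec a (dv f b) *ᵥ x = f x b • a := fun a b => by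
    rw [vecMulVec_mulVec, op_smul_eq_smul, show dv f b ⬝ᵥ x = f x b from u_dot hf b x]
  simp only [uhMat, sub_mulVec, add_mulVec, one_mulVec, Matrix.smul_mulVec, key, smul_smul]

/-- `x ↦ x + c f(x,u) v - σc f(x,v) u` -/
noncomputable def uh (u v : ι → F) (c : F) : GL ι F :=
  letI := Classical.propDecidable (OrthIso hf u v)
  if h : OrthIso hf u v then
    ⟨uhMat f σ u v c, uhMat f σ u v (-c),
      mat_ext fun x => by
        rw [← mulVec_mulVec, uhMat_mulVec hf, uhMat_mulVec hf, one_mulVec]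
        simp only [u_add_left hf, u_sub_left hf, u_smul_left hf, h.1, h.2.1, h.2.2,
          u_symm_zero hf h.2.2, map_neg]
        module,
      mat_ext fun x => by
        rw [← mulVec_mulVec, uhMat_mulVec hf, uhMat_mulVec hf, one_mulVec]
        simp only [u_add_left hf, u_sub_left hf, u_smul_left hf, h.1, h.2.1, h.2.2,
          u_symm_zero hf h.2.2, map_neg]
        module⟩
  else 1

theorem uh_mulVec {u v : ι → F} (h : OrthIso hf u v) (c : F) (x : ι → F) :
    (uh hf u v c : Matrix ι ι F) *ᵥ x = x + (c * f x u) • v - (σ c * f x v) • u := by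
  rw [uh, dif_pos h]
  exact uhMat_mulVec hf u v c x

theorem uh_mem_iso (u v : ι → F) (c : F) : uh hf u v c ∈ isoGrp f := by
  by_cases h : OrthIso hf u v
  · rw [mem_isoGrp]
    intro x y
    simp only [uh_mulVec hf h, u_add_left hf, u_add_right hf, u_sub_left hf, u_sub_right hf,
      u_smul_left hf, u_smul_right hf, h.1, h.2.1, h.2.2, u_symm_zero hf h.2.2, map_mul, u_inv hf,
      u_conj hf]
    ring
  · rw [uh, dif_neg h]; exact Subgroup.one_mem _

theorem uh_add {u v : ι → F} (h : OrthIso hf u v) (a b : F) :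
    uh hf u v a * uh hf u v b = uh hf u v (a + b) := by
  refine gl_ext fun x => ?_
  simp only [mul_mulVec, uh_mulVec hf h, u_add_left hf, u_sub_left hf, u_smul_left hf, h.1, h.2.1,
    h.2.2, u_symm_zero hf h.2.2, map_add]
  module

theorem uh_zero {u v : ι → F} (h : OrthIso hf u v) : uh hf u v 0 = 1 :=
  gl_ext fun x => by simp [uh_mulVec hf h]

theorem uh_inv {u v : ι → F} (h : OrthIso hf u v) (a : F) : (uh hf u v a)⁻¹ = uh hf u v (-a) :=
  inv_eq_of_mul_eq_one_right (by rw [uh_add hf h, add_neg_cancel, uh_zero hf h])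

theorem uh_comm {u v : ι → F} (h : OrthIso hf u v) (c : F) :
    uh hf u v c = uh hf v u (-σ c) := by
  refine gl_ext fun x => ?_
  rw [uh_mulVec hf h, uh_mulVec hf h.symm, map_neg, u_inv hf]
  module

theorem orthIso_map {g : GL ι F} (hg : g ∈ isoGrp f) {u v : ι → F} (h : OrthIso hf u v) :
    OrthIso hf ((g : Matrix ι ι F) *ᵥ u) ((g : Matrix ι ι F) *ᵥ v) :=
  ⟨by rw [mem_isoGrp.1 hg]; exact h.1, by rw [mem_isoGrp.1 hg]; exact h.2.1,
    by rw [mem_isoGrp.1 hg]; exact h.2.2⟩

theorem conj_uh {g : GL ι F} (hg : g ∈ isoGrp f) {u v : ι → F} (h : OrthIso hf u v) (c : F) :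
    g * uh hf u v c * g⁻¹ = uh hf ((g : Matrix ι ι F) *ᵥ u) ((g : Matrix ι ι F) *ᵥ v) c := by
  refine gl_ext fun x => ?_
  rw [mul_mulVec, mul_mulVec, uh_mulVec hf h, uh_mulVec hf (orthIso_map hf hg h), mulVec_sub,
    mulVec_add, mulVec_smul, mulVec_smul, mulVec_inv_mulVec]
  have e : ∀ w, f x ((g : Matrix ι ι F) *ᵥ w) =
      f (((g⁻¹ : GL ι F) : Matrix ι ι F) *ᵥ x) w := fun w => by
    conv_lhs => rw [← mulVec_inv_mulVec g x]
    rw [mem_isoGrp.1 hg]
  rw [e, e]

omit hf in
/-- `M` contains every transvection at `v` -/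
def UtIn (hf : Geo.IsUnitaryForm σ f) (M : Subgroup (GL ι F)) (v : ι → F) : Prop :=
  ∀ l, σ l = -l → ut hf v l ∈ M

theorem UtIn.smul {M : Subgroup (GL ι F)} {v : ι → F} (h : f v v = 0) (hv : UtIn hf M v) (c : F) :
    UtIn hf M (c • v) := fun l hl => by
  rw [ut_smul_vec hf h]
  exact hv _ (by rw [map_mul, map_mul, u_inv hf, hl]; ring)

theorem UtIn.conj {M : Subgroup (GL ι F)} {v : ι → F} (h : f v v = 0) (hv : UtIn hf M v)
    {g : GL ι F} (hg : g ∈ M) (hgi : g ∈ isoGrp f) : UtIn hf M ((g : Matrix ι ι F) *ᵥ v) :=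
  fun l hl => by
    rw [← conj_ut hf hgi h]
    exact M.mul_mem (M.mul_mem hg (hv l hl)) (M.inv_mem hg)

end elements

section bridge

variable {F : Type*} [Field F] [Fintype F] {n q : ℕ}

theorem isUnitaryForm_hermForm (hF : Fintype.card F = q ^ 2) :
    ∃ σ : F ≃+* F, (∀ x, σ x = x ^ q) ∧ Geo.IsUnitaryForm σ (Cfsg.hermForm n F q) := by
  refine ⟨Unitary.frob hF, Unitary.frob_apply hF,
    { ne_refl := fun h => ?_
      involutive := fun a => by rw [Unitary.frob_apply, Unitary.frob_apply, Unitary.pow_q_q hF]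
      add_left := fun x y v => Unitary.herm_add_left x y v
      smul_left := fun c x v => Unitary.herm_smul_left c x v
      herm := fun v w => by rw [Unitary.frob_apply]; exact (Unitary.herm_swap hF w v).symm
      nondegenerate := fun v hv => ⟨?_, ?_⟩ }⟩
  · have hall : ∀ x : F, x ^ q = x := fun x => by
      rw [← Unitary.frob_apply hF, h, RingEquiv.refl_apply]
    obtain ⟨g, hg⟩ := IsCyclic.exists_generator (α := Fˣ)
    have h1 := orderOf_eq_card_of_forall_mem_zpowers hg
    rw [Unitary.card_units hF] at h1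
    have hq := Unitary.two_le_q hF
    have h2 : g ^ (q - 1) = 1 := by
      refine mul_right_cancel (b := g) (Units.ext ?_)
      rw [one_mul, ← pow_succ, Units.val_pow_eq_pow_val, show q - 1 + 1 = q by omega]
      exact hall g
    have h3 := Nat.le_of_dvd (by omega) (orderOf_dvd_of_pow_eq_one h2)
    rw [h1] at h3
    have : 1 ≤ q - 1 := by omega
    nlinarith
  · by_contra hcon
    push Not at hcon
    exact hv (Unitary.eq_zero_of_forall_left hF hcon)
  · by_contra hcon
    push Not at hcon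
    exact hv (Unitary.eq_zero_of_forall_right hF hcon)

/-- `SU` is generated by its transvections. -/
theorem su_le_of_ut (hF : Fintype.card F = q ^ 2) (hn : 4 ≤ n) {σ : F ≃+* F}
    (hσ : ∀ x, σ x = x ^ q) (hf : Geo.IsUnitaryForm σ (Cfsg.hermForm n F q))
    {M : Subgroup (GL (Fin n) F)}
    (h : ∀ v, Cfsg.hermForm n F q v v = 0 → UtIn hf M v) :
    Cfsg.GU n F q ⊓ Geo.specialLinear (Fin n) F ≤ M := by
  rintro g ⟨hg, hgs⟩
  have hdet : (g : Matrix (Fin n) (Fin n) F).det = 1 := by
    have hgs' : Matrix.GeneralLinearGroup.det g = 1 := hgs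
    simpa using congrArg Units.val hgs'
  let φ : Cfsg.SU n F q →* GL (Fin n) F :=
    (Matrix.SpecialLinearGroup.toGL).comp (Cfsg.SU n F q).subtype
  have hle : ⊤ ≤ M.comap φ := by
    rw [← Unitary.tgroup_eq_top hF (.inl hn), Unitary.tgroup, Subgroup.closure_le]
    rintro A ⟨v, c, hv, hA⟩
    have hval : (φ A : Matrix (Fin n) (Fin n) F) = Cfsg.unitaryTransvection n q v c := hA
    rcases eq_or_ne v 0 with rfl | hv0
    · show φ A ∈ M
      convert M.one_mem
      refine gl_ext fun x => ?_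
      rw [hval, Unitary.unitaryTransvection_mulVec]
      simp
    have hc : σ c = -c := by
      -- preservation of the form
      obtain ⟨⟨y, hy⟩, -⟩ := hf.nondegenerate v hv0
      have hA' : Cfsg.hermForm n F q ((φ A : Matrix (Fin n) (Fin n) F) *ᵥ y)
          ((φ A : Matrix (Fin n) (Fin n) F) *ᵥ y) = Cfsg.hermForm n F q y y := A.2 y y
      rw [hval, Unitary.unitaryTransvection_mulVec] at hA'
      simp only [u_add_left hf, u_add_right hf, u_smul_left hf, u_smul_right hf, hv, map_mul,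
        u_conj hf] at hA'
      have hne : Cfsg.hermForm n F q y v * Cfsg.hermForm n F q v y ≠ 0 :=
        mul_ne_zero hy fun h0 => hy (u_symm_zero hf h0)
      exact mul_right_cancel₀ hne (by linear_combination hA')
    show φ A ∈ M
    convert h v hv c hc using 1
    refine gl_ext fun x => ?_
    rw [hval, Unitary.unitaryTransvection_mulVec, ut_mulVec hf hv]
  let A : Cfsg.SU n F q := ⟨⟨(g : Matrix (Fin n) (Fin n) F), hdet⟩, hg⟩
  have : φ A = g := Units.ext rfl
  exact this ▸ hle (Subgroup.mem_top A)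

end bridge

end Cfsg.Agent.Symplectic
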