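import Cfsg.Agent.Symplectic.HermSubBasic

/-! Eichler elements moving one vector to another of the same norm. -/

set_option autoImplicit false

namespace Cfsg.Agent.Symplectic

open scoped MatrixGroups Matrix
open Matrix Cfsg.Agent.H95

variable {ι : Type} [Fintype ι] [DecidableEq ι] {F : Type*} [Field F]
  {σ : F ≃+* F} {f : (ι → F) → (ι → F) → F}

theorem ue_move (hf : Geo.IsUnitaryForm σ f) {x y e : ι → F} (hee : f e e = 0)
    (hxy : f x x = f y y) (hxe : f x e = 1) (hye : f y e = 1) :
    EichOK hf e (y - x) (f x (y - x)) ∧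
      (ue hf e (y - x) (f x (y - x)) : Matrix ι ι F) *ᵥ x = y := by
  have h : EichOK hf e (y - x) (f x (y - x)) := by
    refine ⟨hee, by rw [u_sub_left hf, hye, hxe, sub_self], ?_⟩
    simp only [u_sub_right hf, u_sub_left hf, map_sub, u_conj hf]
    linear_combination -hxy
  refine ⟨h, ?_⟩
  rw [ue_mulVec hf h, hxe]
  module

end Cfsg.Agent.Symplectic
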