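import Cfsg.Agent.Symplectic.Order

/-! Non-degenerate alternating forms in standard coordinates; orthogonal splittings of forms. -/

set_option autoImplicit false
set_option maxHeartbeats 1000000

namespace Cfsg.Agent.Symplectic

open LinearMap (BilinForm)
open scoped Matrix

variable {F V V' : Type*} [Field F] [AddCommGroup V] [Module F V] [AddCommGroup V'] [Module F V']

/-- an isometry of forms carries the isometry group -/
def isomCongr {B : BilinForm F V} {B' : BilinForm F V'} (e : V ≃ₗ[F] V')
    (h : ∀ u v, B' (e u) (e v) = B u v) : Isom B ≃* Isom B' where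
  toFun g := ⟨e.symm.trans (g.1.trans e), fun u v => by
    show B' (e (g.1 (e.symm u))) (e (g.1 (e.symm v))) = B' u v
    rw [h, g.2, ← h, e.apply_symm_apply, e.apply_symm_apply]⟩
  invFun g := ⟨e.trans (g.1.trans e.symm), fun u v => by
    show B (e.symm (g.1 (e u))) (e.symm (g.1 (e v))) = B u v
    rw [← h, e.apply_symm_apply, e.apply_symm_apply, g.2, h]⟩
  left_inv g := Subtype.ext (LinearEquiv.ext fun v => by simp)
  right_inv g := Subtype.ext (LinearEquiv.ext fun v => by simp)
  map_mul' g g' := Subtype.ext (LinearEquiv.ext fun v => by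
    show e (g.1 (g'.1 (e.symm v))) = e (g.1 (e.symm (e (g'.1 (e.symm v)))))
    rw [e.symm_apply_apply])

theorem hyp_gram {m : ℕ} {B : BilinForm F V} (hA : B.IsAlt) {e f : Fin m → V}
    (h : IsHypSystem B e f) (i j : Fin m ⊕ Fin m) :
    B (Sum.elim f e i) (Sum.elim f e j) = Matrix.J (Fin m) F i j := by
  rcases i with i | i <;> rcases j with j | j <;>
    simp [Matrix.J, h.1, h.2.1, h.2.2, alt_swap hA (f i) (e j), Matrix.one_apply, eq_comm]

/-- A non-degenerate alternating form is the standard form in suitable coordinates. -/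
theorem exists_std_equiv [FiniteDimensional F V] {B : BilinForm F V} (hA : B.IsAlt)
    (hB : B.Nondegenerate) :
    ∃ (m : ℕ) (e : V ≃ₗ[F] (Fin m ⊕ Fin m → F)), Module.finrank F V = 2 * m ∧
      ∀ u v, Cfsg.sympForm m F (e u) (e v) = B u v := by
  classical
  obtain ⟨m, k, b, hb, hrad⟩ := exists_hyp_basis B hA
  have hk : k = 0 := by
    by_contra hk
    exact b.ne_zero (Sum.inr ⟨0, Nat.pos_of_ne_zero hk⟩)
      (hB.1 _ (hrad ⟨0, Nat.pos_of_ne_zero hk⟩))
  subst hk
  let b' : Module.Basis (Fin m ⊕ Fin m) F V :=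
    b.reindex ((Equiv.sumEmpty _ _).trans (Equiv.sumComm _ _))
  have hb' : ∀ i, b' i = Sum.elim (fun i => b (Sum.inl (Sum.inr i)))
      (fun i => b (Sum.inl (Sum.inl i))) i := by
    rintro (i | i) <;> simp [b']
  have he : ∀ i, b'.equivFun (b' i) = Pi.single i 1 := fun i => by
    funext j
    simp [Finsupp.single_apply, Pi.single_apply, eq_comm]
  refine ⟨m, b'.equivFun, ?_, fun u v => ?_⟩
  · rw [Module.finrank_eq_card_basis b']
    simp [two_mul]
  · have key : (spB m F).comp b'.equivFun.toLinearMap b'.equivFun.toLinearMap = B := by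
      refine LinearMap.BilinForm.ext_basis b' fun i j => ?_
      rw [LinearMap.BilinForm.comp_apply, LinearEquiv.coe_coe, he, he, spB_single, hb', hb',
        hyp_gram hA hb]
    rw [← spB_apply]
    exact LinearMap.congr_fun (LinearMap.congr_fun key u) v

/-- the isometry group of a non-degenerate alternating form -/
theorem exists_isom_mulEquiv [FiniteDimensional F V] {B : BilinForm F V} (hA : B.IsAlt)
    (hB : B.Nondegenerate) {m : ℕ} (hm : Module.finrank F V = 2 * m) :
    Nonempty (Isom B ≃* Matrix.symplecticGroup (Fin m) F) := by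
  obtain ⟨m', e, hm', he⟩ := exists_std_equiv hA hB
  obtain rfl : m' = m := by omega
  exact ⟨(isomCongr (B' := spB m' F) e fun u v => by rw [spB_apply, he]).trans (spEquiv m' F).symm⟩

theorem card_isom_alt [Fintype F] [FiniteDimensional F V] {B : BilinForm F V} (hA : B.IsAlt)
    (hB : B.Nondegenerate) :
    Nat.card (Isom B) = Fintype.card F ^ ((Module.finrank F V / 2) ^ 2) *
      ∏ i ∈ Finset.range (Module.finrank F V / 2), (Fintype.card F ^ (2 * (i + 1)) - 1) := by
  obtain ⟨m, e, hm, he⟩ := exists_std_equiv hA hB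
  obtain ⟨φ⟩ := exists_isom_mulEquiv hA hB hm
  rw [Nat.card_congr φ.toEquiv, card_sp, hm, Nat.mul_div_cancel_left _ two_pos]

/-- two non-degenerate alternating forms on spaces of equal dimension are isometric -/
theorem exists_alt_equiv [FiniteDimensional F V] [FiniteDimensional F V'] {B : BilinForm F V}
    {B' : BilinForm F V'} (hA : B.IsAlt) (hB : B.Nondegenerate) (hA' : B'.IsAlt)
    (hB' : B'.Nondegenerate) (h : Module.finrank F V = Module.finrank F V') :
    ∃ e : V ≃ₗ[F] V', ∀ u v, B' (e u) (e v) = B u v := by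
  obtain ⟨m, e, hm, he⟩ := exists_std_equiv hA hB
  obtain ⟨m', e', hm', he'⟩ := exists_std_equiv hA' hB'
  obtain rfl : m = m' := by omega
  exact ⟨e.trans e'.symm, fun u v => by
    rw [← he', ← he]; simp⟩

section split

variable [FiniteDimensional F V] {B : BilinForm F V} (hR : B.IsRefl) (hB : B.Nondegenerate)
  {P : Submodule F V} (hP : (B.restrict P).Nondegenerate)

include hR hB hP

theorem isCompl_orth : IsCompl P (B.orthogonal P) :=
  (LinearMap.BilinForm.restrict_nondegenerate_iff_isCompl_orthogonal hR).mp hP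

theorem restrict_orth_nondeg : (B.restrict (B.orthogonal P)).Nondegenerate := by
  refine B.nondegenerate_restrict_of_disjoint_orthogonal hR ?_
  rw [LinearMap.BilinForm.orthogonal_orthogonal hB hR]
  exact (isCompl_orth hR hB hP).1.symm

theorem finrank_orth : Module.finrank F (B.orthogonal P) =
    Module.finrank F V - Module.finrank F P := by
  rw [← Submodule.finrank_add_eq_of_isCompl (isCompl_orth hR hB hP)]
  omega

omit hR hB hP in
theorem split_apply (hR : B.IsRefl) (p p' : P) (r r' : B.orthogonal P) :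
    B ((p : V) + r) ((p' : V) + r') = B (p : V) p' + B (r : V) r' := by
  have h1 : B (p : V) r' = 0 := r'.2 _ p.2
  have h2 : B (r : V) p' = 0 := hR _ _ (r.2 _ p'.2)
  simp [h1, h2]

end split

/-- isometries of the summands give an isometry -/
theorem exists_isometry_sum [FiniteDimensional F V] [FiniteDimensional F V']
    {B : BilinForm F V} (hR : B.IsRefl) (hB : B.Nondegenerate)
    {B' : BilinForm F V'} (hR' : B'.IsRefl) (hB' : B'.Nondegenerate)
    {P : Submodule F V} (hP : (B.restrict P).Nondegenerate)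
    {P' : Submodule F V'} (hP' : (B'.restrict P').Nondegenerate)
    (a : P ≃ₗ[F] P') (ha : ∀ x y : P, B' (a x : V') (a y) = B (x : V) y)
    (c : B.orthogonal P ≃ₗ[F] B'.orthogonal P')
    (hc : ∀ x y : B.orthogonal P, B' (c x : V') (c y) = B (x : V) y) :
    ∃ e : V ≃ₗ[F] V', (∀ u v, B' (e u) (e v) = B u v) ∧ (∀ x : P, e (x : V) = a x) ∧
      ∀ x : B.orthogonal P, e (x : V) = c x := by
  let E := Submodule.prodEquivOfIsCompl _ _ (isCompl_orth hR hB hP)
  let E' := Submodule.prodEquivOfIsCompl _ _ (isCompl_orth hR' hB' hP')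
  let e := E.symm.trans ((a.prodCongr c).trans E')
  have he : ∀ (p : P) (r : B.orthogonal P), e ((p : V) + r) = (a p : V') + c r := by
    intro p r
    have h : E.symm ((p : V) + r) = (p, r) := by
      rw [LinearEquiv.symm_apply_eq]; simp [E]
    simp [e, h, E']
  refine ⟨e, fun u v => ?_, fun x => by simpa using he x 0, fun x => by simpa using he 0 x⟩
  obtain ⟨⟨p, r⟩, rfl⟩ := E.surjective u
  obtain ⟨⟨p', r'⟩, rfl⟩ := E.surjective v
  rw [show E (p, r) = (p : V) + r by simp [E], show E (p', r') = (p' : V) + r' by simp [E], he, he,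
    split_apply hR', split_apply hR, ha, hc]

/-- the stabiliser of a non-degenerate subspace in the isometry group -/
theorem exists_stabilizer_mulEquiv [FiniteDimensional F V] {B : BilinForm F V} (hR : B.IsRefl)
    (hB : B.Nondegenerate) {P : Submodule F V} (hP : (B.restrict P).Nondegenerate)
    (S : Subgroup (Isom B)) (hS : ∀ g : Isom B, g ∈ S ↔ ∀ x, x ∈ P ↔ g.1 x ∈ P) :
    Nonempty (S ≃* Isom (B.restrict P) × Isom (B.restrict (B.orthogonal P))) := by
  classical
  have hmap : ∀ g : S, P.map (g.1.1 : V →ₗ[F] V) = P := fun g => by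
    ext x
    rw [Submodule.mem_map_equiv, (hS g.1).mp g.2 (g.1.1.symm x), LinearEquiv.apply_symm_apply]
  have hmapO : ∀ g : S, ∀ x ∈ B.orthogonal P, g.1.1 x ∈ B.orthogonal P := by
    intro g x hx p hp
    obtain ⟨p', rfl⟩ := g.1.1.surjective p
    show B (g.1.1 p') (g.1.1 x) = 0
    rw [g.1.2]
    exact hx _ (((hS g.1).mp g.2 p').mpr hp)
  have hmapO' : ∀ g : S, (B.orthogonal P).map (g.1.1 : V →ₗ[F] V) = B.orthogonal P := fun g => by
    refine Submodule.eq_of_le_of_finrank_eq ?_ (LinearEquiv.finrank_map_eq g.1.1 _)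
    rintro _ ⟨x, hx, rfl⟩
    exact hmapO g x hx
  let φ : S →* Isom (B.restrict P) × Isom (B.restrict (B.orthogonal P)) :=
    { toFun := fun g => (⟨g.1.1.ofSubmodules P P (hmap g), fun u v => g.1.2 _ _⟩,
        ⟨g.1.1.ofSubmodules _ _ (hmapO' g), fun u v => g.1.2 _ _⟩)
      map_one' := by
        refine Prod.ext (Subtype.ext (LinearEquiv.ext fun x => Subtype.ext ?_))
          (Subtype.ext (LinearEquiv.ext fun x => Subtype.ext ?_)) <;> rfl
      map_mul' := fun g g' => by
        refine Prod.ext (Subtype.ext (LinearEquiv.ext fun x => Subtype.ext ?_))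
          (Subtype.ext (LinearEquiv.ext fun x => Subtype.ext ?_)) <;> rfl }
  refine ⟨MulEquiv.ofBijective φ ⟨fun g g' h => ?_, fun p => ?_⟩⟩
  · refine Subtype.ext (Subtype.ext (LinearEquiv.ext fun v => ?_))
    obtain ⟨⟨x, r⟩, rfl⟩ :=
      (Submodule.prodEquivOfIsCompl _ _ (isCompl_orth hR hB hP)).surjective v
    have h1 : g.1.1 (x : V) = g'.1.1 (x : V) :=
      congrArg Subtype.val (LinearEquiv.congr_fun (congrArg Subtype.val (congrArg Prod.fst h)) x)
    have h2 : g.1.1 (r : V) = g'.1.1 (r : V) :=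
      congrArg Subtype.val (LinearEquiv.congr_fun (congrArg Subtype.val (congrArg Prod.snd h)) r)
    simp [h1, h2]
  · obtain ⟨⟨a, ha⟩, ⟨c, hc⟩⟩ := p
    obtain ⟨e, he, hea, hec⟩ := exists_isometry_sum hR hB hR hB hP hP a (fun x y => ha x y) c
      (fun x y => hc x y)
    have hes : (⟨e, he⟩ : Isom B) ∈ S := by
      rw [hS]
      have h1 : ∀ x ∈ P, e x ∈ P := fun x hx => by
        rw [show e x = e ((⟨x, hx⟩ : P) : V) from rfl, hea]; exact SetLike.coe_mem _
      have h2 : P.map (e : V →ₗ[F] V) = P := by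
        refine Submodule.eq_of_le_of_finrank_eq ?_ (LinearEquiv.finrank_map_eq e _)
        rintro _ ⟨x, hx, rfl⟩
        exact h1 x hx
      refine fun x => ⟨h1 x, fun hx => ?_⟩
      obtain ⟨y, hy, hyx⟩ := h2.symm.le hx
      exact e.injective hyx ▸ hy
    refine ⟨⟨⟨e, he⟩, hes⟩, Prod.ext ?_ ?_⟩ <;>
      refine Subtype.ext (LinearEquiv.ext fun x => Subtype.ext ?_)
    · exact hea x
    · exact hec x

end Cfsg.Agent.Symplectic
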