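import Cfsg.Agent.Symplectic.AutSemi
import Cfsg.Agent.Symplectic.Order
import Mathlib

/-! Transvection images are singled out in `PSp` by the size of their conjugacy class. -/

set_option autoImplicit false
set_option linter.unusedSectionVars false

namespace Cfsg.Agent.Symplectic

open scoped Matrix
open Matrix Module

variable {m : ℕ} {F : Type*} [Field F]

local notation "𝕍" => Fin m ⊕ Fin m → F

/-- `s - 1` as a linear map -/
def nil (s : Matrix.symplecticGroup (Fin m) F) : Module.End F 𝕍 :=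
  Matrix.mulVecLin ((s : Mat m F) - 1)

theorem nil_apply (s : Matrix.symplecticGroup (Fin m) F) (x : 𝕍) :
    nil s x = (s : Mat m F) *ᵥ x - x := by
  simp [nil, Matrix.sub_mulVec]

theorem nil_conj (g t : Matrix.symplecticGroup (Fin m) F) (x : 𝕍) :
    nil (g * t * g⁻¹) ((g : Mat m F) *ᵥ x) = (g : Mat m F) *ᵥ nil t x := by
  rw [nil_apply, nil_apply, Matrix.mulVec_sub, Matrix.mulVec_mulVec, ← Submonoid.coe_mul,
    inv_mul_cancel_right, Submonoid.coe_mul, ← Matrix.mulVec_mulVec]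

theorem exists_chain_top {W : Type*} [AddCommGroup W] [Module F W] (N : Module.End F W)
    (S : Submodule F W) (hS : ∀ x ∈ S, N x ∈ S) :
    ∀ (n : ℕ) (y : W), y ∈ S → N y ≠ 0 → (N ^ n) y = 0 →
      ∃ w ∈ S, N w ≠ 0 ∧ N (N w) = 0 := by
  intro n
  induction n with
  | zero => intro y _ hy h; exact absurd (by simp at h; simp [h]) hy
  | succ n ih =>
    intro y hyS hy h
    by_cases h2 : N (N y) = 0
    · exact ⟨y, hyS, hy, h2⟩
    · exact ih (N y) (hS y hyS) h2 (by rwa [← Module.End.mul_apply, ← pow_succ])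

theorem nil_pow_eq_zero {p : ℕ} [Fact p.Prime] [CharP F p] (hm : 1 ≤ m)
    {s : Matrix.symplecticGroup (Fin m) F} (hs : s ^ p = 1) : (nil s) ^ p = 0 := by
  haveI : Nonempty (Fin m ⊕ Fin m) := ⟨Sum.inl ⟨0, hm⟩⟩
  have h : ((s : Mat m F) - 1) ^ p = 0 := by
    rw [sub_pow_char_of_commute _ (Commute.one_right _), one_pow, ← SubmonoidClass.coe_pow, hs,
      Submonoid.coe_one, sub_self]
  have h2 : (nil s) ^ p = Matrix.toLinAlgEquiv' (((s : Mat m F) - 1) ^ p) := by
    rw [map_pow]; rfl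
  rw [h2, h, map_zero]

/-- the fixed vectors in the commutator space -/
def fixRange (s : Matrix.symplecticGroup (Fin m) F) : Submodule F 𝕍 :=
  LinearMap.range (nil s) ⊓ LinearMap.ker (nil s)

theorem sf_range_ker (s : Matrix.symplecticGroup (Fin m) F) {x k : 𝕍} (hk : nil s k = 0) :
    Cfsg.sympForm m F (nil s x) k = 0 := by
  have hk' : (s : Mat m F) *ᵥ k = k := by rwa [nil_apply, sub_eq_zero] at hk
  have h := sf_invariant s x k
  rw [hk'] at h
  rw [nil_apply, sub_eq_add_neg, sf_add_left, ← neg_one_smul F x, sf_smul_left, h]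
  ring

theorem fixRange_ne_bot {p : ℕ} [Fact p.Prime] [CharP F p] (hm : 1 ≤ m)
    {s : Matrix.symplecticGroup (Fin m) F} (hs : s ^ p = 1) (hne : s ≠ 1) : fixRange s ≠ ⊥ := by
  obtain ⟨y, hy⟩ : ∃ y, nil s y ≠ 0 := by
    by_contra h
    simp only [not_exists, not_not] at h
    exact hne (sp_ext fun v => by simpa [nil_apply, sub_eq_zero] using h v)
  obtain ⟨w, -, hw, hw2⟩ := exists_chain_top (nil s) ⊤ (fun _ _ => trivial) p y trivial hy
    (by rw [nil_pow_eq_zero hm hs]; rfl)
  intro h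
  exact hw ((Submodule.mem_bot F).mp (h ▸ ⟨⟨w, rfl⟩, hw2⟩))

theorem sf_fixRange (s : Matrix.symplecticGroup (Fin m) F) {a b : 𝕍} (ha : a ∈ fixRange s)
    (hb : b ∈ fixRange s) : Cfsg.sympForm m F a b = 0 := by
  obtain ⟨x, rfl⟩ := ha.1
  exact sf_range_ker s hb.2

/-- an element with one-dimensional commutator space is a transvection -/
theorem exists_T_of_finrank_one (s : Matrix.symplecticGroup (Fin m) F) (hne : s ≠ 1)
    (h : finrank F (LinearMap.range (nil s)) ≤ 1) :
    ∃ v c, v ≠ 0 ∧ c ≠ 0 ∧ s = T v c := by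
  obtain ⟨y, hy⟩ : ∃ y, nil s y ≠ 0 := by
    by_contra hh
    simp only [not_exists, not_not] at hh
    exact hne (sp_ext fun v => by simpa [nil_apply, sub_eq_zero] using hh v)
  set w := nil s y with hw
  have hspan : ∀ x, ∃ a : F, nil s x = a • w := by
    intro x
    have hle : F ∙ w ≤ LinearMap.range (nil s) := by
      rw [Submodule.span_singleton_le_iff_mem]; exact ⟨y, rfl⟩
    have := Submodule.eq_of_le_of_finrank_le hle (by rwa [finrank_span_singleton hy])
    have hx : nil s x ∈ F ∙ w := this ▸ ⟨x, rfl⟩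
    obtain ⟨a, ha⟩ := Submodule.mem_span_singleton.mp hx
    exact ⟨a, ha.symm⟩
  obtain ⟨x0, hx0⟩ := sf_exists_one hy
  let φ : 𝕍 →ₗ[F] F := spB m F w
  have hφ : ∀ x, φ x = Cfsg.sympForm m F w x := fun x => spB_apply w x
  have hle : LinearMap.ker (nil s) ≤ LinearMap.ker φ := fun k hk => by
    rw [LinearMap.mem_ker, hφ]
    exact sf_range_ker s hk
  have heq : LinearMap.ker (nil s) = LinearMap.ker φ := by
    refine Submodule.eq_of_le_of_finrank_le hle ?_
    have h1 := (nil s).finrank_range_add_finrank_ker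
    have h2 := φ.finrank_range_add_finrank_ker
    have h3 : 0 < finrank F (LinearMap.range φ) := by
      rw [Module.finrank_pos_iff]
      refine ⟨⟨⟨φ x0, x0, rfl⟩, 0, ?_⟩⟩
      simp [Subtype.ext_iff, hφ, hx0]
    omega
  obtain ⟨a, ha⟩ := hspan x0
  have key : ∀ x, nil s x = (a * Cfsg.sympForm m F w x) • w := by
    intro x
    have : x - Cfsg.sympForm m F w x • x0 ∈ LinearMap.ker (nil s) := by
      rw [heq, LinearMap.mem_ker, map_sub, map_smul, hφ, hφ, hx0]
      simp
    rw [LinearMap.mem_ker, map_sub, map_smul, sub_eq_zero] at this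
    rw [this, ha, smul_smul, mul_comm]
  refine ⟨w, -a, hy, fun h0 => hy ?_, sp_ext fun x => ?_⟩
  · rw [neg_eq_zero] at h0
    have := key y
    rw [h0, zero_mul, zero_smul] at this
    exact hw ▸ this
  · have := key x
    rw [nil_apply, sub_eq_iff_eq_add] at this
    rw [this, T_mulVec, sf_swap x w, add_comm]
    congr 1
    ring_nf

/-! ### counting conjugates -/

theorem conj_count [Finite F] {ι : Type*} [Finite ι] {k : ℕ}
    (s : Matrix.symplecticGroup (Fin m) F)
    (P : Matrix.symplecticGroup (Fin m) F → (Fin k → 𝕍) → Prop)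
    (hP : ∀ g t a, P t a → P (g * t * g⁻¹) (g • a)) (a0 : Frame m F k)
    (h : ι → Matrix.symplecticGroup (Fin m) F)
    (hinj : Function.Injective fun c => h c * s * (h c)⁻¹)
    (hPa : ∀ c, P (h c * s * (h c)⁻¹) a0.1) :
    Nat.card ι * Nat.card (Frame m F k) ≤
      Nat.card {t // IsConj s t} * Nat.card {a // P s a} := by
  classical
  choose g hg using fun a : Frame m F k =>
    exists_sp_map a0.1 a.1 a0.2.1 a.2.1 (fun i j => by rw [a0.2.2, a.2.2])
  have hg' : ∀ a : Frame m F k, g a • a0.1 = a.1 := fun a => funext (hg a)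
  have hconj : ∀ t : {t // IsConj s t}, ∃ x, x * s * x⁻¹ = t.1 := fun t => isConj_iff.mp t.2
  choose x hx using hconj
  let T0 : ι × Frame m F k → {t // IsConj s t} := fun z =>
    ⟨g z.2 * (h z.1 * s * (h z.1)⁻¹) * (g z.2)⁻¹, isConj_iff.mpr ⟨g z.2 * h z.1, by group⟩⟩
  have hT : ∀ z, P s ((x (T0 z))⁻¹ • z.2.1) := by
    intro z
    have h1 : P (T0 z).1 z.2.1 := by
      have := hP (g z.2) _ _ (hPa z.1)
      rwa [hg'] at this
    have h2 := hP (x (T0 z))⁻¹ _ _ h1
    rw [← hx (T0 z)] at h2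
    convert h2 using 1
    group
  rw [← Nat.card_prod, ← Nat.card_prod]
  refine Nat.card_le_card_of_injective (fun z => (T0 z, ⟨_, hT z⟩)) fun z z' he => ?_
  simp only [Prod.mk.injEq, Subtype.mk.injEq] at he
  obtain ⟨h1, h2⟩ := he
  rw [h1, smul_left_cancel_iff] at h2
  have h3 : z.2 = z'.2 := Subtype.ext h2
  have h4 := congrArg Subtype.val h1
  simp only [T0, h3, mul_left_inj, mul_right_inj] at h4
  exact Prod.ext (hinj h4) h3

theorem card_bases [Fintype F] {W : Type*} [AddCommGroup W] [Module F W] [Finite W] (S : Submodule F W) :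
    Nat.card {a : Fin (finrank F S) → W // LinearIndependent F a ∧ ∀ i, a i ∈ S} =
      ∏ i : Fin (finrank F S),
        (Fintype.card F ^ finrank F S - Fintype.card F ^ (i : ℕ)) := by
  classical
  haveI := Fintype.ofFinite S
  have := card_linearIndependent (K := F) (k := finrank F S) (Nat.le_refl (finrank F S))
  rw [← this]
  refine Nat.card_congr
    { toFun := fun a => ⟨fun i => ⟨a.1 i, a.2.2 i⟩, LinearIndependent.of_comp S.subtype a.2.1⟩
      invFun := fun b => ⟨fun i => (b.1 i).1, b.2.map' S.subtype S.ker_subtype, fun i => (b.1 i).2⟩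
      left_inv := fun a => rfl
      right_inv := fun b => rfl }

theorem frames_ge (q d : ℕ) (hq : 2 ≤ q) (hd : 2 ≤ d) (hdm : d ≤ m) (hm : 3 ≤ m) :
    q ^ (2 * m) * ∏ i ∈ Finset.range d, (q ^ d - q ^ i) ≤
      ∏ i ∈ Finset.range d, (q ^ (2 * m - i) - q ^ i) := by
  have hfac : ∀ i ∈ Finset.range d,
      q ^ (2 * m - i - d) * (q ^ d - q ^ i) ≤ q ^ (2 * m - i) - q ^ i := by
    intro i hi
    rw [Finset.mem_range] at hi
    rw [Nat.mul_sub, ← pow_add, ← pow_add]
    have e1 : 2 * m - i - d + d = 2 * m - i := by omega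
    rw [e1]
    have : q ^ i ≤ q ^ (2 * m - i - d + i) := Nat.pow_le_pow_right (by omega) (by omega)
    omega
  calc _ ≤ q ^ (∑ i ∈ Finset.range d, (2 * m - i - d)) *
        ∏ i ∈ Finset.range d, (q ^ d - q ^ i) := by
        refine Nat.mul_le_mul_right _ (Nat.pow_le_pow_right (by omega) ?_)
        rcases Nat.lt_or_ge d 3 with h | h
        · obtain rfl : d = 2 := by omega
          simp [Finset.sum_range_succ]; omega
        · refine le_trans ?_ (Finset.sum_le_sum_of_subset (Finset.range_subset_range.mpr h))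
          simp [Finset.sum_range_succ]; omega
    _ = ∏ i ∈ Finset.range d, q ^ (2 * m - i - d) * (q ^ d - q ^ i) := by
        rw [Finset.prod_mul_distrib, Finset.prod_pow_eq_pow_sum]
    _ ≤ _ := Finset.prod_le_prod' hfac

theorem frames_two_ge (q : ℕ) (hq : 2 ≤ q) (hm : 2 ≤ m) :
    q ^ (2 * m) * ((q - 1) * (q ^ 2 - q)) ≤
      (q ^ (2 * m - 0) - q ^ 0) * (q ^ (2 * m - 1) - q ^ 1) := by
  obtain ⟨r, rfl⟩ : ∃ r, q = r + 1 := ⟨q - 1, by omega⟩
  obtain ⟨j, rfl⟩ : ∃ j, m = j + 2 := ⟨m - 2, by omega⟩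
  have e1 : 2 * (j + 2) - 0 = 2 * j + 3 + 1 := by omega
  have e2 : 2 * (j + 2) - 1 = 2 * j + 2 + 1 := by omega
  have e3 : 2 * (j + 2) = 2 * j + 4 := by omega
  rw [e1, e2, e3, pow_one, pow_zero, Nat.add_sub_cancel]
  have a1 : r * (r + 1) ^ (2 * j + 3) ≤ (r + 1) ^ (2 * j + 3 + 1) - 1 := by
    have : 0 < (r + 1) ^ (2 * j + 3) := by positivity
    have : (r + 1) ^ (2 * j + 3 + 1) = r * (r + 1) ^ (2 * j + 3) + (r + 1) ^ (2 * j + 3) := by ring
    omega
  have a2 : r * (r + 1) ^ 2 ≤ (r + 1) ^ (2 * j + 2 + 1) - (r + 1) := by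
    have h1 : (r + 1) ^ 3 ≤ (r + 1) ^ (2 * j + 2 + 1) :=
      Nat.pow_le_pow_right (by omega) (by omega)
    have h2 : (r + 1) ^ 3 = r * (r + 1) ^ 2 + (r + 1) ^ 2 := by ring
    have h3 : r + 1 ≤ (r + 1) ^ 2 := Nat.le_self_pow (by omega) _
    omega
  have a3 : (r + 1) ^ 2 - (r + 1) = r * (r + 1) := by
    have : (r + 1) ^ 2 = r * (r + 1) + (r + 1) := by ring
    omega
  rw [a3]
  refine le_trans (le_of_eq ?_) (Nat.mul_le_mul a1 a2)
  ring

theorem frames_four_ge (q : ℕ) (hq : 2 ≤ q) :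
    q ^ 4 * ((q ^ 2 - 1) * (q ^ 2 - q)) ≤ q * ((q ^ 4 - 1) * (q ^ 3 - q)) := by
  obtain ⟨r, rfl⟩ : ∃ r, q = r + 1 := ⟨q - 1, by omega⟩
  have a1 : r * (r + 1) ^ 3 ≤ (r + 1) ^ 4 - 1 := by
    have : 0 < (r + 1) ^ 3 := by positivity
    have : (r + 1) ^ 4 = r * (r + 1) ^ 3 + (r + 1) ^ 3 := by ring
    omega
  have a2 : (r + 1) ^ 2 - (r + 1) = r * (r + 1) := by
    have : (r + 1) ^ 2 = r * (r + 1) + (r + 1) := by ring
    omega
  have a3 : (r + 1) ^ 3 - (r + 1) = (r + 1) * ((r + 1) ^ 2 - 1) := by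
    rw [Nat.mul_sub, mul_one, ← pow_succ']
  rw [a2, a3]
  calc (r + 1) ^ 4 * (((r + 1) ^ 2 - 1) * (r * (r + 1)))
      = (r + 1) * ((r * (r + 1) ^ 3) * ((r + 1) * ((r + 1) ^ 2 - 1))) := by ring
    _ ≤ _ := by gcongr

/-! ### lower bound for non-transvections -/

theorem fixRange_conj (g t : Matrix.symplecticGroup (Fin m) F) {a : 𝕍} (ha : a ∈ fixRange t) :
    (g : Mat m F) *ᵥ a ∈ fixRange (g * t * g⁻¹) := by
  obtain ⟨⟨x, hx⟩, hk⟩ := ha
  refine ⟨⟨(g : Mat m F) *ᵥ x, by rw [nil_conj, hx]⟩, ?_⟩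
  show nil _ _ = 0
  rw [nil_conj, show nil t a = 0 from hk, Matrix.mulVec_zero]

theorem class_ge_of_two_le [Fintype F] (hm : 3 ≤ m) (s : Matrix.symplecticGroup (Fin m) F)
    (hd : 2 ≤ finrank F (fixRange s)) :
    Fintype.card F ^ (2 * m) ≤ Nat.card {t // IsConj s t} := by
  set d := finrank F (fixRange s) with hd'
  let b := Module.finBasisOfFinrankEq F (fixRange s) rfl
  let a0 : Frame m F d := ⟨fun i => (b i : 𝕍),
    b.linearIndependent.map' (fixRange s).subtype (Submodule.ker_subtype _),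
    fun i j => sf_fixRange s (b i).2 (b j).2⟩
  have hdm : d ≤ m := by
    have h1 := Submodule.finrank_mono (span_le_perp a0)
    rw [finrank_span_eq_card a0.2.1, finrank_perp a0.2.1, Fintype.card_fin] at h1
    omega
  have hc := conj_count s (fun t a => LinearIndependent F a ∧ ∀ i, a i ∈ fixRange t)
    (fun g t a ha => ⟨ha.1.map' (spEquiv m F g).1.toLinearMap (LinearEquiv.ker _),
      fun i => fixRange_conj g t (ha.2 i)⟩) a0 (fun _ : Unit => 1)
    (fun _ _ _ => rfl) (fun _ => by simpa using ⟨a0.2.1, fun i => (b i).2⟩)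
  rw [Nat.card_unique, one_mul, card_frame, card_bases, ← hd',
    Fin.prod_univ_eq_prod_range (fun i => Fintype.card F ^ d - Fintype.card F ^ i)] at hc
  have hpos : 0 < ∏ i ∈ Finset.range d, (Fintype.card F ^ d - Fintype.card F ^ i) :=
    Finset.prod_pos fun i hi => Nat.sub_pos_of_lt
      (Nat.pow_lt_pow_right Fintype.one_lt_card (Finset.mem_range.mp hi))
  exact Nat.le_of_mul_le_mul_right ((frames_ge _ d Fintype.one_lt_card hd hdm hm).trans hc) hpos

theorem class_ge_of_one [Fintype F] {p : ℕ} [Fact p.Prime] [CharP F p] (hm : 2 ≤ m)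
    {s : Matrix.symplecticGroup (Fin m) F} (hs : s ^ p = 1)
    (hR : 2 ≤ finrank F (LinearMap.range (nil s))) (hd : finrank F (fixRange s) = 1) :
    Fintype.card F ^ (2 * m) ≤ Nat.card {t // IsConj s t} := by
  classical
  set W : Submodule F 𝕍 := LinearMap.range (nil s) ⊓ LinearMap.ker (nil s ^ 2) with hWdef
  have hmem : ∀ x, x ∈ W ↔ x ∈ LinearMap.range (nil s) ∧ nil s (nil s x) = 0 := fun x => by
    simp [hWdef, pow_two]
  have hUW : fixRange s ≤ W := fun x hx => (hmem x).mpr ⟨hx.1, by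
    rw [show nil s x = 0 from hx.2, map_zero]⟩
  obtain ⟨y, hy, hyU⟩ : ∃ y ∈ LinearMap.range (nil s), y ∉ fixRange s := by
    by_contra hh
    simp only [not_exists, not_and, not_not] at hh
    have := Submodule.finrank_mono (R := F) (s := LinearMap.range (nil s)) (t := fixRange s)
      (fun y hy => hh y hy)
    omega
  obtain ⟨w, hw, hw1, hw2⟩ := exists_chain_top (nil s) (LinearMap.range (nil s))
    (fun x _ => ⟨x, rfl⟩) p y hy (fun h0 => hyU ⟨hy, h0⟩)
    (by rw [nil_pow_eq_zero (by omega) hs]; rfl)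
  have hwW : w ∈ W := (hmem w).mpr ⟨hw, hw2⟩
  have hwU : w ∉ fixRange s := fun h => hw1 h.2
  have hW2 : finrank F W ≤ 2 := by
    have h1 := ((nil s).domRestrict W).finrank_range_add_finrank_ker
    have h2 : finrank F (LinearMap.range ((nil s).domRestrict W)) ≤ finrank F (fixRange s) :=
      Submodule.finrank_mono (by
        rintro _ ⟨x, rfl⟩
        exact ⟨⟨x.1, rfl⟩, ((hmem x.1).mp x.2).2⟩)
    have h3 : finrank F (LinearMap.ker ((nil s).domRestrict W)) ≤ finrank F (fixRange s) := by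
      refine LinearMap.finrank_le_finrank_of_injective
        (f := ((W.subtype.domRestrict _).codRestrict (fixRange s)
          (fun x => ⟨((hmem x.1.1).mp x.1.2).1, x.2⟩))) ?_
      intro x x' h
      exact Subtype.ext (Subtype.ext (congrArg Subtype.val h :))
    omega
  set u := nil s w with hu
  have huU : u ∈ fixRange s := ⟨⟨w, rfl⟩, hw2⟩
  have hli : LinearIndependent F ![u, w] := by
    rw [LinearIndependent.pair_iff]
    intro a c h
    have h' := congrArg (nil s) h
    rw [map_add, map_smul, map_smul, map_zero, hw2, smul_zero, zero_add] at h'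
    have hc : c = 0 := (smul_eq_zero.mp h').resolve_right hw1
    rw [hc, zero_smul, add_zero] at h
    exact ⟨(smul_eq_zero.mp h).resolve_right hw1, hc⟩
  have huw : Cfsg.sympForm m F u w = 0 := by
    obtain ⟨x, hx⟩ := hw
    rw [← hx, sf_swap, sf_range_ker s huU.2, neg_zero]
  let a0 : Frame m F 2 := ⟨![u, w], hli, by
    intro i j
    fin_cases i <;> fin_cases j <;>
      simp [sf_self, huw, sf_swap w u]⟩
  let P : Matrix.symplecticGroup (Fin m) F → (Fin 2 → 𝕍) → Prop := fun t a =>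
    (a 0 ∈ fixRange t ∧ a 0 ≠ 0) ∧
      (a 1 ∈ LinearMap.range (nil t) ∧ nil t (nil t (a 1)) = 0 ∧ a 1 ∉ fixRange t)
  have hP : ∀ g t a, P t a → P (g * t * g⁻¹) (g • a) := by
    rintro g t a ⟨⟨h1, h2⟩, h3, h4, h5⟩
    refine ⟨⟨fixRange_conj g t h1, sp_mulVec_ne_zero g h2⟩, ?_, ?_, ?_⟩
    · obtain ⟨x, hx⟩ := h3
      exact ⟨(g : Mat m F) *ᵥ x, by rw [nil_conj, hx]; rfl⟩
    · show nil _ (nil _ ((g : Mat m F) *ᵥ a 1)) = 0
      rw [nil_conj, nil_conj, h4, Matrix.mulVec_zero]
    · intro h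
      have h6 := fixRange_conj g⁻¹ _ h
      rw [show g⁻¹ * (g * t * g⁻¹) * g⁻¹⁻¹ = t by group] at h6
      change (↑g⁻¹ : Mat m F) *ᵥ ((g : Mat m F) *ᵥ a 1) ∈ _ at h6
      rw [Matrix.mulVec_mulVec, ← Submonoid.coe_mul, inv_mul_cancel, Submonoid.coe_one,
        Matrix.one_mulVec] at h6
      exact h5 h6
  have hc := conj_count s P hP a0 (fun _ : Unit => 1) (fun _ _ _ => rfl)
    (fun _ => by simpa [P, a0] using ⟨⟨huU, hw1⟩, hw, hw2, hwU⟩)
  rw [Nat.card_unique, one_mul, card_frame, Finset.prod_range_succ, Finset.prod_range_one] at hc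
  set q := Fintype.card F
  have hB : Nat.card {a // P s a} ≤ (q - 1) * (q ^ 2 - q) := by
    have hinj := Nat.card_le_card_of_injective (α := {a // P s a})
      (β := ↥((fixRange s : Set 𝕍) \ {0}) × ↥((W : Set 𝕍) \ (fixRange s : Set 𝕍)))
      (fun a => (⟨a.1 0, a.2.1⟩, ⟨a.1 1, (hmem _).mpr ⟨a.2.2.1, a.2.2.2.1⟩, a.2.2.2.2⟩))
      (fun a a' h => by
        simp only [Prod.mk.injEq] at h
        refine Subtype.ext (funext fun i => ?_)
        fin_cases i
        · exact congrArg Subtype.val h.1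
        · exact congrArg Subtype.val h.2)
    rw [Nat.card_prod, Nat.card_coe_set_eq, Nat.card_coe_set_eq,
      Set.ncard_sdiff (Set.singleton_subset_iff.mpr (fixRange s).zero_mem),
      Set.ncard_sdiff hUW, ← Nat.card_coe_set_eq, ← Nat.card_coe_set_eq (W : Set 𝕍),
      Set.ncard_singleton] at hinj
    simp only [SetLike.coe_sort_coe] at hinj
    rw [Module.natCard_eq_pow_finrank (K := F) (V := fixRange s),
      Module.natCard_eq_pow_finrank (K := F) (V := W), hd, pow_one,
      Nat.card_eq_fintype_card (α := F)] at hinj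
    refine hinj.trans (Nat.mul_le_mul_left _ (Nat.sub_le_sub_right ?_ _))
    exact Nat.pow_le_pow_right Fintype.card_pos hW2
  have hpos : 0 < (q - 1) * (q ^ 2 - q) := by
    have : 1 < q := Fintype.one_lt_card
    have : q < q ^ 2 := lt_self_pow₀ this (by omega)
    exact Nat.mul_pos (by omega) (by omega)
  exact Nat.le_of_mul_le_mul_right
    (((frames_two_ge q Fintype.one_lt_card hm).trans hc).trans (Nat.mul_le_mul_left _ hB)) hpos

theorem class_ge_of_four [Fintype F] (hm : m = 2)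
    {s : Matrix.symplecticGroup (Fin m) F}
    (hd : 2 ≤ finrank F (fixRange s))
    (hB : (2 : F) ≠ 0 ∨ ∃ x, Cfsg.sympForm m F (nil s x) x ≠ 0) :
    Fintype.card F ^ (2 * m) ≤ Nat.card {t // IsConj s t} := by
  classical
  have hsum := (nil s).finrank_range_add_finrank_ker
  have hdim : finrank F 𝕍 = 4 := by simp [hm]
  let b0 := Module.finBasis F (fixRange s)
  let a' : Frame m F (finrank F (fixRange s)) := ⟨fun i => (b0 i : 𝕍),
    b0.linearIndependent.map' (fixRange s).subtype (Submodule.ker_subtype _),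
    fun i j => sf_fixRange s (b0 i).2 (b0 j).2⟩
  have hd2 : finrank F (fixRange s) = 2 := by
    have h1 := Submodule.finrank_mono (span_le_perp a')
    rw [finrank_span_eq_card a'.2.1, finrank_perp a'.2.1, Fintype.card_fin] at h1
    omega
  have hle1 : fixRange s ≤ LinearMap.range (nil s) := inf_le_left
  have hle2 : fixRange s ≤ LinearMap.ker (nil s) := inf_le_right
  have r1 := Submodule.finrank_mono hle1
  have r2 := Submodule.finrank_mono hle2
  have hker : fixRange s = LinearMap.ker (nil s) :=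
    Submodule.eq_of_le_of_finrank_le hle2 (by omega)
  have hrange : fixRange s = LinearMap.range (nil s) :=
    Submodule.eq_of_le_of_finrank_le hle1 (by omega)
  obtain ⟨u, x, hu, hu0, hx, hux'⟩ : ∃ u x, u ∈ fixRange s ∧ u ≠ 0 ∧ nil s x = u ∧
      ((2 : F) ≠ 0 ∨ Cfsg.sympForm m F u x ≠ 0) := by
    rcases hB with h2 | ⟨x, hx⟩
    · let b := Module.finBasisOfFinrankEq F (fixRange s) hd2
      obtain ⟨x, hx⟩ := (b 0).2.1
      exact ⟨_, x, (b 0).2, fun h => b.ne_zero 0 (Subtype.ext h), hx, Or.inl h2⟩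
    · refine ⟨nil s x, x, by rw [hrange]; exact ⟨x, rfl⟩, fun h => hx ?_, rfl, Or.inr hx⟩
      rw [h, ← zero_smul F x, sf_smul_left, zero_mul]
  obtain ⟨w, hwU, hwu⟩ : ∃ w ∈ fixRange s, w ∉ F ∙ u := by
    by_contra hh
    simp only [not_exists, not_and, not_not] at hh
    have := Submodule.finrank_mono (R := F) (s := fixRange s) (t := F ∙ u) hh
    rw [finrank_span_singleton hu0] at this
    omega
  have hli : LinearIndependent F ![u, w] := (LinearIndependent.pair_iff' hu0).mpr fun a ha =>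
    hwu (Submodule.mem_span_singleton.mpr ⟨a, ha⟩)
  have huw : Cfsg.sympForm m F u w = 0 := sf_fixRange s hu hwU
  let a0 : Frame m F 2 := ⟨![u, w], hli, by
    intro i j
    fin_cases i <;> fin_cases j <;> simp [sf_self, huw, sf_swap w u]⟩
  have hspan : ∀ z ∈ fixRange s, ∃ a c : F, z = a • u + c • w := by
    intro z hz
    have hle : Submodule.span F {u, w} ≤ fixRange s := by
      rw [Submodule.span_le]; rintro _ (rfl | rfl) <;> assumption
    have heq := Submodule.eq_of_le_of_finrank_le hle (by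
      rw [← Matrix.range_cons_cons_empty (u := ![]) u w, finrank_span_eq_card hli, hd2,
        Fintype.card_fin])
    obtain ⟨a, c, h⟩ := Submodule.mem_span_pair.mp (heq ▸ hz)
    exact ⟨a, c, h.symm⟩
  obtain ⟨y, hy⟩ : ∃ y, nil s y = w := hwU.1
  have hext : ∀ c : F, ∃ g : Matrix.symplecticGroup (Fin m) F,
      (g : Mat m F) *ᵥ u = u ∧ (g : Mat m F) *ᵥ w = w + c • u := by
    intro c
    have hli : LinearIndependent F ![u, w + c • u] := by
      rw [LinearIndependent.pair_iff]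
      intro α β h
      have h0 : LinearIndependent F ![u, w] := by
        exact hli
      have h3 := LinearIndependent.pair_iff.mp h0 (α + β * c) β (by rw [← h]; module)
      exact ⟨by simpa [h3.2] using h3.1, h3.2⟩
    obtain ⟨g, hg⟩ := exists_sp_map a0.1 ![u, w + c • u] a0.2.1 hli (by
      intro i j
      fin_cases i <;> fin_cases j <;>
        simp [a0, sf_self, huw, sf_swap w u, sf_add_left, sf_add_right, sf_smul_left,
          sf_smul_right])
    exact ⟨g, by simpa [a0] using hg 0, by simpa [a0] using hg 1⟩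
  choose h hh1 hh2 using hext
  have hsh : ∀ c, ∀ z ∈ fixRange s, (h c : Mat m F) *ᵥ z ∈ fixRange s := by
    intro c z hz
    obtain ⟨α, β, rfl⟩ := hspan z hz
    rw [Matrix.mulVec_add, Matrix.mulVec_smul, Matrix.mulVec_smul, hh1, hh2]
    exact Submodule.add_mem _ (Submodule.smul_mem _ _ hu)
      (Submodule.smul_mem _ _ (Submodule.add_mem _ hwU (Submodule.smul_mem _ _ hu)))
  have hinj : Function.Injective fun c => h c * s * (h c)⁻¹ := by
    intro c c' he
    by_contra hne
    set g := (h c')⁻¹ * h c with hg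
    have hgs : g * s * g⁻¹ = s := by
      simp only at he
      calc g * s * g⁻¹ = (h c')⁻¹ * (h c * s * (h c)⁻¹) * h c' := by rw [hg]; group
        _ = s := by rw [he]; group
    have hN : ∀ z, nil s ((g : Mat m F) *ᵥ z) = (g : Mat m F) *ᵥ nil s z := fun z => by
      have := nil_conj g s z
      rwa [hgs] at this
    have hinv : ∀ z, ((h c')⁻¹ : Matrix.symplecticGroup (Fin m) F).1 *ᵥ
        ((h c' : Mat m F) *ᵥ z) = z := fun z => by
      rw [Matrix.mulVec_mulVec, ← Submonoid.coe_mul, inv_mul_cancel, Submonoid.coe_one,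
        Matrix.one_mulVec]
    have hgu : (g : Mat m F) *ᵥ u = u := by
      rw [hg, Submonoid.coe_mul, ← Matrix.mulVec_mulVec, hh1]
      conv_lhs => rw [← hh1 c']
      exact hinv u
    set δ := c - c' with hδ
    have hgw : (g : Mat m F) *ᵥ w = w + δ • u := by
      rw [hg, Submonoid.coe_mul, ← Matrix.mulVec_mulVec, hh2]
      have e : w + c • u = (h c' : Mat m F) *ᵥ (w + δ • u) := by
        rw [Matrix.mulVec_add, Matrix.mulVec_smul, hh1, hh2, hδ, sub_smul]; abel
      rw [e, hinv]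
    have hgx : ∃ k ∈ fixRange s, (g : Mat m F) *ᵥ x = x + k := by
      refine ⟨(g : Mat m F) *ᵥ x - x, ?_, (add_sub_cancel _ _).symm⟩
      rw [hker, LinearMap.mem_ker, map_sub, hN, hx, hgu, sub_self]
    obtain ⟨k, hk, hgx⟩ := hgx
    obtain ⟨l, hl, hgy⟩ : ∃ l ∈ fixRange s, (g : Mat m F) *ᵥ y = y + δ • x + l := by
      refine ⟨(g : Mat m F) *ᵥ y - (y + δ • x), ?_, (add_sub_cancel _ _).symm⟩
      rw [hker, LinearMap.mem_ker, map_sub, map_add, map_smul, hN, hy, hgw, hx, sub_self]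
    have hi := sf_invariant g u y
    rw [hgu, hgy, sf_add_right, sf_add_right, sf_smul_right,
      sf_fixRange s hu hl, add_zero, add_eq_left, mul_eq_zero] at hi
    have hux : Cfsg.sympForm m F u x = 0 := hi.resolve_left (sub_ne_zero.mpr hne)
    have h2 : (2 : F) ≠ 0 := hux'.resolve_right (not_not.mpr hux)
    have hwx : Cfsg.sympForm m F w x = Cfsg.sympForm m F u y := by
      have h1 := sf_invariant s x y
      have ex : (s : Mat m F) *ᵥ x = x + u := by rw [← hx, nil_apply]; abel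
      have ey : (s : Mat m F) *ᵥ y = y + w := by rw [← hy, nil_apply]; abel
      rw [ex, ey, sf_add_left, sf_add_right, sf_add_right, huw, add_zero, sf_swap x w] at h1
      linear_combination -h1
    have hi2 := sf_invariant g w y
    rw [hgw, hgy] at hi2
    have hul : Cfsg.sympForm m F u l = 0 := sf_fixRange s hu hl
    have hwl : Cfsg.sympForm m F w l = 0 := sf_fixRange s hwU hl
    simp only [sf_add_left, sf_add_right, sf_smul_left, sf_smul_right, hux, hwx,
      hul, hwl, mul_zero, add_zero] at hi2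
    have huy : Cfsg.sympForm m F u y = 0 := by
      have h3 : 2 * δ * Cfsg.sympForm m F u y = 0 := by linear_combination hi2
      exact (mul_eq_zero.mp h3).resolve_left (mul_ne_zero h2 (sub_ne_zero.mpr hne))
    obtain ⟨z, hz⟩ := sf_exists_one (v := u) hu0
    obtain ⟨α, β, hαβ⟩ := hspan (nil s z) ⟨⟨z, rfl⟩, by
      have : nil s z ∈ LinearMap.range (nil s) := ⟨z, rfl⟩
      rw [← Submodule.eq_of_le_of_finrank_le hle1 (by omega), hker] at this
      exact this⟩
    have hrest : z - α • x - β • y ∈ fixRange s := by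
      rw [hker, LinearMap.mem_ker, map_sub, map_sub, map_smul, map_smul, hx, hy, hαβ]
      abel
    have h4 := sf_fixRange s (a := u) hu hrest
    rw [show z - α • x - β • y = z + (-α) • x + (-β) • y by module, sf_add_right, sf_add_right,
      sf_smul_right, sf_smul_right, hux, huy, hz, mul_zero, mul_zero, add_zero, add_zero] at h4
    exact one_ne_zero h4
  have hPa : ∀ c, LinearIndependent F a0.1 ∧ ∀ i, a0.1 i ∈ fixRange (h c * s * (h c)⁻¹) := by
    intro c
    refine ⟨a0.2.1, fun i => ?_⟩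
    obtain ⟨z, hz, hzi⟩ : ∃ z ∈ fixRange s, (h c : Mat m F) *ᵥ z = a0.1 i := by
      fin_cases i
      · exact ⟨u, hu, hh1 c⟩
      · refine ⟨w - c • u, Submodule.sub_mem _ hwU (Submodule.smul_mem _ _ hu), ?_⟩
        rw [Matrix.mulVec_sub, Matrix.mulVec_smul, hh1, hh2, add_sub_cancel_right]
        rfl
    rw [← hzi]
    exact fixRange_conj _ s hz
  have hc := conj_count s (fun t a => LinearIndependent F a ∧ ∀ i, a i ∈ fixRange t)
    (fun g t a ha => ⟨ha.1.map' (spEquiv m F g).1.toLinearMap (LinearEquiv.ker _),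
      fun i => fixRange_conj g t (ha.2 i)⟩) a0 h hinj hPa
  have hcount := card_bases (F := F) (fixRange s)
  rw [hd2, Fin.prod_univ_two] at hcount
  rw [hcount, card_frame, Finset.prod_range_succ, Finset.prod_range_one,
    Nat.card_eq_fintype_card] at hc
  subst hm
  simp only [Fin.val_zero, Fin.val_one, pow_zero, pow_one, Nat.sub_zero] at hc
  set q := Fintype.card F
  have hq : 1 < q := Fintype.one_lt_card
  have hpos : 0 < (q ^ 2 - 1) * (q ^ 2 - q) := by
    have : q < q ^ 2 := lt_self_pow₀ hq (by omega)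
    exact Nat.mul_pos (by omega) (by omega)
  exact Nat.le_of_mul_le_mul_right ((frames_four_ge q hq).trans hc) hpos

theorem class_ge [Fintype F] {p : ℕ} [Fact p.Prime] [CharP F p] (hm : 2 ≤ m)
    (h4 : m = 2 → p ≠ 2) {s : Matrix.symplecticGroup (Fin m) F} (hs : s ^ p = 1) (hne : s ≠ 1)
    (hnt : ¬ ∃ v c, v ≠ 0 ∧ c ≠ 0 ∧ s = T v c) :
    Fintype.card F ^ (2 * m) ≤ Nat.card {t // IsConj s t} := by
  have hR : 2 ≤ finrank F (LinearMap.range (nil s)) := by
    by_contra h
    exact hnt (exists_T_of_finrank_one s hne (by omega))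
  have h1 : 1 ≤ finrank F (fixRange s) :=
    Submodule.one_le_finrank_iff.mpr (fixRange_ne_bot (by omega) hs hne)
  rcases Nat.lt_or_ge (finrank F (fixRange s)) 2 with h | h
  · exact class_ge_of_one hm hs hR (by omega)
  rcases Nat.lt_or_ge m 3 with h3 | h3
  · have h2 : ringChar F ≠ 2 := by
      rw [ringChar.eq F p]; exact h4 (by omega)
    exact class_ge_of_four (by omega) h (Or.inl (Ring.two_ne_zero h2))
  · exact class_ge_of_two_le h3 s h

/-! ### lifting to `PSp` -/

theorem T_pow (v : 𝕍) (c : F) (n : ℕ) : T v c ^ n = T v ((n : F) * c) := by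
  induction n with
  | zero => simp [T_zero]
  | succ n ih => rw [pow_succ, ih, T_mul]; congr 1; push_cast; ring

theorem psp_T_ne_one {v : 𝕍} {c : F} (hv : v ≠ 0) (hc : c ≠ 0) : psp (T v c) ≠ 1 := by
  rw [Ne, psp_eq_one, mem_center_iff]
  rintro ⟨a, ha⟩
  obtain ⟨x, hx⟩ := sf_exists_one hv
  have h1 := ha v
  rw [T_mulVec, sf_self, mul_zero, zero_smul, add_zero] at h1
  have ha1 : a = 1 := smul_left_injective F hv (show a • v = (1 : F) • v by rw [← h1, one_smul])
  have h2 := ha x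
  rw [T_mulVec, ha1, one_smul, add_eq_left, smul_eq_zero, mul_eq_zero] at h2
  rw [sf_swap, hx] at h2
  simp [hc, hv] at h2

theorem sq_and_pow_eq_one {p : ℕ} [Fact p.Prime] [CharP F p] {c : F} (h2 : c ^ 2 = 1)
    (hp : c ^ p = 1) : c = 1 := by
  rcases (Fact.out : p.Prime).eq_two_or_odd' with rfl | hodd
  · rcases sq_eq_one_iff.mp h2 with h | h
    · exact h
    · rw [h]; exact CharTwo.neg_eq 1
  · rcases sq_eq_one_iff.mp h2 with h | h
    · exact h
    · rw [h, hodd.neg_one_pow] at hp; rwa [h]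

theorem lift_unique {p : ℕ} [Fact p.Prime] [CharP F p] (hm : 1 ≤ m)
    {s t : Matrix.symplecticGroup (Fin m) F} (hs : s ^ p = 1) (ht : t ^ p = 1)
    (h : psp s = psp t) : s = t := by
  obtain ⟨c, hc2, hc⟩ := psp_eq_iff.mp h
  have hz : s = scalarElt m ⟨c, hc2⟩ * t := sp_ext fun v => by
    rw [Submonoid.coe_mul, ← Matrix.mulVec_mulVec, scalarElt_mulVec, hc]
  have hcomm : Commute (scalarElt m ⟨c, hc2⟩) t :=
    (Subgroup.mem_center_iff.mp ((mem_center_iff _).mpr ⟨c, scalarElt_mulVec _⟩) t).symm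
  rw [hz, hcomm.mul_pow, ht, mul_one] at hs
  have hn : ∀ n, ∀ v : 𝕍, ((scalarElt m ⟨c, hc2⟩ ^ n : Matrix.symplecticGroup (Fin m) F) : Mat m F)
      *ᵥ v = c ^ n • v := by
    intro n
    induction n with
    | zero => intro v; simp
    | succ n ih =>
      intro v
      rw [pow_succ, Submonoid.coe_mul, ← Matrix.mulVec_mulVec, scalarElt_mulVec,
        Matrix.mulVec_smul, ih, smul_smul, pow_succ, mul_comm]
  have hcp : c ^ p = 1 := by
    have h1 := hn p (Pi.single (Sum.inl ⟨0, hm⟩) 1)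
    rw [hs, Submonoid.coe_one, Matrix.one_mulVec] at h1
    simpa using (congrFun h1 (Sum.inl ⟨0, hm⟩)).symm
  have hc1 : c = 1 := sq_and_pow_eq_one hc2 hcp
  refine sp_ext fun v => ?_
  rw [hc, hc1, one_smul]

theorem exists_lift {p : ℕ} [Fact p.Prime] [CharP F p] (hm : 1 ≤ m) {x : Cfsg.PSp m F}
    (hx : x ^ p = 1) : ∃ s, psp s = x ∧ s ^ p = 1 := by
  obtain ⟨s, rfl⟩ := psp_surjective x
  rw [← map_pow, psp_eq_one, mem_center_iff] at hx
  obtain ⟨c, hc⟩ := hx
  have hc2 := scalar_sq hm _ hc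
  set z := scalarElt m ⟨c, hc2⟩ with hzdef
  have hcen : z ∈ Subgroup.center (Matrix.symplecticGroup (Fin m) F) :=
    (mem_center_iff _).mpr ⟨c, scalarElt_mulVec _⟩
  refine ⟨z * s, by rw [map_mul, psp_eq_one.mpr hcen, one_mul], ?_⟩
  have hcomm : Commute z s := (Subgroup.mem_center_iff.mp hcen s).symm
  have hsp : s ^ p = z := sp_ext fun v => by rw [hc, hzdef, scalarElt_mulVec]
  have hz2 : z * z = 1 := sp_ext fun v => by
    rw [Submonoid.coe_mul, ← Matrix.mulVec_mulVec, hzdef, scalarElt_mulVec, scalarElt_mulVec,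
      smul_smul, ← pow_two, hc2, one_smul, Submonoid.coe_one, Matrix.one_mulVec]
  rw [hcomm.mul_pow, hsp]
  rcases (Fact.out : p.Prime).eq_two_or_odd' with rfl | hodd
  · rcases sq_eq_one_iff.mp hc2 with h | h
    all_goals
      have hz1 : z = 1 := sp_ext fun v => by
        rw [hzdef, scalarElt_mulVec, Submonoid.coe_one, Matrix.one_mulVec]
        simp only [h, CharTwo.neg_eq, one_smul]
      rw [hz1, one_pow, mul_one]
  · obtain ⟨k, hk⟩ := hodd
    rw [hk, pow_succ, pow_mul, pow_two, hz2, one_pow, one_mul, hz2]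

/-- images of transvections -/
def IsTr (x : Cfsg.PSp m F) : Prop := ∃ v c, v ≠ 0 ∧ c ≠ 0 ∧ x = psp (T v c)

theorem isTr_small [Fintype F] {p : ℕ} [Fact p.Prime] [CharP F p] {x : Cfsg.PSp m F} (hx : IsTr x) :
    x ≠ 1 ∧ x ^ p = 1 ∧ Nat.card {y // IsConj x y} < Fintype.card F ^ (2 * m) := by
  obtain ⟨v, c, hv, hc, rfl⟩ := hx
  refine ⟨psp_T_ne_one hv hc, by rw [← map_pow, T_pow, CharP.cast_eq_zero, zero_mul, T_zero,
    map_one], ?_⟩
  have h1 : ∀ y : {y // IsConj (psp (T v c)) y}, ∃ w : {w : 𝕍 // w ≠ 0}, y.1 = psp (T w.1 c) := by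
    intro y
    obtain ⟨g, hg⟩ := isConj_iff.mp y.2
    obtain ⟨g, rfl⟩ := psp_surjective g
    refine ⟨⟨_, sp_mulVec_ne_zero g hv⟩, ?_⟩
    rw [← hg, ← map_inv, ← map_mul, ← map_mul, T_conj]
  choose w hw using h1
  refine lt_of_le_of_lt (Nat.card_le_card_of_injective w
    (fun y y' h => Subtype.ext (by rw [hw, hw, h]))) ?_
  have h2 : Nat.card {w : 𝕍 // w ≠ 0} < Nat.card 𝕍 :=
    Finite.card_subtype_lt (x := 0) (by simp)
  rwa [Module.natCard_eq_pow_finrank (K := F) (V := Fin m ⊕ Fin m → F),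
    Nat.card_eq_fintype_card (α := F), Module.finrank_fintype_fun_eq_card, Fintype.card_sum,
    Fintype.card_fin, ← two_mul] at h2

theorem isTr_iff [Fintype F] {p : ℕ} [Fact p.Prime] [CharP F p] (hm : 2 ≤ m)
    (h4 : m = 2 → p ≠ 2) (x : Cfsg.PSp m F) :
    IsTr x ↔ x ≠ 1 ∧ x ^ p = 1 ∧
      Nat.card {y // IsConj x y} < Fintype.card F ^ (2 * m) := by
  constructor
  · exact isTr_small
  · rintro ⟨hne, hp, hlt⟩
    obtain ⟨s, rfl, hs⟩ := exists_lift (p := p) (by omega) hp
    by_contra hnt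
    have hs1 : s ≠ 1 := fun h => hne (by rw [h, map_one])
    have hge := class_ge hm h4 hs hs1
      (fun ⟨v, c, hv, hc, he⟩ => hnt ⟨v, c, hv, hc, by rw [he]⟩)
    refine absurd (lt_of_le_of_lt hge (lt_of_le_of_lt ?_ hlt)) (lt_irrefl _)
    refine Nat.card_le_card_of_injective
      (fun t : {t // IsConj s t} => (⟨psp t.1, psp.map_isConj t.2⟩ : {y // IsConj (psp s) y}))
      (fun t t' h => ?_)
    have hpow : ∀ t : {t // IsConj s t}, t.1 ^ p = 1 := fun t => by
      obtain ⟨g, hg⟩ := isConj_iff.mp t.2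
      rw [← hg, conj_pow, hs, mul_one, mul_inv_cancel]
    exact Subtype.ext (lift_unique (by omega) (hpow t) (hpow t') (congrArg Subtype.val h))

theorem small_map [Fintype F] {p : ℕ} (φ : MulAut (Cfsg.PSp m F)) {x : Cfsg.PSp m F}
    (hx : x ≠ 1 ∧ x ^ p = 1 ∧ Nat.card {y // IsConj x y} < Fintype.card F ^ (2 * m)) :
    φ x ≠ 1 ∧ (φ x) ^ p = 1 ∧ Nat.card {y // IsConj (φ x) y} < Fintype.card F ^ (2 * m) := by
  refine ⟨fun h => hx.1 (φ.injective (h.trans (map_one φ).symm)),
    by rw [← map_pow, hx.2.1, map_one], ?_⟩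
  refine lt_of_le_of_lt (Nat.card_le_card_of_injective
    (fun y : {y // IsConj (φ x) y} => (⟨φ.symm y.1, by
      have := φ.symm.toMonoidHom.map_isConj y.2
      simpa using this⟩ : {y // IsConj x y}))
    (fun y y' h => Subtype.ext (φ.symm.injective (congrArg Subtype.val h)))) hx.2.2

/-- an automorphism preserving the set of transvection images -/
def Pres (φ : MulAut (Cfsg.PSp m F)) : Prop := ∀ x, IsTr x → IsTr (φ x)

theorem pres_symm [Finite F] {φ : MulAut (Cfsg.PSp m F)} (h : Pres φ) : Pres φ.symm := by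
  intro y hy
  obtain ⟨⟨x, hx⟩, hxy⟩ := Finite.surjective_of_injective
    (f := fun x : {x : Cfsg.PSp m F // IsTr x} =>
      (⟨φ x.1, h x.1 x.2⟩ : {x : Cfsg.PSp m F // IsTr x}))
    (fun a b hab => Subtype.ext (φ.injective (congrArg Subtype.val hab))) ⟨y, hy⟩
  have he : φ x = y := congrArg Subtype.val hxy
  rwa [← he, φ.symm_apply_apply]

/-- automorphisms preserve the set of transvection images -/
theorem isTr_map [Fintype F] {p : ℕ} [Fact p.Prime] [CharP F p] (hm : 2 ≤ m)
    (h4 : m = 2 → p ≠ 2) (φ : MulAut (Cfsg.PSp m F)) : Pres φ := fun x hx =>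
  (isTr_iff (p := p) hm h4 _).mpr (small_map φ (isTr_small hx))

end Cfsg.Agent.Symplectic
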