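import Mathlib

/-! A non-trivial additive character of a finite field. -/

set_option autoImplicit false

namespace Cfsg.Agent.Symplectic

variable (F : Type*) [Field F] [Finite F]

theorem exists_primitive_addChar : ∃ e : AddChar F ℂ, e.IsPrimitive := by
  obtain ⟨ψ, hψ⟩ := (AddChar.exists_apply_ne_zero (a := (1 : F))).mpr one_ne_zero
  exact ⟨ψ, AddChar.IsPrimitive.of_ne_one (AddChar.ne_one_iff.mpr ⟨1, hψ⟩)⟩

/-- a chosen primitive additive character -/
noncomputable def eChar : AddChar F ℂ := Classical.choose (exists_primitive_addChar F)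

theorem eChar_prim : (eChar F).IsPrimitive := Classical.choose_spec (exists_primitive_addChar F)

variable {F}

theorem eChar_exists_ne {a : F} (ha : a ≠ 0) : ∃ x : F, eChar F (a * x) ≠ 1 := by
  obtain ⟨x, hx⟩ := AddChar.ne_one_iff.mp (eChar_prim F ha)
  exact ⟨x, hx⟩

/-- sum of a non-trivial character of a finite additive group -/
theorem sum_comp_eq_zero {A : Type*} [AddCommGroup A] [Fintype A] (f : A →+ F)
    (h : ∃ x, eChar F (f x) ≠ 1) : ∑ x, eChar F (f x) = 0 := by
  obtain ⟨x, hx⟩ := h
  exact AddChar.sum_eq_zero_of_ne_one (ψ := (eChar F).compAddMonoidHom f)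
    (AddChar.ne_one_iff.mpr ⟨x, hx⟩)

end Cfsg.Agent.Symplectic
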