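import Cfsg.Agent.Symplectic.Skew

/-! Overgroups of the centraliser of a skew square root: transvections and generation. -/

set_option autoImplicit false

namespace Cfsg.Agent.Symplectic

open scoped MatrixGroups Matrix
open Matrix Cfsg.Agent.H95

variable {ι : Type} [Fintype ι] [DecidableEq ι] {F : Type*} [Field F]
  {f : (ι → F) → (ι → F) → F} {j : Matrix ι ι F} {d : F}

namespace SkewStr

variable (C : SkewStr f j d) {M : Subgroup (GL ι F)}

/-- `M` contains all rotations and reflections -/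
structure Rots (M : Subgroup (GL ι F)) : Prop where
  rot : ∀ a, f a (j *ᵥ a) ≠ 0 → ∀ t, C.rot a t ∈ M
  refl : ∀ a, f a (j *ᵥ a) ≠ 0 → neg2 C.symp a ((f a (j *ᵥ a))⁻¹ • (j *ᵥ a)) ∈ M

/-- the twisted short root elements with second vector `r` -/
def ext (M : Subgroup (GL ι F)) (r : ι → F) : AddSubgroup (ι → F) where
  carrier := {e | f e r = 0 ∧ ∃ c, th C.symp e r 1 * rt C.symp r c ∈ M}
  add_mem' {a b} ha hb := by
    have hf := C.symp
    obtain ⟨ha, c, hc⟩ := ha
    obtain ⟨hb, c', hc'⟩ := hb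
    have hab : f (a + b) r = 0 := by rw [f_add_left hf, ha, hb, add_zero]
    refine ⟨hab, c + c' + f b a, ?_⟩
    convert M.mul_mem hc hc' using 1
    refine gl_ext fun x => ?_
    simp only [mul_mulVec, rt_mulVec hf, th_mulVec hf ha, th_mulVec hf hb, th_mulVec hf hab,
      f_add_left hf, f_add_right hf, f_smul_left hf, f_self hf, ha, hb, f_symm_zero hf ha,
      f_symm_zero hf hb]
    module
  zero_mem' := by
    refine ⟨f_zero_left C.symp r, 0, ?_⟩
    convert M.one_mem
    refine gl_ext fun x => ?_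
    simp [rt_zero C.symp, th_mulVec C.symp (f_zero_left C.symp r), f_zero_right C.symp]
  neg_mem' {a} ha := by
    have hf := C.symp
    obtain ⟨ha, c, hc⟩ := ha
    have hna : f (-a) r = 0 := by rw [f_neg_left hf, ha, neg_zero]
    refine ⟨hna, -c, ?_⟩
    convert M.inv_mem hc using 1
    rw [_root_.mul_inv_rev, rt_inv hf, th_inv hf ha, th_neg_left hf ha]
    refine gl_ext fun x => ?_
    simp only [mul_mulVec, rt_mulVec hf, th_mulVec hf ha, f_add_left hf, f_smul_left hf, f_self hf,
      ha, f_symm_zero hf ha]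
    module

omit C in
theorem th_scale {hf : Geo.IsSymplecticForm f} {u r : ι → F} (h : f u r = 0) (s : F) :
    th hf u r s = th hf (s • u) r 1 := by
  refine gl_ext fun x => ?_
  rw [th_mulVec hf h, th_mulVec hf (by rw [f_smul_left hf, h, mul_zero]), f_smul_right hf]
  module

/-- two vectors of `ext` give root elements at `r` -/
theorem rt_of_ext {r a b : ι → F} (ha : a ∈ C.ext M r) (hb : b ∈ C.ext M r) :
    rt C.symp r (2 * f b a) ∈ M := by
  have hf := C.symp
  obtain ⟨ha, c, hc⟩ := ha
  obtain ⟨hb, c', hc'⟩ := hb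
  have := M.mul_mem (M.mul_mem hc hc') (M.inv_mem (M.mul_mem hc' hc))
  convert this using 1
  rw [_root_.mul_inv_rev, _root_.mul_inv_rev, _root_.mul_inv_rev, rt_inv hf, rt_inv hf,
    th_inv hf ha, th_inv hf hb]
  refine gl_ext fun x => ?_
  simp only [mul_mulVec, rt_mulVec hf, th_mulVec hf ha, th_mulVec hf hb, f_add_left hf,
    f_smul_left hf, f_self hf, ha, hb, f_symm_zero hf ha, f_symm_zero hf hb, f_skew hf a b]
  module

/-- A rotation outside the normaliser produces a root group. -/
theorem exists_rootIn [Finite F] (h2 : (2 : F) ≠ 0) (hn : 6 ≤ Fintype.card ι) (hR : C.Rots M)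
    {g : GL ι F} (hg : g ∈ M) (hgi : g ∈ isoGrp f) {a : ι → F} (ha : f a (j *ᵥ a) ≠ 0)
    (hout : (g : Matrix ι ι F) *ᵥ (j *ᵥ a) ∉
      Submodule.span F {(g : Matrix ι ι F) *ᵥ a, j *ᵥ ((g : Matrix ι ι F) *ᵥ a)}) :
    ∃ r, r ≠ 0 ∧ RootIn C.symp M r := by
  have hf := C.symp
  set ν := f a (j *ᵥ a) with hν
  set u := (g : Matrix ι ι F) *ᵥ a with hu
  set w := (g : Matrix ι ι F) *ᵥ (j *ᵥ a) with hw
  set v := ν⁻¹ • w with hv
  have huw : f u w = ν := by rw [hu, hw, mem_isoGrp.1 hgi]
  have huv : f u v = 1 := by rw [hv, f_smul_right hf, huw, inv_mul_cancel₀ ha]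
  -- reflection in the image plane
  have hσ : neg2 hf u v ∈ M := by
    have := conj_mem hg (hR.refl a ha)
    rw [neg2, show ∀ g x y : GL ι F, g * (x * y * x * (x * y * x)) * g⁻¹ =
      g * x * g⁻¹ * (g * y * g⁻¹) * (g * x * g⁻¹) * ((g * x * g⁻¹) * (g * y * g⁻¹) * (g * x * g⁻¹))
        from fun g x y => by group, conj_rt hf hgi, conj_rt hf hgi, mulVec_smul, ← hu, ← hw,
      ← hν, ← hv] at this
    exact this
  obtain ⟨b, hb, b1, b2, hb3⟩ := C.exists_aniso h2 hn hout
  set h := neg2 hf b ((f b (j *ᵥ b))⁻¹ • (j *ᵥ b)) with hh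
  have hhi : h ∈ isoGrp f := neg2_mem_iso hf _ _
  have hhu : (h : Matrix ι ι F) *ᵥ u = u :=
    neg2_fix hf b1 (by rw [f_smul_right hf, b2, mul_zero])
  set v2 := (h : Matrix ι ι F) *ᵥ v with hv2
  have huv2 : f u v2 = 1 := by
    conv_lhs => rw [← hhu]
    rw [hv2, mem_isoGrp.1 hhi, huv]
  have hσ2 : neg2 hf u v2 ∈ M := by
    have := conj_mem (hR.refl b hb) hσ
    rw [← hh, neg2, show ∀ g x y : GL ι F, g * (x * y * x * (x * y * x)) * g⁻¹ =
      g * x * g⁻¹ * (g * y * g⁻¹) * (g * x * g⁻¹) * ((g * x * g⁻¹) * (g * y * g⁻¹) * (g * x * g⁻¹))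
        from fun g x y => by group, conj_rt hf hhi, conj_rt hf hhi, hhu, ← hv2] at this
    exact this
  set r := v2 - v + f v v2 • u with hr
  have ru : f r u = 0 := by
    simp only [hr, f_add_left hf, f_sub_left hf, f_smul_left hf, f_self hf, f_skew hf v2 u,
      f_skew hf v u, huv, huv2]
    ring
  have rv : f r v = 0 := by
    simp only [hr, f_add_left hf, f_sub_left hf, f_smul_left hf, f_self hf, huv, f_skew hf v2 v]
    ring
  have ur := f_symm_zero hf ru
  have vr := f_symm_zero hf rv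
  have hr0 : r ≠ 0 := by
    intro h0
    have e : v2 = v + (-f v v2) • u := by rw [← sub_eq_zero, ← h0, hr]; module
    rw [hv2, hh, C.refl_apply hb] at e
    set s := -f v (v - (2 : F) • cproj f j b v) with hs
    have e1 : (2 : F) • cproj f j b v = (-s) • u := by
      linear_combination (norm := module) -e
    have f1 : f (cproj f j b v) b = 0 := by
      have := congrArg (fun y => f y b) e1
      simp only [f_smul_left hf, b1, mul_zero] at this
      exact (mul_eq_zero.1 this).resolve_left h2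
    have f2 : f (cproj f j b v) (j *ᵥ b) = 0 := by
      have := congrArg (fun y => f y (j *ᵥ b)) e1
      simp only [f_smul_left hf, b2, mul_zero] at this
      exact (mul_eq_zero.1 this).resolve_left h2
    have g1 := C.cproj_orth_left hb v
    have g2 := C.cproj_orth_right hb v
    rw [f_sub_left hf, f1, sub_zero] at g1
    rw [f_sub_left hf, f2, sub_zero] at g2
    have key : ∀ y, f w y = ν * f v y := fun y => by
      rw [hv, f_smul_left hf, ← mul_assoc, mul_inv_cancel₀ ha, one_mul]
    rcases hb3 with h | h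
    · exact h (by rw [key, g1, mul_zero])
    · exact h (by rw [key, g2, mul_zero])
  have hT : th hf u r 2 ∈ M := by
    convert M.mul_mem hσ hσ2 using 1
    refine gl_ext fun x => ?_
    rw [mul_mulVec, neg2_apply hf huv2, neg2_apply hf huv, th_mulVec hf ur,
      show v2 = v + r + (-f v v2) • u by rw [hr]; module]
    simp only [f_add_right hf, f_sub_left hf, f_add_left hf, f_smul_left hf, f_smul_right hf,
      f_self hf, huv, f_skew hf v u, ru, rv, ur, vr]
    module
  -- rotations of the image plane act on `ext`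
  have hρ : ∀ t, g * C.rot a t * g⁻¹ ∈ M := fun t => conj_mem hg (hR.rot a ha t)
  have hρi : ∀ t, g * C.rot a t * g⁻¹ ∈ isoGrp f := fun t =>
    Subgroup.mul_mem _ (Subgroup.mul_mem _ hgi (C.rot_mem_iso a t)) (Subgroup.inv_mem _ hgi)
  have act : ∀ t x, ((g * C.rot a t * g⁻¹ : GL ι F) : Matrix ι ι F) *ᵥ
      ((g : Matrix ι ι F) *ᵥ x) = (g : Matrix ι ι F) *ᵥ ((C.rot a t : Matrix ι ι F) *ᵥ x) := by
    intro t x
    rw [mul_mulVec, inv_mulVec_mulVec, mul_mulVec]
  have wr : f w r = 0 := by
    have : w = ν • v := by rw [hv, smul_inv_smul₀ ha]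
    rw [this, f_smul_left hf, vr, mul_zero]
  have fixr : ∀ t, ((g * C.rot a t * g⁻¹ : GL ι F) : Matrix ι ι F) *ᵥ r = r := by
    intro t
    have k1 : f (((g⁻¹ : GL ι F) : Matrix ι ι F) *ᵥ r) a = 0 := by
      rw [← mem_isoGrp.1 hgi, mulVec_inv_mulVec, ← hu, ru]
    have k2 : f (((g⁻¹ : GL ι F) : Matrix ι ι F) *ᵥ r) (j *ᵥ a) = 0 := by
      rw [← mem_isoGrp.1 hgi, mulVec_inv_mulVec, ← hw, f_symm_zero hf wr]
    rw [mul_mulVec, mul_mulVec, C.rot_fix k1 k2, mulVec_inv_mulVec]
  have hE : ∀ t e, e ∈ C.ext M r →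
      ((g * C.rot a t * g⁻¹ : GL ι F) : Matrix ι ι F) *ᵥ e ∈ C.ext M r := by
    intro t e he
    obtain ⟨he, c, hc⟩ := he
    refine ⟨?_, c, ?_⟩
    · conv_lhs => arg 2; rw [← fixr t]
      rw [mem_isoGrp.1 (hρi t), he]
    · have := conj_mem (hρ t) hc
      rwa [show ∀ g x y : GL ι F, g * (x * y) * g⁻¹ = g * x * g⁻¹ * (g * y * g⁻¹) from
        fun g x y => by group, conj_th hf (hρi t), conj_rt hf (hρi t), fixr t] at this
  have hρu : ∀ t p q, ((g * C.rot a t * g⁻¹ : GL ι F) : Matrix ι ι F) *ᵥ (p • u + q • w) =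
      (p * cα d t + q * (d * cβ d t)) • u + (p * cβ d t + q * cα d t) • w := by
    intro t p q
    rw [mulVec_add, mulVec_smul, mulVec_smul, hu, hw, act, act, C.rot_left ha, C.rot_right ha,
      mulVec_add, mulVec_add, mulVec_smul, mulVec_smul, mulVec_smul, mulVec_smul]
    module
  -- the multipliers of `ext` on the plane
  let Γ : Set F := {γ | ∀ p q : F, p • u + q • w ∈ C.ext M r →
    (γ * p) • u + (γ * q) • w ∈ C.ext M r}
  have Γadd : ∀ x y, x ∈ Γ → y ∈ Γ → x + y ∈ Γ := by
    intro x y hx hy p q h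
    convert (C.ext M r).add_mem (hx p q h) (hy p q h) using 1
    module
  have Γmul : ∀ x y, x ∈ Γ → y ∈ Γ → x * y ∈ Γ := by
    intro x y hx hy p q h
    convert hx _ _ (hy p q h) using 1
    module
  have Γone : (1 : F) ∈ Γ := fun p q h => by simpa using h
  have Γneg : ∀ x, x ∈ Γ → -x ∈ Γ := by
    intro x hx p q h
    convert (C.ext M r).neg_mem (hx p q h) using 1
    module
  let G : Subfield F :=
    { carrier := Γ
      mul_mem' := fun {x y} hx hy => Γmul x y hx hy
      one_mem' := Γone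
      add_mem' := fun {x y} hx hy => Γadd x y hx hy
      zero_mem' := fun p q _ => by simpa using (C.ext M r).zero_mem
      neg_mem' := fun {x} hx => Γneg x hx
      inv_mem' := fun x hx => by
        haveI := Fintype.ofFinite F
        rcases eq_or_ne x 0 with rfl | hx0
        · rwa [_root_.inv_zero]
        have hp : ∀ k : ℕ, x ^ k ∈ Γ := fun k => by
          induction k with
          | zero => rw [pow_zero]; exact Γone
          | succ k ih => rw [pow_succ]; exact Γmul _ _ ih hx
        have hc := Fintype.one_lt_card (α := F)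
        have : x⁻¹ = x ^ (Fintype.card F - 2) := by
          refine inv_eq_of_mul_eq_one_right ?_
          rw [← pow_succ', show Fintype.card F - 2 + 1 = Fintype.card F - 1 by omega,
            FiniteField.pow_card_sub_one_eq_one x hx0]
        rw [this]; exact hp _ }
  have two : (2 : F) ∈ G := by rw [← one_add_one_eq_two]; exact G.add_mem G.one_mem G.one_mem
  have hα : ∀ t, cα d t ∈ G := by
    intro t
    have : 2 * cα d t ∈ Γ := by
      intro p q h
      have := (C.ext M r).add_mem (hE t _ h) (hE (-t) _ h)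
      rw [hρu, hρu] at this
      convert this using 1
      rw [show cα d (-t) = cα d t by simp [cα], show cβ d (-t) = -cβ d t by simp [cβ, neg_div]]
      module
    have h3 := G.div_mem (show 2 * cα d t ∈ G from this) two
    rwa [mul_div_cancel_left₀ _ h2] at h3
  have hall : ∀ γ : F, γ ∈ G := by
    have hdt : ∀ t, d * t ^ 2 ∈ G := by
      intro t
      have hd := C.den_ne t
      have e1 : cα d t + 1 = 2 / (1 - d * t ^ 2) := by rw [cα]; field_simp; ring
      have e2 : cα d t - 1 = 2 * (d * t ^ 2) / (1 - d * t ^ 2) := by rw [cα]; field_simp; ring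
      have := G.div_mem (G.sub_mem (hα t) G.one_mem) (G.add_mem (hα t) G.one_mem)
      rw [e1, e2] at this
      convert this using 1
      field_simp
    have hsq : ∀ t, t ^ 2 ∈ G := fun t => by
      have := G.div_mem (hdt t) (hdt 1)
      rwa [one_pow, mul_one, mul_div_cancel_left₀ _ C.d_ne] at this
    intro γ
    rw [show γ = ((γ + 1) / 2) ^ 2 - ((γ - 1) / 2) ^ 2 by field_simp; ring]
    exact G.sub_mem (hsq _) (hsq _)
  have h2u : (2 : F) • u + (0 : F) • w ∈ C.ext M r := by
    refine ⟨by rw [zero_smul, add_zero, f_smul_left hf, ur, mul_zero], 0, ?_⟩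
    rw [rt_zero hf, mul_one, zero_smul, add_zero, ← th_scale ur]
    exact hT
  refine ⟨r, hr0, fun l => ?_⟩
  have hu1 := hall (1 / 2) _ _ h2u
  rw [mul_zero, one_div, inv_mul_cancel₀ h2] at hu1
  have hρ1 := hE 1 _ hu1
  rw [hρu] at hρ1
  have hd1 := C.den_ne 1
  have hβ : cβ d 1 ≠ 0 := div_ne_zero (mul_ne_zero h2 one_ne_zero) hd1
  have hγ := hall (l / (2 * (cβ d 1 * f w u))) _ _ hρ1
  have := C.rt_of_ext hu1 hγ
  convert this using 1
  congr 1
  have hwu : f w u ≠ 0 := by rw [f_skew hf, huw]; exact neg_ne_zero.2 ha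
  simp only [f_add_left hf, f_add_right hf, f_smul_left hf, f_smul_right hf, f_self hf,
    f_skew hf u w]
  field_simp
  ring

include C in
/-- One root group generates everything under the rotations. -/
theorem rootIn_all_of_one (h2 : (2 : F) ≠ 0) (hn : 6 ≤ Fintype.card ι) (hR : C.Rots M)
    {r : ι → F} (hr0 : r ≠ 0) (hr : RootIn C.symp M r) : ∀ x, RootIn C.symp M x := by
  have hf := C.symp
  have line : ∀ x y, f x y ≠ 0 → RootIn hf M x → RootIn hf M y → ∀ p q : F,
      RootIn hf M (p • x + q • y) := by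
    intro x y hxy hx hy p q
    rcases eq_or_ne p 0 with rfl | hp
    · rw [zero_smul, zero_add]; exact hy.smul hf q
    have h := (hx.step hf hy (q / p / f x y)).smul hf p
    rw [div_mul_cancel₀ _ hxy, smul_add, smul_smul, mul_div_cancel₀ _ hp] at h
    exact h
  have hlineK : ∀ x b, RootIn hf M x → f b (j *ᵥ b) ≠ 0 → (f x b ≠ 0 ∨ f x (j *ᵥ b) ≠ 0) →
      RootIn hf M b := by
    intro x b hx hb hxb
    have hd1 := C.den_ne 1
    have hβ : cβ d 1 ≠ 0 := div_ne_zero (mul_ne_zero h2 one_ne_zero) hd1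
    have moved : ∀ y, RootIn hf M y → RootIn hf M ((C.rot b 1 : Matrix ι ι F) *ᵥ y) :=
      fun y hy => hy.conj hf (hR.rot b hb 1) (C.rot_mem_iso b 1)
    -- non-orthogonality
    have pair : ∀ y, (f y b ≠ 0 ∨ f y (j *ᵥ b) ≠ 0) →
        f y ((C.rot b 1 : Matrix ι ι F) *ᵥ y) ≠ 0 := by
      intro y hy h0
      have hq : f y (j *ᵥ b) ^ 2 - d * f y b ^ 2 = 0 := by
        rw [C.rot_apply hb, f_add_right hf, f_add_right hf, f_self hf] at h0
        simp only [cproj, mulVec_smul, mulVec_sub, C.sq, f_smul_right hf, f_sub_right hf] at h0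
        rw [← mul_right_inj' (mul_ne_zero hβ (inv_ne_zero hb))]
        linear_combination h0
      rcases eq_or_ne (f y b) 0 with h | h
      · rw [h] at hq
        rcases hy with h' | h'
        · exact h' h
        · exact h' (pow_eq_zero_iff two_ne_zero |>.1 (by linear_combination hq))
      · exact C.nsq (f y (j *ᵥ b) / f y b) (by field_simp; linear_combination hq)
    set y := (C.rot b 1 : Matrix ι ι F) *ᵥ x - x with hy
    have hyR : RootIn hf M y := by
      have := line _ _ (pair x hxb) hx (moved x hx) (-1) 1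
      rwa [neg_one_smul, one_smul, neg_add_eq_sub] at this
    have hy2 : ∃ p q : F, y = p • b + q • (j *ᵥ b) ∧ (p ≠ 0 ∨ q ≠ 0) := by
      refine ⟨((cα d 1 - 1) * f x (j *ᵥ b) - cβ d 1 * d * f x b) / f b (j *ᵥ b),
        (cβ d 1 * f x (j *ᵥ b) - (cα d 1 - 1) * f x b) / f b (j *ᵥ b), ?_, ?_⟩
      · rw [hy, C.rot_apply hb]
        simp only [cproj, mulVec_smul, mulVec_sub, C.sq]
        module
      · by_contra hcon
        push Not at hcon
        apply pair x hxb
        have : (C.rot b 1 : Matrix ι ι F) *ᵥ x = x := by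
          rw [← sub_eq_zero]
          rw [C.rot_apply hb]
          simp only [cproj, mulVec_smul, mulVec_sub, C.sq]
          rw [show (0 : ι → F) = (((cα d 1 - 1) * f x (j *ᵥ b) - cβ d 1 * d * f x b) / f b (j *ᵥ b)) • b +
            ((cβ d 1 * f x (j *ᵥ b) - (cα d 1 - 1) * f x b) / f b (j *ᵥ b)) • (j *ᵥ b) by
              rw [hcon.1, hcon.2, zero_smul, zero_smul, add_zero]]
          module
        rw [this, f_self hf]
    obtain ⟨p, q, hye, hpq⟩ := hy2
    have hyp : f y b ≠ 0 ∨ f y (j *ᵥ b) ≠ 0 := by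
      rw [hye]
      rcases hpq with h | h
      · right; simpa [f_add_left hf, f_smul_left hf, f_self hf] using ⟨h, hb⟩
      · left
        simpa [f_add_left hf, f_smul_left hf, f_self hf, f_skew hf (j *ᵥ b) b] using ⟨h, hb⟩
    have hp2 := pair y hyp
    set y2 := (C.rot b 1 : Matrix ι ι F) *ᵥ y with hy2
    have := line y y2 hp2 hyR (moved y hyR) (f b y2 / f y y2) (f y b / f y y2)
    have e2 : y2 = (p * cα d 1 + q * (d * cβ d 1)) • b + (p * cβ d 1 + q * cα d 1) • (j *ᵥ b) := by
      rw [hy2, hye, mulVec_add, mulVec_smul, mulVec_smul, C.rot_left hb, C.rot_right hb]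
      module
    convert this using 1
    have e4 : f y y2 • b = f b y2 • y + f y b • y2 := by
      rw [e2, hye]
      simp only [f_add_left hf, f_add_right hf, f_smul_left hf, f_smul_right hf, f_self hf,
        f_skew hf (j *ᵥ b) b]
      module
    rw [div_eq_inv_mul, div_eq_inv_mul, mul_smul, mul_smul, ← smul_add, ← e4, inv_smul_smul₀ hp2]
  -- all anisotropic vectors
  have haniso : ∀ b, f b (j *ᵥ b) ≠ 0 → RootIn hf M b := by
    intro b hb
    by_cases h : f r b ≠ 0 ∨ f r (j *ᵥ b) ≠ 0
    · exact hlineK r b hr hb h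
    push Not at h
    obtain ⟨c0, hc0⟩ := exists_f_eq_one hf hr0
    set c1 := c0 - cproj f j b c0 with hc1
    have c1b := C.cproj_orth_left hb c0
    have c1jb := C.cproj_orth_right hb c0
    rw [← hc1] at c1b c1jb
    have rc1 : f r c1 = 1 := by
      simp only [hc1, cproj, f_sub_right hf, f_smul_right hf, h.1, h.2, hc0]; ring
    have cand : ∀ p q : F, p • b + q • (j *ᵥ b) ≠ 0 →
        f (c1 + (p • b + q • (j *ᵥ b))) (j *ᵥ (c1 + (p • b + q • (j *ᵥ b)))) ≠ 0 →
        RootIn hf M b := by
      intro p q hpq hc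
      refine hlineK _ b (hlineK r _ hr hc (.inl ?_)) hb ?_
      · simp [f_add_right hf, f_smul_right hf, h.1, h.2, rc1]
      · simp only [f_add_left hf, f_smul_left hf, f_self hf, c1b, c1jb, f_skew hf (j *ᵥ b) b,
          mul_zero, zero_add, add_zero]
        by_contra hcon
        push Not at hcon
        apply hpq
        have hp : p = 0 := (mul_eq_zero.1 hcon.2).resolve_right hb
        have hq : q = 0 := (mul_eq_zero.1 hcon.1).resolve_right (neg_ne_zero.2 hb)
        rw [hp, hq, zero_smul, zero_smul, add_zero]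
    have hbn := C.norm_ne hb
    by_cases k1 : f (c1 + ((1 : F) • b + (0 : F) • (j *ᵥ b)))
        (j *ᵥ (c1 + ((1 : F) • b + (0 : F) • (j *ᵥ b)))) = 0
    · refine cand 1 1 (fun e => ?_) (fun k2 => hb ?_)
      · rw [one_smul, one_smul] at e
        exact C.j_ne_smul hbn (-1) (by rw [neg_one_smul, eq_neg_of_add_eq_zero_right e])
      simp only [mulVec_add, mulVec_smul, C.sq, f_add_left hf, f_add_right hf, f_smul_left hf,
        f_smul_right hf, f_self hf, C.h_symm b c1, c1b, c1jb, f_symm_zero hf c1b, C.skew b,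
        C.skew b (j *ᵥ b), f_skew hf (j *ᵥ b) b, C.sq] at k1 k2
      exact (mul_eq_zero.1 (show (-d) * f b (j *ᵥ b) = 0 by linear_combination k2 - k1)).resolve_left
        (neg_ne_zero.2 C.d_ne)
    · exact cand 1 0 (by simpa using hbn) k1
  intro x
  by_cases hx : f x (j *ᵥ x) = 0
  swap
  · exact haniso x hx
  rcases eq_or_ne x 0 with rfl | hx0
  · exact rootIn_zero hf M
  have hout : x ∉ Submodule.span F ({(0 : ι → F), j *ᵥ (0 : ι → F)} : Set (ι → F)) := by
    simpa [mulVec_zero] using hx0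
  obtain ⟨b, hb, -, -, hxb⟩ := C.exists_aniso h2 hn hout
  -- pick an anisotropic vector not orthogonal to `x`
  obtain ⟨c, hc, hxc⟩ : ∃ c, f c (j *ᵥ c) ≠ 0 ∧ f x c ≠ 0 := by
    rcases hxb with h | h
    · exact ⟨b, hb, h⟩
    · exact ⟨j *ᵥ b, by rw [C.sq, f_smul_right hf, f_skew hf]; simp [C.d_ne, hb], h⟩
  by_cases hm : f (x - c) (j *ᵥ (x - c)) = 0
  · have hp : f (x + c) (j *ᵥ (x + c)) ≠ 0 := by
      intro hp
      simp only [mulVec_add, mulVec_sub, f_add_left hf, f_add_right hf, f_sub_left hf,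
        f_sub_right hf, hx, C.h_symm c x] at hp hm
      exact hc ((mul_eq_zero.1 (show (2 : F) * f c (j *ᵥ c) = 0 by
        linear_combination hp + hm)).resolve_left h2)
    have := line _ _ (by rw [f_add_left hf, f_self hf, add_zero]; exact hxc) (haniso _ hp)
      (haniso _ hc) 1 (-1)
    simpa using this
  · have := line _ _ (by rw [f_sub_left hf, f_self hf, sub_zero]; exact hxc) (haniso _ hm)
      (haniso _ hc) 1 1
    simpa using this

end SkewStr

end Cfsg.Agent.Symplectic
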