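import Cfsg.Agent.Symplectic.RationalBasic

/-! Odd characteristic: a transvection subgroup over a rational structure determines the vector. -/

set_option autoImplicit false

namespace Cfsg.Agent.Symplectic

open scoped MatrixGroups Matrix
open Matrix Cfsg.Agent.H95

variable {ι : Type} [Fintype ι] [DecidableEq ι] {F : Type*} [Field F]
  {f : (ι → F) → (ι → F) → F} {F₀ : Subfield F} {V₀ : AddSubgroup (ι → F)}
  {M : Subgroup (GL ι F)}

namespace RatForm

variable (R : RatForm f F₀ V₀) (hS : ∀ c ∈ F₀, InA R.symp V₀ M c)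
include hS

theorem rt1_mem {v : ι → F} (hv : v ∈ V₀) : rt R.symp v 1 ∈ M := hS 1 F₀.one_mem v hv

theorem neg2_mem {u v : ι → F} (hu : u ∈ V₀) (hv : v ∈ V₀) : neg2 R.symp u v ∈ M := by
  have : rt R.symp u 1 * rt R.symp v 1 * rt R.symp u 1 ∈ M :=
    M.mul_mem (M.mul_mem (R.rt1_mem hS hu) (R.rt1_mem hS hv)) (R.rt1_mem hS hu)
  exact M.mul_mem this this

/-- From one transvection in `M` one gets a root element on the projection to a rational plane. -/
theorem odd_plane (h2 : (2 : F) ≠ 0) {w : ι → F} (hw : rt R.symp w 1 ∈ M) {u v : ι → F}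
    (hu : u ∈ V₀) (hv : v ∈ V₀) (huv : f u v = 1) :
    ∃ γ : F, γ ≠ 0 ∧ rt R.symp (f w v • u - f w u • v) γ ∈ M := by
  have hf := R.symp
  set z := f w v • u - f w u • v with hz
  have zu : f z u = f w u := by
    simp only [hz, f_sub_left hf, f_smul_left hf, f_self hf, f_skew hf v u, huv]; ring
  have zv : f z v = f w v := by
    simp only [hz, f_sub_left hf, f_smul_left hf, f_self hf, huv]; ring
  by_cases h0 : pr f u v w = 0
  · refine ⟨1, one_ne_zero, ?_⟩
    rw [pr, sub_eq_zero] at h0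
    rwa [hz, ← h0]
  obtain ⟨a, ha, hau, hav, hwa⟩ := R.exists_perp_ne hu hv huv h0
  have ha0 : a ≠ 0 := by rintro rfl; exact hwa (f_zero_right hf w)
  obtain ⟨a', ha', haa, ha'u, ha'v⟩ := R.exists_perp_partner hu hv huv ha ha0 hau hav
  set μ := f w a with hμ
  refine ⟨-(8 * μ ^ 2), neg_ne_zero.2 (mul_ne_zero ?_ (pow_ne_zero _ hwa)), ?_⟩
  · have : (8 : F) = 2 * 2 * 2 := by norm_num
    rw [this]; exact mul_ne_zero (mul_ne_zero h2 h2) h2
  set w' := w - z with hw'
  have w'u : f w' u = 0 := by rw [hw', f_sub_left hf, zu, sub_self]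
  have w'v : f w' v = 0 := by rw [hw', f_sub_left hf, zv, sub_self]
  have w'z : f w' z = 0 := by
    rw [hz, f_sub_right hf, f_smul_right hf, f_smul_right hf, w'u, w'v]; ring
  have za : f z a = 0 := by
    rw [hz, f_sub_left hf, f_smul_left hf, f_smul_left hf, f_symm_zero hf hau,
      f_symm_zero hf hav]; ring
  have za' : f z a' = 0 := by
    rw [hz, f_sub_left hf, f_smul_left hf, f_smul_left hf, f_symm_zero hf ha'u,
      f_symm_zero hf ha'v]; ring
  have az : f a z = 0 := f_symm_zero hf za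
  have w'a : f w' a = μ := by rw [hw', f_sub_left hf, za, sub_zero]
  have hww : w = w' + z := (sub_add_cancel w z).symm
  -- `k`
  have hk : th hf w' z 2 ∈ M := by
    have e1 : (neg2 hf u v : Matrix ι ι F) *ᵥ w = w' + (-1 : F) • z := by
      rw [hww, mulVec_add, neg2_fix hf w'u w'v, hz, mulVec_sub, mulVec_smul, mulVec_smul,
        neg2_left hf huv, neg2_right hf huv]
      module
    have := M.mul_mem hw (M.inv_mem (conj_mem (R.neg2_mem hS hu hv) hw))
    rw [conj_rt hf (neg2_mem_iso hf _ _), rt_inv hf, e1] at this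
    convert this using 1
    refine gl_ext fun x => ?_
    rw [hww]
    simp only [mul_mulVec, rt_mulVec hf, th_mulVec hf w'z, f_add_left hf, f_add_right hf,
      f_smul_left hf, f_smul_right hf, f_self hf, w'z, f_symm_zero hf w'z]
    module
  -- `k2`
  have hk2 : th hf a z (2 * μ) * rt hf z (-(4 * μ ^ 2)) ∈ M := by
    have := M.mul_mem (conj_mem (R.rt1_mem hS ha) hk) (M.inv_mem hk)
    have e1 : (rt hf a 1 : Matrix ι ι F) *ᵥ w' = w' + μ • a := by
      rw [rt_mulVec hf, w'a, one_mul]
    rw [conj_th hf (rt_mem_iso hf _ _), th_inv hf w'z, e1, rt_fix hf za] at this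
    have h1 : f (w' + μ • a) z = 0 := by
      rw [f_add_left hf, f_smul_left hf, w'z, az]; ring
    convert this using 1
    refine gl_ext fun x => ?_
    simp only [mul_mulVec, rt_mulVec hf, th_mulVec hf w'z, th_mulVec hf h1, th_mulVec hf az,
      f_add_left hf, f_add_right hf, f_smul_left hf, f_smul_right hf, f_self hf, w'z,
      f_symm_zero hf w'z, az, za, w'a, f_skew hf a w']
    module
  have := M.mul_mem hk2 (conj_mem (R.neg2_mem hS ha ha') hk2)
  rw [show ∀ g x y : GL ι F, g * (x * y) * g⁻¹ = g * x * g⁻¹ * (g * y * g⁻¹) from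
      fun g x y => by group, conj_th hf (neg2_mem_iso hf _ _), conj_rt hf (neg2_mem_iso hf _ _),
    neg2_left hf haa, neg2_fix hf za za', th_neg_left hf az] at this
  convert this using 1
  refine gl_ext fun x => ?_
  simp only [mul_mulVec, rt_mulVec hf, th_mulVec hf az, f_add_left hf, f_smul_left hf, f_self hf,
    az, za]
  module

/-- The two parameters obtained from a rational plane. -/
theorem odd_params (h2 : (2 : F) ≠ 0) (hn : 6 ≤ Fintype.card ι) {w : ι → F}
    (hw : rt R.symp w 1 ∈ M) {u v : ι → F} (hu : u ∈ V₀) (hv : v ∈ V₀) (huv : f u v = 1) :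
    ∃ γ : F, γ ≠ 0 ∧ InA R.symp V₀ M (2 * γ * f w u ^ 2) ∧
      InA R.symp V₀ M (8 * γ * f w u * f w v) := by
  have hf := R.symp
  obtain ⟨γ, hγ, hz⟩ := R.odd_plane hS h2 hw hu hv huv
  refine ⟨γ, hγ, ?_⟩
  set p := f w v with hp
  set q := f w u with hq
  set z := p • u - q • v with hzdef
  obtain ⟨y, hy, y', hy', hyy, yu, yv, -, -⟩ := R.exists_plane hn hu hv huv
  have hy0 : y ≠ 0 := by rintro rfl; simp [f_zero_left hf] at hyy
  have uy : f u y = 0 := f_symm_zero hf yu
  have vy : f v y = 0 := f_symm_zero hf yv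
  have vu : f v u = -1 := by rw [f_skew hf, huv]
  have zu : f z u = q := by
    simp only [hzdef, f_sub_left hf, f_smul_left hf, f_self hf, vu]; ring
  have zv : f z v = p := by
    simp only [hzdef, f_sub_left hf, f_smul_left hf, f_self hf, huv]; ring
  have zy : f z y = 0 := by
    simp only [hzdef, f_sub_left hf, f_smul_left hf, uy, vy]; ring
  have yz : f y z = 0 := f_symm_zero hf zy
  have moved : ∀ e ∈ F₀, rt hf (z + (e * q) • y) γ ∈ M := by
    intro e he
    have := conj_mem (th_mem (hS e he) hu hy) hz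
    rwa [conj_rt hf (th_mem_iso hf _ _ _), th_mulVec hf uy, zu, zy, mul_zero, zero_smul,
      add_zero] at this
  have hp1 := moved 1 F₀.one_mem
  have hm1 := moved (-1) (F₀.neg_mem F₀.one_mem)
  constructor
  · refine inA_of_one R hS hy hy0 ?_
    have h1 := M.mul_mem (M.mul_mem hp1 hm1) (M.inv_mem (M.mul_mem hz hz))
    rw [rt_add hf, rt_inv hf] at h1
    convert h1 using 1
    refine gl_ext fun x => ?_
    simp only [mul_mulVec, rt_mulVec hf, f_add_left hf, f_add_right hf, f_smul_left hf,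
      f_smul_right hf, f_self hf, zy, yz]
    module
  -- `th z y c`
  set c := 2 * γ * q with hc
  have hzy : th hf z y c ∈ M := by
    have h1 := M.mul_mem hp1 (M.inv_mem hm1)
    rw [rt_inv hf] at h1
    convert h1 using 1
    refine gl_ext fun x => ?_
    simp only [hc, mul_mulVec, rt_mulVec hf, th_mulVec hf zy, f_add_left hf, f_add_right hf,
      f_smul_left hf, f_smul_right hf, f_self hf, zy, yz]
    module
  have hk3 : th hf v y (c * p) * rt hf y (-(c ^ 2 * p ^ 2)) ∈ M := by
    have h1 := M.mul_mem (conj_mem (R.rt1_mem hS hv) hzy) (M.inv_mem hzy)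
    have e1 : (rt hf v 1 : Matrix ι ι F) *ᵥ z = z + p • v := by rw [rt_mulVec hf, zv, one_mul]
    have h : f (z + p • v) y = 0 := by rw [f_add_left hf, f_smul_left hf, zy, vy]; ring
    rw [conj_th hf (rt_mem_iso hf _ _), th_inv hf zy, e1, rt_fix hf yv] at h1
    convert h1 using 1
    refine gl_ext fun x => ?_
    simp only [mul_mulVec, rt_mulVec hf, th_mulVec hf zy, th_mulVec hf h, th_mulVec hf vy,
      f_add_left hf, f_add_right hf, f_smul_left hf, f_smul_right hf, f_self hf, zy, yz, vy, yv,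
      zv, f_skew hf v z]
    module
  have hk4 : th hf v y (2 * (c * p)) ∈ M := by
    have h1 := M.mul_mem hk3 (M.inv_mem (conj_mem (R.neg2_mem hS hu hv) hk3))
    rw [show ∀ g x y : GL ι F, g * (x * y) * g⁻¹ = g * x * g⁻¹ * (g * y * g⁻¹) from
        fun g x y => by group, conj_th hf (neg2_mem_iso hf _ _), conj_rt hf (neg2_mem_iso hf _ _),
      neg2_right hf huv, neg2_fix hf yu yv, th_neg_left hf vy, _root_.mul_inv_rev, th_inv hf vy,
      rt_inv hf] at h1
    convert h1 using 1
    refine gl_ext fun x => ?_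
    simp only [mul_mulVec, rt_mulVec hf, th_mulVec hf vy, f_add_left hf, f_smul_left hf, f_self hf,
      vy, yv]
    module
  refine inA_of_one R hS hy hy0 ?_
  have h1 := M.mul_mem (conj_mem (th_mem (hS (-1) (F₀.neg_mem F₀.one_mem)) hu hy) hk4)
    (M.inv_mem hk4)
  have e1 : (th hf u y (-1) : Matrix ι ι F) *ᵥ v = v + y := by
    rw [th_mulVec hf uy, vu, vy]; module
  have e2 : (th hf u y (-1) : Matrix ι ι F) *ᵥ y = y := by
    rw [th_mulVec hf uy, yu, f_self hf]; module
  have h : f (v + y) y = 0 := by rw [f_add_left hf, vy, f_self hf, add_zero]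
  rw [conj_th hf (th_mem_iso hf _ _ _), th_inv hf vy, e1, e2] at h1
  convert h1 using 1
  refine gl_ext fun x => ?_
  simp only [hc, mul_mulVec, rt_mulVec hf, th_mulVec hf vy, th_mulVec hf h, f_add_left hf,
    f_add_right hf, f_smul_left hf, f_self hf, vy, yv]
  module

/-- If no new parameters occur, then the vector is a rational vector up to a scalar. -/
theorem odd_rational (h2 : (2 : F) ≠ 0) (hn : 6 ≤ Fintype.card ι)
    (hA : ∀ a, InA R.symp V₀ M a → a ∈ F₀) {w : ι → F} (hw0 : w ≠ 0) (hw : rt R.symp w 1 ∈ M) :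
    ∃ c : F, c ≠ 0 ∧ c ^ 2 ∈ F₀ ∧ c⁻¹ • w ∈ V₀ := by
  have hf := R.symp
  obtain ⟨v0, hv0, hne⟩ := R.exists_ne hw0
  have hv00 : v0 ≠ 0 := by rintro rfl; exact hne (f_zero_right hf w)
  have pair : ∀ v ∈ V₀, f v0 v = 1 → (f w v0)⁻¹ * f w v ∈ F₀ := by
    intro v hv huv
    obtain ⟨γ, hγ, h1, h3⟩ := R.odd_params hS h2 hn hw hv0 hv huv
    have := F₀.div_mem (hA _ h3)
      (F₀.mul_mem (F₀.mul_mem (F₀.add_mem F₀.one_mem F₀.one_mem) (F₀.add_mem F₀.one_mem F₀.one_mem))
        (hA _ h1))
    convert this using 1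
    rw [one_add_one_eq_two]
    field_simp
    ring
  have all : ∀ v ∈ V₀, (f w v0)⁻¹ * f w v ∈ F₀ := by
    obtain ⟨v1, hv1, h01⟩ := R.exists_partner hv0 hv00
    intro v hv
    by_cases hh : f v0 v = 0
    · have h1 := pair _ (V₀.add_mem hv hv1) (by rw [f_add_right hf, hh, h01, zero_add])
      have h2 := F₀.sub_mem h1 (pair v1 hv1 h01)
      rwa [f_add_right hf, mul_add, add_sub_cancel_right] at h2
    · have hs := R.rat v0 hv0 v hv
      have h1 := pair _ (R.smul_mem _ (F₀.inv_mem hs) v hv)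
        (by rw [f_smul_right hf, inv_mul_cancel₀ hh])
      have h2 := F₀.mul_mem hs h1
      rw [f_smul_right hf] at h2
      convert h2 using 1
      field_simp
  set c := f w v0
  have hmem : c⁻¹ • w ∈ V₀ := R.dual _ fun v hv => by rw [f_smul_left hf]; exact all v hv
  refine ⟨c, hne, hA _ (inA_of_one R hS hmem ?_ ?_), hmem⟩
  · simp [hw0, hne]
  · rw [rt_smul_vec hf, show c ^ 2 * c⁻¹ ^ 2 = 1 by field_simp]; exact hw

end RatForm

end Cfsg.Agent.Symplectic
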