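import Cfsg.Agent.Symplectic.OrthTwoStab
import Cfsg.Agent.Orthogonal.Generation

/-! Parity of isometries in characteristic two; stabilisers in split spaces. -/

set_option autoImplicit false
set_option maxHeartbeats 1000000
set_option linter.unusedSectionVars false

namespace Cfsg.Agent.Symplectic.OrthTwo

open QuadraticMap Module
open Cfsg.Agent.Orthogonal
open Cfsg.Agent.Orthogonal.IsFrame

variable {F V : Type*} [Field F] [AddCommGroup V] [Module F V] [FiniteDimensional F V]
variable {Q : QuadraticForm F V} [Finite F]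

theorem units_eq_one_or (u : ℤˣ) : u = 1 ∨ u = -1 := Int.units_eq_one_or u

/-- the commutator subgroup consists of the isometries with even-dimensional fixed space -/
theorem mem_commutator_iff_even (hQ : Nondeg Q) (hgen : reflGroup Q = ⊤) (h2 : (2 : F) = 0)
    (hn : Even (finrank F V)) (g : O Q) :
    g ∈ commutator (O Q) ↔ Even (finrank F (fixSpace g)) := by
  rw [commutator_eq_ker_dickson hQ hgen h2, MonoidHom.mem_ker, dickson_apply, dicksonSign]
  constructor
  · intro h
    rcases Nat.even_or_odd (finrank F (fixSpace g)) with he | ho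
    · exact he
    · rw [(hn.add_odd ho).neg_one_pow] at h
      exact absurd h (by decide)
  · intro he
    rw [(hn.add he).neg_one_pow]

theorem rO_notMem (hQ : Nondeg Q) (hgen : reflGroup Q = ⊤) (h2 : (2 : F) = 0) {u : V}
    (hu : Q u ≠ 0) : rO Q u ∉ commutator (O Q) := by
  rw [commutator_eq_ker_dickson hQ hgen h2, MonoidHom.mem_ker, dickson_rO hQ hgen hu]
  decide

theorem mul_mem_commutator (hQ : Nondeg Q) (hgen : reflGroup Q = ⊤) (h2 : (2 : F) = 0) {g h : O Q}
    (hg : g ∉ commutator (O Q)) (hh : h ∉ commutator (O Q)) : g * h ∈ commutator (O Q) := by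
  rw [commutator_eq_ker_dickson hQ hgen h2] at hg hh ⊢
  rw [MonoidHom.mem_ker] at hg hh ⊢
  rw [map_mul, (units_eq_one_or _).resolve_left hg, (units_eq_one_or _).resolve_left hh, neg_mul,
    one_mul, neg_neg]

/-- a subgroup with an odd element meets the commutator subgroup in half of its elements -/
theorem two_mul_card_inf (hQ : Nondeg Q) (hgen : reflGroup Q = ⊤) (h2 : (2 : F) = 0)
    (C : Subgroup (O Q)) {g₀ : O Q} (hg₀ : g₀ ∈ C) (hodd : g₀ ∉ commutator (O Q)) :
    2 * Nat.card (C ⊓ commutator (O Q) : Subgroup (O Q)) = Nat.card C := by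
  classical
  haveI := finite_O Q
  let f : (C ⊓ commutator (O Q) : Subgroup (O Q)) × Fin 2 → C := fun p =>
    if p.2 = 0 then ⟨p.1.1, p.1.2.1⟩ else ⟨g₀ * p.1.1, C.mul_mem hg₀ p.1.2.1⟩
  have hne : ∀ h : (C ⊓ commutator (O Q) : Subgroup (O Q)), g₀ * h.1 ∉ commutator (O Q) :=
    fun h hh => hodd (by simpa using (commutator (O Q)).mul_mem hh ((commutator (O Q)).inv_mem h.2.2))
  have hf : Function.Bijective f := by
    constructor
    · rintro ⟨h, i⟩ ⟨h', j⟩ hij
      have := congrArg Subtype.val hij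
      fin_cases i <;> fin_cases j <;> simp [f] at this ⊢
      · exact this
      · exact hne h' (this ▸ h.2.2)
      · exact hne h (this.symm ▸ h'.2.2)
      · exact this
    · intro c
      by_cases hc : c.1 ∈ commutator (O Q)
      · exact ⟨(⟨c.1, c.2, hc⟩, 0), rfl⟩
      · refine ⟨(⟨g₀⁻¹ * c.1, C.mul_mem (C.inv_mem hg₀) c.2,
          mul_mem_commutator hQ hgen h2 (fun h => hodd (by simpa using (commutator (O Q)).inv_mem h)) hc⟩, 1),
          Subtype.ext ?_⟩
        simp [f]
  have := Nat.card_eq_of_bijective f hf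
  rw [Nat.card_prod, Nat.card_eq_fintype_card (α := Fin 2), Fintype.card_fin] at this
  omega

/-- stabilisers of maximal totally singular subspaces lie in the commutator subgroup -/
theorem mem_commutator_of_stab (hQ : Nondeg Q) (hgen : reflGroup Q = ⊤) (h2 : (2 : F) = 0) {m : ℕ}
    (hV : finrank F V = 2 * m) {U : Submodule F V} (hU : TotSing Q U) (hr : finrank F U = m)
    (hm : 1 ≤ m) {g : O Q} (hg : U.map ((g : V ≃ₗ[F] V) : V →ₗ[F] V) = U) :
    g ∈ commutator (O Q) := by
  by_contra hgc
  set χ := familySign hQ hV hU hr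
  have hχg : χ g = 1 := by
    rw [familySign_apply, hg, inf_idem, hr, Nat.sub_self, pow_zero]
  have hker : ∀ x ∈ commutator (O Q), χ x = 1 := fun x hx =>
    Abelianization.commutator_subset_ker χ hx
  obtain ⟨v, hv⟩ := hQ.exists_value (by omega) 1
  have hv0 : Q v ≠ 0 := by rw [hv]; exact one_ne_zero
  -- a reflection moving the subspace to an adjacent one
  obtain ⟨u, hu, huU⟩ : ∃ u, Q u ≠ 0 ∧ u ∉ Orthogonal.perp Q U := by
    refine ⟨v, hv0, fun h => ?_⟩
    rw [hU.perp_eq_self hQ hV hr] at h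
    exact hv0 (hU v h)
  have hr2 : χ (rO Q u) = 1 := by
    have := hker _ (mul_mem_commutator hQ hgen h2 (rO_notMem hQ hgen h2 hu) hgc)
    rwa [map_mul, hχg, mul_one] at this
  rw [familySign_apply] at hr2
  have hK : U ⊓ U.map ((rO Q u : V ≃ₗ[F] V) : V →ₗ[F] V) =
      U ⊓ Orthogonal.perp Q (Submodule.span F {u}) := by
    ext w
    constructor
    · rintro ⟨hw, z, hz, hzw⟩
      refine ⟨hw, (mem_perp_span_singleton Q).2 ?_⟩
      rw [LinearEquiv.coe_coe, rO_app] at hzw
      by_contra hne
      have hcu : polar Q u z ≠ 0 := fun h => hne (by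
        rw [h, mul_zero, zero_smul, sub_zero] at hzw; rw [← hzw]; exact h)
      have hmem : ((Q u)⁻¹ * polar Q u z) • u ∈ U := by
        have : ((Q u)⁻¹ * polar Q u z) • u = z - w := by rw [← hzw]; abel
        rw [this]; exact U.sub_mem hz hw
      have := (U.smul_mem_iff (mul_ne_zero (inv_ne_zero hu) hcu)).1 hmem
      exact hu (hU u this)
    · rintro ⟨hw, hwp⟩
      exact ⟨hw, w, hw, by rw [LinearEquiv.coe_coe, rO_fix ((mem_perp_span_singleton Q).1 hwp)]⟩
  let L : U →ₗ[F] F := (Q.polarBilin u).comp U.subtype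
  have hLs : Function.Surjective L := by
    obtain ⟨w, hw, hwu⟩ : ∃ w ∈ U, polar Q u w ≠ 0 := by
      by_contra hcon
      push Not at hcon
      exact huU (fun w hw => by rw [polar_comm]; exact hcon w hw)
    intro c
    refine ⟨(c / polar Q u w) • ⟨w, hw⟩, ?_⟩
    rw [map_smul, smul_eq_mul]
    exact div_mul_cancel₀ c hwu
  have hker' : finrank F (LinearMap.ker L) + 1 = m := by
    have h1 := LinearMap.finrank_range_add_finrank_ker L
    rw [LinearMap.range_eq_top.2 hLs, finrank_top, Module.finrank_self, hr] at h1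
    omega
  have hinf : finrank F ↥(U ⊓ Orthogonal.perp Q (Submodule.span F {u})) = finrank F (LinearMap.ker L) := by
    have hh : LinearMap.ker L = Submodule.comap U.subtype (Orthogonal.perp Q (Submodule.span F {u})) := by
      ext x
      rw [LinearMap.mem_ker, Submodule.mem_comap, mem_perp_span_singleton]
      rfl
    rw [hh, ← Submodule.map_comap_subtype, Submodule.finrank_map_subtype_eq]
  rw [hK, hinf, show m - finrank F (LinearMap.ker L) = 1 by omega] at hr2
  exact absurd hr2 (by decide)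

/-- the order of the orthogonal group of a split space, empty case included -/
theorem card_O_split (hQ : Nondeg Q) {k : ℕ} {e f : Fin k → V} (h : IsFrame Q e f)
    (hn : finrank F V = 2 * k) :
    Nat.card (O Q) = if k = 0 then 1 else
      2 * Nat.card F ^ (k * (k - 1)) * (Nat.card F ^ k - 1) * oprod (Nat.card F) (k - 1) := by
  cases k with
  | zero =>
    rw [if_pos rfl]
    have : Subsingleton V := Module.finrank_zero_iff.1 (by omega : finrank F V = 0)
    exact Nat.card_eq_one_iff_unique.2 ⟨⟨fun a b => O.ext_app fun _ => Subsingleton.elim _ _⟩, ⟨1⟩⟩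
  | succ j =>
    rw [if_neg (Nat.succ_ne_zero j), Nat.add_sub_cancel]
    have hker := h.finrank_kernel hQ
    have hk0 : finrank F (kernel Q e f) = 0 := by omega
    have : Subsingleton (kernel Q e f) := Module.finrank_zero_iff.1 hk0
    exact card_O_plus j Q hQ h (fun x hx _ => congrArg Subtype.val (Subsingleton.elim (⟨x, hx⟩ : kernel Q e f) 0)) hn

/-- the stabiliser of a vector of value one in a split space -/
theorem card_fix_vec (hQ : Nondeg Q) {k : ℕ} {e f : Fin k → V} (h : IsFrame Q e f)
    (hn : finrank F V = 2 * k) (hk : 1 ≤ k) {κ : Type*} [Unique κ] (y : κ → V)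
    (hy : Q (y default) = 1) :
    Nat.card (Fix Q y) = 2 * Nat.card F ^ ((k - 1) ^ 2) * oprod (Nat.card F) (k - 1) := by
  classical
  haveI := Fintype.ofFinite F
  set x := y default with hx
  have hx0 : x ≠ 0 := fun h0 => by rw [h0, QuadraticMap.map_zero] at hy; exact zero_ne_one hy
  have horb := card_fix_orbit (Q := Q) (Empty.elim : Empty → V) x
  have h1 : Nat.card (Fix Q (Empty.elim : Empty → V)) = Nat.card (O Q) :=
    Nat.card_congr (Equiv.subtypeUnivEquiv fun g i => i.elim)
  have h2 : Nat.card {g : Fix Q (Empty.elim : Empty → V) // (g.1 : V ≃ₗ[F] V) x = x} =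
      Nat.card (Fix Q y) :=
    Nat.card_congr ((Equiv.subtypeSubtypeEquivSubtypeInter
      (fun g : O Q => ∀ i : Empty, (g : V ≃ₗ[F] V) (Empty.elim i) = Empty.elim i)
      (fun g : O Q => (g : V ≃ₗ[F] V) x = x)).trans
      (Equiv.subtypeEquivRight fun g => ⟨fun hg j => by rw [Unique.eq_default j]; exact hg.2,
        fun hg => ⟨fun i => i.elim, hg default⟩⟩))
  have h3 : Nat.card {b' : V // ∃ g : Fix Q (Empty.elim : Empty → V), (g.1 : V ≃ₗ[F] V) x = b'} =
      sphereCard Q ⊤ 1 := by
    rw [sphereCard_top]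
    refine Nat.card_congr (Equiv.subtypeEquivRight fun b' => ⟨?_, fun hb => ?_⟩)
    · rintro ⟨g, rfl⟩
      rw [O.map_app, hy]
    · have hb0 : b' ≠ 0 := fun h0 => by rw [h0, QuadraticMap.map_zero] at hb; exact zero_ne_one hb
      obtain ⟨g, hg⟩ := exists_map_vec hQ hx0 hb0 (hb.trans hy.symm)
      exact ⟨⟨g, fun i => i.elim⟩, hg⟩
  obtain ⟨hs1, hs2⟩ := sphereCard_frame h 1
  have hker := h.finrank_kernel hQ
  have hK0 : finrank F (kernel Q e f) = 0 := by omega
  have hKs : sphereCard Q (kernel Q e f) 1 = 0 := by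
    have : Subsingleton (kernel Q e f) := Module.finrank_zero_iff.1 hK0
    refine Nat.card_eq_zero.2 (Or.inl ⟨fun z => zero_ne_one (α := F) ?_⟩)
    have h0 := z.2
    rw [Subsingleton.elim z.1 0, Submodule.coe_zero, QuadraticMap.map_zero] at h0
    exact h0
  rw [hKs, natCard_eq_pow (kernel Q e f), hK0, pow_zero, mul_one, mul_zero, add_zero] at hs1
  rw [natCard_eq_pow (kernel Q e f), hK0, pow_zero, mul_one] at hs2
  rw [hs2] at hs1
  rw [h1, h2, h3, card_O_split hQ h hn, if_neg (by omega)] at horb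
  obtain ⟨j, rfl⟩ : ∃ j, k = j + 1 := ⟨k - 1, by omega⟩
  simp only [Nat.add_sub_cancel] at horb ⊢
  set q := Nat.card F with hq
  have hq1 : 1 < q := Finite.one_lt_card
  obtain ⟨c, hc⟩ : ∃ c, q ^ (j + 1) = c + 1 := ⟨q ^ (j + 1) - 1, by
    have := pow_pos (show 0 < q by omega) (j + 1); omega⟩
  have hc0 : 0 < c := by
    have : 1 < q ^ (j + 1) := Nat.one_lt_pow (by omega) hq1
    omega
  have hN : sphereCard Q ⊤ 1 = q ^ j * c := by
    refine Nat.eq_of_mul_eq_mul_left (show 0 < q by omega) ?_
    have e1 : q ^ (2 * (j + 1)) = (c + 1) * (c + 1) := by rw [← hc]; ring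
    have e2 : q * (q ^ j * c) = (c + 1) * c := by rw [← hc]; ring
    rw [e1, hc] at hs1
    rw [e2]
    linarith
  rw [hN, hc, Nat.add_sub_cancel] at horb
  refine Nat.eq_of_mul_eq_mul_left (Nat.mul_pos (pow_pos (show 0 < q by omega) j) hc0) ?_
  rw [← horb, show (j + 1) * j = j + j ^ 2 by ring, pow_add]
  ring

end Cfsg.Agent.Symplectic.OrthTwo
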