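import Cfsg.Agent.Symplectic.AutClass
import Cfsg.Agent.H56.Projective

/-! Automorphisms of `PSp` are induced by semilinear similitudes. -/

set_option autoImplicit false
set_option linter.unusedSectionVars false

namespace Cfsg.Agent.Symplectic

open scoped Matrix LinearAlgebra.Projectivization
open Matrix Module Projectivization

variable {m : ℕ} {F : Type*} [Field F]

local notation "𝕍" => Fin m ⊕ Fin m → F
local notation "f⟪" u ", " v "⟫" => Cfsg.sympForm m F u v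

theorem mem_span_of_perp {u v : 𝕍} (hu : u ≠ 0) (h : ∀ z, f⟪u, z⟫ = 0 → f⟪v, z⟫ = 0) :
    ∃ a : F, v = a • u := by
  obtain ⟨x, hx⟩ := sf_exists_one hu
  refine ⟨f⟪v, x⟫, sub_eq_zero.mp (by_contra fun hne => ?_)⟩
  obtain ⟨z, hz⟩ := sf_exists_one hne
  rw [sub_eq_add_neg, ← neg_smul, sf_add_left, sf_smul_left] at hz
  have h2 := h (z + (-f⟪u, z⟫) • x) (by rw [sf_add_right, sf_smul_right, hx]; ring)
  rw [sf_add_right, sf_smul_right] at h2
  exact one_ne_zero (α := F) (by linear_combination h2 - hz)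

theorem span_of_T_eq {u v : 𝕍} (hu : u ≠ 0) {c d : F} (hc : c ≠ 0) (h : T u c = T v d) :
    ∃ a : F, u = a • v := by
  obtain ⟨x, hx⟩ := sf_exists_one hu
  have h1 := congrArg (fun g : Matrix.symplecticGroup (Fin m) F => (g : Mat m F) *ᵥ x) h
  simp only [T_mulVec, add_right_inj] at h1
  rw [sf_swap x u, hx] at h1
  refine ⟨(c * -1)⁻¹ * (d * f⟪x, v⟫), ?_⟩
  rw [mul_smul, ← h1, smul_smul, inv_mul_cancel₀ (by simp [hc]), one_smul]

section

variable [Finite F] {p : ℕ} [Fact p.Prime] [CharP F p]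

theorem T_pow_p (u : 𝕍) (c : F) : T u c ^ p = 1 := by
  rw [T_pow, CharP.cast_eq_zero, zero_mul, T_zero]

include p in
theorem span_of_psp_T_eq (hm : 1 ≤ m) {u v : 𝕍} (hu : u ≠ 0) {c d : F} (hc : c ≠ 0)
    (h : psp (T u c) = psp (T v d)) : ∃ a : F, u = a • v :=
  span_of_T_eq hu hc (lift_unique (p := p) hm (T_pow_p u c) (T_pow_p v d) h)

include p in
theorem commute_psp_T_iff (hm : 1 ≤ m) {u v : 𝕍} {c d : F} (hu : u ≠ 0) (hv : v ≠ 0)
    (hc : c ≠ 0) (hd : d ≠ 0) : Commute (psp (T u c)) (psp (T v d)) ↔ f⟪u, v⟫ = 0 := by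
  constructor
  · intro h
    have h1 : psp (T ((T u c : Mat m F) *ᵥ v) d) = psp (T v d) := by
      rw [← T_conj, map_mul, map_mul, map_inv, h.eq, mul_inv_cancel_right]
    obtain ⟨a, ha⟩ := span_of_psp_T_eq (p := p) hm hv hd h1.symm
    rw [T_mulVec] at ha
    by_contra huv
    have hb : a * (c * f⟪v, u⟫) ≠ 0 := by
      refine mul_ne_zero (fun h0 => hv (by rw [ha, h0, zero_smul])) (mul_ne_zero hc ?_)
      rwa [sf_swap, neg_ne_zero]
    have h2 : (a * (c * f⟪v, u⟫)) • u = (1 - a) • v := by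
      rw [sub_smul, one_smul, eq_sub_iff_add_eq, mul_smul, ← smul_add, add_comm, ← ha]
    have h3 := congrArg (fun x => f⟪x, v⟫) h2
    simp only [sf_smul_left, sf_self, mul_zero, mul_eq_zero] at h3
    exact huv (h3.resolve_left (by simpa [mul_eq_zero] using hb))
  · intro h
    refine (?_ : Commute (T u c) (T v d)).map psp
    refine sp_ext fun x => ?_
    have h' : f⟪v, u⟫ = 0 := by rw [sf_swap, h, neg_zero]
    simp only [Submonoid.coe_mul, ← Matrix.mulVec_mulVec, T_mulVec, sf_add_left, sf_smul_left,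
      h, h', mul_zero, add_zero]
    abel

/-- the point of a nonzero vector goes to the point of another -/
def Img (φ : MulAut (Cfsg.PSp m F)) (v w : 𝕍) : Prop :=
  v ≠ 0 ∧ w ≠ 0 ∧ ∃ c d, c ≠ 0 ∧ d ≠ 0 ∧ φ (psp (T v c)) = psp (T w d)

variable [Fintype F]

theorem exists_img {φ : MulAut (Cfsg.PSp m F)} (hφ : Pres φ) {v : 𝕍}
    (hv : v ≠ 0) (c : F) (hc : c ≠ 0) :
    ∃ w d, Img φ v w ∧ d ≠ 0 ∧ φ (psp (T v c)) = psp (T w d) := by
  obtain ⟨w, d, hw, hd, he⟩ :=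
    hφ (psp (T v c)) ⟨v, c, hv, hc, rfl⟩
  exact ⟨w, d, ⟨hv, hw, c, d, hc, hd, he⟩, hd, he⟩

theorem img_symm {φ : MulAut (Cfsg.PSp m F)} {v w : 𝕍} (h : Img φ v w) : Img φ.symm w v := by
  obtain ⟨hv, hw, c, d, hc, hd, he⟩ := h
  exact ⟨hw, hv, d, c, hd, hc, by rw [← he]; exact φ.symm_apply_apply _⟩

include p in
theorem img_orth (hm : 1 ≤ m) {φ : MulAut (Cfsg.PSp m F)} {v w v' w' : 𝕍} (h : Img φ v w)
    (h' : Img φ v' w') : f⟪w, w'⟫ = 0 ↔ f⟪v, v'⟫ = 0 := by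
  obtain ⟨hv, hw, c, d, hc, hd, he⟩ := h
  obtain ⟨hv', hw', c', d', hc', hd', he'⟩ := h'
  rw [← commute_psp_T_iff (p := p) hm hw hw' hd hd', ← he, ← he',
    ← commute_psp_T_iff (p := p) hm hv hv' hc hc']
  exact ⟨fun hh => φ.injective (by rw [map_mul, map_mul]; exact hh.eq),
    fun hh => hh.map φ.toMonoidHom⟩

include p in
theorem img_unique (hm : 2 ≤ m) {φ : MulAut (Cfsg.PSp m F)} (hφ : Pres φ)
    {v w v' w' : 𝕍} (h : Img φ v w) (h' : Img φ v' w') {a : F} (ha : v' = a • v) :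
    ∃ b : F, w' = b • w := by
  refine mem_span_of_perp h.2.1 fun z hz => ?_
  by_cases hz0 : z = 0
  · rw [hz0, ← zero_smul F z, sf_smul_right, zero_mul]
  obtain ⟨u, e, hu, -, -⟩ := exists_img (pres_symm hφ) hz0 1 one_ne_zero
  have hu' := img_symm hu
  rw [show φ.symm.symm = φ from rfl] at hu'
  rw [img_orth (p := p) (by omega) h hu'] at hz
  rw [img_orth (p := p) (by omega) h' hu', ha, sf_smul_left, hz, mul_zero]

include p in
theorem exists_point_perm (hm : 2 ≤ m) {φ : MulAut (Cfsg.PSp m F)} (hφ : Pres φ) :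
    ∃ π : ℙ F 𝕍 ≃ ℙ F 𝕍, ∀ v w (h : Img φ v w), π (mk F v h.1) = mk F w h.2.1 := by
  have key : ∀ (ψ : MulAut (Cfsg.PSp m F)), Pres ψ → ∃ π : ℙ F 𝕍 → ℙ F 𝕍,
      ∀ v w (h : Img ψ v w), π (mk F v h.1) = mk F w h.2.1 := by
    intro ψ hψ
    choose w d hw _ _ using fun P : ℙ F 𝕍 => exists_img hψ P.rep_nonzero 1 one_ne_zero
    refine ⟨fun P => mk F (w P) (hw P).2.1, fun v u h => ?_⟩
    obtain ⟨a, ha⟩ := exists_smul_eq_mk_rep F v h.1
    obtain ⟨b, hb⟩ := img_unique (p := p) hm hψ h (hw (mk F v h.1)) (a := (a : F)) ha.symm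
    exact (mk_eq_mk_iff' F _ _ _ _).mpr ⟨b, hb.symm⟩
  obtain ⟨π, hπ⟩ := key φ hφ
  have hinj : Function.Injective π := by
    obtain ⟨π', hπ'⟩ := key φ.symm (pres_symm hφ)
    have hl : ∀ P, π' (π P) = P := by
      intro P
      obtain ⟨w, d, hw, -, -⟩ := exists_img hφ P.rep_nonzero 1 one_ne_zero
      have e1 := hπ _ _ hw
      rw [mk_rep] at e1
      rw [e1, hπ' _ _ (img_symm hw), mk_rep]
    exact fun P Q hPQ => by rw [← hl P, hPQ, hl Q]
  exact ⟨Equiv.ofBijective π (Finite.injective_iff_bijective.mp hinj), hπ⟩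

/-- a linear equivalence on points -/
noncomputable def pEquiv {W : Type*} [AddCommGroup W] [Module F W] (e : 𝕍 ≃ₗ[F] W) :
    ℙ F 𝕍 ≃ ℙ F W where
  toFun := Projectivization.map e.toLinearMap e.injective
  invFun := Projectivization.map e.symm.toLinearMap e.symm.injective
  left_inv P := by
    induction P using Projectivization.ind with
    | h v hv => exact (mk_eq_mk_iff' F _ _ _ _).mpr ⟨1, by simp⟩
  right_inv P := by
    induction P using Projectivization.ind with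
    | h v hv => exact (mk_eq_mk_iff' F _ _ _ _).mpr ⟨1, by simp⟩

theorem pEquiv_mk {W : Type*} [AddCommGroup W] [Module F W] (e : 𝕍 ≃ₗ[F] W) (v : 𝕍) (hv : v ≠ 0) :
    pEquiv e (mk F v hv) = mk F (e v) (fun h => hv (e.injective (h.trans (map_zero e).symm))) :=
  rfl

theorem mem_GSp_of_orth {g : GL (Fin m ⊕ Fin m) F} (hm : 1 ≤ m)
    (h : ∀ u v : 𝕍, u ≠ 0 → v ≠ 0 →
      (f⟪(g : Mat m F) *ᵥ u, (g : Mat m F) *ᵥ v⟫ = 0 ↔ f⟪u, v⟫ = 0)) :
    g ∈ Cfsg.GSp m F := by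
  have h' : ∀ u v : 𝕍, f⟪u, v⟫ = 0 → f⟪(g : Mat m F) *ᵥ u, (g : Mat m F) *ᵥ v⟫ = 0 := by
    intro u v huv
    by_cases hu : u = 0
    · rw [hu, Matrix.mulVec_zero, ← zero_smul F (0 : 𝕍), sf_smul_left, zero_mul]
    by_cases hv : v = 0
    · rw [hv, Matrix.mulVec_zero, ← zero_smul F (0 : 𝕍), sf_smul_right, zero_mul]
    exact (h u v hu hv).mpr huv
  have lin : ∀ u x : 𝕍, f⟪u, x⟫ ≠ 0 → ∀ v,
      f⟪(g : Mat m F) *ᵥ u, (g : Mat m F) *ᵥ v⟫ * f⟪u, x⟫ =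
        f⟪(g : Mat m F) *ᵥ u, (g : Mat m F) *ᵥ x⟫ * f⟪u, v⟫ := by
    intro u x hux v
    have h1 := h' u (f⟪u, x⟫ • v + (-f⟪u, v⟫) • x) (by
      rw [sf_add_right, sf_smul_right, sf_smul_right]; ring)
    rw [Matrix.mulVec_add, Matrix.mulVec_smul, Matrix.mulVec_smul, sf_add_right, sf_smul_right,
      sf_smul_right] at h1
    linear_combination h1
  let u0 : 𝕍 := Pi.single (Sum.inl ⟨0, hm⟩) 1
  have hu0 : u0 ≠ 0 := by simp [u0]
  obtain ⟨x0, hx0⟩ := sf_exists_one hu0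
  have hx : x0 ≠ 0 := fun h0 => by
    rw [h0, ← zero_smul F (0 : 𝕍), sf_smul_right, zero_mul] at hx0
    exact zero_ne_one hx0
  set μ := f⟪(g : Mat m F) *ᵥ u0, (g : Mat m F) *ᵥ x0⟫ with hμ
  have hμ0 : μ ≠ 0 := fun h0 => one_ne_zero (α := F) (hx0 ▸ (h u0 x0 hu0 hx).mp h0)
  have hleft : ∀ u, f⟪u, x0⟫ ≠ 0 → ∀ v,
      f⟪(g : Mat m F) *ᵥ u, (g : Mat m F) *ᵥ v⟫ = μ * f⟪u, v⟫ := by
    intro u hu v
    have e1 := lin u x0 hu v
    have e2 := lin x0 u0 (by rw [sf_swap, hx0]; simp) u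
    rw [sf_swap x0 u0, hx0, sf_swap x0 u, sf_swap ((g : Mat m F) *ᵥ x0) ((g : Mat m F) *ᵥ u0),
      ← hμ, sf_swap ((g : Mat m F) *ᵥ x0) ((g : Mat m F) *ᵥ u)] at e2
    refine mul_right_cancel₀ hu ?_
    linear_combination e1 + f⟪u, v⟫ * e2
  refine ⟨Units.mk0 μ hμ0, fun u v => ?_⟩
  show f⟪(g : Mat m F) *ᵥ u, (g : Mat m F) *ᵥ v⟫ = μ * f⟪u, v⟫
  by_cases hu : f⟪u, x0⟫ = 0
  · have e1 := hleft (u + u0) (by rw [sf_add_left, hu, hx0, zero_add]; exact one_ne_zero) v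
    have e2 := hleft u0 (by rw [hx0]; exact one_ne_zero) v
    rw [Matrix.mulVec_add, sf_add_left, sf_add_left] at e1
    linear_combination e1 - e2
  · exact hleft u hu v

theorem exists_similitude (hm : 2 ≤ m) (π : ℙ F 𝕍 ≃ ℙ F 𝕍)
    (hπ : ∀ u v (hu : u ≠ 0) (hv : v ≠ 0),
      f⟪(π (mk F u hu)).rep, (π (mk F v hv)).rep⟫ = 0 ↔ f⟪u, v⟫ = 0) :
    ∃ (g : Cfsg.GSp m F) (σ : F ≃+* F), ∀ v (hv : v ≠ 0),
      π (mk F v hv) = mk F (semiVec g.1 σ v) (semiVec_ne_zero g.1 σ hv) := by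
  let e : Fin m ⊕ Fin m ≃ Fin (m + m) := finSumFinEquiv
  let Φ : 𝕍 ≃ₗ[F] (Fin (m + m) → F) := LinearEquiv.funCongrLeft F F e.symm
  have hJ : IsUnit (Matrix.J (Fin m) F) :=
    (Matrix.isUnit_iff_isUnit_det _).mpr (Matrix.isUnit_det_J _ _)
  let Jl : 𝕍 ≃ₗ[F] 𝕍 := LinearEquiv.ofBijective (Matrix.mulVecLin (Matrix.J (Fin m) F))
    ⟨Matrix.mulVec_injective_of_isUnit hJ,
      Finite.surjective_of_injective (Matrix.mulVec_injective_of_isUnit hJ)⟩
  let Ψ : 𝕍 ≃ₗ[F] (Fin (m + m) → F) := Jl.trans Φ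
  have hdot : ∀ u v, Φ u ⬝ᵥ Ψ v = f⟪u, v⟫ := fun u v => by
    show (u ∘ e.symm) ⬝ᵥ ((Matrix.J (Fin m) F *ᵥ v) ∘ e.symm) = _
    rw [comp_equiv_dotProduct_comp_equiv]
    rfl
  let B := ((pEquiv Φ).symm.trans π).trans (pEquiv Φ)
  let D := ((pEquiv Ψ).symm.trans π).trans (pEquiv Ψ)
  have hI : Cfsg.Agent.H56.Incid B D := ⟨fun P H => by
    obtain ⟨P, rfl⟩ := (pEquiv Φ).surjective P
    obtain ⟨H, rfl⟩ := (pEquiv Ψ).surjective H
    simp only [B, D, Equiv.trans_apply, Equiv.symm_apply_apply]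
    induction P using Projectivization.ind with
    | h u hu =>
      induction H using Projectivization.ind with
      | h v hv =>
        rw [pEquiv_mk, pEquiv_mk, ← mk_rep (π (mk F u hu)), ← mk_rep (π (mk F v hv)), pEquiv_mk,
          pEquiv_mk, orthogonal_mk, orthogonal_mk, hdot, hdot]
        exact hπ u v hu hv⟩
  obtain ⟨g0, σ, hgσ⟩ := Cfsg.Agent.H56.exists_semilinear (by omega) hI
  let g : GL (Fin m ⊕ Fin m) F :=
    Units.map ((Matrix.reindexAlgEquiv F F e.symm).toRingEquiv.toMonoidHom :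
      Matrix (Fin (m + m)) (Fin (m + m)) F →* Mat m F) g0
  have hg : ∀ x : 𝕍, Φ ((g : Mat m F) *ᵥ x) = (g0 : Matrix (Fin (m + m)) (Fin (m + m)) F) *ᵥ Φ x := by
    intro x
    show ((g0 : Matrix (Fin (m + m)) (Fin (m + m)) F).submatrix e e *ᵥ x) ∘ e.symm = (g0 : Matrix (Fin (m + m)) (Fin (m + m)) F) *ᵥ (x ∘ e.symm)
    rw [Matrix.submatrix_mulVec_equiv, Function.comp_assoc, e.self_comp_symm, Function.comp_id]
  have hπg : ∀ v (hv : v ≠ 0), π (mk F v hv) =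
      mk F (semiVec g σ v) (semiVec_ne_zero g σ hv) := by
    intro v hv
    apply (pEquiv Φ).injective
    have hΦ : Φ (semiVec g σ v) = (g0 : Matrix (Fin (m + m)) (Fin (m + m)) F) *ᵥ fun i => σ (Φ v i) := hg _
    have hne : (g0 : Matrix (Fin (m + m)) (Fin (m + m)) F) *ᵥ (fun i => σ (Φ v i)) ≠ 0 := by
      rw [← hΦ]
      exact fun h => semiVec_ne_zero g σ hv (Φ.injective (h.trans (map_zero Φ).symm))
    have h1 := hgσ (Φ v) (fun h => hv (Φ.injective (h.trans (map_zero Φ).symm))) hne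
    rw [← pEquiv_mk Φ v hv] at h1
    simp only [B, Equiv.trans_apply, Equiv.symm_apply_apply] at h1
    rw [h1, pEquiv_mk]
    exact (mk_eq_mk_iff' F _ _ _ _).mpr ⟨1, by rw [one_smul, hΦ]⟩
  refine ⟨⟨g, mem_GSp_of_orth (by omega) fun u v hu hv => ?_⟩, σ, hπg⟩
  obtain ⟨u, rfl⟩ : ∃ u', sigVec σ u' = u :=
    ⟨sigVec σ.symm u, funext fun i => σ.apply_symm_apply _⟩
  obtain ⟨v, rfl⟩ : ∃ v', sigVec σ v' = v :=
    ⟨sigVec σ.symm v, funext fun i => σ.apply_symm_apply _⟩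
  have hu' : u ≠ 0 := fun h => hu (by subst h; funext i; exact map_zero σ)
  have hv' : v ≠ 0 := fun h => hv (by subst h; funext i; exact map_zero σ)
  rw [sf_sigVec, EmbeddingLike.map_eq_zero_iff, ← hπ u v hu' hv', hπg u hu', hπg v hv']
  obtain ⟨a, ha⟩ := exists_smul_eq_mk_rep F (semiVec g σ u) (semiVec_ne_zero g σ hu')
  obtain ⟨b, hb⟩ := exists_smul_eq_mk_rep F (semiVec g σ v) (semiVec_ne_zero g σ hv')
  rw [← ha, ← hb, Units.smul_def, Units.smul_def, sf_smul_left, sf_smul_right]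
  simp [semiVec]

include p in
theorem eq_one_of_fix_points (hm : 1 ≤ m) (ψ : MulAut (Cfsg.PSp m F))
    (h : ∀ v : 𝕍, v ≠ 0 → ∀ c : F, c ≠ 0 → ∃ d, ψ (psp (T v c)) = psp (T v d)) : ψ = 1 := by
  refine MulEquiv.ext fun x => ?_
  obtain ⟨s, rfl⟩ := psp_surjective x
  obtain ⟨t, ht⟩ := psp_surjective (ψ (psp s))
  rw [MulAut.one_apply, ← ht]
  have key : ∀ v : 𝕍, ∃ a : F,
      ((t⁻¹ * s : Matrix.symplecticGroup (Fin m) F) : Mat m F) *ᵥ v = a • v := by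
    intro v
    by_cases hv : v = 0
    · exact ⟨0, by simp [hv]⟩
    obtain ⟨d, hd⟩ := h v hv 1 one_ne_zero
    obtain ⟨d', hd'⟩ := h _ (sp_mulVec_ne_zero s hv) 1 one_ne_zero
    have hd0 : d' ≠ 0 := by
      rintro rfl
      rw [T_zero, map_one] at hd'
      exact psp_T_ne_one (sp_mulVec_ne_zero s hv) one_ne_zero
        (ψ.injective (hd'.trans (map_one ψ).symm))
    rw [← T_conj, map_mul, map_mul, map_inv, map_mul, map_mul, map_inv, ← ht, hd, ← map_inv,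
      ← map_mul, ← map_mul, T_conj] at hd'
    obtain ⟨a, ha⟩ := span_of_psp_T_eq (p := p) hm (sp_mulVec_ne_zero s hv) hd0 hd'.symm
    refine ⟨a, ?_⟩
    rw [Submonoid.coe_mul, ← Matrix.mulVec_mulVec, ha, Matrix.mulVec_smul, Matrix.mulVec_mulVec,
      ← Submonoid.coe_mul, inv_mul_cancel, Submonoid.coe_one, Matrix.one_mulVec]
  obtain ⟨a, ha⟩ := LinearMap.exists_eq_smul_id_of_forall_notLinearIndependent
    (f := Matrix.toLin' ((t⁻¹ * s : Matrix.symplecticGroup (Fin m) F) : Mat m F)) (fun v => by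
      obtain ⟨a, ha⟩ := key v
      intro hli
      have := (LinearIndependent.pair_iff.mp hli) a (-1) (by rw [Matrix.toLin'_apply, ha]; simp)
      simp at this)
  have hcen : t⁻¹ * s ∈ Subgroup.center (Matrix.symplecticGroup (Fin m) F) :=
    (mem_center_iff _).mpr ⟨a, fun v => by simpa using LinearMap.congr_fun ha v⟩
  rw [← mul_inv_cancel_left t s, map_mul, psp_eq_one.mpr hcen, mul_one]

include p in
/-- every automorphism of `PSp` is induced by a semilinear similitude -/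
theorem exists_semiPSp (hm : 2 ≤ m) {φ : MulAut (Cfsg.PSp m F)} (hφ : Pres φ) :
    ∃ g σ, φ = semiPSp g σ := by
  obtain ⟨π, hπ⟩ := exists_point_perm (p := p) hm hφ
  obtain ⟨g, σ, hg⟩ := exists_similitude hm π (fun u v hu hv => by
    obtain ⟨u', _, hu', -, -⟩ := exists_img hφ hu 1 one_ne_zero
    obtain ⟨v', _, hv', -, -⟩ := exists_img hφ hv 1 one_ne_zero
    rw [hπ _ _ hu', hπ _ _ hv']
    obtain ⟨a, ha⟩ := exists_smul_eq_mk_rep F u' hu'.2.1
    obtain ⟨b, hb⟩ := exists_smul_eq_mk_rep F v' hv'.2.1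
    rw [← ha, ← hb, Units.smul_def, Units.smul_def, sf_smul_left, sf_smul_right,
      ← img_orth (p := p) (by omega) hu' hv']
    simp)
  refine ⟨g, σ, ?_⟩
  suffices (semiPSp g σ)⁻¹ * φ = 1 by rwa [inv_mul_eq_one, eq_comm] at this
  refine eq_one_of_fix_points (p := p) (by omega) _ fun v hv c hc => ?_
  obtain ⟨w, d, hw, hd, he⟩ := exists_img hφ hv c hc
  have h1 := (hπ _ _ hw).symm.trans (hg v hv)
  obtain ⟨a, rfl⟩ := (mk_eq_mk_iff' F _ _ _ _).mp h1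
  obtain ⟨μ, hμ0, hμ⟩ := exists_mult g.2 σ
  refine ⟨σ.symm (μ * (a ^ 2 * d)), ?_⟩
  rw [MulAut.mul_apply, he, MulAut.inv_apply, MulEquiv.symm_apply_eq, semiPSp_psp,
    semiSp_T g σ hμ0 hμ, σ.apply_symm_apply, T_smul]
  field_simp

include p in
theorem gammaPSp_eq_top (hm : 2 ≤ m) (h4 : m = 2 → p ≠ 2) : Cfsg.gammaPSp m F = ⊤ :=
  eq_top_iff.mpr fun φ _ => by
    obtain ⟨g, σ, rfl⟩ := exists_semiPSp (p := p) hm (isTr_map (p := p) hm h4 φ)
    exact Subgroup.subset_closure ⟨g.1, σ, g.2, isInduced_semiPSp g σ⟩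

end

end Cfsg.Agent.Symplectic
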