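import Cfsg.Agent.Symplectic.HermPolar
import Cfsg.Agent.H95.Dil
import Mathlib

/-! Unitary structures over a subfield of odd degree: elements and existence lemmas. -/

set_option autoImplicit false

namespace Cfsg.Agent.Symplectic

open scoped MatrixGroups Matrix
open Matrix Cfsg.Agent.H95

variable {ι : Type} [Fintype ι] [DecidableEq ι] {F : Type*} [Field F]
  {σ : F ≃+* F} {f : (ι → F) → (ι → F) → F}

section eichler

variable (hf : Geo.IsUnitaryForm σ f)
include hf

omit hf in
/-- conditions for an Eichler element -/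
def EichOK (_hf : Geo.IsUnitaryForm σ f) (e d : ι → F) (t : F) : Prop :=
  f e e = 0 ∧ f d e = 0 ∧ t + σ t = -f d d

/-- `x ↦ x + f(x,e) d - f(x,d) e + t f(x,e) e` -/
noncomputable def ue (e d : ι → F) (t : F) : GL ι F :=
  letI := Classical.propDecidable (EichOK hf e d t)
  if h : EichOK hf e d t then
    tv e (-dv f d + (t + f d d) • dv f e)
        (by rw [add_dotProduct, neg_dotProduct, smul_dotProduct, show dv f d ⬝ᵥ e = f e d from
              u_dot hf d e, show dv f e ⬝ᵥ e = f e e from u_dot hf e e, h.1,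
              u_symm_zero hf h.2.1, smul_zero, neg_zero, add_zero]) *
      tv d (dv f e) (by rw [show dv f e ⬝ᵥ d = f d e from u_dot hf e d, h.2.1])
  else 1

theorem ue_mulVec {e d : ι → F} {t : F} (h : EichOK hf e d t) (x : ι → F) :
    (ue hf e d t : Matrix ι ι F) *ᵥ x = x + f x e • d + (t * f x e - f x d) • e := by
  have hd : ∀ a x : ι → F, dv f a ⬝ᵥ x = f x a := fun a x => u_dot hf a x
  rw [ue, dif_pos h, mul_mulVec, tv_mulVec, tv_mulVec]
  simp only [add_dotProduct, neg_dotProduct, smul_dotProduct, dotProduct_add, dotProduct_smul, hd,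
    smul_eq_mul, h.2.1]
  module

theorem ue_mem_sl (e d : ι → F) (t : F) : ue hf e d t ∈ Geo.specialLinear ι F := by
  rw [ue]
  split
  · exact Subgroup.mul_mem _ (tv_mem_specialLinear _ _ _) (tv_mem_specialLinear _ _ _)
  · exact Subgroup.one_mem _

theorem ue_mem_iso {e d : ι → F} {t : F} (h : EichOK hf e d t) : ue hf e d t ∈ isoGrp f := by
  rw [mem_isoGrp]
  intro x y
  simp only [ue_mulVec hf h, u_add_left hf, u_add_right hf, u_smul_left hf, u_smul_right hf, h.1,
    h.2.1, u_symm_zero hf h.2.1, map_sub, map_mul, u_conj hf]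
  linear_combination (f x e * f e y) * h.2.2

theorem EichOK.add {e d₁ d₂ : ι → F} {t₁ t₂ : F} (h₁ : EichOK hf e d₁ t₁)
    (h₂ : EichOK hf e d₂ t₂) : EichOK hf e (d₁ + d₂) (t₁ + t₂ - f d₂ d₁) := by
  refine ⟨h₁.1, by rw [u_add_left hf, h₁.2.1, h₂.2.1, add_zero], ?_⟩
  rw [map_sub, map_add, u_conj hf, u_add_left hf, u_add_right hf, u_add_right hf]
  linear_combination h₁.2.2 + h₂.2.2

theorem ue_mul {e d₁ d₂ : ι → F} {t₁ t₂ : F} (h₁ : EichOK hf e d₁ t₁) (h₂ : EichOK hf e d₂ t₂) :
    ue hf e d₁ t₁ * ue hf e d₂ t₂ = ue hf e (d₁ + d₂) (t₁ + t₂ - f d₂ d₁) := by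
  refine gl_ext fun x => ?_
  rw [mul_mulVec, ue_mulVec hf h₁, ue_mulVec hf h₂, ue_mulVec hf (h₁.add hf h₂)]
  simp only [u_add_left hf, u_add_right hf, u_smul_left hf, h₁.1, h₁.2.1, h₂.2.1,
    u_symm_zero hf h₁.2.1]
  module

end eichler

/-- A form with values in `F₀` on `V`, for a subfield of odd prime degree. -/
structure HSub (σ : F ≃+* F) (f : (ι → F) → (ι → F) → F) (F₀ : Subfield F)
    (V : AddSubgroup (ι → F)) : Prop where
  herm : Geo.IsUnitaryForm σ f
  smul : ∀ c ∈ F₀, ∀ v ∈ V, c • v ∈ V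
  rat : ∀ u ∈ V, ∀ v ∈ V, f u v ∈ F₀
  span : Submodule.span F (V : Set (ι → F)) = ⊤
  stable : ∀ x ∈ F₀, σ x ∈ F₀
  tr : ∃ e ∈ F₀, e + σ e = 1
  skew : ∃ s ∈ F₀, s ≠ 0 ∧ σ s = -s
  norm : ∀ r ∈ F₀, σ r = r → ∃ c ∈ F₀, c * σ c = r
  quad : ∀ z : F, z + σ z ∈ F₀ → z * σ z ∈ F₀ → z ∈ F₀
  sq : ∀ c : F, c ^ 2 ∈ F₀ → c ∈ F₀
  simple : ∀ K : Subfield F, F₀ ≤ K → K = F₀ ∨ K = ⊤

variable {F₀ : Subfield F} {V : AddSubgroup (ι → F)}

namespace HSub

variable (H : HSub σ f F₀ V)
include H

/-- non-zero isotropic rational vectors -/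
def Iso0 (_H : HSub σ f F₀ V) (v : ι → F) : Prop := v ∈ V ∧ v ≠ 0 ∧ f v v = 0

theorem trace_rat {r : F} (hr : r ∈ F₀) (hfix : σ r = r) : ∃ t ∈ F₀, t + σ t = r := by
  obtain ⟨e, he, he1⟩ := H.tr
  exact ⟨r * e, F₀.mul_mem hr he, by rw [map_mul, hfix, ← mul_add, he1, mul_one]⟩

theorem neg_self_fix (u : ι → F) : σ (-f u u) = -f u u := by rw [map_neg, u_conj H.herm]

theorem exists_ne {a : ι → F} (ha : a ≠ 0) : ∃ z ∈ V, f z a ≠ 0 := by
  by_contra hcon
  push Not at hcon
  obtain ⟨⟨x, hx⟩, -⟩ := H.herm.nondegenerate a ha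
  apply hx
  have : ∀ x ∈ Submodule.span F (V : Set (ι → F)), f x a = 0 := by
    intro x hx
    induction hx using Submodule.span_induction with
    | mem x hx => exact hcon x hx
    | zero => exact u_zero_left H.herm a
    | add p q _ _ hp hq => rw [u_add_left H.herm, hp, hq, add_zero]
    | smul c p _ hp => rw [u_smul_left H.herm, hp, mul_zero]
  exact this x (H.span ▸ Submodule.mem_top)

theorem eq_zero_of {a : ι → F} (h : ∀ z ∈ V, f z a = 0) : a = 0 := by
  by_contra ha
  obtain ⟨z, hz, h1⟩ := H.exists_ne ha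
  exact h1 (h z hz)

/-- An isotropic partner. -/
theorem partner {e : ι → F} (he : e ∈ V) (he0 : e ≠ 0) (hee : f e e = 0) :
    ∃ d ∈ V, f d d = 0 ∧ f d e = 1 ∧ f e d = 1 := by
  have hf := H.herm
  obtain ⟨z, hz, hze⟩ := H.exists_ne he0
  set y := (f z e)⁻¹ • z with hy
  have hyV : y ∈ V := H.smul _ (F₀.inv_mem (H.rat z hz e he)) z hz
  have hye : f y e = 1 := by rw [hy, u_smul_left hf, inv_mul_cancel₀ hze]
  have hey : f e y = 1 := by rw [← u_conj hf, hye, map_one]
  clear_value y
  obtain ⟨t, ht, ht1⟩ := H.trace_rat (F₀.neg_mem (H.rat y hyV y hyV)) (H.neg_self_fix y)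
  refine ⟨y + t • e, V.add_mem hyV (H.smul t ht e he), ?_, ?_, ?_⟩
  · simp only [u_add_left hf, u_add_right hf, u_smul_left hf, u_smul_right hf, hye, hey, hee]
    linear_combination ht1
  · rw [u_add_left hf, u_smul_left hf, hye, hee]; ring
  · rw [u_add_right hf, u_smul_right hf, hey, hee]; ring

/-- An orthogonal projection on the complement of a space of dimension at most `k`. -/
def IsProj (_H : HSub σ f F₀ V) (P : (ι → F) →ₗ[F] (ι → F)) (k : ℕ) : Prop :=
  (∀ v ∈ V, P v ∈ V) ∧ (∀ u v, f (P u) v = f (P u) (P v)) ∧ (∀ u, P (P u) = P u) ∧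
    ∃ W : Submodule F (ι → F), Module.finrank F W ≤ k ∧ ∀ x, x - P x ∈ W

theorem isProj_id : H.IsProj LinearMap.id 0 :=
  ⟨fun _ h => h, fun _ _ => rfl, fun _ => rfl, ⊥, by simp, fun x => by simp⟩

theorem IsProj.left {P : (ι → F) →ₗ[F] (ι → F)} {k : ℕ} (h : H.IsProj P k) (u v : ι → F) :
    f u (P v) = f (P u) (P v) := by
  rw [← u_conj H.herm, h.2.1, u_conj H.herm]

theorem IsProj.exists_aniso {P : (ι → F) →ₗ[F] (ι → F)} {k : ℕ} (h : H.IsProj P k)
    (hk : k < Fintype.card ι) : ∃ x ∈ V, P x = x ∧ f x x ≠ 0 := by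
  have hf := H.herm
  by_contra hcon
  push Not at hcon
  have iso : ∀ v ∈ V, f (P v) (P v) = 0 := fun v hv => hcon _ (h.1 v hv) (h.2.2.1 v)
  have orth : ∀ u ∈ V, ∀ v ∈ V, f (P u) (P v) = 0 := by
    intro u hu v hv
    by_contra hne
    obtain ⟨e, he, he1⟩ := H.tr
    set c := σ (e / f (P u) (P v)) with hc
    have hcF : c ∈ F₀ := H.stable _ (F₀.div_mem he (H.rat _ (h.1 u hu) _ (h.1 v hv)))
    have h1 := iso _ (V.add_mem hu (H.smul c hcF v hv))
    rw [map_add, map_smul, u_add_left hf, u_add_right hf, u_add_right hf, u_smul_left hf,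
      u_smul_left hf, u_smul_right hf, u_smul_right hf, iso u hu, iso v hv,
      ← u_conj hf (P u) (P v), hc, u_inv hf, ← map_mul, div_mul_cancel₀ _ hne, mul_zero,
      mul_zero, zero_add, add_zero, he1] at h1
    exact one_ne_zero h1
  have zero : ∀ u ∈ V, P u = 0 := fun u hu => H.eq_zero_of fun z hz => by
    rw [h.left H, orth z hz u hu]
  have Pzero : P = 0 := by
    refine LinearMap.ext_on H.span fun u hu => ?_
    rw [zero u hu, LinearMap.zero_apply]
  obtain ⟨W, hW, hW'⟩ := h.2.2.2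
  have : W = ⊤ := eq_top_iff.2 fun x _ => by simpa [Pzero] using hW' x
  rw [this, finrank_top, Module.finrank_fintype_fun_eq_card] at hW
  omega

/-- remove an anisotropic line -/
noncomputable def projStep (_H : HSub σ f F₀ V) (P : (ι → F) →ₗ[F] (ι → F)) (x : ι → F) :
    (ι → F) →ₗ[F] (ι → F) :=
  { toFun := fun v => P v - (f (P v) x / f x x) • x
    map_add' := fun a b => by rw [map_add, u_add_left _H.herm, add_div]; module
    map_smul' := fun c a => by
      rw [map_smul, u_smul_left _H.herm, mul_div_assoc, RingHom.id_apply]; module }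

theorem projStep_apply (P : (ι → F) →ₗ[F] (ι → F)) (x v : ι → F) :
    H.projStep P x v = P v - (f (P v) x / f x x) • x := rfl

theorem projStep_perp (P : (ι → F) →ₗ[F] (ι → F)) {x : ι → F} (hxx : f x x ≠ 0) (v : ι → F) :
    f (H.projStep P x v) x = 0 := by
  rw [projStep_apply, u_sub_left H.herm, u_smul_left H.herm, div_mul_cancel₀ _ hxx, sub_self]

theorem IsProj.step {P : (ι → F) →ₗ[F] (ι → F)} {k : ℕ} (h : H.IsProj P k) {x : ι → F}
    (hx : x ∈ V) (hPx : P x = x) (hxx : f x x ≠ 0) : H.IsProj (H.projStep P x) (k + 1) := by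
  have hf := H.herm
  refine ⟨fun v hv => ?_, fun u v => ?_, fun u => ?_, ?_⟩
  · exact V.sub_mem (h.1 v hv)
      (H.smul _ (F₀.div_mem (H.rat _ (h.1 v hv) x hx) (H.rat x hx x hx)) x hx)
  · set c := f (P u) x / f x x
    have e : H.projStep P x u = P (u - c • x) := by rw [map_sub, map_smul, hPx]; rfl
    conv_rhs => rw [projStep_apply H P x v, u_sub_right hf, u_smul_right hf,
      H.projStep_perp P hxx u, mul_zero, sub_zero]
    rw [e, h.2.1]
  · have e : H.projStep P x u = P (u - (f (P u) x / f x x) • x) := by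
      rw [map_sub, map_smul, hPx]; rfl
    conv_lhs => rw [projStep_apply]
    rw [H.projStep_apply P x u, map_sub, map_smul, hPx, h.2.2.1, u_sub_left hf, u_smul_left hf,
      div_mul_cancel₀ _ hxx, sub_self, zero_div, zero_smul, sub_zero]
  · obtain ⟨W, hW, hW'⟩ := h.2.2.2
    refine ⟨W ⊔ F ∙ x, ?_, fun v => ?_⟩
    · refine (Submodule.finrank_add_le_finrank_add_finrank _ _).trans ?_
      exact Nat.add_le_add hW ((finrank_span_le_card ({x} : Set (ι → F))).trans (by simp))
    · rw [projStep_apply, sub_sub_eq_add_sub, add_sub_right_comm]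
      exact Submodule.add_mem_sup (hW' v) (Submodule.mem_span_singleton.2 ⟨_, rfl⟩)

/-- orthogonal anisotropic rational frames -/
theorem exists_frame : ∀ {m k : ℕ} {P : (ι → F) →ₗ[F] (ι → F)}, H.IsProj P k →
    k + m ≤ Fintype.card ι →
    ∃ x : Fin m → ι → F, (∀ i, x i ∈ V ∧ P (x i) = x i ∧ f (x i) (x i) ≠ 0) ∧
      Pairwise fun i j => f (x i) (x j) = 0
  | 0, _, _, _, _ => ⟨Fin.elim0, fun i => i.elim0, fun i => i.elim0⟩
  | m + 1, k, P, h, hk => by
    obtain ⟨x, hx, hPx, hxx⟩ := h.exists_aniso H (by omega)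
    obtain ⟨y, hy, hyo⟩ := exists_frame (m := m) (h.step H hx hPx hxx) (by omega)
    have yx : ∀ i, f (y i) x = 0 := fun i => by
      rw [← (hy i).2.1]; exact H.projStep_perp P hxx _
    have Py : ∀ i, P (y i) = y i := fun i => by
      conv_lhs => rw [← (hy i).2.1, projStep_apply, map_sub, map_smul, hPx, h.2.2.1]
      exact (hy i).2.1
    refine ⟨Fin.cons x y, ?_, ?_⟩
    · intro i
      cases i using Fin.cases with
      | zero => simpa using ⟨hx, hPx, hxx⟩
      | succ j => simpa using ⟨(hy j).1, Py j, (hy j).2.2⟩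
    · intro i j hij
      cases i using Fin.cases with
      | zero =>
        cases j using Fin.cases with
        | zero => exact absurd rfl hij
        | succ b => simpa using u_symm_zero H.herm (yx b)
      | succ a =>
        cases j using Fin.cases with
        | zero => simpa using yx a
        | succ b => simpa using hyo fun e => hij (congrArg Fin.succ e)

theorem IsProj.exists_iso {P : (ι → F) →ₗ[F] (ι → F)} {k : ℕ} (h : H.IsProj P k)
    (hk : k + 2 ≤ Fintype.card ι) : ∃ u, H.Iso0 u ∧ P u = u := by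
  have hf := H.herm
  obtain ⟨x, hx, hxo⟩ := H.exists_frame (m := 2) h hk
  obtain ⟨x0, P0, n0⟩ := hx 0
  obtain ⟨x1, P1, n1⟩ := hx 1
  have o01 : f (x 0) (x 1) = 0 := hxo (by decide)
  have hr : σ (-f (x 0) (x 0) / f (x 1) (x 1)) = -f (x 0) (x 0) / f (x 1) (x 1) := by
    rw [map_div₀, H.neg_self_fix, u_conj hf]
  obtain ⟨c, hc, hc1⟩ := H.norm _
    (F₀.div_mem (F₀.neg_mem (H.rat _ x0 _ x0)) (H.rat _ x1 _ x1)) hr
  refine ⟨x 0 + c • x 1, ⟨V.add_mem x0 (H.smul c hc _ x1), fun h0 => n0 ?_, ?_⟩, ?_⟩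
  · have := congrArg (fun v => f v (x 0)) h0
    simp only [u_add_left hf, u_smul_left hf, u_symm_zero hf o01, mul_zero, add_zero,
      u_zero_left hf] at this
    exact this
  · simp only [u_add_left hf, u_add_right hf, u_smul_left hf, u_smul_right hf, o01,
      u_symm_zero hf o01, mul_zero, add_zero, zero_add]
    rw [← mul_assoc, hc1, div_mul_cancel₀ _ n1, add_neg_cancel]
  · rw [map_add, map_smul, P0, P1]

/-- remove a hyperbolic pair -/
noncomputable def projPair (_H : HSub σ f F₀ V) (P : (ι → F) →ₗ[F] (ι → F)) (e d : ι → F) :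
    (ι → F) →ₗ[F] (ι → F) :=
  { toFun := fun v => P v - f (P v) d • e - f (P v) e • d
    map_add' := fun a b => by rw [map_add, u_add_left _H.herm, u_add_left _H.herm]; module
    map_smul' := fun c a => by
      rw [map_smul, u_smul_left _H.herm, u_smul_left _H.herm, RingHom.id_apply]; module }

theorem projPair_apply (P : (ι → F) →ₗ[F] (ι → F)) (e d v : ι → F) :
    H.projPair P e d v = P v - f (P v) d • e - f (P v) e • d := rfl

theorem projPair_perp (P : (ι → F) →ₗ[F] (ι → F)) {e d : ι → F} (hee : f e e = 0)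
    (hdd : f d d = 0) (hde : f d e = 1) (v : ι → F) :
    f (H.projPair P e d v) e = 0 ∧ f (H.projPair P e d v) d = 0 := by
  have hed : f e d = 1 := by rw [← u_conj H.herm, hde, map_one]
  constructor <;>
    simp only [projPair_apply, u_sub_left H.herm, u_smul_left H.herm, hee, hdd, hde, hed] <;> ring

theorem IsProj.pair {P : (ι → F) →ₗ[F] (ι → F)} {k : ℕ} (h : H.IsProj P k) {e d : ι → F}
    (he : e ∈ V) (hd : d ∈ V) (hPe : P e = e) (hPd : P d = d) (hee : f e e = 0) (hdd : f d d = 0)
    (hde : f d e = 1) : H.IsProj (H.projPair P e d) (k + 2) := by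
  have hf := H.herm
  refine ⟨fun v hv => ?_, fun u v => ?_, fun u => ?_, ?_⟩
  · exact V.sub_mem (V.sub_mem (h.1 v hv) (H.smul _ (H.rat _ (h.1 v hv) d hd) e he))
      (H.smul _ (H.rat _ (h.1 v hv) e he) d hd)
  · set a := f (P u) d
    set b := f (P u) e
    have e' : H.projPair P e d u = P (u - a • e - b • d) := by
      rw [map_sub, map_sub, map_smul, map_smul, hPe, hPd]; rfl
    obtain ⟨p1, p2⟩ := H.projPair_perp P hee hdd hde u
    conv_rhs => rw [H.projPair_apply P e d v, u_sub_right hf, u_sub_right hf, u_smul_right hf,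
      u_smul_right hf, p1, p2, mul_zero, mul_zero, sub_zero, sub_zero]
    rw [e', h.2.1]
  · obtain ⟨p1, p2⟩ := H.projPair_perp P hee hdd hde u
    conv_lhs => rw [projPair_apply]
    have e' : P (H.projPair P e d u) = H.projPair P e d u := by
      rw [projPair_apply, map_sub, map_sub, map_smul, map_smul, hPe, hPd, h.2.2.1]
    rw [e', p1, p2, zero_smul, zero_smul, sub_zero, sub_zero]
  · obtain ⟨W, hW, hW'⟩ := h.2.2.2
    refine ⟨W ⊔ (Submodule.span F {e, d}), ?_, fun v => ?_⟩
    · refine (Submodule.finrank_add_le_finrank_add_finrank _ _).trans ?_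
      classical
      refine Nat.add_le_add hW ((finrank_span_le_card ({e, d} : Set (ι → F))).trans ?_)
      simp only [Set.toFinset_insert, Set.toFinset_singleton]
      exact Finset.card_le_two
    · have : v - H.projPair P e d v = v - P v + (f (P v) d • e + f (P v) e • d) := by
        rw [projPair_apply]; abel
      rw [this]
      exact Submodule.add_mem_sup (hW' v) (Submodule.add_mem _
        (Submodule.smul_mem _ _ (Submodule.subset_span (by simp)))
        (Submodule.smul_mem _ _ (Submodule.subset_span (by simp))))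

/-- complement of one pair -/
theorem isProj_pair {e d : ι → F} (he : e ∈ V) (hd : d ∈ V) (hee : f e e = 0) (hdd : f d d = 0)
    (hde : f d e = 1) : H.IsProj (H.projPair LinearMap.id e d) 2 :=
  H.isProj_id.pair H he hd rfl rfl hee hdd hde

theorem not_line {e u : ι → F} {v : ι → F} (hev : f e v ≠ 0) (huv : f u v = 0) :
    ∀ t : F, e ≠ t • u := fun t ht => hev (by rw [ht, u_smul_left H.herm, huv, mul_zero])

theorem exists_indep {e : ι → F} (he : H.Iso0 e) (hn : 4 ≤ Fintype.card ι) :
    ∃ w d, H.Iso0 w ∧ H.Iso0 d ∧ f w e = 0 ∧ f d e = 0 ∧ f d w = 1 := by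
  have hf := H.herm
  obtain ⟨e', he', h1, h2, h3⟩ := H.partner he.1 he.2.1 he.2.2
  have hP := H.isProj_pair he.1 he' he.2.2 h1 h2
  obtain ⟨w, hw, Pw⟩ := hP.exists_iso H (by omega)
  obtain ⟨d, hd, dd, dw, wd⟩ := H.partner hw.1 hw.2.1 hw.2.2
  have we : f w e = 0 := by rw [← Pw]; exact (H.projPair_perp _ he.2.2 h1 h2 w).1
  have we' : f w e' = 0 := by rw [← Pw]; exact (H.projPair_perp _ he.2.2 h1 h2 w).2
  set d' := H.projPair LinearMap.id e e' d with hd'
  obtain ⟨p1, p2⟩ := H.projPair_perp LinearMap.id he.2.2 h1 h2 d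
  have d'V : d' ∈ V := hP.1 d hd
  have d'w : f d' w = 1 := by
    rw [hd', projPair_apply, LinearMap.id_apply, u_sub_left hf, u_sub_left hf, u_smul_left hf,
      u_smul_left hf, u_symm_zero hf we, u_symm_zero hf we', dw]
    ring
  obtain ⟨t, ht, ht1⟩ := H.trace_rat (F₀.neg_mem (H.rat d' d'V d' d'V)) (H.neg_self_fix d')
  have wd' : f w d' = 1 := by rw [← u_conj hf, d'w, map_one]
  have e1 : f (d' + t • w) w = 1 := by rw [u_add_left hf, u_smul_left hf, d'w, hw.2.2]; ring
  refine ⟨w, d' + t • w, hw, ⟨V.add_mem d'V (H.smul t ht w hw.1), ?_, ?_⟩, we, ?_, e1⟩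
  · intro h0; rw [h0, u_zero_left hf] at e1; exact zero_ne_one e1
  · simp only [u_add_left hf, u_add_right hf, u_smul_left hf, u_smul_right hf, d'w, wd', hw.2.2]
    linear_combination ht1
  · rw [u_add_left hf, u_smul_left hf, hd', p1, we]; ring

/-- The isotropic rational vectors orthogonal to `e` generate the rational orthogonal. -/
theorem gen_perp (hn : 4 ≤ Fintype.card ι) {e : ι → F} (he : H.Iso0 e) (D : AddSubgroup (ι → F))
    (hD : ∀ w, H.Iso0 w → f w e = 0 → w ∈ D) {y : ι → F} (hy : y ∈ V) (hye : f y e = 0) :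
    y ∈ D := by
  have hf := H.herm
  obtain ⟨w, d, hw, hd, we, de, dw⟩ := H.exists_indep he hn
  have key : ∀ z ∈ V, f z e = 0 → f z w ≠ 0 → z ∈ D := by
    intro z hz ze zw
    obtain ⟨s, hs, hs1⟩ := H.trace_rat (F₀.neg_mem (H.rat z hz z hz)) (H.neg_self_fix z)
    have hwz : f w z ≠ 0 := fun h => zw (u_symm_zero hf h)
    set t := s / f w z with ht
    have htF : t ∈ F₀ := F₀.div_mem hs (H.rat w hw.1 z hz)
    have hmem : t • w ∈ D := by
      rcases eq_or_ne t 0 with h | h
      · rw [h, zero_smul]; exact D.zero_mem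
      · exact hD _ ⟨H.smul t htF w hw.1, smul_ne_zero h hw.2.1,
          by rw [u_smul_left hf, u_smul_right hf, hw.2.2]; ring⟩
          (by rw [u_smul_left hf, we, mul_zero])
    have hts : t * f w z = s := div_mul_cancel₀ _ hwz
    have : z + t • w ∈ D := by
      refine hD _ ⟨V.add_mem hz (H.smul t htF w hw.1), ?_, ?_⟩
        (by rw [u_add_left hf, u_smul_left hf, ze, we]; ring)
      · intro h0
        have := congrArg (fun v => f v w) h0
        simp only [u_add_left hf, u_smul_left hf, hw.2.2, mul_zero, add_zero,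
          u_zero_left hf] at this
        exact zw this
      · rw [u_add_left hf, u_add_right hf, u_add_right hf, u_smul_left hf, u_smul_left hf,
          u_smul_right hf, u_smul_right hf, hw.2.2, ← u_conj hf w z, ← map_mul, hts]
        linear_combination hs1
    have h2 := D.sub_mem this hmem
    rwa [add_sub_cancel_right] at h2
  by_cases hyw : f y w = 0
  · have h1 := key (y + d) (V.add_mem hy hd.1) (by rw [u_add_left hf, hye, de, add_zero])
      (by rw [u_add_left hf, hyw, dw, zero_add]; exact one_ne_zero)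
    have h2 := D.sub_mem h1 (hD d hd de)
    rwa [add_sub_cancel_right] at h2
  · exact key y hy hye hyw

/-- Isotropic rational vectors not orthogonal to `v`, together with `v`, generate `V`. -/
theorem gen_near {v : ι → F} (hv : H.Iso0 v) (D : AddSubgroup (ι → F))
    (hDv : ∀ c ∈ F₀, c • v ∈ D)
    (hD : ∀ w, H.Iso0 w → f w v ≠ 0 → w ∈ D) {y : ι → F} (hy : y ∈ V) : y ∈ D := by
  have hf := H.herm
  have key : ∀ z ∈ V, f z v ≠ 0 → z ∈ D := by
    intro z hz zv
    obtain ⟨s, hs, hs1⟩ := H.trace_rat (F₀.neg_mem (H.rat z hz z hz)) (H.neg_self_fix z)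
    have hvz : f v z ≠ 0 := fun h => zv (u_symm_zero hf h)
    set t := s / f v z with ht
    have htF : t ∈ F₀ := F₀.div_mem hs (H.rat v hv.1 z hz)
    have hts : t * f v z = s := div_mul_cancel₀ _ hvz
    have hne : f (z + t • v) v ≠ 0 := by
      rw [u_add_left hf, u_smul_left hf, hv.2.2, mul_zero, add_zero]; exact zv
    have : z + t • v ∈ D := by
      refine hD _ ⟨V.add_mem hz (H.smul t htF v hv.1), ?_, ?_⟩ hne
      · intro h0; rw [h0, u_zero_left hf] at hne; exact hne rfl
      · rw [u_add_left hf, u_add_right hf, u_add_right hf, u_smul_left hf, u_smul_left hf,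
          u_smul_right hf, u_smul_right hf, hv.2.2, ← u_conj hf v z, ← map_mul, hts]
        linear_combination hs1
    have h2 := D.sub_mem this (hDv t htF)
    rwa [add_sub_cancel_right] at h2
  obtain ⟨d, hd, dd, dv', vd⟩ := H.partner hv.1 hv.2.1 hv.2.2
  by_cases hyv : f y v = 0
  · have h1 := key (y + d) (V.add_mem hy hd)
      (by rw [u_add_left hf, hyv, dv', zero_add]; exact one_ne_zero)
    have h2 := D.sub_mem h1 (key d hd (by rw [dv']; exact one_ne_zero))
    rwa [add_sub_cancel_right] at h2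
  · exact key y hy hyv

/-- the frame of a rational basis detects rational vectors -/
theorem mem_of_dual {w : ι → F} (h : ∀ v ∈ V, f w v ∈ F₀) : w ∈ V := by
  have hf := H.herm
  obtain ⟨x, hx, hxo⟩ := H.exists_frame (m := Fintype.card ι) H.isProj_id (by omega)
  have hli : LinearIndependent F x := by
    rw [Fintype.linearIndependent_iff]
    intro g hg i
    let L : (ι → F) →ₗ[F] F :=
      { toFun := fun y => f y (x i)
        map_add' := fun y z => u_add_left hf y z _
        map_smul' := fun c y => u_smul_left hf c y _ }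
    have h1 := congrArg L hg
    rw [map_sum, map_zero, Finset.sum_eq_single i] at h1
    · rw [map_smul, smul_eq_mul] at h1
      exact (mul_eq_zero.1 h1).resolve_right (hx i).2.2
    · intro j _ hji
      rw [map_smul, show L (x j) = 0 from hxo hji, smul_zero]
    · simp
  have hspan := hli.span_eq_top_of_card_eq_finrank'
    (by rw [Fintype.card_fin, Module.finrank_fintype_fun_eq_card])
  set w0 := ∑ i, (f w (x i) / f (x i) (x i)) • x i with hw0
  have w0V : w0 ∈ V := V.sum_mem fun i _ =>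
    H.smul _ (F₀.div_mem (h _ (hx i).1) (H.rat _ (hx i).1 _ (hx i).1)) _ (hx i).1
  suffices w = w0 by rw [this]; exact w0V
  rw [← sub_eq_zero]
  by_contra hne
  obtain ⟨-, ⟨y, hy⟩⟩ := hf.nondegenerate _ hne
  apply hy
  have hbasis : ∀ i, f (w - w0) (x i) = 0 := by
    intro i
    let L : (ι → F) →ₗ[F] F :=
      { toFun := fun y => f y (x i)
        map_add' := fun y z => u_add_left hf y z _
        map_smul' := fun c y => u_smul_left hf c y _ }
    show L (w - w0) = 0
    rw [map_sub, hw0, map_sum, Finset.sum_eq_single i]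
    · rw [map_smul, smul_eq_mul]
      show f w (x i) - _ * f (x i) (x i) = 0
      rw [div_mul_cancel₀ _ (hx i).2.2, sub_self]
    · intro j _ hji
      rw [map_smul, show L (x j) = 0 from hxo hji, smul_zero]
    · simp
  have : ∀ z ∈ Submodule.span F (Set.range x), f (w - w0) z = 0 := by
    intro z hz
    induction hz using Submodule.span_induction with
    | mem z hz => obtain ⟨i, rfl⟩ := hz; exact hbasis i
    | zero => exact u_zero_right hf _
    | add p q _ _ hp hq => rw [u_add_right hf, hp, hq, add_zero]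
    | smul c p _ hp => rw [u_smul_right hf, hp, mul_zero]
  exact this y (hspan ▸ Submodule.mem_top)

end HSub

end Cfsg.Agent.Symplectic
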