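import Cfsg.Agent.Symplectic.AltStd

/-! Non-degenerate symmetric bilinear forms over finite fields of characteristic two. -/

set_option autoImplicit false
set_option maxHeartbeats 1000000
set_option linter.unusedSectionVars false

namespace Cfsg.Agent.Symplectic

open LinearMap (BilinForm)
open scoped Matrix

/-- the order of the symplectic group of degree `2j` over `q` elements -/
def spOrder (q j : ℕ) : ℕ := q ^ (j ^ 2) * ∏ i ∈ Finset.range j, (q ^ (2 * (i + 1)) - 1)

variable {F V V' : Type*} [Field F] [AddCommGroup V] [Module F V] [AddCommGroup V'] [Module F V']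

theorem card_isom_alt' [Fintype F] [FiniteDimensional F V] {B : BilinForm F V} (hA : B.IsAlt)
    (hB : B.Nondegenerate) :
    Nat.card (Isom B) = spOrder (Fintype.card F) (Module.finrank F V / 2) :=
  card_isom_alt hA hB

theorem isRefl_of_symm {B : BilinForm F V} (hS : ∀ x y, B x y = B y x) : B.IsRefl :=
  fun x y h => by rw [hS, h]

theorem restrict_nondeg_of {B : BilinForm F V} (hR : B.IsRefl) {P : Submodule F V}
    (h : ∀ x ∈ P, (∀ y ∈ P, B x y = 0) → x = 0) : (B.restrict P).Nondegenerate := by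
  have hR' : (B.restrict P).IsRefl := fun x y h => hR _ _ h
  exact hR'.nondegenerate_iff_separatingLeft.mpr fun x hx =>
    Subtype.ext (h x x.2 fun y hy => hx ⟨y, hy⟩)

/-- isometries fixing a non-degenerate subspace pointwise are those of the orthogonal space -/
theorem card_fix_subspace [FiniteDimensional F V] {B : BilinForm F V} (hR : B.IsRefl)
    (hB : B.Nondegenerate) {P : Submodule F V} (hP : (B.restrict P).Nondegenerate) :
    Nat.card {g : Isom B // ∀ x ∈ P, g.1 x = x} =
      Nat.card (Isom (B.restrict (B.orthogonal P))) := by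
  have hO : ∀ g : {g : Isom B // ∀ x ∈ P, g.1 x = x}, ∀ x ∈ B.orthogonal P,
      g.1.1 x ∈ B.orthogonal P := by
    intro g x hx p hp
    show B p (g.1.1 x) = 0
    rw [← g.2 p hp, g.1.2]
    exact hx p hp
  have hmap : ∀ g : {g : Isom B // ∀ x ∈ P, g.1 x = x},
      (B.orthogonal P).map (g.1.1 : V →ₗ[F] V) = B.orthogonal P := fun g => by
    refine Submodule.eq_of_le_of_finrank_eq ?_ (LinearEquiv.finrank_map_eq g.1.1 _)
    rintro _ ⟨x, hx, rfl⟩
    exact hO g x hx
  let f : {g : Isom B // ∀ x ∈ P, g.1 x = x} → Isom (B.restrict (B.orthogonal P)) :=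
    fun g => ⟨g.1.1.ofSubmodules _ _ (hmap g), fun u v => g.1.2 _ _⟩
  refine Nat.card_congr (Equiv.ofBijective f ⟨fun g g' h => ?_, fun c => ?_⟩)
  · refine Subtype.ext (Subtype.ext (LinearEquiv.ext fun v => ?_))
    obtain ⟨⟨x, r⟩, rfl⟩ :=
      (Submodule.prodEquivOfIsCompl _ _ (isCompl_orth hR hB hP)).surjective v
    have h2 : g.1.1 (r : V) = g'.1.1 (r : V) :=
      congrArg Subtype.val (LinearEquiv.congr_fun (congrArg Subtype.val h) r)
    simp [g.2 x x.2, g'.2 x x.2, h2]
  · obtain ⟨e, he, hea, hec⟩ := exists_isometry_sum hR hB hR hB hP hP (LinearEquiv.refl F P)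
      (fun x y => rfl) c.1 (fun x y => c.2 x y)
    refine ⟨⟨⟨e, he⟩, fun x hx => hea ⟨x, hx⟩⟩, Subtype.ext (LinearEquiv.ext fun x => ?_)⟩
    exact Subtype.ext (hec x)

/-- independent families with equal Gram data span isometric subspaces -/
theorem exists_span_isometry {ι : Type*} {B : BilinForm F V} {B' : BilinForm F V'}
    {a : ι → V} {a' : ι → V'} (ha : LinearIndependent F a) (ha' : LinearIndependent F a')
    (h : ∀ i j, B' (a' i) (a' j) = B (a i) (a j)) :
    ∃ φ : Submodule.span F (Set.range a) ≃ₗ[F] Submodule.span F (Set.range a'),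
      (∀ x y, B' (φ x : V') (φ y) = B (x : V) y) ∧
      ∀ i, (φ ⟨a i, Submodule.subset_span ⟨i, rfl⟩⟩ : V') = a' i := by
  let b := Module.Basis.span ha
  let b' := Module.Basis.span ha'
  let φ := b.equiv b' (Equiv.refl ι)
  have hφ : ∀ i, φ (b i) = b' i := fun i => by simp [φ]
  refine ⟨φ, fun x y => ?_, fun i => ?_⟩
  · have key : (B'.restrict _).comp φ.toLinearMap φ.toLinearMap = B.restrict _ := by
      refine LinearMap.BilinForm.ext_basis b fun i j => ?_
      rw [LinearMap.BilinForm.comp_apply, LinearEquiv.coe_coe, hφ, hφ]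
      show B' (b' i : V') (b' j : V') = B (b i : V) (b j : V)
      simp [b, b', Module.Basis.span_apply, h]
    exact LinearMap.congr_fun (LinearMap.congr_fun key x) y
  · have hb : b i = ⟨a i, Submodule.subset_span ⟨i, rfl⟩⟩ :=
      Subtype.ext (by simp [b, Module.Basis.span_apply])
    rw [← hb, hφ]
    simp [b', Module.Basis.span_apply]

section two

variable [Fintype F] [CharP F 2] [FiniteDimensional F V] [FiniteDimensional F V']

/-- `z` computes the diagonal of `B` -/
def IsDiagVec (B : BilinForm F V) (z : V) : Prop := ∀ v, B v v = (B v z) ^ 2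

theorem sq_bijective : Function.Bijective (fun x : F => x ^ 2) :=
  bijective_frobenius F 2

theorem exists_diagVec {B : BilinForm F V} (hS : ∀ x y, B x y = B y x) (hB : B.Nondegenerate) :
    ∃ z, IsDiagVec B z := by
  let σ := Equiv.ofBijective _ (sq_bijective (F := F))
  have hσ : ∀ x : F, (σ.symm x) ^ 2 = x := σ.apply_symm_apply
  let l : V →ₗ[F] F :=
    { toFun := fun v => σ.symm (B v v)
      map_add' := fun v w => sq_bijective.1 (by
        show (σ.symm _) ^ 2 = (σ.symm _ + σ.symm _) ^ 2
        rw [add_pow_char, hσ, hσ, hσ]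
        simp only [map_add, LinearMap.add_apply, hS w v]
        linear_combination (B v w) * CharTwo.two_eq_zero (R := F))
      map_smul' := fun c v => sq_bijective.1 (by
        show (σ.symm _) ^ 2 = (c * σ.symm _) ^ 2
        rw [mul_pow, hσ, hσ]
        simp
        ring) }
  obtain ⟨z, hz⟩ := (B.toDual hB).surjective l
  refine ⟨z, fun v => ?_⟩
  rw [hS v z, show B z v = l v by rw [← hz, LinearMap.BilinForm.toDual_def]]
  exact (hσ _).symm

theorem diagVec_ne_zero {B : BilinForm F V} {z : V} (hz : IsDiagVec B z) (hna : ¬ B.IsAlt) :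
    z ≠ 0 := fun h => hna fun v => by simp [hz v, h]

theorem diagVec_self {B : BilinForm F V} {z : V} (hz : IsDiagVec B z) : B z z = 0 ∨ B z z = 1 := by
  have h := hz z
  rw [sq] at h
  rcases eq_or_ne (B z z) 0 with h0 | h0
  · exact Or.inl h0
  · exact Or.inr (mul_left_cancel₀ h0 (by rw [mul_one]; exact h.symm))

theorem diagVec_fixed {B : BilinForm F V} {z : V} (hB : B.Nondegenerate) (hz : IsDiagVec B z)
    {g : V ≃ₗ[F] V} (hg : g ∈ Isom B) : g z = z := by
  refine sub_eq_zero.mp (hB.2 _ fun w => ?_)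
  obtain ⟨v, rfl⟩ := g.surjective w
  have h : (B (g v) z) ^ 2 = (B (g v) (g z)) ^ 2 := by rw [← hz, hg, hg, hz]
  have h' : B (g v) z = B (g v) (g z) := sq_bijective.1 h
  rw [map_sub, h', sub_self]

theorem orth_isAlt {B : BilinForm F V} (hS : ∀ x y, B x y = B y x) {z : V} (hz : IsDiagVec B z)
    {P : Submodule F V} (hP : z ∈ P) : (B.restrict (B.orthogonal P)).IsAlt := fun x => by
  show B (x : V) x = 0
  rw [hz, hS, x.2 z hP, zero_pow two_ne_zero]

theorem even_finrank_of_alt {B : BilinForm F V} (hA : B.IsAlt) (hB : B.Nondegenerate) :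
    Even (Module.finrank F V) := by
  obtain ⟨m, e, hm, -⟩ := exists_std_equiv hA hB
  exact ⟨m, by omega⟩

section frame

variable {B : BilinForm F V} (hS : ∀ x y, B x y = B y x) (hB : B.Nondegenerate) {z : V}
  (hz : IsDiagVec B z)

include hS hB hz

theorem diag_one_frame (h1 : B z z = 1) :
    LinearIndependent F ![z] ∧ (B.restrict (Submodule.span F (Set.range ![z]))).Nondegenerate := by
  have hz0 : z ≠ 0 := fun h => by simp [h] at h1
  refine ⟨LinearIndependent.of_subsingleton (0 : Fin 1) (by simpa using hz0),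
    restrict_nondeg_of (isRefl_of_symm hS) fun x hx hxy => ?_⟩
  obtain ⟨c, rfl⟩ := (Submodule.mem_span_range_iff_exists_fun F).mp hx
  have h := hxy z (Submodule.subset_span ⟨0, rfl⟩)
  simp [h1] at h
  simp [h]

theorem diag_zero_frame (h0 : B z z = 0) {u : V} (hu : B u z = 1) :
    LinearIndependent F ![z, u] ∧
      (B.restrict (Submodule.span F (Set.range ![z, u]))).Nondegenerate := by
  have huu : B u u = 1 := by rw [hz, hu, one_pow]
  have hzu : B z u = 1 := by rw [hS, hu]
  have key : ∀ c : Fin 2 → F, B (∑ i, c i • ![z, u] i) z = c 1 ∧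
      B (∑ i, c i • ![z, u] i) u = c 0 + c 1 := fun c => by
    simp [Fin.sum_univ_two, h0, hu, huu, hzu]
  have hzero : ∀ c : Fin 2 → F, B (∑ i, c i • ![z, u] i) z = 0 →
      B (∑ i, c i • ![z, u] i) u = 0 → c = 0 := fun c h1 h2 => by
    rw [(key c).1] at h1
    rw [(key c).2, h1, add_zero] at h2
    funext i; fin_cases i
    · exact h2
    · exact h1
  refine ⟨Fintype.linearIndependent_iff.mpr fun c hc i => ?_,
    restrict_nondeg_of (isRefl_of_symm hS) fun x hx hxy => ?_⟩
  · rw [hzero c (by simp [hc]) (by simp [hc])]; rfl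
  · obtain ⟨c, rfl⟩ := (Submodule.mem_span_range_iff_exists_fun F).mp hx
    rw [hzero c (hxy z (Submodule.subset_span ⟨0, rfl⟩)) (hxy u (Submodule.subset_span ⟨1, rfl⟩))]
    simp

theorem exists_partner_diag (hna : ¬ B.IsAlt) : ∃ u, B u z = 1 := by
  obtain ⟨v, hv⟩ : ∃ v, B v z ≠ 0 := by
    by_contra h
    push Not at h
    exact hna fun v => by rw [hz, h, zero_pow two_ne_zero]
  exact ⟨(B v z)⁻¹ • v, by simp [hv]⟩

/-- parity of the dimension against the value of the diagonal vector -/
theorem diag_cases (hna : ¬ B.IsAlt) :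
    (B z z = 1 ∧ Odd (Module.finrank F V)) ∨ (B z z = 0 ∧ Even (Module.finrank F V)) := by
  have hR := isRefl_of_symm hS
  rcases diagVec_self hz with h | h
  · obtain ⟨u, hu⟩ := exists_partner_diag hS hB hz hna
    obtain ⟨hli, hP⟩ := diag_zero_frame hS hB hz h hu
    have hev := even_finrank_of_alt (orth_isAlt hS hz (P := Submodule.span F (Set.range ![z, u]))
      (Submodule.subset_span ⟨0, rfl⟩)) (restrict_orth_nondeg hR hB hP)
    rw [finrank_orth hR hB hP, finrank_span_eq_card hli, Fintype.card_fin] at hev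
    have := hli.fintype_card_le_finrank
    rw [Fintype.card_fin] at this
    refine Or.inr ⟨h, ?_⟩
    obtain ⟨r, hr⟩ := hev
    exact ⟨r + 1, by omega⟩
  · obtain ⟨hli, hP⟩ := diag_one_frame hS hB hz h
    have hev := even_finrank_of_alt (orth_isAlt hS hz (P := Submodule.span F (Set.range ![z]))
      (Submodule.subset_span ⟨0, rfl⟩)) (restrict_orth_nondeg hR hB hP)
    rw [finrank_orth hR hB hP, finrank_span_eq_card hli, Fintype.card_fin] at hev
    have := hli.fintype_card_le_finrank
    rw [Fintype.card_fin] at this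
    refine Or.inl ⟨h, ?_⟩
    obtain ⟨r, hr⟩ := hev
    exact ⟨r, by omega⟩

end frame

/-- families with equal Gram data extend to isometries -/
theorem exists_gram_isometry {B : BilinForm F V} {B' : BilinForm F V'} (hS : ∀ x y, B x y = B y x)
    (hS' : ∀ x y, B' x y = B' y x) (hB : B.Nondegenerate) (hB' : B'.Nondegenerate) {z : V} {z' : V'}
    (hz : IsDiagVec B z) (hz' : IsDiagVec B' z') {ι : Type*} [Fintype ι] {a : ι → V} {a' : ι → V'}
    (ha : LinearIndependent F a) (ha' : LinearIndependent F a')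
    (hP : (B.restrict (Submodule.span F (Set.range a))).Nondegenerate)
    (hP' : (B'.restrict (Submodule.span F (Set.range a'))).Nondegenerate)
    (hza : z ∈ Submodule.span F (Set.range a)) (hza' : z' ∈ Submodule.span F (Set.range a'))
    (hd : Module.finrank F V = Module.finrank F V')
    (h : ∀ i j, B' (a' i) (a' j) = B (a i) (a j)) :
    ∃ e : V ≃ₗ[F] V', (∀ u v, B' (e u) (e v) = B u v) ∧ ∀ i, e (a i) = a' i := by
  have hR := isRefl_of_symm hS
  have hR' := isRefl_of_symm hS'
  obtain ⟨φ, hφ, hφa⟩ := exists_span_isometry ha ha' h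
  obtain ⟨c, hc⟩ := exists_alt_equiv (orth_isAlt hS hz hza) (restrict_orth_nondeg hR hB hP)
    (orth_isAlt hS' hz' hza') (restrict_orth_nondeg hR' hB' hP') (by
      rw [finrank_orth hR hB hP, finrank_orth hR' hB' hP', finrank_span_eq_card ha,
        finrank_span_eq_card ha', hd])
  obtain ⟨e, he, hea, -⟩ := exists_isometry_sum hR hB hR' hB' hP hP' φ hφ c (fun x y => hc x y)
  exact ⟨e, he, fun i => (hea ⟨a i, Submodule.subset_span ⟨i, rfl⟩⟩).trans (hφa i)⟩

/-- classification of non-alternating symmetric forms -/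
theorem exists_nonalt_equiv {B : BilinForm F V} {B' : BilinForm F V'} (hS : ∀ x y, B x y = B y x)
    (hS' : ∀ x y, B' x y = B' y x) (hB : B.Nondegenerate) (hB' : B'.Nondegenerate)
    (hna : ¬ B.IsAlt) (hna' : ¬ B'.IsAlt) (hd : Module.finrank F V = Module.finrank F V') :
    ∃ e : V ≃ₗ[F] V', ∀ u v, B' (e u) (e v) = B u v := by
  obtain ⟨z, hz⟩ := exists_diagVec hS hB
  obtain ⟨z', hz'⟩ := exists_diagVec hS' hB'
  rcases diag_cases hS hB hz hna with ⟨h, hp⟩ | ⟨h, hp⟩ <;>
    rcases diag_cases hS' hB' hz' hna' with ⟨h', hp'⟩ | ⟨h', hp'⟩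
  · obtain ⟨hli, hP⟩ := diag_one_frame hS hB hz h
    obtain ⟨hli', hP'⟩ := diag_one_frame hS' hB' hz' h'
    obtain ⟨e, he, -⟩ := exists_gram_isometry hS hS' hB hB' hz hz' hli hli' hP hP'
      (Submodule.subset_span ⟨0, rfl⟩) (Submodule.subset_span ⟨0, rfl⟩) hd
      (fun i j => by fin_cases i; fin_cases j; simp [h, h'])
    exact ⟨e, he⟩
  · exact absurd (hd ▸ hp') (Nat.not_even_iff_odd.mpr hp)
  · exact absurd hp (Nat.not_even_iff_odd.mpr (hd ▸ hp'))
  · obtain ⟨u, hu⟩ := exists_partner_diag hS hB hz hna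
    obtain ⟨u', hu'⟩ := exists_partner_diag hS' hB' hz' hna'
    obtain ⟨hli, hP⟩ := diag_zero_frame hS hB hz h hu
    obtain ⟨hli', hP'⟩ := diag_zero_frame hS' hB' hz' h' hu'
    obtain ⟨e, he, -⟩ := exists_gram_isometry hS hS' hB hB' hz hz' hli hli' hP hP'
      (Submodule.subset_span ⟨0, rfl⟩) (Submodule.subset_span ⟨0, rfl⟩) hd
      (fun i j => by
        have huu : B u u = 1 := by rw [hz, hu, one_pow]
        have huu' : B' u' u' = 1 := by rw [hz', hu', one_pow]
        fin_cases i <;> fin_cases j <;> simp [h, h', hu, hu', huu, huu', hS z u, hS' z' u'])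
    exact ⟨e, he⟩

theorem card_isom_odd {B : BilinForm F V} (hS : ∀ x y, B x y = B y x) (hB : B.Nondegenerate)
    (hna : ¬ B.IsAlt) (hodd : Odd (Module.finrank F V)) :
    Nat.card (Isom B) = spOrder (Fintype.card F) ((Module.finrank F V - 1) / 2) := by
  obtain ⟨z, hz⟩ := exists_diagVec hS hB
  have hR := isRefl_of_symm hS
  rcases diag_cases hS hB hz hna with ⟨h, -⟩ | ⟨h, hp⟩
  · obtain ⟨hli, hP⟩ := diag_one_frame hS hB hz h
    have hzP : z ∈ Submodule.span F (Set.range ![z]) := Submodule.subset_span ⟨0, rfl⟩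
    have h' := card_fix_subspace hR hB hP
    rw [card_isom_alt' (orth_isAlt hS hz hzP) (restrict_orth_nondeg hR hB hP),
      finrank_orth hR hB hP, finrank_span_eq_card hli, Fintype.card_fin] at h'
    rw [← h']
    refine Nat.card_congr (Equiv.subtypeUnivEquiv fun g x hx => ?_).symm
    obtain ⟨c, rfl⟩ := (Submodule.mem_span_range_iff_exists_fun F).mp hx
    simp [diagVec_fixed hB hz g.2]
  · exact absurd hp (Nat.not_even_iff_odd.mpr hodd)

theorem card_isom_even {B : BilinForm F V} (hS : ∀ x y, B x y = B y x) (hB : B.Nondegenerate)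
    (hna : ¬ B.IsAlt) (heven : Even (Module.finrank F V)) :
    Nat.card (Isom B) = Fintype.card F ^ (Module.finrank F V - 1) *
      spOrder (Fintype.card F) ((Module.finrank F V - 2) / 2) := by
  classical
  obtain ⟨z, hz⟩ := exists_diagVec hS hB
  have hR := isRefl_of_symm hS
  rcases diag_cases hS hB hz hna with ⟨h, hp⟩ | ⟨h, -⟩
  · exact absurd heven (Nat.not_even_iff_odd.mpr hp)
  obtain ⟨u, hu⟩ := exists_partner_diag hS hB hz hna
  obtain ⟨hli, hP⟩ := diag_zero_frame hS hB hz h hu
  have hzP : z ∈ Submodule.span F (Set.range ![z, u]) := Submodule.subset_span ⟨0, rfl⟩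
  have hfix := card_fix_subspace hR hB hP
  rw [card_isom_alt' (orth_isAlt hS hz hzP) (restrict_orth_nondeg hR hB hP),
    finrank_orth hR hB hP, finrank_span_eq_card hli, Fintype.card_fin] at hfix
  -- the images of `u`
  let π : Isom B → {w : V // B w z = 1} := fun g => ⟨g.1 u, by
    conv_lhs => arg 2; rw [← diagVec_fixed hB hz g.2]
    rw [g.2, hu]⟩
  have hlift : ∀ w : {w : V // B w z = 1}, ∃ g : Isom B, π g = w := by
    intro w
    obtain ⟨hli', hP'⟩ := diag_zero_frame hS hB hz h w.2
    obtain ⟨e, he, hea⟩ := exists_gram_isometry hS hS hB hB hz hz hli hli' hP hP' hzP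
      (Submodule.subset_span ⟨0, rfl⟩) rfl (fun i j => by
        have huu : B u u = 1 := by rw [hz, hu, one_pow]
        have hww : B (w : V) w = 1 := by rw [hz, w.2, one_pow]
        fin_cases i <;> fin_cases j <;> simp [h, hu, w.2, huu, hww, hS z u, hS z w])
    exact ⟨⟨e, he⟩, Subtype.ext (hea 1)⟩
  choose L hL using hlift
  have hfibre : ∀ w, Nat.card {g : Isom B // π g = w} =
      spOrder (Fintype.card F) ((Module.finrank F V - 2) / 2) := by
    intro w
    rw [← hfix]
    refine Nat.card_congr ((Equiv.mulLeft (L w)⁻¹).subtypeEquiv fun g => ?_)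
    have hw : (L w).1 u = w := congrArg Subtype.val (hL w)
    constructor
    · intro hg x hx
      obtain ⟨c, rfl⟩ := (Submodule.mem_span_range_iff_exists_fun F).mp hx
      have hu' : ((L w)⁻¹ * g).1 u = u := by
        show (L w).1.symm (g.1 u) = u
        rw [show g.1 u = w from congrArg Subtype.val hg, ← hw, LinearEquiv.symm_apply_apply]
      have hz'' : ((L w)⁻¹ * g).1 z = z := diagVec_fixed hB hz ((L w)⁻¹ * g).2
      simp only [Equiv.coe_mulLeft, map_sum, map_smul]
      refine Finset.sum_congr rfl fun i _ => ?_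
      fin_cases i
      · exact congrArg (c 0 • ·) hz''
      · exact congrArg (c 1 • ·) hu'
    · intro hg
      have := hg u (Submodule.subset_span ⟨1, rfl⟩)
      refine Subtype.ext ?_
      show g.1 u = (w : V)
      rw [← hw]
      exact (LinearEquiv.symm_apply_eq _).mp this
  haveI : Finite V := Module.finite_of_finite F
  haveI : Finite (Isom B) := Finite.of_injective (fun g : Isom B => (g.1 : V → V))
    fun g g' hg => Subtype.ext (LinearEquiv.ext (congrFun hg))
  haveI := Fintype.ofFinite {w : V // B w z = 1}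
  rw [← Nat.card_congr (Equiv.sigmaFiberEquiv π), Nat.card_sigma, Finset.sum_congr rfl
    (fun w _ => hfibre w), Finset.sum_const, Finset.card_univ, smul_eq_mul]
  congr 1
  -- the affine hyperplane
  let l : V →ₗ[F] F := B.flip z
  have hl : ∀ v, l v = B v z := fun v => rfl
  rw [← Nat.card_eq_fintype_card, ← Nat.card_congr (α := LinearMap.ker l)
    ((Equiv.addRight u).subtypeEquiv fun v => by
      rw [LinearMap.mem_ker, hl]; simp [hu])]
  rw [Module.natCard_eq_pow_finrank (K := F) (V := LinearMap.ker l), Nat.card_eq_fintype_card]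
  congr 1
  have hsurj : Function.Surjective l := fun c => ⟨c • u, by simp [hl, hu]⟩
  have hrn := LinearMap.finrank_range_add_finrank_ker l
  rw [LinearMap.range_eq_top.mpr hsurj, finrank_top, Module.finrank_self] at hrn
  omega

end two

end Cfsg.Agent.Symplectic
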