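import Cfsg.Agent.Symplectic.Order

/-! Stabilisers and numbers of totally isotropic subspaces. -/

set_option autoImplicit false

namespace Cfsg.Agent.Symplectic

open scoped Matrix

noncomputable section

variable {m : ℕ} {F : Type*} [Field F]

/-- the stabiliser of a subspace -/
abbrev subStab (W : Submodule F (Fin m ⊕ Fin m → F)) :
    Subgroup (Matrix.symplecticGroup (Fin m) F) :=
  Cfsg.stabilizing (Cfsg.spToMat m F) (W : Set (Fin m ⊕ Fin m → F))

theorem mem_subStab {W : Submodule F (Fin m ⊕ Fin m → F)}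
    {g : Matrix.symplecticGroup (Fin m) F} :
    g ∈ subStab W ↔ ∀ v, v ∈ W ↔ (g : Mat m F) *ᵥ v ∈ W := Iff.rfl

theorem mem_subStab_of_fix {k : ℕ} {W : Submodule F (Fin m ⊕ Fin m → F)}
    {b : Fin k → (Fin m ⊕ Fin m → F)} (hW : Submodule.span F (Set.range b) = W)
    {g : Matrix.symplecticGroup (Fin m) F} (hg : g • b = b) : g ∈ subStab W := by
  have hfix : ∀ v ∈ W, (g : Mat m F) *ᵥ v = v := by
    intro v hv
    rw [← hW] at hv
    induction hv using Submodule.span_induction with
    | mem y hy => obtain ⟨i, rfl⟩ := hy; exact congrFun hg i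
    | zero => exact Matrix.mulVec_zero _
    | add y z _ _ hy hz => rw [Matrix.mulVec_add, hy, hz]
    | smul c y _ hy => rw [Matrix.mulVec_smul, hy]
  intro v
  refine ⟨fun hv => by rw [show (Cfsg.spToMat m F g) *ᵥ v = v from hfix v hv]; exact hv, fun hv => ?_⟩
  have := hfix _ hv
  have h' : Cfsg.spToMat m F g *ᵥ v = v := (spEquiv m F g).1.injective this
  rw [h'] at hv
  exact hv

theorem exists_span_frame [Finite F] {k : ℕ} (W : Submodule F (Fin m ⊕ Fin m → F))
    (hWk : Module.finrank F W = k) (hW : ∀ u ∈ W, ∀ v ∈ W, Cfsg.sympForm m F u v = 0) :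
    ∃ b : Frame m F k, Submodule.span F (Set.range b.1) = W := by
  let e := Module.finBasisOfFinrankEq F W hWk
  refine ⟨⟨fun i => (e i : Fin m ⊕ Fin m → F),
    e.linearIndependent.map' W.subtype W.ker_subtype, fun i j => hW _ (e i).2 _ (e j).2⟩, ?_⟩
  show Submodule.span F (Set.range (W.subtype ∘ e)) = W
  rw [Set.range_comp, Submodule.span_image, e.span_eq, Submodule.map_subtype_top]

/-- frames inside a totally isotropic subspace -/
def bases {k : ℕ} (W : Submodule F (Fin m ⊕ Fin m → F)) :
    Set (Fin k → (Fin m ⊕ Fin m → F)) :=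
  {c | LinearIndependent F c ∧ ∀ i, c i ∈ W}

theorem card_bases_sub [Fintype F] {k : ℕ} {W : Submodule F (Fin m ⊕ Fin m → F)}
    (hWk : Module.finrank F W = k) :
    Nat.card (bases (k := k) W) = ∏ i : Fin k, (Fintype.card F ^ k - Fintype.card F ^ (i : ℕ)) := by
  let e : bases (k := k) W ≃ {s : Fin k → W // LinearIndependent F s} :=
    { toFun := fun c => ⟨fun i => ⟨c.1 i, c.2.2 i⟩, LinearIndependent.of_comp W.subtype c.2.1⟩
      invFun := fun s => ⟨fun i => (s.1 i : Fin m ⊕ Fin m → F),
        s.2.map' W.subtype W.ker_subtype, fun i => (s.1 i).2⟩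
      left_inv := fun c => rfl
      right_inv := fun s => rfl }
  rw [Nat.card_congr e, card_linearIndependent (by omega), hWk]

theorem orbit_bases {k : ℕ} {W : Submodule F (Fin m ⊕ Fin m → F)} (b : Frame m F k)
    (hb : Submodule.span F (Set.range b.1) = W)
    (hW : ∀ u ∈ W, ∀ v ∈ W, Cfsg.sympForm m F u v = 0) :
    MulAction.orbit (subStab W) b.1 = bases W := by
  ext c
  constructor
  · rintro ⟨g, rfl⟩
    exact ⟨(frame_smul g.1 b).1, fun i => (g.2 (b.1 i)).mp (hb ▸ Submodule.subset_span ⟨i, rfl⟩)⟩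
  · rintro ⟨hc, hcW⟩
    obtain ⟨g, hg⟩ := exists_sp_map b.1 c b.2.1 hc
      (fun i j => by rw [b.2.2, hW _ (hcW i) _ (hcW j)])
    have hspan : Submodule.span F (Set.range c) = W := by
      refine Submodule.eq_of_le_of_finrank_eq (Submodule.span_le.mpr ?_) ?_
      · rintro _ ⟨i, rfl⟩; exact hcW i
      · rw [← hb, finrank_span_eq_card hc, finrank_span_eq_card b.2.1]
    have himg : W.map (spEquiv m F g).1.toLinearMap = W := by
      conv_lhs => rw [← hb]
      rw [Submodule.map_span, ← Set.range_comp, ← hspan]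
      congr 2
      exact funext hg
    refine ⟨⟨g, fun v => ?_⟩, funext hg⟩
    show v ∈ W ↔ (spEquiv m F g).1 v ∈ W
    conv_rhs => rw [← himg]
    erw [Submodule.mem_map_equiv]
    rw [LinearEquiv.symm_apply_apply]

theorem card_subStab [Fintype F] {k : ℕ} (hk : k ≤ m) (W : Submodule F (Fin m ⊕ Fin m → F))
    (hWk : Module.finrank F W = k) (hW : ∀ u ∈ W, ∀ v ∈ W, Cfsg.sympForm m F u v = 0) :
    Nat.card (subStab W) =
      (∏ i : Fin k, (Fintype.card F ^ k - Fintype.card F ^ (i : ℕ))) *
      (Fintype.card F ^ (m ^ 2 - k.choose 2) *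
        ∏ i ∈ Finset.range (m - k), (Fintype.card F ^ (2 * (i + 1)) - 1)) := by
  obtain ⟨b, hb⟩ := exists_span_frame W hWk hW
  let e : MulAction.stabilizer (subStab W) b.1 ≃
      MulAction.stabilizer (Matrix.symplecticGroup (Fin m) F) b.1 :=
    { toFun := fun g => ⟨g.1.1, g.2⟩
      invFun := fun g => ⟨⟨g.1, mem_subStab_of_fix hb g.2⟩, g.2⟩
      left_inv := fun g => rfl
      right_inv := fun g => rfl }
  rw [← Nat.card_congr (MulAction.orbitProdStabilizerEquivGroup (subStab W) b.1), Nat.card_prod,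
    orbit_bases b hb hW, card_bases_sub hWk, Nat.card_congr e, card_pointwise_stab hk b]

theorem span_of_frame {k : ℕ} (a : Frame m F k) :
    Module.finrank F (Submodule.span F (Set.range a.1)) = k ∧
      ∀ u ∈ Submodule.span F (Set.range a.1), ∀ v ∈ Submodule.span F (Set.range a.1),
        Cfsg.sympForm m F u v = 0 := by
  refine ⟨by rw [finrank_span_eq_card a.2.1, Fintype.card_fin], fun u hu v hv => ?_⟩
  exact (spB_apply _ _).symm.trans (span_le_perp a hv u hu)

/-- number of totally isotropic subspaces, times the number of bases -/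
theorem card_isotropic_mul [Fintype F] (m : ℕ) (k : ℕ) :
    Nat.card {W : Submodule F (Fin m ⊕ Fin m → F) //
        Module.finrank F W = k ∧ ∀ u ∈ W, ∀ v ∈ W, Cfsg.sympForm m F u v = 0} *
      (∏ i : Fin k, (Fintype.card F ^ k - Fintype.card F ^ (i : ℕ))) =
      Nat.card (Frame m F k) := by
  classical
  set S := {W : Submodule F (Fin m ⊕ Fin m → F) //
        Module.finrank F W = k ∧ ∀ u ∈ W, ∀ v ∈ W, Cfsg.sympForm m F u v = 0}
  haveI := Fintype.ofFinite S
  have e : Frame m F k ≃ Σ W : S, bases (k := k) W.1 :=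
    { toFun := fun a => ⟨⟨Submodule.span F (Set.range a.1), span_of_frame a⟩,
        a.1, a.2.1, fun i => Submodule.subset_span ⟨i, rfl⟩⟩
      invFun := fun p => ⟨p.2.1, p.2.2.1, fun i j => p.1.2.2 _ (p.2.2.2 i) _ (p.2.2.2 j)⟩
      left_inv := fun a => rfl
      right_inv := fun p => by
        obtain ⟨⟨W, hW⟩, c, hc⟩ := p
        have hspan : Submodule.span F (Set.range c) = W := by
          refine Submodule.eq_of_le_of_finrank_eq (Submodule.span_le.mpr ?_) ?_
          · rintro _ ⟨i, rfl⟩; exact hc.2 i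
          · rw [finrank_span_eq_card hc.1, Fintype.card_fin, hW.1]
        exact Sigma.subtype_ext (Subtype.ext hspan) rfl }
  rw [Nat.card_congr e, Nat.card_sigma, Finset.sum_congr rfl (fun W _ => card_bases_sub W.2.1),
    Finset.sum_const, Finset.card_univ, smul_eq_mul, Nat.card_eq_fintype_card]

/-- number of totally isotropic `k`-subspaces through a fixed non-zero vector, `m = k = 2` -/
theorem card_lines_through [Fintype F] (v : Fin 2 ⊕ Fin 2 → F) (hv : v ≠ 0) :
    Nat.card {W : Submodule F (Fin 2 ⊕ Fin 2 → F) // Module.finrank F W = 2 ∧ v ∈ W ∧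
        ∀ u ∈ W, ∀ w ∈ W, Cfsg.sympForm 2 F u w = 0} * (Fintype.card F ^ 2 - Fintype.card F) =
      Fintype.card F ^ 3 - Fintype.card F := by
  classical
  set S := {W : Submodule F (Fin 2 ⊕ Fin 2 → F) // Module.finrank F W = 2 ∧ v ∈ W ∧
        ∀ u ∈ W, ∀ w ∈ W, Cfsg.sympForm 2 F u w = 0}
  haveI := Fintype.ofFinite S
  let a : Frame 2 F 1 := ⟨fun _ => v, LinearIndependent.of_subsingleton 0 hv, fun _ _ => sf_self v⟩
  let X := {x : Fin 2 ⊕ Fin 2 → F // x ∈ perp a.1 ∧ x ∉ Submodule.span F (Set.range a.1)}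
  have hX : Nat.card X = Fintype.card F ^ 3 - Fintype.card F := by
    show Nat.card {x // x ∈ perp a.1 ∧ x ∉ Submodule.span F (Set.range a.1)} = _
    rw [card_perp_diff a]; simp
  have hav : ∀ x, x ∈ Submodule.span F (Set.range a.1) ↔ x ∈ Submodule.span F {v} := fun x => by
    simp only [a, Set.range_const]
  have hli : ∀ x : X, LinearIndependent F ![v, x.1] := fun x => by
    rw [LinearIndependent.pair_iff' hv]
    intro c hc
    exact x.2.2 ((hav _).mpr (Submodule.mem_span_singleton.mpr ⟨c, hc⟩))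
  have hperp : ∀ x : X, Cfsg.sympForm 2 F v x.1 = 0 := fun x => mem_perp.mp x.2.1 0
  have e : X ≃ Σ W : S, {x : Fin 2 ⊕ Fin 2 → F // x ∈ W.1 ∧ x ∉ Submodule.span F {v}} :=
    { toFun := fun x =>
        ⟨⟨Submodule.span F (Set.range ![v, x.1]),
          (span_of_frame (⟨![v, x.1], hli x, fun i j => by
            fin_cases i <;> fin_cases j <;>
              simp [sf_self, hperp x, sf_swap x.1 v]⟩ : Frame 2 F 2)).1,
          Submodule.subset_span ⟨0, rfl⟩,
          (span_of_frame (⟨![v, x.1], hli x, fun i j => by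
            fin_cases i <;> fin_cases j <;>
              simp [sf_self, hperp x, sf_swap x.1 v]⟩ : Frame 2 F 2)).2⟩,
          x.1, Submodule.subset_span ⟨1, rfl⟩, fun h => x.2.2 ((hav _).mpr h)⟩
      invFun := fun p => ⟨p.2.1,
        mem_perp.mpr fun _ => p.1.2.2.2 _ p.1.2.2.1 _ p.2.2.1, fun h => p.2.2.2 ((hav _).mp h)⟩
      left_inv := fun x => rfl
      right_inv := fun p => by
        obtain ⟨⟨W, hW⟩, x, hx⟩ := p
        have hspan : Submodule.span F (Set.range ![v, x]) = W := by
          refine Submodule.eq_of_le_of_finrank_eq (Submodule.span_le.mpr ?_) ?_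
          · rintro _ ⟨i, rfl⟩
            fin_cases i
            · exact hW.2.1
            · exact hx.1
          · have : LinearIndependent F ![v, x] := by
              rw [LinearIndependent.pair_iff' hv]
              intro c hc
              exact hx.2 (Submodule.mem_span_singleton.mpr ⟨c, hc⟩)
            rw [finrank_span_eq_card this, Fintype.card_fin, hW.1]
        exact Sigma.subtype_ext (Subtype.ext hspan) rfl }
  have hfib : ∀ W : S, Nat.card {x : Fin 2 ⊕ Fin 2 → F // x ∈ W.1 ∧ x ∉ Submodule.span F {v}} =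
      Fintype.card F ^ 2 - Fintype.card F := by
    intro W
    have h : Nat.card {x : Fin 2 ⊕ Fin 2 → F // x ∈ W.1 ∧ x ∉ Submodule.span F {v}} =
        ((W.1 : Set (Fin 2 ⊕ Fin 2 → F)) \ (Submodule.span F {v} : Set _)).ncard :=
      Nat.card_coe_set_eq _
    rw [h, Set.ncard_sdiff
      (SetLike.coe_subset_coe.mpr ((Submodule.span_singleton_le_iff_mem v W.1).mpr W.2.2.1)),
      ← Nat.card_coe_set_eq, ← Nat.card_coe_set_eq]
    simp only [SetLike.coe_sort_coe]
    rw [Module.natCard_eq_pow_finrank (K := F) (V := W.1),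
      Module.natCard_eq_pow_finrank (K := F) (V := Submodule.span F {v}), W.2.1,
      finrank_span_singleton hv, pow_one, Nat.card_eq_fintype_card]
  rw [← hX, Nat.card_congr e, Nat.card_sigma, Finset.sum_congr rfl (fun W _ => hfib W),
    Finset.sum_const, Finset.card_univ, smul_eq_mul, Nat.card_eq_fintype_card]

end

end Cfsg.Agent.Symplectic
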