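import Cfsg.Agent.Symplectic.MinIndexLine

/-! The remaining shapes of the radical part, and the minimal index of `Sp_2m(q)`. -/

set_option autoImplicit false
set_option maxHeartbeats 1000000
set_option linter.unusedSectionVars false

namespace Cfsg.Agent.Symplectic.MinGen

open scoped Matrix LinearAlgebra.Projectivization Pointwise
open Cfsg.Agent.Symplectic
open Cfsg.Agent.Symplectic.MinTwo (El El_mulVec El_mul El_zero El_conj inv_fix transitive_perp T_comm)

variable {m : ℕ} {F : Type*} [Field F] [Fintype F]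

local notation "𝕍" => (Fin m ⊕ Fin m → F)
local notation "sf" => Cfsg.sympForm m F
local notation "Sp" => Matrix.symplecticGroup (Fin m) F
local notation "qq" => Fintype.card F

/-- the exceptional shape is impossible -/
theorem false_of_eShape {k : ℕ} (hk : m = k + 1) (hk1 : 1 ≤ k) (hq : 3 ≤ qq)
    (hex : k = 1 → qq ≠ 3) {H : Subgroup Sp} (hn : H.index < Nat.card (ℙ F 𝕍)) {v : 𝕍}
    (hv : v ≠ 0) (hF : ¬ Full H v) (hE : EShape H v) : False := by
  obtain ⟨u, hu, hvu, hX⟩ := hE
  have hN := points_eq (m := m) (F := F) k hk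
  set N := Nat.card (ℙ F 𝕍) with hNdef
  set Q := qq ^ (2 * k) with hQ
  have hQ2 : qq ^ 2 ≤ Q := Nat.pow_le_pow_right (by omega) (by omega)
  have hQ1 : 1 ≤ Q := Nat.one_le_pow _ _ (by omega)
  have hu0 : u ≠ 0 := fun h => hu (mem_lineG.2 ⟨0, by rw [zero_smul, h]⟩)
  have huv : sf u v = 0 := by rw [sf_swap, hvu, neg_zero]
  have hXe : Xs H v = (perp ![v, u]).toAddSubgroup := by
    ext x
    rw [hX]
    exact mem_perp_pair.symm
  have hXc : Nat.card (Xs H v) = Q := by
    rw [hXe]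
    show Nat.card (perp ![v, u]) = Q
    rw [card_perp_pair hv hu, hQ]
    congr 1
    omega
  have huX : u ∈ Xs H v := (hX u).2 ⟨hvu, sf_self u⟩
  have hXv := Xs_le_vperp H v
  have hvX := lineG_le_Xs H v
  set Y := Ann (1 : F) v (Xs H v) with hY
  have hy : Nat.card Y = qq ^ 2 := by
    have hc := card_Ann (μ := (1 : F)) one_ne_zero hv hXv hvX
    rw [hXc, show 2 * m - 1 = 2 * k + 1 by omega, pow_succ, ← hQ] at hc
    refine Nat.eq_of_mul_eq_mul_right hQ1 (hc.trans ?_)
    ring
  have hdx : dx H v = qq := by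
    have hi := index_mul_line (μ := (1 : F)) one_ne_zero hv hXv hvX
    rw [← hY, hy, sq] at hi
    exact Nat.eq_of_mul_eq_mul_right (by omega) hi
  have horb : Q - 1 ≤ orbN v (Xs H v : Set 𝕍) * (qq - 1) := by
    have hne : Y ≠ lineG v := fun h => by
      have hcl := card_lineG hv
      rw [← h, hy, sq] at hcl
      have : qq * 1 < qq * qq := Nat.mul_lt_mul_of_pos_left (by omega) (by omega)
      omega
    have h := (orbN_line_cover hv (fun x (hx : x ∈ Y) => (mem_Ann.1 hx).1) (lineG_le_Ann hXv) hne).trans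
      (Nat.mul_le_mul_right _ (orbN_Ann_le _))
    rw [hy, show 2 * m - 1 = 2 * k + 1 by omega, pow_succ, ← hQ, sq] at h
    refine Nat.le_of_mul_le_mul_left ?_ (by omega : 0 < qq)
    calc qq * (Q - 1) = Q * qq - qq := by rw [Nat.mul_sub, mul_one, mul_comm]
      _ ≤ _ := h
      _ = _ := by
        rw [← Nat.mul_sub_one]
        ring
  have hlow : ∀ c, c ≤ cz H v →
      c * qq * (Q - 1) ≤ cz H v * dx H v * orbN v (Xs H v : Set 𝕍) * (qq - 1) := fun c hc => by
    rw [hdx, mul_assoc (cz H v * qq)]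
    exact Nat.mul_le_mul (Nat.mul_le_mul_right _ hc) horb
  have hNQ : N * (qq - 1) ≤ (qq + 2) * qq * (Q - 1) := by
    obtain ⟨r, hr⟩ : ∃ r, Q = r + 1 := ⟨Q - 1, by omega⟩
    rw [hr] at hN hQ2
    rw [hr, Nat.add_sub_cancel]
    have h2 : qq ^ 2 * (r + 1) = qq ^ 2 * r + qq ^ 2 := by ring
    have h3 : (qq + 2) * qq * r = qq ^ 2 * r + 2 * qq * r := by ring
    have h4 : qq ^ 2 ≤ 2 * qq * r + 1 := by nlinarith
    omega
  have hb : N ≤ 2 * (cz H v * dx H v * orbN v (Xs H v : Set 𝕍)) := by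
    refine Nat.le_of_mul_le_mul_right ?_ (by omega : 0 < qq - 1)
    refine hNQ.trans ?_
    rw [mul_assoc 2, mul_assoc (qq + 2)]
    refine (Nat.mul_le_mul_right _ (two_mul_cz' hq hF)).trans ?_
    rw [mul_assoc 2]
    exact Nat.mul_le_mul_left _ (by rw [← mul_assoc]; exact hlow _ le_rfl)
  obtain ⟨hq4, t, ht, ht1, hZ⟩ : 4 ≤ qq ∧ ∃ t : F, t ≠ 0 ∧ t ≠ 1 ∧
      ((t = -1 ∧ (2 : F) ≠ 0 ∧ k = 1) ∨ Zs H v = ⊥) := by
    by_cases h2 : (2 : F) = 0
    · haveI : CharP F 2 := CharTwo.of_one_ne_zero_of_two_eq_zero one_ne_zero h2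
      obtain ⟨n, hn2, hcard⟩ := FiniteField.card F 2
      have hq2 : 2 ∣ qq := hcard ▸ dvd_pow_self 2 (PNat.ne_zero n)
      have hq4 : 4 ≤ qq := by omega
      have hZ : Zs H v = ⊥ := by
        by_contra hne
        have := (hNQ.trans (hlow _ (cz_even_ne_bot hF hne))).trans
          (Nat.mul_le_mul_right _ ((osz_ge_one H hv).trans (osz_le H hv)))
        exact hn.not_ge (Nat.le_of_mul_le_mul_right this (by omega))
      obtain ⟨t, ht, ht2⟩ := exists_sq_ne_one (F := F) hq4
      exact ⟨hq4, t, ht, fun h => ht2 (by rw [h, one_pow]), Or.inr hZ⟩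
    · have hk' : k = 1 := by
        have hc := card_Xs_sq_le h2 hv hF
        rw [hXc, hQ, ← pow_add, ← pow_succ] at hc
        have := (Nat.pow_le_pow_iff_right (by omega : 1 < qq)).1 hc
        omega
      refine ⟨by have := hex hk'; omega, -1, neg_ne_zero.2 one_ne_zero, fun h => h2 ?_,
        Or.inl ⟨rfl, h2, hk'⟩⟩
      linear_combination -h
  obtain ⟨w, hvw, huw⟩ : ∃ w, sf v w = 1 ∧ sf u w = 0 := by
    obtain ⟨x₀, hx₀⟩ := sf_exists_one hv
    obtain ⟨y, hy1, hy2⟩ := exists_perp_ne hv hu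
    refine ⟨x₀ - (sf u x₀ / sf u y) • y, ?_, ?_⟩
    · rw [sf_sub_right, sf_smul_right, hy1, mul_zero, sub_zero, hx₀]
    · rw [sf_sub_right, sf_smul_right, div_mul_cancel₀ _ hy2, sub_self]
  have hwu : sf w u = 0 := by rw [sf_swap, huw, neg_zero]
  have hsm : ∀ a : F, ∀ x ∈ Xs H v, a • x ∈ Xs H v := fun a x hx => by
    rw [hX] at hx ⊢
    rw [sf_smul_right, sf_smul_right, hx.1, hx.2, mul_zero]
    exact ⟨rfl, rfl⟩
  obtain ⟨H', hA, hg⟩ := exists_tor hv hvw hn hb hsm ht ht1
    (hZ.imp (fun h => by rw [h.1]; ring) id)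
  have hn' : H'.index < N := by rw [hA.1]; exact hn
  have hb' : N ≤ 2 * (cz H' v * dx H' v * orbN v (Xs H' v : Set 𝕍)) := by rw [hA.bound]; exact hb
  have hX' : ∀ x, x ∈ Xs H' v ↔ sf v x = 0 ∧ sf u x = 0 := fun x => by rw [hA.2.2]; exact hX x
  have hlift : ∀ l : Sp, (l : Mat m F) *ᵥ v = v → (l : Mat m F) *ᵥ w = w →
      (∀ x, sf v x = 0 → sf u x = 0 → sf u ((l : Mat m F) *ᵥ x) = 0) → Lift H' v l := by
    intro l h1 h2 h3
    refine lift_of_tor hv hvw hn' hb' (fun a x hx => ?_) ht ht1 hg h1 h2 (fun x hx => ?_)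
    · rw [hA.2.2] at hx ⊢; exact hsm a x hx
    · rw [hX'] at hx ⊢
      refine ⟨?_, h3 x hx.1 hx.2⟩
      have := sf_invariant l v x
      rw [h1] at this
      exact this.trans hx.1
  have hF' : ¬ Full H' v := hA.full hF
  -- `u` is full
  have hfu : Full H' u := by
    obtain ⟨y, hy1, hy2⟩ := exists_perp_ne hv hu
    set a := sf w ((sf u y)⁻¹ • y) with ha
    set u' := (sf u y)⁻¹ • y + a • v with hu'
    have h1 : sf v u' = 0 := by
      rw [hu', sf_add_right, sf_smul_right a v v, sf_self, sf_smul_right, hy1]; ring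
    have h2 : sf w u' = 0 := by
      rw [hu', sf_add_right, sf_smul_right a w v, sf_swap w v, hvw, ← ha]; ring
    have h3 : sf u u' = 1 := by
      rw [hu', sf_add_right, sf_smul_right a u v, huv, mul_zero, add_zero, sf_smul_right,
        inv_mul_cancel₀ hy2]
    obtain ⟨s, hs0, hs1⟩ := exists_sq_ne_one (F := F) hq4
    have hlv : (tor u u' s : Mat m F) *ᵥ v = v :=
      tor_fix h3 hs0 huv (by rw [sf_swap, h1, neg_zero])
    have hlw : (tor u u' s : Mat m F) *ᵥ w = w :=
      tor_fix h3 hs0 huw (by rw [sf_swap, h2, neg_zero])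
    have hT : ∀ c, Lift H' v (T u c) := fun c => hlift _ (T_fix hvu c) (T_fix hwu c) fun x _ hx => by
      rw [T_mulVec, sf_add_right, sf_smul_right, hx, sf_self]; ring
    have hl := hlift _ hlv hlw fun x _ hx => by
      rw [tor_perp h3 hs0 hx, sf_add_right, sf_smul_right, hx, sf_self]; ring
    intro c
    have h := lift_commutator hl (hT (c / (s ^ 2 - 1))) hlv (T_fix hvu _)
    rw [T_conj, tor_left h3 hs0, T_smul, T_inv, T_mul] at h
    have : s ^ 2 - 1 ≠ 0 := sub_ne_zero.2 hs1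
    rwa [show s ^ 2 * (c / (s ^ 2 - 1)) + -(c / (s ^ 2 - 1)) = c by field_simp; ring] at h
  by_cases hZ0 : Zs H v = ⊥
  · -- the orbit of `v` is everything
    have hcz : qq ≤ cz H v := by
      have hi : (⊥ : AddSubgroup F).index = qq := by
        rw [AddSubgroup.index_bot, Nat.card_eq_fintype_card]
      rw [cz, hZ0, hi]
      exact Nat.le_mul_of_pos_left _ (OZ_pos H v)
    have ho : qq ^ 2 * (Q - 1) ≤ osz H' hv * (qq - 1) := by
      refine le_trans ?_ (Nat.mul_le_mul_right _ (osz_ge_one H' hv))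
      rw [hA.bound, sq]
      exact hlow _ hcz
    obtain ⟨r, hr⟩ : ∃ r, Q = r + 1 := ⟨Q - 1, by omega⟩
    obtain ⟨j, hj⟩ : ∃ j, qq = j + 1 := ⟨qq - 1, by omega⟩
    rw [hr, Nat.add_sub_cancel] at ho
    rw [hr] at hN hQ2
    rw [hj, Nat.add_sub_cancel] at ho hN
    rw [hj] at hQ2 hq4
    have hB : N ≤ osz H' hv + (qq + 1) := by
      rw [hj]
      refine Nat.le_of_mul_le_mul_right ?_ (by omega : 0 < j)
      nlinarith
    have hB2 : (qq + 1) * (qq + 1) < osz H' hv := by
      rw [hj]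
      refine Nat.lt_of_mul_lt_mul_right (a := j) ?_
      refine lt_of_lt_of_le ?_ ho
      have hr' : j * (j + 2) ≤ r := by nlinarith
      have h3 : 3 ≤ j := by omega
      calc (j + 1 + 1) * (j + 1 + 1) * j = (j + 2) * ((j + 2) * j) := by ring
        _ < (j + 1) ^ 2 * (j * (j + 2)) := by
            rw [mul_comm (j + 2) j]
            exact Nat.mul_lt_mul_of_pos_right (by nlinarith) (by positivity)
        _ ≤ _ := Nat.mul_le_mul_left _ hr' 
    obtain ⟨h, hh, hhv⟩ := transitive_of_big H' hv hn' hB hB2 hu0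
    rw [smul_mk_eq, Projectivization.mk_eq_mk_iff'] at hhv
    obtain ⟨a, ha⟩ := hhv
    refine hF' ?_
    have := full_of_mem (full_smul hfu a) (H'.inv_mem hh)
    rwa [ha, inv_mulVec_cancel] at this
  · obtain ⟨htm, h2, hk'⟩ := hZ.resolve_right hZ0
    obtain ⟨h, hh, hmove⟩ : ∃ h ∈ H', ∀ a : F, (h : Mat m F) *ᵥ u ≠ a • u := by
      by_contra hc
      push Not at hc
      exact hn'.not_ge (index_ge_of_point hu0 hc)
    set u₁ := (h : Mat m F) *ᵥ u
    have hf1 : Full H' u₁ := full_of_mem hfu hh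
    by_cases hvu1 : sf u₁ v = 0
    · have hv1 : sf v u₁ = 0 := by rw [sf_swap, hvu1, neg_zero]
      have hu1X : sf u u₁ = 0 := by
        by_contra hne
        obtain ⟨-, d, hd⟩ := (show u ∈ Xs H' v from (hX' u).2 ⟨hvu, sf_self u⟩)
        have hm := H'.mul_mem (H'.mul_mem (hf1 1) hd) (H'.inv_mem (hf1 1))
        rw [El_conj, T_fix hv1] at hm
        have hmem : ((T u₁ (1 : F) : Sp) : Mat m F) *ᵥ u ∈ Xs H' v := by
          refine ⟨?_, _, hm⟩
          rw [T_mulVec, sf_add_right, sf_smul_right, hvu, hv1]; ring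
        have h0 := ((hX' _).1 hmem).2
        rw [T_mulVec, sf_add_right, sf_smul_right, sf_self, zero_add, one_mul] at h0
        exact hne (mul_self_eq_zero.1 h0)
      have hspan : u₁ ∈ Submodule.span F (Set.range ![v, u]) := by
        have hli : LinearIndependent F ![v, u] :=
          (LinearIndependent.pair_iff' hv).2 fun a ha => hu (mem_lineG.2 ⟨a, ha⟩)
        have h3 : Submodule.span F (Set.range ![v, u]) = perp ![v, u] := by
          refine Submodule.eq_of_le_of_finrank_le ?_ ?_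
          · rw [Submodule.span_le]
            rintro _ ⟨i, rfl⟩
            refine mem_perp_pair.2 ?_
            fin_cases i
            · exact ⟨sf_self v, huv⟩
            · exact ⟨hvu, sf_self u⟩
          · rw [finrank_perp hli, finrank_span_eq_card hli, Fintype.card_fin]
            omega
        rw [h3]
        exact mem_perp_pair.2 ⟨hv1, hu1X⟩
      obtain ⟨c, hc⟩ := (Submodule.mem_span_range_iff_exists_fun F).1 hspan
      simp only [Fin.sum_univ_two, Matrix.cons_val_zero, Matrix.cons_val_one] at hc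
      have hb0 : c 0 ≠ 0 := fun h0 => hmove (c 1) (by rw [← hc, h0, zero_smul, zero_add])
      by_cases ha0 : c 1 = 0
      · rw [ha0, zero_smul, add_zero] at hc
        exact hF' ((full_smul_iff hb0).1 (hc ▸ hf1))
      -- the identity with the torus image
      have hf2 : Full H' (c 1 • u - c 0 • v) := by
        have h := full_of_mem hf1 hg
        rw [← hc, Matrix.mulVec_add, Matrix.mulVec_smul, Matrix.mulVec_smul, tor_left hvw ht,
          tor_fix hvw ht hvu hwu, htm] at h
        have e : c 0 • ((-1 : F) • v) + c 1 • u = c 1 • u - c 0 • v := by module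
        rwa [e] at h
      have hf3 : Full H' (c 1 • u + c 0 • v) := by rw [add_comm, hc]; exact hf1
      refine hF' fun d => ?_
      have hd := H'.mul_mem (hf3 (d / (2 * c 0 ^ 2))) (hf2 (d / (2 * c 0 ^ 2)))
      rw [T_add_sub (by rw [sf_smul_left, sf_smul_right, huv, mul_zero, mul_zero]),
        T_smul, T_smul] at hd
      have h := H'.mul_mem (H'.inv_mem (hfu (c 1 ^ 2 * (2 * (d / (2 * c 0 ^ 2)))))) hd
      rw [inv_mul_cancel_left] at h
      have e : c 0 ^ 2 * (2 * (d / (2 * c 0 ^ 2))) = d := by field_simp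
      rwa [e] at h
    · have hne : Zs H' v ≠ ⊥ := by rw [hA.2.1]; exact hZ0
      obtain ⟨z, hz, hz0⟩ : ∃ z ∈ Zs H' v, z ≠ 0 := by
        by_contra hc
        push Not at hc
        exact hne (eq_bot_iff.2 fun z hz => hc z hz)
      have hf2 := full_of_mem hf1 (mem_Zs.1 hz)
      rw [T_mulVec] at hf2
      set s := z * sf u₁ v
      have hs : s ≠ 0 := mul_ne_zero hz0 hvu1
      have hfne : sf u₁ (u₁ + s • v) ≠ 0 := by
        rw [sf_add_right, sf_self, zero_add, sf_smul_right]
        exact mul_ne_zero hs hvu1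
      have h := full_plane hf1 hf2 hfne (-s⁻¹) s⁻¹
      have e : -s⁻¹ • u₁ + s⁻¹ • (u₁ + s • v) = v := by
        rw [smul_add, smul_smul, inv_mul_cancel₀ hs]; module
      rw [e] at h
      exact hF' h

theorem El_shift {v x : 𝕍} (h : sf v x = 0) (s t c : F) :
    El (x + s • v) (t • v) c = El x (t • v) c * El v ((c * s) • x) (c * s ^ 2 + 2 * t * s) := by
  have hxv : sf x v = 0 := by rw [sf_swap, h, neg_zero]
  refine sp_ext fun y => ?_
  rw [Submonoid.coe_mul, ← Matrix.mulVec_mulVec,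
    El_mulVec (by rw [sf_add_left, sf_smul_right, sf_smul_right, sf_smul_left, sf_self, hxv]; ring),
    El_mulVec (by rw [sf_smul_right, hxv, mul_zero]), El_mulVec (by rw [sf_smul_right, h, mul_zero])]
  simp only [sf_add_left, sf_add_right, sf_smul_left, sf_smul_right, h, hxv, sf_self]
  module

theorem not_lineG_of_sf_ne {v y z : 𝕍} (hvy : sf v y = 0) (hzy : sf z y ≠ 0) : z ∉ lineG v :=
  fun hm => by
    obtain ⟨a, rfl⟩ := mem_lineG.1 hm
    rw [sf_smul_left, hvy, mul_zero] at hzy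
    exact hzy rfl

theorem not_lineG_symm {v x : 𝕍} (hx : x ∉ lineG v) (hv : v ≠ 0) : v ∉ lineG x := fun hm => by
  obtain ⟨a, ha⟩ := mem_lineG.1 hm
  have ha0 : a ≠ 0 := fun h0 => hv (by rw [← ha, h0, zero_smul])
  exact hx (mem_lineG.2 ⟨a⁻¹, by rw [← ha, smul_smul, inv_mul_cancel₀ ha0, one_smul]⟩)

theorem El_step [CharP F 2] {H : Subgroup Sp} {v x : 𝕍} (hv : v ≠ 0) (hXv : Xs H v = vperp v)
    (hvx : sf v x = 0) (hx : x ∉ lineG v) {t c : F} (h : El x (t • v) c ∈ H) (s : F) :
    El v ((c * s) • x) (c * s ^ 2) ∈ H := by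
  obtain ⟨y₀, hy0, hxy⟩ := exists_perp_ne hv hx
  set y := (s / sf x y₀) • y₀ with hy
  have hvy : sf v y = 0 := by rw [hy, sf_smul_right, hy0, mul_zero]
  have hxy' : sf x y = s := by rw [hy, sf_smul_right, div_mul_cancel₀ _ hxy]
  obtain ⟨-, d, hd⟩ : y ∈ Xs H v := by rw [hXv]; exact mem_vperp.2 hvy
  have hm := H.mul_mem (H.mul_mem hd h) (H.inv_mem hd)
  rw [El_conj] at hm
  have e1 : (El v y d : Mat m F) *ᵥ x = x + s • v := by
    rw [El_mulVec hvy, hxy', sf_swap x v, hvx, neg_zero, mul_zero, add_zero, zero_smul, add_zero]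
  rw [e1, Matrix.mulVec_smul, El_fix hvy, El_shift hvx] at hm
  have := H.mul_mem (H.inv_mem h) hm
  have h2 : (2 : F) = 0 := CharTwo.two_eq_zero
  rwa [inv_mul_cancel_left, h2, zero_mul, zero_mul, add_zero] at this

theorem El_zero_coeff [CharP F 2] (hq : 3 ≤ qq) {H : Subgroup Sp} {v x : 𝕍} (hv : v ≠ 0)
    (hx0 : x ≠ 0) (hF : ¬ Full H v) (hXv : Xs H v = vperp v) (hXx : Xs H x = vperp x)
    (hvx : sf v x = 0) (hx : x ∉ lineG v) {c : F} (h : El v x c ∈ H) : c = 0 := by
  classical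
  by_contra hc
  have hxv : sf x v = 0 := by rw [sf_swap, hvx, neg_zero]
  have h' : El v ((1 : F) • x) c ∈ H := by rwa [one_smul]
  have h1 := fun s => El_step hx0 hXx hxv (not_lineG_symm hx hv) h' s
  have h2 := fun s r => El_step hv hXv hvx hx (h1 s) r
  obtain ⟨s, hs⟩ : ∃ s : F, s ∉ ({0, 1} : Finset F) := by
    by_contra hc'
    push Not at hc'
    have h1 : (Finset.univ : Finset F) ⊆ {0, 1} := fun s _ => hc' s
    have := (Finset.card_le_card h1).trans Finset.card_le_two
    simp at this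
    omega
  simp only [Finset.mem_insert, Finset.mem_singleton, not_or] at hs
  refine hF fun z => ?_
  have hsq : (1 / c) * (1 - 1 / s ^ 2) ≠ 0 := by
    refine mul_ne_zero (one_div_ne_zero hc) (sub_ne_zero.2 fun h0 => hs.2 (CharTwo.sq_injective ?_))
    show s ^ 2 = (1 : F) ^ 2
    rw [one_pow]
    rw [eq_comm, one_div, inv_eq_one] at h0
    exact h0
  obtain ⟨b, hb⟩ : ∃ b : F, b ^ 2 = z / ((1 / c) * (1 - 1 / s ^ 2)) :=
    (Finite.injective_iff_surjective.1 (CharTwo.sq_injective (R := F))) _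
  have hA := h2 1 (b / (c * 1 ^ 2))
  have hB := h2 s (b / (c * s ^ 2))
  have eA : c * 1 ^ 2 * (b / (c * 1 ^ 2)) = b := by field_simp
  have eB : c * s ^ 2 * (b / (c * s ^ 2)) = b := by field_simp [hs.1]
  rw [eA] at hA
  rw [eB] at hB
  have hbx : sf v (b • x) = 0 := by rw [sf_smul_right, hvx, mul_zero]
  have hm := H.mul_mem hA (H.inv_mem hB)
  rw [El_inv hbx, El_mul hbx (by rw [sf_neg_right, hbx, neg_zero]), add_neg_cancel, El_zero,
    sf_swap (-(b • x)) (b • x), sf_neg_right, sf_self, neg_zero, neg_zero, add_zero] at hm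
  have e : c * 1 ^ 2 * (b / (c * 1 ^ 2)) ^ 2 + -(c * s ^ 2 * (b / (c * s ^ 2)) ^ 2) = z := by
    have : z = (1 / c) * (1 - 1 / s ^ 2) * b ^ 2 := by
      rw [hb, mul_div_cancel₀ _ hsq]
    rw [this]
    field_simp [hs.1]
    ring
  rwa [e] at hm

/-- the radical part cannot be the whole orthogonal for all points -/
theorem false_of_all_perp [CharP F 2] (hm : 2 ≤ m) (hq : 3 ≤ qq) {H : Subgroup Sp} {v : 𝕍}
    (hv : v ≠ 0) (hF : ¬ Full H v)
    (hall : ∀ u, u ≠ 0 → ¬ Full H u → Xs H u = vperp u) : False := by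
  classical
  have hXv := hall v hv hF
  -- neighbours are not full
  have hnb : ∀ u, sf v u = 0 → u ∉ lineG v → ¬ Full H u := by
    intro u hvu hu hfu
    have hmove : ∀ s, Full H (u + s • v) := fun s => by
      obtain ⟨y₀, hy0, huy⟩ := exists_perp_ne hv hu
      set y := (s / sf u y₀) • y₀ with hy
      have hvy : sf v y = 0 := by rw [hy, sf_smul_right, hy0, mul_zero]
      have hxy' : sf u y = s := by rw [hy, sf_smul_right, div_mul_cancel₀ _ huy]
      obtain ⟨-, d, hd⟩ : y ∈ Xs H v := by rw [hXv]; exact mem_vperp.2 hvy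
      have h := full_of_mem hfu hd
      rwa [El_mulVec hvy, hxy', sf_swap u v, hvu, neg_zero, mul_zero, add_zero, zero_smul,
        add_zero] at h
    obtain ⟨s, hs⟩ : ∃ s : F, s ∉ ({0, 1} : Finset F) := by
      by_contra hc'
      push Not at hc'
      have h1 : (Finset.univ : Finset F) ⊆ {0, 1} := fun s _ => hc' s
      have := (Finset.card_le_card h1).trans Finset.card_le_two
      simp at this
      omega
    simp only [Finset.mem_insert, Finset.mem_singleton, not_or] at hs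
    have hs2 : s ^ 2 + s ≠ 0 := by
      rw [sq, ← mul_add_one]
      refine mul_ne_zero hs.1 fun h => hs.2 ?_
      rw [add_eq_zero_iff_eq_neg, CharTwo.neg_eq] at h
      exact h
    refine hF fun z => ?_
    set c := z / (s ^ 2 + s) with hc
    have hm1 := H.mul_mem (H.mul_mem (hmove s c) (hmove 1 (c * s))) (hfu (c + c * s))
    have huv : sf u v = 0 := by rw [sf_swap, hvu, neg_zero]
    have e : T (u + s • v) c * T (u + (1 : F) • v) (c * s) * T u (c + c * s) = T v z := by
      refine sp_ext fun y => ?_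
      have hz : z = c * (s ^ 2 + s) := by rw [hc, div_mul_cancel₀ _ hs2]
      simp only [Submonoid.coe_mul, ← Matrix.mulVec_mulVec, T_mulVec, sf_add_left, sf_add_right,
        sf_smul_left, sf_smul_right, sf_self, hvu, huv, hz]
      match_scalars
      · ring
      · linear_combination (c + c * s) * sf y u * (CharTwo.two_eq_zero (R := F)) +
          c * s * sf y v * (CharTwo.two_eq_zero (R := F))
      · linear_combination c * s * sf y u * (CharTwo.two_eq_zero (R := F))
    rwa [e] at hm1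
  have hXnb : ∀ u, sf v u = 0 → u ∉ lineG v → Xs H u = vperp u := fun u h1 h2 =>
    hall u (fun h => h2 (mem_lineG.2 ⟨0, by rw [zero_smul, h]⟩)) (hnb u h1 h2)
  have hzero : ∀ x, sf v x = 0 → x ∉ lineG v → El v x 0 ∈ H := by
    intro x hvx hx
    obtain ⟨-, c, hc⟩ : x ∈ Xs H v := by rw [hXv]; exact mem_vperp.2 hvx
    have := El_zero_coeff hq hv (fun h => hx (mem_lineG.2 ⟨0, by rw [zero_smul, h]⟩)) hF hXv
      (hXnb x hvx hx) hvx hx hc
    rwa [this] at hc
  obtain ⟨y, hvy, hy⟩ : ∃ y, sf v y = 0 ∧ y ∉ lineG v := by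
    by_contra hc
    push Not at hc
    have h := AddSubgroup.card_le_of_le (show vperp v ≤ lineG v from fun y hy => hc y (mem_vperp.1 hy))
    rw [card_vperp hv, card_lineG hv] at h
    have : qq ^ 1 < qq ^ (2 * m - 1) := Nat.pow_lt_pow_right Fintype.one_lt_card (by omega)
    rw [pow_one] at this
    omega
  obtain ⟨z, hvz, hyz⟩ := exists_perp_ne hv hy
  have hzy : sf z y ≠ 0 := by rw [sf_swap, neg_ne_zero]; exact hyz
  have hz : z ∉ lineG v := not_lineG_of_sf_ne hvy hzy
  have hyz' : y + z ∉ lineG v := not_lineG_of_sf_ne hvy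
    (by rw [sf_add_left, sf_self, zero_add]; exact hzy)
  have hvyz : sf v (y + z) = 0 := by rw [sf_add_right, hvy, hvz, add_zero]
  have h := H.mul_mem (hzero y hvy hy) (hzero z hvz hz)
  rw [El_mul hvy hvz, zero_add, zero_add] at h
  refine hzy ?_
  exact El_zero_coeff hq hv (fun h0 => hyz' (mem_lineG.2 ⟨0, by rw [zero_smul, h0]⟩)) hF hXv
    (hXnb _ hvyz hyz') hvyz hyz' h

/-- the minimal index of a proper subgroup of `Sp_2m(q)` -/
theorem index_ge {k : ℕ} (hk : m = k + 1) (hk1 : 1 ≤ k) (hq : 3 ≤ qq)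
    (hex : k = 1 → qq ≠ 3) {H : Subgroup Sp} (hH : H ≠ ⊤) :
    Nat.card (ℙ F 𝕍) ≤ H.index := by
  by_contra hc
  push Not at hc
  obtain ⟨v, hF⟩ : ∃ v, ¬ Full H v := by
    by_contra h
    push Not at h
    exact hH (eq_top_of_full h)
  have hv : v ≠ 0 := by
    rintro rfl
    refine hF fun c => ?_
    have : T (0 : 𝕍) c = 1 := sp_ext fun x => by rw [T_mulVec]; simp
    rw [this]
    exact H.one_mem
  have hall : ∀ u, u ≠ 0 → ¬ Full H u → Xs H u = vperp u := by
    intro u hu hFu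
    by_contra hp
    by_cases hl : Xs H u = lineG u
    · exact false_of_line hk hk1 hq hex hc hu hFu hl
    · exact false_of_eShape hk hk1 hq hex hc hu hFu
        (eShape_of_small hk hk1 hq hex hc hu hFu hl hp)
  by_cases h2 : (2 : F) = 0
  · haveI : CharP F 2 := CharTwo.of_one_ne_zero_of_two_eq_zero one_ne_zero h2
    exact false_of_all_perp (by omega) hq hv hF hall
  · exact Xs_ne_vperp h2 (by omega) hv hF (hall v hv hF)

end Cfsg.Agent.Symplectic.MinGen
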