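import Cfsg.Agent.Symplectic.InvolOrthCount

/-! Centralisers of involutions inside the commutator subgroup of an orthogonal group in
characteristic two, and transport to the standard forms. -/

set_option autoImplicit false
set_option maxHeartbeats 1000000
set_option linter.unusedSectionVars false

namespace Cfsg.Agent.Symplectic.InvolOrth

open scoped Matrix
open QuadraticMap Module
open Cfsg.Agent.Orthogonal (O Nondeg IsFrame Aniso TotSing rO reflGroup toO toO_apply congrO
  map_add_polar formPlus formMinus)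
open Cfsg.Agent.Orthogonal.IsFrame (kernel)
open Cfsg.Agent.Symplectic.Invol Cfsg.Agent.Symplectic.OrthTwo

variable {m s : ℕ} {F : Type*} [Field F]

local notation "𝕍" => (Fin m ⊕ Fin m → F)
local notation "sf" => Cfsg.sympForm m F

theorem exp_nonalt {m s : ℕ} (hs : s ≤ m) (h1 : 1 ≤ s) :
    (s - 1).choose 2 + (s - 1) * (2 * m - 2 * (s - 1) - 1) =
      2 * m * (s - 1) - (3 * s ^ 2 - 3 * s) / 2 := by
  obtain ⟨t, rfl⟩ : ∃ t, s = t + 1 := ⟨s - 1, by omega⟩
  obtain ⟨d, rfl⟩ : ∃ d, m = t + 1 + d := ⟨m - (t + 1), by omega⟩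
  rw [three_sq_sub_three, Nat.add_sub_cancel, choose_two_succ,
    show 2 * (t + 1 + d) - 2 * t - 1 = 2 * d + 1 by omega]
  have h := choose_rel t
  have h2 : 2 * (t + 1 + d) * t = 2 * (t * t) + 2 * t + 2 * (d * t) := by ring
  have h3 : t * (2 * d + 1) = 2 * (d * t) + t := by ring
  omega

theorem exp_nonalt_even {m s : ℕ} (hs : s ≤ m) (h1 : 1 ≤ s) :
    s - 1 + ((s - 1).choose 2 + (s - 1) * (2 * m - 2 * (s - 1) - 1)) =
      2 * m * (s - 1) - (3 * s ^ 2 - 5 * s) / 2 - 1 := by
  obtain ⟨t, rfl⟩ : ∃ t, s = t + 1 := ⟨s - 1, by omega⟩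
  obtain ⟨d, rfl⟩ : ∃ d, m = t + 1 + d := ⟨m - (t + 1), by omega⟩
  rw [Nat.add_sub_cancel, show 2 * (t + 1 + d) - 2 * t - 1 = 2 * d + 1 by omega]
  have h := choose_rel t
  have h2 : 2 * (t + 1 + d) * t = 2 * (t * t) + 2 * t + 2 * (d * t) := by ring
  have h3 : t * (2 * d + 1) = 2 * (d * t) + t := by ring
  have h4 : (t + 1) ^ 2 = t * t + 2 * t + 1 := by ring
  rcases Nat.eq_zero_or_pos t with rfl | ht
  · simp
  have h5 := Nat.le_mul_self t
  omega

theorem exp_alt {m s : ℕ} (hs : s ≤ m) :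
    s.choose 2 + s * (2 * m - 2 * s) = 2 * m * s - (3 * s ^ 2 + s) / 2 := by
  obtain ⟨d, rfl⟩ : ∃ d, m = s + d := ⟨m - s, by omega⟩
  rw [show 2 * (s + d) - 2 * s = 2 * d by omega]
  have h := choose_rel s
  have h2 : 2 * (s + d) * s = 2 * (s * s) + 2 * (d * s) := by ring
  have h3 : s * (2 * d) = 2 * (d * s) := by ring
  have h4 : s ^ 2 = s * s := sq s
  omega

section two

variable [Fintype F] [CharP F 2] {Q : QuadraticForm F (Fin m ⊕ Fin m → F)}

theorem two_mul_cent (hQp : HasStdPolar Q) (hgen : reflGroup Q = ⊤) (g : O Q) (hg : g ^ 2 = 1)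
    (hs : ((toSp hQp g : Mat m F) - 1).rank = s)
    (hne : ¬ ((∀ v, sf v ((toSp hQp g : Mat m F) *ᵥ v) = 0) ∧ s = m)) :
    2 * Nat.card (Subgroup.centralizer ({g} : Set (O Q)) ⊓ commutator (O Q) : Subgroup (O Q)) =
      Nat.card (Subgroup.centralizer ({g} : Set (O Q))) := by
  obtain ⟨u, hu, hgu⟩ := exists_fixed hQp g hg hs hne
  exact two_mul_card_inf (nondeg_of_std hQp) hgen two_eq_zero' _
    (Subgroup.mem_centralizer_singleton_iff.mpr (commute_rO g hgu))
    (rO_notMem (nondeg_of_std hQp) hgen two_eq_zero' hu)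

theorem cent_comm_odd (hQp : HasStdPolar Q) (hgen : reflGroup Q = ⊤)
    {e₀ f₀ : Fin m → Fin m ⊕ Fin m → F} (h₀ : IsFrame Q e₀ f₀) (g : O Q) (hg : g ^ 2 = 1)
    (hs : ((toSp hQp g : Mat m F) - 1).rank = s) (hodd : Odd s) :
    Nat.card (Subgroup.centralizer ({g} : Set (O Q)) ⊓ commutator (O Q) : Subgroup (O Q)) =
      Fintype.card F ^ (2 * m * (s - 1) - (3 * s ^ 2 - 3 * s) / 2) *
        spOrder (Fintype.card F) ((s - 1) / 2) * spOrder (Fintype.card F) (m - s) := by
  obtain ⟨a, H, h⟩ := exists_data _ (sq_toSp hQp hg) hs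
  have hna := not_alt_of_odd h.1 hodd
  have h2 := two_mul_cent hQp hgen g hg hs (fun hh => hna ((alt_iff h).mp hh.1))
  rw [card_centralizer' hQp g h, card_fix_nonalt hQp h₀ (compat_of_data hQp g h) hna,
    card_isom_odd (hForm_symm h.2.1) (hForm_nondeg h.1) hna (by rwa [finrank_coord]), finrank_coord,
    exp_nonalt (frame_length_le a) hodd.pos, Orthogonal.oprod] at h2
  refine Nat.eq_of_mul_eq_mul_left two_pos (h2.trans ?_)
  simp only [spOrder]
  ring

theorem cent_comm_nonalt (hQp : HasStdPolar Q) (hgen : reflGroup Q = ⊤)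
    {e₀ f₀ : Fin m → Fin m ⊕ Fin m → F} (h₀ : IsFrame Q e₀ f₀) (g : O Q) (hg : g ^ 2 = 1)
    {a : Frame m F s} {H : Matrix (Fin s) (Fin s) F} (h : Data (toSp hQp g) a H)
    (heven : Even s) (hna : ¬ (hForm H).IsAlt) :
    Nat.card (Subgroup.centralizer ({g} : Set (O Q)) ⊓ commutator (O Q) : Subgroup (O Q)) =
      Fintype.card F ^ (2 * m * (s - 1) - (3 * s ^ 2 - 5 * s) / 2 - 1) *
        spOrder (Fintype.card F) ((s - 2) / 2) * spOrder (Fintype.card F) (m - s) := by
  have hs1 : 1 ≤ s := Nat.pos_of_ne_zero fun h0 => by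
    subst h0
    exact hna fun x => by show hForm H x x = 0; rw [hForm_apply]; simp [dotProduct]
  have h2 := two_mul_cent hQp hgen g hg (rank_eq h) (fun hh => hna ((alt_iff h).mp hh.1))
  rw [card_centralizer' hQp g h, card_fix_nonalt hQp h₀ (compat_of_data hQp g h) hna,
    card_isom_even (hForm_symm h.2.1) (hForm_nondeg h.1) hna (by rwa [finrank_coord]),
    finrank_coord, Orthogonal.oprod] at h2
  refine Nat.eq_of_mul_eq_mul_left two_pos (h2.trans ?_)
  rw [← exp_nonalt_even (frame_length_le a) hs1, pow_add]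
  simp only [spOrder]
  ring

theorem cent_comm_alt (hQp : HasStdPolar Q) (hgen : reflGroup Q = ⊤)
    {e₀ f₀ : Fin m → Fin m ⊕ Fin m → F} (h₀ : IsFrame Q e₀ f₀) (hm : 1 ≤ m) (g : O Q)
    (hg : g ^ 2 = 1) {a : Frame m F s} {H : Matrix (Fin s) (Fin s) F}
    (h : Data (toSp hQp g) a H) (hA : (hForm H).IsAlt) :
    Nat.card (Subgroup.centralizer ({g} : Set (O Q)) ⊓ commutator (O Q) : Subgroup (O Q)) =
      Fintype.card F ^ (2 * m * s - (3 * s ^ 2 + s) / 2) * spOrder (Fintype.card F) (s / 2) *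
        (if s = m then 1 else Fintype.card F ^ ((m - s) * (m - s - 1)) *
          (Fintype.card F ^ (m - s) - 1) * Orthogonal.oprod (Fintype.card F) (m - s - 1)) := by
  have hc := card_centralizer' hQp g h
  rw [card_fix_alt hQp h₀ h.1 (compat_of_data hQp g h) hA,
    card_isom_alt' hA (hForm_nondeg h.1), finrank_coord, exp_alt (frame_length_le a)] at hc
  by_cases hsm : s = m
  · have hle : Subgroup.centralizer ({g} : Set (O Q)) ≤ commutator (O Q) := fun k hk =>
      mem_commutator_of_commute hQp hgen hm g hg ((rank_eq h).trans hsm) ((alt_iff h).mpr hA)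
        (Subgroup.mem_centralizer_singleton_iff.mp hk)
    rw [inf_eq_left.mpr hle, hc, if_pos hsm, if_pos hsm]
    ring
  · have h2 := two_mul_cent hQp hgen g hg (rank_eq h) (fun hh => hsm hh.2)
    rw [hc, if_neg hsm] at h2
    rw [if_neg hsm]
    refine Nat.eq_of_mul_eq_mul_left two_pos (h2.trans ?_)
    ring

/-- the value criterion for the alternating type -/
theorem alt_iff_value (hQp : HasStdPolar Q) (g : O Q) {a : Frame m F s}
    {H : Matrix (Fin s) (Fin s) F} (h : Data (toSp hQp g) a H) :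
    (∀ v, Q (((toSp hQp g : Mat m F) - 1) *ᵥ v) = 0) ↔ (hForm H).IsAlt := by
  have key : ∀ v, Q (((toSp hQp g : Mat m F) - 1) *ᵥ v) = hForm H (cvec a.1 v) (cvec a.1 v) :=
    fun v => by
      rw [Matrix.sub_mulVec, Matrix.one_mulVec, h.2.2, add_sub_cancel_left]
      exact compat_of_data hQp g h _
  exact ⟨fun hh x => by obtain ⟨v, rfl⟩ := cvec_surjective a x; rw [← key]; exact hh v,
    fun hA v => (key v).trans (hA _)⟩

end two

/-- the centraliser in `Omega`, as a subgroup of the orthogonal group -/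
theorem card_omega_commute {ι : Type} [Fintype ι] [DecidableEq ι] (Q : QuadraticForm F (ι → F))
    (x : Cfsg.isometryGroup F (⇑Q)) :
    Nat.card {g : Cfsg.Omega F (⇑Q) //
        (g : Cfsg.isometryGroup F (⇑Q)) * x = x * (g : Cfsg.isometryGroup F (⇑Q))} =
      Nat.card (Subgroup.centralizer ({toO Q x} : Set (O Q)) ⊓ commutator (O Q) : Subgroup (O Q)) := by
  refine Nat.card_eq_of_bijective (fun g => ⟨toO Q g.1.1,
    Subgroup.mem_centralizer_singleton_iff.mpr (by rw [← map_mul, ← map_mul, g.2]),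
    (Orthogonal.mem_omega_iff Q _).1 g.1.2⟩) ⟨?_, ?_⟩
  · exact fun a b h => Subtype.ext (Subtype.ext ((toO Q).injective (congrArg Subtype.val h)))
  · rintro ⟨y, hy, hy'⟩
    refine ⟨⟨⟨(toO Q).symm y, (Orthogonal.mem_omega_iff Q _).2 (by
      rw [MulEquiv.apply_symm_apply]; exact hy')⟩, (toO Q).injective ?_⟩, Subtype.ext ?_⟩
    · rw [map_mul, map_mul, MulEquiv.apply_symm_apply]
      exact Subgroup.mem_centralizer_singleton_iff.mp hy
    · exact (toO Q).apply_symm_apply y

/-! ### Transport -/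

/-- the commutator subgroups of isomorphic groups -/
noncomputable def commEquiv {G H : Type*} [Group G] [Group H] (e : G ≃* H) :
    commutator G ≃* commutator H :=
  (e.subgroupMap _).trans (MulEquiv.subgroupCongr (by
    rw [commutator_def, commutator_def, Subgroup.map_commutator,
      Subgroup.map_top_of_surjective _ e.surjective]))

theorem card_classes_congr {G H : Type*} [Group G] [Group H] (e : G ≃* H) :
    Nat.card {C : ConjClasses G // ∃ g, ConjClasses.mk g = C ∧ orderOf g = 2} =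
      Nat.card {C : ConjClasses H // ∃ g, ConjClasses.mk g = C ∧ orderOf g = 2} := by
  refine Nat.card_eq_of_bijective (fun C => ⟨ConjClasses.map e.toMonoidHom C.1, by
    obtain ⟨g, hg, ho⟩ := C.2
    refine ⟨e g, ?_, by rw [MulEquiv.orderOf_eq]; exact ho⟩
    rw [← hg]; rfl⟩) ⟨?_, ?_⟩
  · rintro ⟨_, a, rfl, _⟩ ⟨_, b, rfl, _⟩ hab
    have hab' : IsConj (e a) (e b) := ConjClasses.mk_eq_mk_iff_isConj.1 (congrArg Subtype.val hab)
    have := e.symm.toMonoidHom.map_isConj hab'
    refine Subtype.ext (ConjClasses.mk_eq_mk_iff_isConj.2 ?_)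
    simpa using this
  · rintro ⟨_, b, rfl, hb⟩
    refine ⟨⟨ConjClasses.mk (e.symm b), e.symm b, rfl, by rw [MulEquiv.orderOf_eq]; exact hb⟩,
      Subtype.ext ?_⟩
    show ConjClasses.mk (e (e.symm b)) = ConjClasses.mk b
    rw [e.apply_symm_apply]

section forms

variable [Fintype F] [CharP F 2]

theorem formPlus_std : HasStdPolar (formPlus F m) := fun u v => by
  rw [Orthogonal.polar_formPlus, Symplectic.sympForm_eq]
  refine Finset.sum_congr rfl fun i _ => ?_
  rw [CharTwo.sub_eq_add]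
  ring

theorem formPlus_gen (h : Fintype.card F ≠ 2 ∨ m ≠ 2) : reflGroup (formPlus F m) = ⊤ := by
  refine Orthogonal.reflGroup_eq_top (Orthogonal.formPlus_nondeg F m) (h.imp ?_ ?_)
  · intro h; rwa [Nat.card_eq_fintype_card]
  · intro h; rw [Orthogonal.finrank_formPlus]; omega

theorem toSp_toO (x : Cfsg.isometryGroup F (Cfsg.quadFormPlus m F)) :
    ((toSp formPlus_std (toO (formPlus F m) x) : Matrix.symplecticGroup (Fin m) F) : Mat m F) =
      ((x : Matrix.GeneralLinearGroup (Fin m ⊕ Fin m) F) : Mat m F) :=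
  Matrix.ext_iff_mulVec.2 fun v => by rw [toSp_mulVec]; rfl

/-- a minus-type space in standard coordinates -/
theorem formMinus_std {k : ℕ} (a b : F)
    (hab : ∀ z₁ z₂ : F, z₁ ^ 2 + a * z₁ * z₂ + b * z₂ ^ 2 = 0 → z₁ = 0 ∧ z₂ = 0) :
    ∃ (Q : QuadraticForm F (Fin (k + 1) ⊕ Fin (k + 1) → F))
      (e₀ f₀ : Fin k → Fin (k + 1) ⊕ Fin (k + 1) → F),
      HasStdPolar Q ∧ IsFrame Q e₀ f₀ ∧ Aniso Q (kernel Q e₀ f₀) ∧ reflGroup Q = ⊤ ∧
        Nonempty (O (formMinus F k a b) ≃* O Q) := by
  classical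
  set Q := formMinus F k a b
  have hQ : Nondeg Q := Orthogonal.formMinus_nondeg k hab
  have hA : Q.polarBilin.IsAlt := fun x => by
    show polar Q x x = 0
    rw [Orthogonal.polar_self', two_eq_zero', zero_mul]
  have hrefl : Q.polarBilin.IsRefl := fun x y h => by
    show polar Q y x = 0
    rw [polar_comm]
    exact h
  have hB : Q.polarBilin.Nondegenerate :=
    (hrefl.nondegenerate_iff_separatingLeft).2 fun x hx => hQ x hx
  obtain ⟨n, e, hn, he⟩ := exists_std_equiv hA hB
  rw [Orthogonal.finrank_formMinus] at hn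
  obtain rfl : n = k + 1 := by omega
  let Q' : QuadraticForm F (Fin (k + 1) ⊕ Fin (k + 1) → F) := Q.comp e.symm.toLinearMap
  have hQ' : ∀ x, Q' (e x) = Q x := fun x => by simp [Q']
  have hpol : ∀ x y, polar Q' (e x) (e y) = polar Q x y := fun x y => by
    simp only [polar]
    rw [← map_add, hQ', hQ', hQ']
  have hstd : HasStdPolar Q' := fun u v => by
    obtain ⟨x, rfl⟩ := e.surjective u
    obtain ⟨y, rfl⟩ := e.surjective v
    rw [hpol, he]
    rfl
  have h := Orthogonal.formMinus_frame F k a b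
  have h' : IsFrame Q' (fun i => e (Orthogonal.stdMinusE F k i))
      (fun i => e (Orthogonal.stdMinusF F k i)) :=
    ⟨fun i => (hQ' _).trans (h.qe i), fun i => (hQ' _).trans (h.qf i),
      fun i j => (hpol _ _).trans (h.ef i j), fun i j => (hpol _ _).trans (h.ee i j),
      fun i j => (hpol _ _).trans (h.ff i j)⟩
  have ha' : Aniso Q' (kernel Q' (fun i => e (Orthogonal.stdMinusE F k i))
      (fun i => e (Orthogonal.stdMinusF F k i))) := by
    intro z hz hz0
    obtain ⟨x, rfl⟩ := e.surjective z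
    rw [hQ'] at hz0
    have hk := Orthogonal.IsFrame.mem_kernel.1 hz
    simp only [hpol] at hk
    rw [Orthogonal.formMinus_aniso F k hab x (Orthogonal.IsFrame.mem_kernel.2 hk) hz0, map_zero]
  refine ⟨Q', _, _, hstd, h', ha', ?_, ⟨congrO e hQ'⟩⟩
  by_cases hk : k = 1
  · subst hk
    refine Orthogonal.reflGroup_eq_top' (nondeg_of_std hstd)
      (Or.inr (Or.inr (Or.inl fun u _ v _ hu hv huv hli => ?_)))
    obtain ⟨f, hf, -⟩ := exists_dual (nondeg_of_std hstd) (κ := Empty) (a := ![u, v])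
      (x := Empty.elim)
      (hli.sum_type linearIndependent_empty_type (by
        rw [Set.range_eq_empty (Empty.elim : Empty → Fin (1 + 1) ⊕ Fin (1 + 1) → F),
          Submodule.span_empty]
        exact disjoint_bot_right))
      (fun i => by fin_cases i <;> assumption)
      (fun i j => by
        fin_cases i <;> fin_cases j
        · show polar Q' u u = 0
          rw [Orthogonal.polar_self', two_eq_zero', zero_mul]
        · exact huv
        · show polar Q' v u = 0
          rw [polar_comm]; exact huv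
        · show polar Q' v v = 0
          rw [Orthogonal.polar_self', two_eq_zero', zero_mul])
      (fun i j => j.elim)
    have := (frame_extend (nondeg_of_std hstd) hf h' ha').1
    omega
  · refine Orthogonal.reflGroup_eq_top (nondeg_of_std hstd) (Or.inr ?_)
    rw [finrank_V]
    omega

end forms

end Cfsg.Agent.Symplectic.InvolOrth
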