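import Cfsg.Agent.Symplectic.MinIndexTwoRank
import Cfsg.Agent.Symplectic.InvolOrthCent

/-! The minimal index of `Sp_2m(2)`. -/

set_option autoImplicit false
set_option maxHeartbeats 1000000
set_option linter.unusedSectionVars false

namespace Cfsg.Agent.Symplectic.MinTwo

open scoped Matrix
open Cfsg.Agent.Symplectic

variable {m : ℕ} {F : Type*} [Field F] [Fintype F]

local notation "𝕍" => (Fin m ⊕ Fin m → F)
local notation "sf" => Cfsg.sympForm m F
local notation "Sp" => Matrix.symplecticGroup (Fin m) F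
local notation "Q₀" => Cfsg.Agent.Orthogonal.formPlus F m

/-- proper subgroups have large index -/
theorem index_ge (hF : Fintype.card F = 2) (hm : 3 ≤ m) (H : Subgroup Sp) (hH : H ≠ ⊤) :
    2 ^ (m - 1) * (2 ^ m - 1) ≤ H.index := by
  classical
  by_contra hn
  push Not at hn
  have htr : ∀ v₀ u₀ : Vz m F, ∃ h ∈ H, (h : Mat m F) *ᵥ v₀.1 = u₀.1 := by
    intro v₀ u₀
    by_contra hc
    push Not at hc
    exact absurd (index_ge_of_intransitive hF (by omega) H v₀ u₀ hc) (by omega)
  by_cases hT : ∀ v : 𝕍, v ≠ 0 → T v (1 : F) ∉ H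
  · exact false_of_no_transvection hF hm H hn hT
  push Not at hT
  obtain ⟨v, hv, hvH⟩ := hT
  refine hH (eq_top_iff.2 ?_)
  rw [← closure_TSet m F, Subgroup.closure_le]
  rintro _ ⟨w, c, rfl⟩
  rcases zero_or_one hF c with rfl | rfl
  · rw [T_zero]; exact H.one_mem
  by_cases hw : w = 0
  · have : T w (1 : F) = 1 := sp_ext fun y => by simp [T_mulVec, hw]
    rw [this]; exact H.one_mem
  obtain ⟨h, hh, he⟩ := htr ⟨v, hv⟩ ⟨w, hw⟩
  have := H.mul_mem (H.mul_mem hh hvH) (H.inv_mem hh)
  rwa [T_conj, show (h : Mat m F) *ᵥ v = w from he] at this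

/-- the character sum of the hyperbolic form -/
theorem sum_sgn_formPlus (hF : Fintype.card F = 2) :
    ∑ v : 𝕍, sgn (Q₀ v) = 2 ^ m := by
  classical
  have hprod : ∀ v : 𝕍, sgn (Q₀ v) = ∏ i : Fin m, sgn (v (.inl i) * v (.inr i)) := by
    intro v
    rw [Orthogonal.formPlus_coe, Cfsg.quadFormPlus]
    induction (Finset.univ : Finset (Fin m)) using Finset.induction_on with
    | empty => simp [sgn_zero]
    | insert i s hi ih => rw [Finset.sum_insert hi, sgn_add hF, ih, Finset.prod_insert hi]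
  let e : (Fin m → F × F) ≃ 𝕍 :=
    { toFun := fun p => Sum.elim (fun i => (p i).1) (fun i => (p i).2)
      invFun := fun v i => (v (.inl i), v (.inr i))
      left_inv := fun p => rfl
      right_inv := fun v => by funext s; rcases s with i | i <;> rfl }
  have h2 : ∑ p : F × F, sgn (p.1 * p.2) = 2 := by
    have huniv : (Finset.univ : Finset F) = {0, 1} := by
      ext a
      simpa using zero_or_one hF a
    rw [Fintype.sum_prod_type, huniv, Finset.sum_pair zero_ne_one]
    simp only [Finset.sum_pair (zero_ne_one (α := F))]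
    simp [sgn]
    norm_num
  calc ∑ v : 𝕍, sgn (Q₀ v) = ∑ p : Fin m → F × F, ∏ i, sgn ((p i).1 * (p i).2) := by
        rw [← Equiv.sum_comp e]
        exact Finset.sum_congr rfl fun p _ => hprod (e p)
    _ = ∏ _i : Fin m, ∑ p : F × F, sgn (p.1 * p.2) :=
      (Fintype.prod_sum fun (_ : Fin m) (p : F × F) => sgn (p.1 * p.2)).symm
    _ = 2 ^ m := by rw [h2, Finset.prod_const, Finset.card_univ, Fintype.card_fin]

theorem card_nonsingular (hF : Fintype.card F = 2) (hm : 1 ≤ m) :
    Nat.card {c : 𝕍 // Q₀ c = 1} = 2 ^ (m - 1) * (2 ^ m - 1) := by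
  classical
  rw [Nat.card_eq_fintype_card, Fintype.card_subtype]
  have h := sum_sgn_formPlus (m := m) hF
  have hs : ∀ v : 𝕍, sgn (Q₀ v) = 1 - 2 * (if Q₀ v = 1 then (1 : ℚ) else 0) := fun v => by
    rcases zero_or_one hF (Q₀ v) with hq | hq <;> simp [hq, sgn]
    norm_num
  rw [Finset.sum_congr rfl (fun v _ => hs v), Finset.sum_sub_distrib, ← Finset.mul_sum,
    Finset.sum_boole, Finset.sum_const, Finset.card_univ, nsmul_one, Fintype.card_fun,
    Fintype.card_sum, Fintype.card_fin, hF] at h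
  have hp : (2 : ℚ) ^ m = 2 * 2 ^ (m - 1) := by rw [← pow_succ', Nat.sub_add_cancel hm]
  apply Nat.cast_injective (R := ℚ)
  rw [Nat.cast_mul, Nat.cast_sub Nat.one_le_two_pow]
  push_cast at h ⊢
  rw [pow_add, hp] at h
  rw [hp]
  linarith

/-- a subgroup of the minimal index -/
theorem exists_index (hF : Fintype.card F = 2) (hm : 1 ≤ m) :
    ∃ H : Subgroup Sp, H.index = 2 ^ (m - 1) * (2 ^ m - 1) := by
  classical
  haveI := charP_two hF
  haveI : Finite Sp := inferInstance
  have hb : 0 < 2 ^ (m - 1) * (2 ^ m - 1) :=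
    Nat.mul_pos (Nat.two_pow_pos _) (by
      have : 2 ^ 1 ≤ 2 ^ m := Nat.pow_le_pow_right two_pos hm
      omega)
  obtain ⟨⟨a, ha⟩⟩ : Nonempty {c : 𝕍 // Q₀ c = 1} :=
    Finite.card_pos_iff.1 (by rw [card_nonsingular hF hm]; exact hb)
  let φ : 𝕍 → 𝕍 → F := fun c x => Q₀ x + sf c x
  have hpol : ∀ x y, Q₀ (x + y) = Q₀ x + Q₀ y + sf x y := fun x y => by
    rw [Orthogonal.map_add_polar, InvolOrth.formPlus_std]
  have hlin : ∀ (c : 𝕍) x y, φ c (x + y) = φ c x + φ c y + sf x y := fun c x y => by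
    simp only [φ, hpol, sf_add_right]; ring
  let H : Subgroup Sp :=
    { carrier := {g | ∀ x, φ a ((g : Mat m F) *ᵥ x) = φ a x}
      one_mem' := fun x => by rw [Submonoid.coe_one, Matrix.one_mulVec]
      mul_mem' := fun {g g'} hg hg' x => by
        rw [Submonoid.coe_mul, ← Matrix.mulVec_mulVec, hg, hg']
      inv_mem' := fun {g} hg x => by
        conv_rhs => rw [← Matrix.one_mulVec x, ← Submonoid.coe_one, ← mul_inv_cancel g,
          Submonoid.coe_mul, ← Matrix.mulVec_mulVec, hg] }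
  -- the translate of `φ a`
  have hex : ∀ g : Sp, ∃ c : {c : 𝕍 // Q₀ c = 1},
      ∀ x, φ a (((g⁻¹ : Sp) : Mat m F) *ᵥ x) = φ c.1 x := by
    intro g
    set h := (g⁻¹ : Sp)
    have hadd : ∀ x y, φ a ((h : Mat m F) *ᵥ (x + y)) - Q₀ (x + y) =
        (φ a ((h : Mat m F) *ᵥ x) - Q₀ x) + (φ a ((h : Mat m F) *ᵥ y) - Q₀ y) := fun x y => by
      rw [Matrix.mulVec_add, hlin, hpol, sf_invariant]; ring
    let ψ : 𝕍 →ₗ[F] F :=
      { toFun := fun x => φ a ((h : Mat m F) *ᵥ x) - Q₀ x
        map_add' := hadd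
        map_smul' := fun r x => by
          rcases zero_or_one hF r with rfl | rfl
          · have h0 : sf a 0 = 0 := by simpa using sf_smul_right (0 : F) a a
            simp [φ, h0]
          · simp }
    obtain ⟨y, hy⟩ := exists_rep (spB_nondeg m F) (spB_alt m F) ⊤ (ψ.comp (⊤ : Submodule F 𝕍).subtype)
    have hy' : ∀ x, φ a ((h : Mat m F) *ᵥ x) = φ y x := fun x => by
      have h1 : spB m F x y = φ a ((h : Mat m F) *ᵥ x) - Q₀ x := hy ⟨x, trivial⟩
      rw [spB_apply, sf_swap, CharTwo.neg_eq] at h1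
      simp only [φ]
      rw [h1]
      simp only [φ]
      ring
    -- the two types are told apart by a character sum
    have hsum : ∀ c : 𝕍, ∑ x, sgn (φ c x) = sgn (Q₀ c) * 2 ^ m := fun c => by
      rw [← sum_sgn_formPlus (m := m) hF, Finset.mul_sum, ← Equiv.sum_comp (Equiv.addRight c)]
      refine Finset.sum_congr rfl fun x _ => ?_
      rw [← sgn_add hF]
      refine congrArg sgn ?_
      simp only [φ, Equiv.coe_addRight, hpol, sf_add_right, sf_self]
      rw [sf_swap c x]
      ring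
    have hQy : Q₀ y = 1 := by
      rcases zero_or_one hF (Q₀ y) with hq | hq
      · exfalso
        have e1 := hsum y
        rw [← Finset.sum_congr rfl (fun x _ => congrArg sgn (hy' x)),
          Fintype.sum_equiv (spEquiv m F h).1.toEquiv (fun x => sgn (φ a ((h : Mat m F) *ᵥ x)))
            (fun x => sgn (φ a x)) (fun x => rfl), hsum a, hq, ha, sgn_zero] at e1
        simp [sgn] at e1
        have : (0 : ℚ) < 2 ^ m := by positivity
        linarith
      · exact hq
    exact ⟨⟨y, hQy⟩, hy'⟩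
  choose cf hcf using hex
  have hφinj : ∀ c c' : 𝕍, (∀ x, φ c x = φ c' x) → c = c' := fun c c' h => by
    by_contra hne
    obtain ⟨x, hx⟩ := sf_exists_one (sub_ne_zero.2 hne)
    have := h x
    simp only [φ, add_right_inj] at this
    rw [sub_eq_add_neg, sf_add_left, ← neg_one_smul F c', sf_smul_left, this] at hx
    simp at hx
  let f : Sp ⧸ H → {c : 𝕍 // Q₀ c = 1} := fun q => cf q.out
  have hf : Function.Bijective f := by
    constructor
    · intro q q' hqq
      rw [← QuotientGroup.out_eq' q, ← QuotientGroup.out_eq' q']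
      refine QuotientGroup.eq.2 fun x => ?_
      have h1 := hcf q.out ((q'.out : Mat m F) *ᵥ x)
      rw [show cf q.out = cf q'.out from hqq, ← hcf q'.out, Matrix.mulVec_mulVec,
        ← Submonoid.coe_mul, Matrix.mulVec_mulVec, ← Submonoid.coe_mul, inv_mul_cancel,
        Submonoid.coe_one, Matrix.one_mulVec] at h1
      exact h1
    · rintro ⟨c, hc⟩
      have hne : ∀ {z : 𝕍}, Q₀ z = 1 → z ≠ 0 := fun hz h0 => by
        rw [h0, QuadraticMap.map_zero] at hz; exact zero_ne_one hz
      obtain ⟨k, hk⟩ := Orthogonal.exists_map_family (Orthogonal.formPlus_nondeg F m)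
        (LinearIndependent.of_subsingleton (ι := Unit) (v := fun _ => a) () (hne ha))
        (LinearIndependent.of_subsingleton (ι := Unit) (v := fun _ => c) () (hne hc))
        (fun _ => hc.trans ha.symm) (fun i j h => absurd (Subsingleton.elim i j) h)
      set g := InvolOrth.toSp InvolOrth.formPlus_std k
      refine ⟨QuotientGroup.mk g, Subtype.ext (hφinj _ _ fun x => ?_)⟩
      show φ (cf (Quotient.out (QuotientGroup.mk g : Sp ⧸ H))).1 x = φ c x
      obtain ⟨h, hh⟩ := QuotientGroup.mk_out_eq_mul H g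
      rw [← hcf, hh, mul_inv_rev, Submonoid.coe_mul, ← Matrix.mulVec_mulVec, H.inv_mem h.2]
      obtain ⟨z, rfl⟩ : ∃ z, (g : Mat m F) *ᵥ z = x := ⟨((g⁻¹ : Sp) : Mat m F) *ᵥ x, by
        rw [Matrix.mulVec_mulVec, ← Submonoid.coe_mul, mul_inv_cancel, Submonoid.coe_one,
          Matrix.one_mulVec]⟩
      rw [Matrix.mulVec_mulVec, ← Submonoid.coe_mul, inv_mul_cancel, Submonoid.coe_one,
        Matrix.one_mulVec]
      simp only [φ]
      have hca : c = (g : Mat m F) *ᵥ a := by
        rw [InvolOrth.toSp_mulVec]; exact (hk ()).symm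
      rw [hca, sf_invariant, InvolOrth.toSp_mulVec, Orthogonal.O.map_app]
  refine ⟨H, ?_⟩
  rw [Subgroup.index_eq_card, Nat.card_eq_of_bijective f hf, card_nonsingular hF hm]

end Cfsg.Agent.Symplectic.MinTwo
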