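import Cfsg.Agent.Symplectic.InvolTwo

/-! Counting involution classes and centralisers of the symplectic groups in characteristic two. -/

set_option autoImplicit false
set_option maxHeartbeats 1000000
set_option linter.unusedSectionVars false

namespace Cfsg.Agent.Symplectic.Invol

open scoped Matrix
open LinearMap (BilinForm)

variable {m s : ℕ} {F : Type*} [Field F]

theorem three_sq_sub (s : ℕ) : (3 * s ^ 2 - s) / 2 = s.choose 2 + s * s := by
  have h : 2 * s.choose 2 + s = s * s := by
    induction s with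
    | zero => rfl
    | succ n ih => rw [choose_two_succ]; nlinarith
  have h2 : s ^ 2 = s * s := sq s
  omega

theorem three_sq_sub_three (s : ℕ) : (3 * s ^ 2 - 3 * s) / 2 = 3 * s.choose 2 := by
  have h : 2 * s.choose 2 + s = s * s := by
    induction s with
    | zero => rfl
    | succ n ih => rw [choose_two_succ]; nlinarith
  have h2 : s ^ 2 = s * s := sq s
  omega

theorem choose_rel (s : ℕ) : 2 * s.choose 2 + s = s * s := by
  induction s with
  | zero => rfl
  | succ n ih => rw [choose_two_succ]; nlinarith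

theorem exponent_eq {m s : ℕ} (hs : s ≤ m) :
    2 * m * s - (3 * s ^ 2 - s) / 2 + (m - s) ^ 2 = m ^ 2 - s.choose 2 := by
  obtain ⟨d, rfl⟩ : ∃ d, m = s + d := ⟨m - s, by omega⟩
  rw [three_sq_sub, Nat.add_sub_cancel_left]
  have h := choose_rel s
  have h1 : 2 * (s + d) * s = 2 * (s * s) + 2 * (d * s) := by ring
  have h2 : (s + d) ^ 2 = s * s + 2 * (d * s) + d * d := by ring
  have h3 : d ^ 2 = d * d := sq d
  omega

theorem exponent_eq_even {m s : ℕ} (hs : s ≤ m) (h2s : 1 ≤ s) :
    2 * m * s - (3 * s ^ 2 - 3 * s) / 2 - 1 + (m - s) ^ 2 = m ^ 2 - s.choose 2 + (s - 1) := by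
  obtain ⟨d, rfl⟩ : ∃ d, m = s + d := ⟨m - s, by omega⟩
  rw [three_sq_sub_three, Nat.add_sub_cancel_left]
  have h := choose_rel s
  have h1 : 2 * (s + d) * s = 2 * (s * s) + 2 * (d * s) := by ring
  have h2 : (s + d) ^ 2 = s * s + 2 * (d * s) + d * d := by ring
  have h3 : d ^ 2 = d * d := sq d
  omega

theorem spOrder_fin (q j : ℕ) :
    spOrder q j = q ^ (j ^ 2) * ∏ i : Fin j, (q ^ (2 * ((i : ℕ) + 1)) - 1) := by
  rw [spOrder, Fin.prod_univ_eq_prod_range (fun i => q ^ (2 * (i + 1)) - 1) j]

section two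

variable [Fintype F] [CharP F 2]

theorem finrank_coord : Module.finrank F (Fin s → F) = s := Module.finrank_fin_fun F

theorem not_alt_of_odd {H : Matrix (Fin s) (Fin s) F} (hH : IsUnit H) (hodd : Odd s) :
    ¬ (hForm H).IsAlt := fun hA => by
  have := even_finrank_of_alt hA (hForm_nondeg hH)
  rw [finrank_coord] at this
  exact Nat.not_even_iff_odd.mpr hodd this

theorem centralizer_odd {t : Matrix.symplecticGroup (Fin m) F} (ht : t ^ 2 = 1)
    (hs : ((t : Mat m F) - 1).rank = s) (hodd : Odd s) :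
    Nat.card (Subgroup.centralizer ({t} : Set (Matrix.symplecticGroup (Fin m) F))) =
      Fintype.card F ^ (2 * m * s - (3 * s ^ 2 - s) / 2) * spOrder (Fintype.card F) ((s - 1) / 2) *
        spOrder (Fintype.card F) (m - s) := by
  obtain ⟨a, H, h⟩ := exists_data t ht hs
  rw [card_centralizer h, card_isom_odd (hForm_symm h.2.1) (hForm_nondeg h.1)
    (not_alt_of_odd h.1 hodd) (by rwa [finrank_coord]), finrank_coord,
    ← exponent_eq (frame_length_le a), pow_add, spOrder, spOrder]
  ring

theorem centralizer_alt {t : Matrix.symplecticGroup (Fin m) F} (ht : t ^ 2 = 1)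
    (hs : ((t : Mat m F) - 1).rank = s)
    (halt : ∀ v, Cfsg.sympForm m F v ((t : Mat m F) *ᵥ v) = 0) :
    Nat.card (Subgroup.centralizer ({t} : Set (Matrix.symplecticGroup (Fin m) F))) =
      Fintype.card F ^ (2 * m * s - (3 * s ^ 2 - s) / 2) * spOrder (Fintype.card F) (s / 2) *
        spOrder (Fintype.card F) (m - s) := by
  obtain ⟨a, H, h⟩ := exists_data t ht hs
  rw [card_centralizer h, card_isom_alt' ((alt_iff h).mp halt) (hForm_nondeg h.1), finrank_coord,
    ← exponent_eq (frame_length_le a), pow_add, spOrder, spOrder]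
  ring

theorem centralizer_nonalt {t : Matrix.symplecticGroup (Fin m) F} (ht : t ^ 2 = 1)
    (hs : ((t : Mat m F) - 1).rank = s) (heven : Even s)
    (hna : ∃ v, Cfsg.sympForm m F v ((t : Mat m F) *ᵥ v) ≠ 0) :
    Nat.card (Subgroup.centralizer ({t} : Set (Matrix.symplecticGroup (Fin m) F))) =
      Fintype.card F ^ (2 * m * s - (3 * s ^ 2 - 3 * s) / 2 - 1) *
        spOrder (Fintype.card F) ((s - 2) / 2) * spOrder (Fintype.card F) (m - s) := by
  obtain ⟨a, H, h⟩ := exists_data t ht hs
  obtain ⟨v, hv⟩ := hna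
  have hA : ¬ (hForm H).IsAlt := fun hA => hv ((alt_iff h).mpr hA v)
  have hs1 : 1 ≤ s := Nat.pos_of_ne_zero fun h0 => by
    subst h0
    exact hA fun x => by show hForm H x x = 0; rw [hForm_apply]; simp [dotProduct]
  rw [card_centralizer h, card_isom_even (hForm_symm h.2.1) (hForm_nondeg h.1) hA
    (by rwa [finrank_coord]), finrank_coord]
  simp only [spOrder]
  have e : Fintype.card F ^ (s - 1) * Fintype.card F ^ (m ^ 2 - s.choose 2) =
      Fintype.card F ^ (2 * m * s - (3 * s ^ 2 - 3 * s) / 2 - 1) * Fintype.card F ^ ((m - s) ^ 2) := by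
    rw [← pow_add, ← pow_add, exponent_eq_even (frame_length_le a) hs1, add_comm]
  generalize ∏ i ∈ Finset.range ((s - 2) / 2), (Fintype.card F ^ (2 * (i + 1)) - 1) = P
  generalize ∏ i ∈ Finset.range (m - s), (Fintype.card F ^ (2 * (i + 1)) - 1) = P'
  calc _ = (Fintype.card F ^ (s - 1) * Fintype.card F ^ (m ^ 2 - s.choose 2)) *
        (Fintype.card F ^ ((s - 2) / 2) ^ 2 * P * P') := by ring
    _ = _ := by rw [e]; ring

/-- Conjugacy of involutions. -/
theorem isConj_iff_invariants {t t' : Matrix.symplecticGroup (Fin m) F} (ht : t ^ 2 = 1)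
    (ht' : t' ^ 2 = 1) :
    IsConj t t' ↔ ((t : Mat m F) - 1).rank = ((t' : Mat m F) - 1).rank ∧
      ((∀ v, Cfsg.sympForm m F v ((t : Mat m F) *ᵥ v) = 0) ↔
        ∀ v, Cfsg.sympForm m F v ((t' : Mat m F) *ᵥ v) = 0) := by
  constructor
  · intro hc
    obtain ⟨g, rfl⟩ := isConj_iff.mp hc
    obtain ⟨a, H, h⟩ := exists_data t ht rfl
    have h' := data_conj h g
    exact ⟨(rank_eq h).trans (rank_eq h').symm, (alt_iff h).trans (alt_iff h').symm⟩
  · rintro ⟨hr, hiff⟩
    obtain ⟨a, H, h⟩ := exists_data t ht rfl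
    obtain ⟨a', H', h'⟩ := exists_data t' ht' hr.symm
    exact isConj_of_same h h' ((alt_iff h).symm.trans (hiff.trans (alt_iff h')))

theorem alt_of_diag {H : Matrix (Fin s) (Fin s) F} (hsym : H.IsSymm) (hd : ∀ i, H i i = 0) :
    (hForm H).IsAlt := by
  intro x
  show hForm H x x = 0
  classical
  have key : ∀ S : Finset (Fin s), hForm H (∑ i ∈ S, x i • Pi.single i (1 : F))
      (∑ i ∈ S, x i • Pi.single i (1 : F)) = 0 := by
    intro S
    induction S using Finset.induction_on with
    | empty => simp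
    | insert i S hi ih =>
      have hii : hForm H (Pi.single i (1 : F)) (Pi.single i 1) = 0 := by
        simp [hForm, Matrix.toBilin'_single, hd]
      rw [Finset.sum_insert hi]
      simp only [map_add, LinearMap.add_apply, map_smul, LinearMap.smul_apply, smul_eq_mul, ih, hii,
        hForm_symm hsym (∑ j ∈ S, x j • Pi.single j (1 : F)) (Pi.single i (1 : F))]
      simp only [mul_zero, zero_add, add_zero, CharTwo.add_self_eq_zero]
  rw [pi_eq_sum_univ' x]
  exact key Finset.univ

/-- representatives of all types -/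
theorem exists_type (hs : 1 ≤ s) (hsm : s ≤ m) (alt : Bool) (hev : alt = true → Even s) :
    ∃ t : Matrix.symplecticGroup (Fin m) F, orderOf t = 2 ∧ ((t : Mat m F) - 1).rank = s ∧
      ((∀ v, Cfsg.sympForm m F v ((t : Mat m F) *ᵥ v) = 0) ↔ alt = true) := by
  let a : Frame m F s := ⟨fun i => ev (Fin.castLE hsm i),
    ev_li _ (Fin.castLE_injective hsm), fun i j => sf_ev _ _⟩
  obtain ⟨H, hH, hsym, hA⟩ : ∃ H : Matrix (Fin s) (Fin s) F, IsUnit H ∧ H.IsSymm ∧
      ((hForm H).IsAlt ↔ alt = true) := by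
    cases alt
    · refine ⟨1, isUnit_one, Matrix.isSymm_one, iff_of_false (fun hA => ?_) Bool.false_ne_true⟩
      have := hA (Pi.single ⟨0, hs⟩ 1)
      simp [hForm] at this
    · let R : Matrix (Fin s) (Fin s) F := Matrix.of fun i j => if j = Fin.rev i then 1 else 0
      have hsym : R.IsSymm := Matrix.IsSymm.ext fun i j => by
        simp only [R, Matrix.of_apply]
        congr 1
        exact propext ⟨fun h => by rw [h, Fin.rev_rev], fun h => by rw [h, Fin.rev_rev]⟩
      have hRR : R * R = 1 := by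
        ext i j
        rw [Matrix.mul_apply, Finset.sum_eq_single (Fin.rev i) (fun b _ hb => by simp [R, hb])
          (fun h => absurd (Finset.mem_univ _) h)]
        simp [R, Matrix.one_apply, eq_comm]
      refine ⟨R, ⟨⟨R, R, hRR, hRR⟩, rfl⟩, hsym,
        iff_of_true (alt_of_diag hsym fun i => ?_) rfl⟩
      have hne : i ≠ Fin.rev i := fun h => by
        have h' := congrArg Fin.val h
        rw [Fin.val_rev] at h'
        obtain ⟨r, hr⟩ := hev rfl
        omega
      simp [R, hne]
  obtain ⟨t, ht, h⟩ := exists_of_data a hH hsym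
  haveI : Fact (Nat.Prime 2) := ⟨Nat.prime_two⟩
  refine ⟨t, orderOf_eq_prime ht fun h1 => ?_, rank_eq h, (alt_iff h).trans hA⟩
  have := rank_eq h
  rw [h1, Submonoid.coe_one, sub_self, Matrix.rank_zero] at this
  omega

/-- The number of classes of involutions. -/
theorem card_classes :
    Nat.card {C : ConjClasses (Matrix.symplecticGroup (Fin m) F) //
      ∃ g, ConjClasses.mk g = C ∧ orderOf g = 2} = m + m / 2 := by
  classical
  let sz : Fin m ⊕ Fin (m / 2) → ℕ := Sum.elim (fun i => i.1 + 1) (fun j => 2 * (j.1 + 1))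
  let al : Fin m ⊕ Fin (m / 2) → Bool := Sum.elim (fun _ => false) (fun _ => true)
  have hex : ∀ x, ∃ t : Matrix.symplecticGroup (Fin m) F, orderOf t = 2 ∧
      ((t : Mat m F) - 1).rank = sz x ∧
      ((∀ v, Cfsg.sympForm m F v ((t : Mat m F) *ᵥ v) = 0) ↔ al x = true) := by
    intro x
    refine exists_type ?_ ?_ _ ?_ <;> rcases x with i | j <;> simp [sz, al] <;> omega
  choose rep hord hrk halt using hex
  have hsq : ∀ g : Matrix.symplecticGroup (Fin m) F, orderOf g = 2 → g ^ 2 = 1 := fun g hg => by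
    rw [← hg]; exact pow_orderOf_eq_one g
  let φ : Fin m ⊕ Fin (m / 2) → {C : ConjClasses (Matrix.symplecticGroup (Fin m) F) //
      ∃ g, ConjClasses.mk g = C ∧ orderOf g = 2} :=
    fun x => ⟨ConjClasses.mk (rep x), rep x, rfl, hord x⟩
  have hφ : Function.Bijective φ := by
    refine ⟨fun x y hxy => ?_, ?_⟩
    · obtain ⟨h1, h2⟩ := (isConj_iff_invariants (hsq _ (hord x)) (hsq _ (hord y))).mp
        (ConjClasses.mk_eq_mk_iff_isConj.mp (congrArg Subtype.val hxy))
      rw [hrk, hrk] at h1
      rw [halt, halt] at h2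
      rcases x with i | i <;> rcases y with j | j <;> simp [sz, al] at h1 h2
      · exact congrArg Sum.inl (Fin.ext (by omega))
      · exact congrArg Sum.inr (Fin.ext (by omega))
    · rintro ⟨C, g, rfl, hg⟩
      obtain ⟨r, hr⟩ : ∃ r, r = ((g : Mat m F) - 1).rank := ⟨_, rfl⟩
      obtain ⟨a, H, h⟩ := exists_data g (hsq g hg) hr.symm
      have hrm : r ≤ m := frame_length_le a
      have hr1 : 1 ≤ r := Nat.pos_of_ne_zero fun h0 => by
        have hg1 : g = 1 := sp_ext fun v => by
          rw [h.2.2, Submonoid.coe_one, Matrix.one_mulVec, comb_apply]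
          have : IsEmpty (Fin r) := by rw [h0]; infer_instance
          simp
        rw [hg1, orderOf_one] at hg
        omega
      by_cases hA : (hForm H).IsAlt
      · have hev := even_finrank_of_alt hA (hForm_nondeg h.1)
        rw [finrank_coord] at hev
        obtain ⟨k, hk⟩ := hev
        refine ⟨Sum.inr ⟨k - 1, by omega⟩, Subtype.ext (ConjClasses.mk_eq_mk_iff_isConj.mpr ?_)⟩
        refine (isConj_iff_invariants (hsq _ (hord _)) (hsq g hg)).mpr ⟨?_, ?_⟩
        · rw [hrk, ← hr]; simp [sz]; omega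
        · rw [halt, alt_iff h]; simp [al, hA]
      · refine ⟨Sum.inl ⟨r - 1, by omega⟩, Subtype.ext (ConjClasses.mk_eq_mk_iff_isConj.mpr ?_)⟩
        refine (isConj_iff_invariants (hsq _ (hord _)) (hsq g hg)).mpr ⟨?_, ?_⟩
        · rw [hrk, ← hr]; simp [sz]; omega
        · rw [halt, alt_iff h]; simp [al, hA]
  rw [← Nat.card_congr (Equiv.ofBijective φ hφ)]
  simp

end two

end Cfsg.Agent.Symplectic.Invol
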