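import Mathlib

/-! The smallest congruence orbit on non-zero symmetric matrices (odd characteristic). -/

set_option autoImplicit false

namespace Cfsg.Agent.Symplectic

open scoped Matrix

variable {n : ℕ} {F : Type*} [Field F]

/-- congruence -/
def cong (B : Matrix (Fin n) (Fin n) F) (S : Matrix (Fin n) (Fin n) F) : Matrix (Fin n) (Fin n) F :=
  Bᵀ * S * B

theorem cong_cong (B C S : Matrix (Fin n) (Fin n) F) : cong C (cong B S) = cong (B * C) S := by
  simp only [cong, Matrix.transpose_mul, Matrix.mul_assoc]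

theorem exists_diagonal_cong [Fintype F] (h2 : (2 : F) ≠ 0) (S : Matrix (Fin n) (Fin n) F)
    (hS : S.IsSymm) : ∃ (B : (Matrix (Fin n) (Fin n) F)ˣ) (c : Fin n → F),
      cong (B : Matrix (Fin n) (Fin n) F) S = Matrix.diagonal c := by
  classical
  haveI : Invertible (2 : F) := invertibleOfNonzero h2
  let Bf : LinearMap.BilinForm F (Fin n → F) := Matrix.toBilin' S
  have hsymm : Bf.IsSymm := ⟨fun x y => by
    simp only [Bf, Matrix.toBilin'_apply']
    rw [Matrix.dotProduct_mulVec, dotProduct_comm, ← Matrix.mulVec_transpose, hS.eq]⟩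
  obtain ⟨v, hv⟩ := LinearMap.BilinForm.exists_orthogonal_basis (LinearMap.BilinForm.isSymm_iff.mp hsymm)
  let e : Fin n ≃ Fin (Module.finrank F (Fin n → F)) := finCongr (by simp)
  let w := v.reindex e.symm
  have hunit : IsUnit ((Pi.basisFun F (Fin n)).toMatrix w) :=
    @isUnit_of_invertible _ _ _ ((Pi.basisFun F (Fin n)).invertibleToMatrix w)
  refine ⟨hunit.unit, fun i => Bf (w i) (w i), ?_⟩
  ext i j
  have hcol : ∀ i k, (Pi.basisFun F (Fin n)).toMatrix w k i = w i k := fun i k => rfl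
  have hval : cong ((Pi.basisFun F (Fin n)).toMatrix w) S i j = Bf (w i) (w j) := by
    simp only [cong, Bf, Matrix.toBilin'_apply', Matrix.mul_apply, Matrix.transpose_apply, hcol,
      dotProduct, Matrix.mulVec]
    simp only [Finset.mul_sum, Finset.sum_mul, mul_assoc]
    rw [Finset.sum_comm]
  rw [IsUnit.unit_spec, hval, Matrix.diagonal_apply]
  split_ifs with h
  · subst h; rfl
  · simp only [w, Module.Basis.reindex_apply]
    exact hv (fun h' => h (by simpa using h'))

theorem gl_exists_mulVec {φ₀ φ : Fin n → F} (h₀ : φ₀ ≠ 0) (h : φ ≠ 0) :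
    ∃ B : (Matrix (Fin n) (Fin n) F)ˣ, (B : Matrix (Fin n) (Fin n) F)ᵀ *ᵥ φ₀ = φ := by
  classical
  obtain ⟨g, hg⟩ := Submodule.exists_linearEquiv_restrict_eq
    ((LinearEquiv.toSpanNonzeroSingleton F _ φ₀ h₀).symm.trans
      (LinearEquiv.toSpanNonzeroSingleton F _ φ h))
  have hgv : g φ₀ = φ := by
    have := (hg ⟨φ₀, Submodule.mem_span_singleton_self φ₀⟩).symm
    simp at this
    have h1 : (⟨φ₀, Submodule.mem_span_singleton_self φ₀⟩ : Submodule.span F {φ₀}) =
        LinearEquiv.toSpanNonzeroSingleton F _ φ₀ h₀ 1 := Subtype.ext (by simp)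
    rw [h1, LinearEquiv.symm_apply_apply] at this
    simpa using this
  refine ⟨⟨(LinearMap.toMatrix' g.toLinearMap)ᵀ, (LinearMap.toMatrix' g.symm.toLinearMap)ᵀ, ?_, ?_⟩, ?_⟩
  · rw [← Matrix.transpose_mul, ← LinearMap.toMatrix'_comp]; simp
  · rw [← Matrix.transpose_mul, ← LinearMap.toMatrix'_comp]; simp
  · simp [hgv]

/-- The orbit of a non-zero symmetric matrix under congruence has at least `(q^n-1)/2` elements. -/
theorem two_mul_card_orbit_ge [Fintype F] (h2 : (2 : F) ≠ 0) (S : Matrix (Fin n) (Fin n) F)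
    (hS : S.IsSymm) (hS0 : S ≠ 0) :
    Fintype.card F ^ n - 1 ≤
      2 * (Set.range fun B : (Matrix (Fin n) (Fin n) F)ˣ => cong (B : Matrix (Fin n) (Fin n) F) S).ncard := by
  classical
  obtain ⟨B₀, c, hD⟩ := exists_diagonal_cong h2 S hS
  set O := Set.range fun B : (Matrix (Fin n) (Fin n) F)ˣ => cong (B : Matrix (Fin n) (Fin n) F) S with hO
  set D := Matrix.diagonal c with hDdef
  have hmemD : ∀ B : (Matrix (Fin n) (Fin n) F)ˣ, cong (B : Matrix (Fin n) (Fin n) F) D ∈ O := fun B =>
    ⟨B₀ * B, by simp only [← hD, cong_cong, Units.val_mul]⟩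
  obtain ⟨j₀, hj₀⟩ : ∃ j, c j ≠ 0 := by
    by_contra h
    push_neg at h
    apply hS0
    have : cong (B₀ : Matrix (Fin n) (Fin n) F) S = 0 := by rw [hD, hDdef, show c = 0 from funext h]; exact Matrix.diagonal_zero; 
    have e : cong ((B₀⁻¹ : (Matrix (Fin n) (Fin n) F)ˣ) : Matrix (Fin n) (Fin n) F) (cong (B₀ : Matrix (Fin n) (Fin n) F) S) = S := by
      rw [cong_cong, Units.mul_inv]; simp [cong]
    rw [this] at e
    simpa [cong] using e.symm
  set a := c j₀
  set J := Finset.univ.filter (fun j => c j ≠ 0 ∧ j ≠ j₀) with hJ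
  let R : (Fin n → F) → Matrix (Fin n) (Fin n) F → Prop := fun φ S' =>
    ∃ v, S' *ᵥ v = φ ∧ v ⬝ᵥ φ = a
  have hR : ∀ (B : (Matrix (Fin n) (Fin n) F)ˣ) φ S', R φ S' →
      R ((B : Matrix (Fin n) (Fin n) F)ᵀ *ᵥ φ) (cong (B : Matrix (Fin n) (Fin n) F) S') := by
    rintro B φ S' ⟨v, hv, hva⟩
    have hBv : (B : Matrix (Fin n) (Fin n) F) *ᵥ (((B⁻¹ : (Matrix (Fin n) (Fin n) F)ˣ) : Matrix (Fin n) (Fin n) F) *ᵥ v) = v := by
      rw [Matrix.mulVec_mulVec, Units.mul_inv, Matrix.one_mulVec]
    refine ⟨((B⁻¹ : (Matrix (Fin n) (Fin n) F)ˣ) : Matrix (Fin n) (Fin n) F) *ᵥ v, ?_, ?_⟩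
    · rw [cong, ← Matrix.mulVec_mulVec, ← Matrix.mulVec_mulVec, hBv, hv]
    · rw [Matrix.dotProduct_mulVec, Matrix.vecMul_transpose, hBv, hva]
  -- upper bound on the relation at the diagonal matrix
  have hM : {φ : Fin n → F | R φ D}.ncard ≤ 2 * Fintype.card F ^ J.card := by
    have hchar : ∀ φ, R φ D → (∀ j, c j = 0 → φ j = 0) ∧
        φ j₀ ^ 2 = a * (a - ∑ j ∈ J, φ j ^ 2 / c j) := by
      rintro φ ⟨v, hv, hva⟩
      have hφ : ∀ j, φ j = c j * v j := fun j => by rw [← hv, hDdef, Matrix.mulVec_diagonal]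
      refine ⟨fun j hj => by rw [hφ, hj, zero_mul], ?_⟩
      have hsum : a = v j₀ * φ j₀ + ∑ j ∈ J, φ j ^ 2 / c j := by
        rw [← hva, dotProduct, ← Finset.add_sum_erase _ _ (Finset.mem_univ j₀)]
        congr 1
        rw [hJ, ← Finset.sum_subset (s₁ := Finset.univ.filter (fun j => c j ≠ 0 ∧ j ≠ j₀))
          (s₂ := Finset.univ.erase j₀) (fun j hj => by simp_all) (fun j hj hj' => by
            have : c j = 0 := by simp_all
            simp [hφ, this])]
        refine Finset.sum_congr rfl fun j hj => ?_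
        have : c j ≠ 0 := (Finset.mem_filter.mp hj).2.1
        rw [hφ]; field_simp
      have : a - ∑ j ∈ J, φ j ^ 2 / c j = v j₀ * φ j₀ := by linear_combination hsum
      rw [this, hφ]
      ring
    let root : (J → F) → F := fun w =>
      if h : ∃ r, r ^ 2 = a * (a - ∑ j : J, w j ^ 2 / c j) then Classical.choose h else 0
    have hinj : Function.Injective (fun φ : {φ : Fin n → F | R φ D} =>
        ((fun j : J => φ.1 j), decide (φ.1 j₀ = root (fun j : J => φ.1 j)))) := by
      rintro ⟨φ, hφ⟩ ⟨ψ, hψ⟩ h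
      simp only [Prod.mk.injEq, decide_eq_decide] at h
      obtain ⟨h1, h2'⟩ := h
      obtain ⟨z1, e1⟩ := hchar φ hφ
      obtain ⟨z2, e2⟩ := hchar ψ hψ
      rw [← Finset.sum_coe_sort J] at e1 e2
      have hex : ∃ r, r ^ 2 = a * (a - ∑ j : J, φ j ^ 2 / c j) := ⟨_, e1⟩
      have hroot : root (fun j : J => φ j) ^ 2 = a * (a - ∑ j : J, φ j ^ 2 / c j) := by
        simp only [root, dif_pos hex]; exact Classical.choose_spec hex
      have h1' : ∀ j : J, φ j = ψ j := fun j => congrFun h1 j
      have e2' : ψ j₀ ^ 2 = φ j₀ ^ 2 := by rw [e1, e2]; simp only [h1']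
      refine Subtype.ext (funext fun j => ?_)
      show φ j = ψ j
      by_cases hj : j = j₀
      · subst hj
        rw [← h1] at h2'
        by_cases hc : φ j = root (fun j : J => φ j)
        · rw [hc]; exact (h2'.mp hc).symm
        · have hc2 : ψ j ≠ root (fun j : J => φ j) := fun h => hc (h2'.mpr h)
          have k1 := (sq_eq_sq_iff_eq_or_eq_neg.mp (e1.trans hroot.symm)).resolve_left hc
          have k2 := (sq_eq_sq_iff_eq_or_eq_neg.mp
            ((e2'.trans e1).trans hroot.symm)).resolve_left hc2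
          rw [k1, k2]
      · by_cases hcj : c j = 0
        · rw [z1 j hcj, z2 j hcj]
        · exact h1' ⟨j, by simp [hJ, hcj, hj]⟩
    have := Nat.card_le_card_of_injective _ hinj
    rw [Nat.card_coe_set_eq] at this
    refine this.trans ?_
    rw [Nat.card_prod, Nat.card_fun, Nat.card_eq_fintype_card, Nat.card_eq_fintype_card,
      Nat.card_eq_fintype_card, Fintype.card_coe, Fintype.card_bool, mul_comm]
  -- double counting
  let s : Finset (Fin n → F) := Finset.univ.erase 0
  let t : Finset (Matrix (Fin n) (Fin n) F) := O.toFinset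
  have hlow : ∀ φ ∈ s, Fintype.card F ^ J.card ≤ (Finset.bipartiteAbove R t φ).card := by
    intro φ hφ
    have hφ0 : φ ≠ 0 := (Finset.mem_erase.mp hφ).1
    have hφ₀ne : (Pi.single j₀ a : Fin n → F) ≠ 0 := fun h => hj₀ (by simpa using congrFun h j₀)
    obtain ⟨B, hB⟩ := gl_exists_mulVec hφ₀ne hφ0
    let ext' : (J → F) → (Fin n → F) := fun w j => if h : j ∈ J then w ⟨j, h⟩ else 0
    have hext0 : ∀ w, ext' w j₀ = 0 := fun w => dif_neg (by simp [hJ])
    let Bt : (J → F) → (Matrix (Fin n) (Fin n) F)ˣ := fun w =>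
      ⟨1 + Matrix.vecMulVec (ext' w) (Pi.single j₀ 1), 1 - Matrix.vecMulVec (ext' w) (Pi.single j₀ 1),
        by
          rw [mul_sub, mul_one, add_mul, one_mul, Matrix.vecMulVec_mul_vecMulVec, single_dotProduct,
            hext0]
          simp,
        by
          rw [mul_add, mul_one, sub_mul, one_mul, Matrix.vecMulVec_mul_vecMulVec, single_dotProduct,
            hext0]
          simp⟩
    let f : (J → F) → Matrix (Fin n) (Fin n) F := fun w =>
      cong (B : Matrix (Fin n) (Fin n) F) (cong (Bt w : Matrix (Fin n) (Fin n) F) D)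
    have hf1 : ∀ w, f w ∈ Finset.bipartiteAbove R t φ := by
      intro w
      rw [Finset.mem_bipartiteAbove, Set.mem_toFinset]
      refine ⟨by
        show cong _ (cong _ D) ∈ O
        rw [cong_cong, ← Units.val_mul]; exact hmemD _, ?_⟩
      rw [← hB]
      apply hR
      have h := hR (Bt w) (Pi.single j₀ a) D ⟨Pi.single j₀ 1, by
        funext j; simp [hDdef, Matrix.mulVec_diagonal, Pi.single_apply, a]
        split_ifs with h <;> simp [h], by simp⟩
      have hfix : (Bt w : Matrix (Fin n) (Fin n) F)ᵀ *ᵥ (Pi.single j₀ a) = Pi.single j₀ a := by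
        have h1 : (Bt w : Matrix (Fin n) (Fin n) F)ᵀ =
            1 + Matrix.vecMulVec (Pi.single j₀ 1) (ext' w) := by
          simp [Bt, Matrix.transpose_vecMulVec]
        rw [h1, Matrix.add_mulVec, Matrix.one_mulVec, Matrix.vecMulVec_mulVec, dotProduct_single,
          hext0]
        simp
      rwa [hfix] at h
    have hf2 : Function.Injective f := by
      intro w w' h
      have e : cong (Bt w : Matrix (Fin n) (Fin n) F) D = cong (Bt w' : Matrix (Fin n) (Fin n) F) D := by
        have := congrArg (cong ((B⁻¹ : (Matrix (Fin n) (Fin n) F)ˣ) : Matrix (Fin n) (Fin n) F)) h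
        simp only [f, cong_cong, mul_assoc, Units.mul_inv, mul_one] at this
        exact this
      funext ⟨j, hj⟩
      have hj' := (Finset.mem_filter.mp hj).2
      have hent : ∀ u, cong (Bt u : Matrix (Fin n) (Fin n) F) D j j₀ = c j * u ⟨j, hj⟩ := by
        intro u
        simp only [cong, Bt, hDdef, Matrix.mul_apply, Matrix.transpose_apply, Matrix.add_apply,
          Matrix.one_apply, Matrix.vecMulVec_apply, Pi.single_apply, Matrix.diagonal_apply]
        simp [hj'.2, ext', hj, Finset.sum_ite_eq', ite_mul, mul_ite]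
      have := congrFun (congrFun e j) j₀
      rw [hent, hent] at this
      exact mul_left_cancel₀ hj'.1 this
    have := Finset.card_le_card_of_injOn f (s := Finset.univ) (fun w _ => hf1 w) hf2.injOn
    simpa using this
  have hup : ∀ S' ∈ t, (Finset.bipartiteBelow R s S').card ≤ 2 * Fintype.card F ^ J.card := by
    intro S' hS'
    obtain ⟨B, rfl⟩ := Set.mem_toFinset.mp hS'
    show (Finset.bipartiteBelow R s (cong (B : Matrix (Fin n) (Fin n) F) S)).card ≤ _
    have hSD : cong (B : Matrix (Fin n) (Fin n) F) S =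
        cong ((B₀⁻¹ * B : (Matrix (Fin n) (Fin n) F)ˣ) : Matrix (Fin n) (Fin n) F) D := by
      rw [← hD, cong_cong, ← Units.val_mul, mul_inv_cancel_left]
    set C := B₀⁻¹ * B
    refine le_trans ?_ hM
    rw [Set.ncard_eq_toFinset_card']
    refine Finset.card_le_card_of_injOn (fun φ => ((C⁻¹ : (Matrix (Fin n) (Fin n) F)ˣ) : Matrix (Fin n) (Fin n) F)ᵀ *ᵥ φ)
      (fun φ hφ => ?_) ?_
    · have hφ' : R φ _ := (Finset.mem_filter.mp hφ).2
      rw [hSD] at hφ'
      have := hR C⁻¹ φ _ hφ'
      rw [cong_cong, ← Units.val_mul, mul_inv_cancel, Units.val_one] at this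
      simpa [cong] using this
    · intro φ _ ψ _ h
      have := congrArg ((C : Matrix (Fin n) (Fin n) F)ᵀ *ᵥ ·) h
      simpa [Matrix.mulVec_mulVec, ← Matrix.transpose_mul] using this
  have := Finset.card_mul_le_card_mul R hlow hup
  have hs : s.card = Fintype.card F ^ n - 1 := by simp [s]
  rw [hs, show t.card = O.ncard from (Set.ncard_eq_toFinset_card' O).symm] at this
  have hpos : 0 < Fintype.card F ^ J.card := pow_pos Fintype.card_pos _
  nlinarith

end Cfsg.Agent.Symplectic
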