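import Cfsg.Agent.Symplectic.AddChar
import Cfsg.Agent.Symplectic.OrbitBound
import Cfsg.Agent.Symplectic.Simple

/-! The lower bound for degrees of representations of `Sp_2n(q)`, `q` odd. -/

set_option autoImplicit false

namespace Cfsg.Agent.Symplectic

open scoped Matrix

noncomputable section

variable {n : ℕ} {F : Type*} [Field F]

/-- symmetric matrices as an additive subgroup -/
def symMat (n : ℕ) (F : Type*) [Field F] : AddSubgroup (Matrix (Fin n) (Fin n) F) where
  carrier := {X | X.IsSymm}
  add_mem' {a b} ha hb := ha.add hb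
  zero_mem' := Matrix.isSymm_zero
  neg_mem' {a} ha := ha.neg

theorem mem_symMat {X : Matrix (Fin n) (Fin n) F} : X ∈ symMat n F ↔ X.IsSymm := Iff.rfl

/-- the upper unitriangular element with symmetric block -/
def uEl (X : symMat n F) : Matrix.symplecticGroup (Fin n) F :=
  ⟨Matrix.fromBlocks 1 X.1 0 1, by
    rw [SymplecticGroup.fromBlocks_mem_iff]; simp [(mem_symMat.mp X.2).eq]⟩

theorem uEl_mul (X Y : symMat n F) : uEl X * uEl Y = uEl (X + Y) :=
  Subtype.ext (by simp [uEl, Matrix.fromBlocks_multiply, add_comm])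

theorem uEl_zero : uEl (0 : symMat n F) = 1 :=
  Subtype.ext (by simp [uEl])

theorem uEl_injective : Function.Injective (uEl : symMat n F → _) := by
  intro X Y h
  have := congrArg (fun g : Matrix.symplecticGroup (Fin n) F => Matrix.toBlocks₁₂ (g : Mat n F)) h
  exact Subtype.ext (by simpa [uEl] using this)

/-- the Levi element of an invertible matrix -/
def mEl (A : (Matrix (Fin n) (Fin n) F)ˣ) : Matrix.symplecticGroup (Fin n) F :=
  ⟨Matrix.fromBlocks A.1 0 0 (↑A⁻¹ : Matrix (Fin n) (Fin n) F)ᵀ, by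
    rw [SymplecticGroup.fromBlocks_mem_iff]
    simp [← Matrix.transpose_mul]⟩

theorem congX_mem (A : Matrix (Fin n) (Fin n) F) (X : symMat n F) :
    A * X.1 * Aᵀ ∈ symMat n F := by
  rw [mem_symMat, Matrix.IsSymm, Matrix.transpose_mul, Matrix.transpose_mul,
    Matrix.transpose_transpose, (mem_symMat.mp X.2).eq, Matrix.mul_assoc]

theorem uEl_mEl (B : (Matrix (Fin n) (Fin n) F)ˣ) (X : symMat n F) :
    uEl X * mEl B⁻¹ = mEl B⁻¹ * uEl ⟨_, congX_mem (B : Matrix (Fin n) (Fin n) F) X⟩ := by
  refine Subtype.ext ?_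
  simp only [uEl, mEl, Submonoid.coe_mul, Matrix.fromBlocks_multiply, one_mul, mul_one, zero_mul,
    mul_zero, add_zero, zero_add, inv_inv]
  congr 1
  rw [← Matrix.mul_assoc, ← Matrix.mul_assoc, Units.inv_mul, Matrix.one_mul]

/-- the additive map `X ↦ tr (S X)` -/
def trMap (S : Matrix (Fin n) (Fin n) F) : symMat n F →+ F where
  toFun X := (S * X.1).trace
  map_zero' := by simp
  map_add' X Y := by simp [mul_add]

theorem trMap_cong (S : Matrix (Fin n) (Fin n) F) (B : Matrix (Fin n) (Fin n) F) (X : symMat n F) :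
    trMap S ⟨_, congX_mem B X⟩ = trMap (cong B S) X := by
  show (S * (B * X.1 * Bᵀ)).trace = (Bᵀ * S * B * X.1).trace
  rw [← Matrix.mul_assoc, ← Matrix.mul_assoc, Matrix.trace_mul_comm, ← Matrix.mul_assoc,
    ← Matrix.mul_assoc]

variable [Fintype F]

theorem exists_trMap_ne {L : Type*} [Field L] {e : AddChar F L} (he : e.IsPrimitive)
    (h2 : (2 : F) ≠ 0) {D : Matrix (Fin n) (Fin n) F} (hD : D.IsSymm)
    (h : D ≠ 0) : ∃ X : symMat n F, e (trMap D X) ≠ 1 := by
  classical
  obtain ⟨i, j, hij⟩ : ∃ i j, D i j ≠ 0 := by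
    by_contra h'; push_neg at h'; exact h (Matrix.ext h')
  obtain ⟨t, ht⟩ := AddChar.ne_one_iff.mp (he (mul_ne_zero h2 hij))
  refine ⟨⟨Matrix.single i j t + Matrix.single j i t, ?_⟩, ?_⟩
  · rw [mem_symMat, Matrix.IsSymm, Matrix.transpose_add, Matrix.transpose_single,
      Matrix.transpose_single, add_comm]
  · have : (D * (Matrix.single i j t + Matrix.single j i t)).trace = 2 * D i j * t := by
      rw [mul_add, Matrix.trace_add, Matrix.trace_mul_single, Matrix.trace_mul_single,
        hD.apply i j]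
      simp [MulOpposite.op_smul, smul_eq_mul]
      ring
    show e ((D * (Matrix.single i j t + Matrix.single j i t)).trace) ≠ 1
    rw [this]
    exact ht

theorem isSymm_cong {S : Matrix (Fin n) (Fin n) F} (hS : S.IsSymm) (B : Matrix (Fin n) (Fin n) F) :
    (cong B S).IsSymm := by
  rw [Matrix.IsSymm, cong, Matrix.transpose_mul, Matrix.transpose_mul, Matrix.transpose_transpose,
    hS.eq, Matrix.mul_assoc]

theorem sum_char_eq_zero {L : Type*} [Field L] {A : Type*} [AddCommGroup A] [Fintype A]
    (e : AddChar F L) (f : A →+ F) (h : ∃ x, e (f x) ≠ 1) : ∑ x, e (f x) = 0 := by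
  obtain ⟨x, hx⟩ := h
  exact AddChar.sum_eq_zero_of_ne_one (ψ := e.compAddMonoidHom f)
    (AddChar.ne_one_iff.mpr ⟨x, hx⟩)

/-- a representation in characteristic prime to `q`, non-trivial on the Siegel unipotent group,
has dimension at least `(q^n - 1)/2` -/
theorem weight_bound {L : Type*} [Field L] {e : AddChar F L} (he : e.IsPrimitive)
    (hL : (Fintype.card F : L) ≠ 0) (h2 : (2 : F) ≠ 0) {k : ℕ}
    (ρ : Representation L (Matrix.symplecticGroup (Fin n) F) (Fin k → L))
    (hU : ∃ X : symMat n F, ρ (uEl X) ≠ 1) :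
    (Fintype.card F ^ n - 1) / 2 ≤ k := by
  classical
  -- weight projections
  let P : symMat n F → Module.End L (Fin k → L) := fun S =>
    (Fintype.card (symMat n F) : L)⁻¹ • ∑ X : symMat n F, e (-trMap S.1 X) • ρ (uEl X)
  have hN : (Fintype.card (symMat n F) : L) ≠ 0 := by
    have hdvd : Nat.card (symMat n F) ∣ Nat.card (Matrix (Fin n) (Fin n) F) :=
      AddSubgroup.card_addSubgroup_dvd_card _
    obtain ⟨r, hr⟩ := hdvd
    intro h0
    have hc : (Nat.card (Matrix (Fin n) (Fin n) F) : L) = 0 := by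
      rw [hr, Nat.cast_mul, Nat.card_eq_fintype_card, h0, zero_mul]
    have hcard : Nat.card (Matrix (Fin n) (Fin n) F) = (Fintype.card F ^ n) ^ n := by
      show Nat.card (Fin n → Fin n → F) = _
      rw [Nat.card_eq_fintype_card, Fintype.card_fun, Fintype.card_fun, Fintype.card_fin]
    rw [hcard, Nat.cast_pow, Nat.cast_pow] at hc
    exact hL (eq_zero_of_pow_eq_zero (eq_zero_of_pow_eq_zero hc))
  have hPu : ∀ S X, ρ (uEl X) * P S = e (trMap S.1 X) • P S := by
    intro S X
    simp only [P, mul_smul_comm, Finset.mul_sum, smul_comm (e (trMap S.1 X)) ((Fintype.card _ : L)⁻¹)]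
    congr 1
    rw [Finset.smul_sum]
    refine Fintype.sum_equiv (Equiv.addLeft X) _ _ fun Y => ?_
    rw [Equiv.coe_addLeft, smul_smul, ← map_mul, uEl_mul, map_add, neg_add, AddChar.map_add_eq_mul,
      ← mul_assoc, ← AddChar.map_add_eq_mul, add_neg_cancel, AddChar.map_zero_eq_one, one_mul]
  have hsum : ∑ S : symMat n F, P S = 1 := by
    simp only [P, ← Finset.smul_sum]
    rw [Finset.sum_comm, Finset.sum_eq_single (0 : symMat n F)]
    · simp only [uEl_zero, map_one, map_zero, neg_zero, AddChar.map_zero_eq_one, one_smul,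
        Finset.sum_const, Finset.card_univ, ← Nat.cast_smul_eq_nsmul L, smul_smul]
      rw [inv_mul_cancel₀ hN, one_smul]
    · intro X _ hX
      rw [← Finset.sum_smul]
      have : ∑ S : symMat n F, e (-trMap S.1 X) = 0 := by
        let f : symMat n F →+ F :=
          { toFun := fun S => -trMap S.1 X
            map_zero' := by simp [trMap]
            map_add' := fun S S' => by simp [trMap, add_mul, Matrix.trace_add]; ring }
        refine sum_char_eq_zero e f ?_
        obtain ⟨Y, hY⟩ := exists_trMap_ne he h2 (mem_symMat.mp X.2).neg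
          (fun h => hX (Subtype.ext (neg_eq_zero.mp h)))
        refine ⟨Y, ?_⟩
        show e (-trMap Y.1 X) ≠ 1
        convert hY using 2
        show -((Y.1 * X.1).trace) = ((-X.1) * Y.1).trace
        rw [neg_mul, Matrix.trace_neg, Matrix.trace_mul_comm]
      rw [this, zero_smul]
    · simp
  obtain ⟨S, hS0, hPS⟩ : ∃ S : symMat n F, S ≠ 0 ∧ P S ≠ 0 := by
    by_contra h
    push_neg at h
    obtain ⟨X, hX⟩ := hU
    apply hX
    have h0 : P 0 = 1 := by
      rw [← hsum, Finset.sum_eq_single (0 : symMat n F) (fun S _ hS => h S hS) (by simp)]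
    have := hPu 0 X
    rw [h0, mul_one] at this
    simpa [trMap] using this
  obtain ⟨w, hw⟩ : ∃ w, P S w ≠ 0 := by
    by_contra h; push_neg at h; exact hPS (LinearMap.ext h)
  set v := P S w
  have hv : ∀ X, ρ (uEl X) v = e (trMap S.1 X) • v := fun X => by
    have := congrArg (fun f : Module.End L (Fin k → L) => f w) (hPu S X)
    simpa [v] using this
  set O := Set.range fun B : (Matrix (Fin n) (Fin n) F)ˣ => cong (B : Matrix (Fin n) (Fin n) F) S.1
  haveI : Fintype O := Fintype.ofFinite _
  choose B hB using fun T : O => T.2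
  let vec : O → (Fin k → L) := fun T => ρ (mEl (B T)⁻¹) v
  have hvec : ∀ (T : O) X, ρ (uEl X) (vec T) = e (trMap T.1 X) • vec T := by
    intro T X
    show ρ (uEl X) (ρ (mEl (B T)⁻¹) v) = e (trMap T.1 X) • ρ (mEl (B T)⁻¹) v
    rw [← Module.End.mul_apply, ← map_mul, uEl_mEl, map_mul, Module.End.mul_apply, hv, map_smul,
      trMap_cong, ← hB T]
  have hvec0 : ∀ T, vec T ≠ 0 := fun T h => hw (by
    have := congrArg (ρ (mEl (B T)⁻¹)⁻¹) h
    simpa [vec, ← Module.End.mul_apply, ← map_mul] using this)
  have hOsym : ∀ T : O, T.1 ∈ symMat n F := fun T => by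
    rw [← hB T]; exact isSymm_cong (mem_symMat.mp S.2) _
  have hPv : ∀ T T' : O, P ⟨T.1, hOsym T⟩ (vec T') = if T = T' then vec T' else 0 := by
    intro T T'
    simp only [P, LinearMap.smul_apply, LinearMap.sum_apply, hvec, smul_smul, ← Finset.sum_smul,
      ← AddChar.map_add_eq_mul]
    split_ifs with h
    · subst h
      simp [hN]
    · let f : symMat n F →+ F := trMap T'.1 - trMap T.1
      have h0 : ∑ X, e (f X) = 0 := by
        refine sum_char_eq_zero e f ?_
        obtain ⟨X, hX⟩ := exists_trMap_ne he h2 ((mem_symMat.mp (hOsym T')).sub (mem_symMat.mp (hOsym T)))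
          (fun h' => h (Subtype.ext (sub_eq_zero.mp h').symm))
        refine ⟨X, ?_⟩
        convert hX using 2
        simp [f, trMap, sub_mul, Matrix.trace_sub]
      have : ∑ X : symMat n F, e (-trMap T.1 X + trMap T'.1 X) = 0 := by
        rw [← h0]; exact Finset.sum_congr rfl fun X _ => by simp [f, sub_eq_neg_add]
      rw [this, mul_zero, zero_smul]
  have hli : LinearIndependent L vec := by
    rw [Fintype.linearIndependent_iff]
    intro c hc T
    have := congrArg (P ⟨T.1, hOsym T⟩) hc
    simp only [map_sum, map_smul, hPv, map_zero, smul_ite, smul_zero, Finset.sum_ite_eq,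
      Finset.mem_univ, if_true] at this
    exact (smul_eq_zero.mp this).resolve_right (hvec0 T)
  have h1 := hli.fintype_card_le_finrank
  rw [Module.finrank_fin_fun, ← Nat.card_eq_fintype_card, Nat.card_coe_set_eq] at h1
  have h3 : Fintype.card F ^ n - 1 ≤ 2 * O.ncard :=
    two_mul_card_orbit_ge h2 S.1 (mem_symMat.mp S.2) (fun h => hS0 (Subtype.ext h))
  omega

theorem two_ne_zero_of_odd_card (hodd : Odd (Fintype.card F)) : (2 : F) ≠ 0 := by
  apply Ring.two_ne_zero
  intro h
  have := FiniteField.even_card_of_char_two h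
  rw [Nat.odd_iff] at hodd
  omega

theorem min_degree (hn : 2 ≤ n) (hodd : Odd (Fintype.card F)) {k : ℕ}
    (ρ : Representation ℂ (Matrix.symplecticGroup (Fin n) F) (Fin k → ℂ)) (hirr : ρ.IsIrreducible)
    (hk : 2 ≤ k) : (Fintype.card F ^ n - 1) / 2 ≤ k := by
  classical
  have h2 := two_ne_zero_of_odd_card hodd
  have hq : 3 ≤ Fintype.card F := by
    have := Fintype.one_lt_card (α := F)
    obtain ⟨r, hr⟩ := hodd
    omega
  refine weight_bound (eChar_prim F) (Nat.cast_ne_zero.mpr Fintype.card_ne_zero) h2 ρ ?_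
  by_contra hall
  push_neg at hall
  rcases normal_subgroup_cases (perfect n (by omega)) ρ.ker with hker | hker
  · let X : symMat n F := ⟨Matrix.single ⟨0, by omega⟩ ⟨0, by omega⟩ 1, by
      rw [mem_symMat, Matrix.IsSymm, Matrix.transpose_single]⟩
    obtain ⟨c, hc⟩ := (mem_center_iff _).mp (hker (MonoidHom.mem_ker.mpr (hall X)))
    have h1 : (uEl X : Mat n F) = c • (1 : Mat n F) :=
      Matrix.ext_of_mulVec_single fun i => by rw [hc, Matrix.smul_mulVec, Matrix.one_mulVec]
    have := congrArg (fun M : Mat n F => M (Sum.inl ⟨0, by omega⟩) (Sum.inr ⟨0, by omega⟩)) h1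
    simp [uEl, X] at this
  · have hone : ∀ g, ρ g = 1 := fun g => MonoidHom.mem_ker.mp (hker ▸ Subgroup.mem_top g)
    let e1 : Fin k → ℂ := Pi.single ⟨0, by omega⟩ 1
    let σ : Subrepresentation ρ := ⟨Submodule.span ℂ {e1}, fun g v hv => by
      rw [hone g]; exact hv⟩
    rcases @IsSimpleOrder.eq_bot_or_eq_top _ _ _ hirr σ with h | h
    · have he : e1 ∈ σ.toSubmodule := Submodule.mem_span_singleton_self e1
      rw [h] at he
      have : e1 = 0 := he
      have := congrFun this ⟨0, by omega⟩
      simp [e1] at this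
    · have htop : Submodule.span ℂ {e1} = ⊤ := congrArg Subrepresentation.toSubmodule h
      have := finrank_span_singleton (K := ℂ) (v := e1) (fun h => by
        have := congrFun h ⟨0, by omega⟩; simp [e1] at this)
      rw [htop, finrank_top, Module.finrank_fin_fun] at this
      omega

end

end Cfsg.Agent.Symplectic
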