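import Cfsg.Agent.Symplectic.RationalBasic

/-! A pair of complementary totally isotropic subspaces: long roots from the short ones. -/

set_option autoImplicit false

namespace Cfsg.Agent.Symplectic

open scoped MatrixGroups Matrix
open Matrix Cfsg.Agent.H95

variable {ι : Type} [Fintype ι] [DecidableEq ι] {F : Type*} [Field F]
  {f : (ι → F) → (ι → F) → F} (hf : Geo.IsSymplecticForm f)
  {W₁ W₂ : Submodule F (ι → F)} {M : Subgroup (GL ι F)}

/-- `W₁`, `W₂` form a polarization. -/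
structure Polar (f : (ι → F) → (ι → F) → F) (W₁ W₂ : Submodule F (ι → F)) : Prop where
  ti₁ : ∀ u ∈ W₁, ∀ v ∈ W₁, f u v = 0
  ti₂ : ∀ u ∈ W₂, ∀ v ∈ W₂, f u v = 0
  compl : IsCompl W₁ W₂
  dim₂ : 5 ≤ Module.finrank F W₂

theorem Polar.exists_split (h : Polar f W₁ W₂) (x : ι → F) :
    ∃ a ∈ W₁, ∃ b ∈ W₂, a + b = x :=
  Submodule.mem_sup.1 (h.compl.sup_eq_top ▸ Submodule.mem_top)

include hf

/-- pairing against `W₁` separates independent vectors of `W₂` -/
theorem Polar.exists_dual (h : Polar f W₁ W₂) {u v : ι → F} (hu : u ∈ W₂) (hv : v ∈ W₂)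
    (hind : ∀ t : F, v ≠ t • u) : ∃ p ∈ W₁, f u p = 0 ∧ f v p = 1 := by
  obtain ⟨x, h1, h2⟩ := exists_perp_nonorth hf hind
  obtain ⟨p, hp, q, hq, rfl⟩ := h.exists_split x
  rw [f_add_right hf, h.ti₂ u hu q hq, add_zero] at h1
  rw [f_add_right hf, h.ti₂ v hv q hq, add_zero] at h2
  exact ⟨p, hp, h1, h2⟩

/-- a non-zero vector of `W₂` orthogonal to four vectors -/
theorem Polar.exists_perp4 (h : Polar f W₁ W₂) (a b c d : ι → F) :
    ∃ r ∈ W₂, r ≠ 0 ∧ f a r = 0 ∧ f b r = 0 ∧ f c r = 0 ∧ f d r = 0 := by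
  let L : W₂ →ₗ[F] (Fin 4 → F) :=
    { toFun := fun r => ![f a r, f b r, f c r, f d r]
      map_add' := fun x y => by
        ext i; fin_cases i <;> simp [f_add_right hf]
      map_smul' := fun t x => by
        ext i; fin_cases i <;> simp [f_smul_right hf] }
  have hne : L.ker ≠ ⊥ := by
    intro hb
    have := LinearMap.finrank_le_finrank_of_injective (LinearMap.ker_eq_bot.1 hb)
    rw [Module.finrank_fin_fun] at this
    have := h.dim₂
    omega
  obtain ⟨r, hr, hr0⟩ := L.ker.ne_bot_iff.1 hne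
  have e := LinearMap.mem_ker.1 hr
  exact ⟨r, r.2, by simpa using hr0, congrFun e 0, congrFun e 1, congrFun e 2, congrFun e 3⟩

/-- `M` contains all short root elements between the two subspaces. -/
def Short (W₁ W₂ : Submodule F (ι → F)) (M : Subgroup (GL ι F)) : Prop :=
  ∀ u ∈ W₁, ∀ v ∈ W₂, f u v = 0 → ∀ c : F, th hf u v c ∈ M

/-- a short root element inside `W₂` gives a long one -/
theorem long_of_short_same (h2 : (2 : F) ≠ 0) (h : Polar f W₁ W₂) (hS : Short hf W₁ W₂ M)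
    {r y : ι → F} (hr : r ∈ W₂) (hy : y ∈ W₂) (γ : F) (hind : ∀ t : F, r ≠ t • y)
    (hm : th hf r y 1 * rt hf r γ ∈ M) : ∃ l : F, l ≠ 0 ∧ rt hf y l ∈ M := by
  have ry : f r y = 0 := h.ti₂ r hr y hy
  have yr : f y r = 0 := f_symm_zero hf ry
  obtain ⟨p, hp, hyp, hrp⟩ := h.exists_dual hf hy hr hind
  have py : f p y = 0 := f_symm_zero hf hyp
  have hh := hS p hp y hy py 1
  have e1 : (th hf p y 1 : Matrix ι ι F) *ᵥ r = r + y := by
    rw [th_mulVec hf py, hrp, ry]; module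
  have e2 : (th hf p y 1 : Matrix ι ι F) *ᵥ y = y := by
    rw [th_mulVec hf py, hyp, f_self hf]; module
  have h' : f (r + y) y = 0 := by rw [f_add_left hf, ry, f_self hf, add_zero]
  have split : ∀ g x y : GL ι F, g * (x * y) * g⁻¹ = g * x * g⁻¹ * (g * y * g⁻¹) :=
    fun g x y => by group
  have hX : th hf r y γ * rt hf y (2 + γ) ∈ M := by
    have h1 := M.mul_mem (conj_mem hh hm) (M.inv_mem hm)
    rw [split, conj_th hf (th_mem_iso hf _ _ _), conj_rt hf (th_mem_iso hf _ _ _), e1, e2,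
      _root_.mul_inv_rev, th_inv hf ry, rt_inv hf] at h1
    convert h1 using 1
    refine gl_ext fun x => ?_
    simp only [mul_mulVec, rt_mulVec hf, th_mulVec hf ry, th_mulVec hf h', f_add_left hf,
      f_add_right hf, f_smul_left hf, f_self hf, ry, yr]
    module
  rcases eq_or_ne γ 0 with rfl | hγ
  · refine ⟨2, h2, ?_⟩
    rwa [th_zero hf ry, one_mul, add_zero] at hX
  refine ⟨2 * γ, mul_ne_zero h2 hγ, ?_⟩
  have h1 := M.mul_mem (conj_mem hh hX) (M.inv_mem hX)
  rw [split, conj_th hf (th_mem_iso hf _ _ _), conj_rt hf (th_mem_iso hf _ _ _), e1, e2,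
    _root_.mul_inv_rev, th_inv hf ry, rt_inv hf] at h1
  convert h1 using 1
  refine gl_ext fun x => ?_
  simp only [mul_mulVec, rt_mulVec hf, th_mulVec hf ry, th_mulVec hf h', f_add_left hf,
    f_add_right hf, f_smul_left hf, f_self hf, ry, yr]
  module

/-- a short root element with independent second components -/
theorem long_of_indep (h2 : (2 : F) ≠ 0) (h : Polar f W₁ W₂) (hS : Short hf W₁ W₂ M)
    {w₁ w₂ z₁ z₂ : ι → F} (hz1 : z₁ ∈ W₁) (hw2 : w₂ ∈ W₂) (hz2 : z₂ ∈ W₂) (hz20 : z₂ ≠ 0)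
    (hind : ∀ t : F, w₂ ≠ t • z₂) (hw1 : w₁ ∈ W₁) (wz : f (w₁ + w₂) (z₁ + z₂) = 0)
    (hm : th hf (w₁ + w₂) (z₁ + z₂) 1 ∈ M) :
    ∃ y ∈ W₂, y ≠ 0 ∧ ∃ l : F, l ≠ 0 ∧ rt hf y l ∈ M := by
  obtain ⟨p, hp, hzp, hwp⟩ := h.exists_dual hf hz2 hw2 hind
  obtain ⟨y', hy'⟩ := exists_f_eq_one hf hz20
  obtain ⟨r, hr, hr0, a1, a2, a3, a4⟩ := h.exists_perp4 hf w₁ z₁ p y'
  have hrind : ∀ t : F, r ≠ t • z₂ := fun t e => by
    rw [e, f_smul_right hf, f_skew hf y' z₂, hy', mul_neg, mul_one, neg_eq_zero] at a4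
    exact hr0 (by rw [e, a4, zero_smul])
  have wr : f (w₁ + w₂) r = 0 := by rw [f_add_left hf, a1, h.ti₂ _ hw2 r hr, add_zero]
  have zr : f (z₁ + z₂) r = 0 := by rw [f_add_left hf, a2, h.ti₂ _ hz2 r hr, add_zero]
  have zp : f (z₁ + z₂) p = 0 := by rw [f_add_left hf, hzp, h.ti₁ _ hz1 p hp, add_zero]
  have wp : f (w₁ + w₂) p = 1 := by rw [f_add_left hf, hwp, h.ti₁ _ hw1 p hp, zero_add]
  have h1 := M.mul_mem (conj_mem (hS p hp r hr a3 1) hm) (M.inv_mem hm)
  have e1 : (th hf p r 1 : Matrix ι ι F) *ᵥ (w₁ + w₂) = w₁ + w₂ + r := by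
    rw [th_mulVec hf a3, wp, wr]; module
  have e2 : (th hf p r 1 : Matrix ι ι F) *ᵥ (z₁ + z₂) = z₁ + z₂ := by
    rw [th_mulVec hf a3, zp, zr]; module
  have rz : f r (z₁ + z₂) = 0 := f_symm_zero hf zr
  have h' : f (w₁ + w₂ + r) (z₁ + z₂) = 0 := by rw [f_add_left hf, wz, rz, add_zero]
  rw [conj_th hf (th_mem_iso hf _ _ _), th_inv hf wz, e1, e2] at h1
  have hrz : th hf r (z₁ + z₂) 1 ∈ M := by
    convert h1 using 1
    refine gl_ext fun x => ?_
    generalize w₁ + w₂ = w at *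
    generalize z₁ + z₂ = z at *
    simp only [mul_mulVec, th_mulVec hf wz, th_mulVec hf h', th_mulVec hf rz, f_add_left hf,
      f_add_right hf, f_smul_left hf, f_self hf, wz, f_symm_zero hf wz, wr, zr, rz,
      f_symm_zero hf wr]
    module
  have rz1 : f r z₁ = 0 := f_symm_zero hf a2
  have rz2 : f r z₂ = 0 := h.ti₂ r hr _ hz2
  have hrz2 : th hf r z₂ 1 * rt hf r (-f z₁ z₂) ∈ M := by
    have := M.mul_mem hrz (M.inv_mem (hS z₁ hz1 r hr a2 1))
    rw [th_inv hf a2] at this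
    convert this using 1
    refine gl_ext fun x => ?_
    simp only [mul_mulVec, rt_mulVec hf, th_mulVec hf a2, th_mulVec hf rz, th_mulVec hf rz2,
      f_add_left hf, f_add_right hf, f_smul_left hf, f_self hf, rz1, rz2, a2]
    module
  exact ⟨z₂, hz2, hz20, long_of_short_same hf h2 h hS hr hz2 _ hrind hrz2⟩

/-- a short root element with proportional components -/
theorem long_of_dep (h2 : (2 : F) ≠ 0) (h : Polar f W₁ W₂) (hS : Short hf W₁ W₂ M)
    {w₁ w₂ : ι → F} (hw1 : w₁ ∈ W₁) (hw2 : w₂ ∈ W₂) (hw10 : w₁ ≠ 0) (hw20 : w₂ ≠ 0)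
    {μ ν : F} (hμν : μ ≠ ν) (wz : f (w₁ + w₂) (μ • w₁ + ν • w₂) = 0)
    (hm : th hf (w₁ + w₂) (μ • w₁ + ν • w₂) 1 ∈ M) :
    (∃ y ∈ W₁, y ≠ 0 ∧ ∃ l : F, l ≠ 0 ∧ rt hf y l ∈ M) ∨
    ∃ y ∈ W₂, y ≠ 0 ∧ ∃ l : F, l ≠ 0 ∧ rt hf y l ∈ M := by
  have w12 : f w₁ w₂ = 0 := by
    have := wz
    simp only [f_add_left hf, f_add_right hf, f_smul_right hf, f_self hf, f_skew hf w₂ w₁] at this
    exact (mul_eq_zero.1 (show (ν - μ) * f w₁ w₂ = 0 by linear_combination this)).resolve_left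
      (sub_ne_zero.2 (Ne.symm hμν))
  have w21 : f w₂ w₁ = 0 := f_symm_zero hf w12
  have hX : rt hf w₁ (2 * μ) * rt hf w₂ (2 * ν) ∈ M := by
    have := M.mul_mem hm (M.inv_mem (hS w₁ hw1 w₂ hw2 w12 (μ + ν)))
    rw [th_inv hf w12] at this
    convert this using 1
    refine gl_ext fun x => ?_
    simp only [mul_mulVec, rt_mulVec hf, th_mulVec hf wz, th_mulVec hf w12, f_add_left hf,
      f_add_right hf, f_smul_left hf, f_smul_right hf, f_self hf, w12, w21]
    module
  rcases eq_or_ne ν 0 with rfl | hν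
  · left
    refine ⟨w₁, hw1, hw10, 2 * μ, mul_ne_zero h2 hμν, ?_⟩
    simpa [rt_zero hf] using hX
  right
  obtain ⟨y, hy⟩ := exists_f_eq_one hf hw20
  obtain ⟨p, hp, q, hq, rfl⟩ := h.exists_split y
  rw [f_add_right hf, h.ti₂ _ hw2 q hq, add_zero] at hy
  obtain ⟨r, hr, hr0, a1, a2, -, -⟩ := h.exists_perp4 hf w₁ p p p
  have hh : th hf p r 1 ∈ M := hS p hp r hr a2 1
  have e1 : (th hf p r 1 : Matrix ι ι F) *ᵥ w₁ = w₁ := by
    rw [th_mulVec hf a2, h.ti₁ _ hw1 p hp, a1]; module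
  have e2 : (th hf p r 1 : Matrix ι ι F) *ᵥ w₂ = w₂ + r := by
    rw [th_mulVec hf a2, hy, h.ti₂ _ hw2 r hr]; module
  have e3 : (th hf p r 1 : Matrix ι ι F) *ᵥ r = r := by
    rw [th_mulVec hf a2, f_symm_zero hf a2, f_self hf]; module
  have w2r : f w₂ r = 0 := h.ti₂ _ hw2 r hr
  have rw2 : f r w₂ = 0 := f_symm_zero hf w2r
  have hd : rt hf (w₂ + r) (2 * ν) * rt hf w₂ (-(2 * ν)) ∈ M := by
    have := M.mul_mem (conj_mem hh hX) (M.inv_mem hX)
    rw [show ∀ g x y : GL ι F, g * (x * y) * g⁻¹ = g * x * g⁻¹ * (g * y * g⁻¹) from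
        fun g x y => by group, conj_rt hf (th_mem_iso hf _ _ _), conj_rt hf (th_mem_iso hf _ _ _),
      e1, e2, _root_.mul_inv_rev, rt_inv hf, rt_inv hf] at this
    convert this using 1
    refine gl_ext fun x => ?_
    simp only [mul_mulVec, rt_mulVec hf, f_add_left hf, f_add_right hf, f_smul_left hf,
      f_self hf, w12, w21, w2r, rw2, a1, f_symm_zero hf a1]
    module
  refine ⟨r, hr, hr0, 2 * (2 * ν), mul_ne_zero h2 (mul_ne_zero h2 hν), ?_⟩
  have := M.mul_mem (conj_mem hh hd) (M.inv_mem hd)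
  rw [show ∀ g x y : GL ι F, g * (x * y) * g⁻¹ = g * x * g⁻¹ * (g * y * g⁻¹) from
      fun g x y => by group, conj_rt hf (th_mem_iso hf _ _ _), conj_rt hf (th_mem_iso hf _ _ _),
    mulVec_add, e2, e3, _root_.mul_inv_rev, rt_inv hf, rt_inv hf] at this
  convert this using 1
  refine gl_ext fun x => ?_
  simp only [mul_mulVec, rt_mulVec hf, f_add_left hf, f_add_right hf, f_smul_left hf,
    f_self hf, w2r, rw2]
  module

theorem Short.symm (hS : Short hf W₁ W₂ M) : Short hf W₂ W₁ M := fun u hu v hv huv c => by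
  rw [th_comm hf u v huv]; exact hS v hv u hu (f_symm_zero hf huv) c

/-- any short root element with a mixed vector gives a long one -/
theorem long_of_mixed (h2 : (2 : F) ≠ 0) (h : Polar f W₁ W₂) (h' : Polar f W₂ W₁)
    (hS : Short hf W₁ W₂ M) {w z : ι → F} (hw1 : w ∉ W₁) (hw2 : w ∉ W₂) (hz : ∀ t : F, z ≠ t • w)
    (wz : f w z = 0) (hm : th hf w z 1 ∈ M) :
    (∃ y ∈ W₁, y ≠ 0 ∧ ∃ l : F, l ≠ 0 ∧ rt hf y l ∈ M) ∨
    ∃ y ∈ W₂, y ≠ 0 ∧ ∃ l : F, l ≠ 0 ∧ rt hf y l ∈ M := by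
  obtain ⟨a, ha, b, hb, rfl⟩ := h.exists_split w
  obtain ⟨c, hc, d, hd, rfl⟩ := h.exists_split z
  have ha0 : a ≠ 0 := fun e => hw2 (by rw [e, zero_add]; exact hb)
  have hb0 : b ≠ 0 := fun e => hw1 (by rw [e, add_zero]; exact ha)
  by_cases hdd : ∃ t : F, d = t • b
  · obtain ⟨ν, rfl⟩ := hdd
    by_cases hcc : ∃ t : F, c = t • a
    · obtain ⟨μ, rfl⟩ := hcc
      refine long_of_dep hf h2 h hS ha hb ha0 hb0 (fun e => hz μ ?_) wz hm
      rw [e, smul_add]
    · push Not at hcc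
      left
      rw [add_comm a b, add_comm c (ν • b)] at wz hm
      rw [th_comm hf _ _ wz] at hm
      exact long_of_indep hf h2 h' (hS.symm hf) (z₁ := b) (z₂ := a) hb hc ha ha0 hcc
        (W₂.smul_mem ν hb) (f_symm_zero hf wz) hm
  · push Not at hdd
    right
    rw [th_comm hf _ _ wz] at hm
    exact long_of_indep hf h2 h hS (z₁ := a) (z₂ := b) ha hd hb hb0 hdd hc (f_symm_zero hf wz) hm

/-- independent vectors of `W₂` are conjugate under short root elements -/
theorem exists_short_move (h : Polar f W₁ W₂) (hS : Short hf W₁ W₂ M) {u v : ι → F} (hu : u ∈ W₂)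
    (hv : v ∈ W₂) (hv0 : v ≠ 0) (hind : ∀ t : F, u ≠ t • v) :
    ∃ g ∈ M, g ∈ isoGrp f ∧ (g : Matrix ι ι F) *ᵥ u = v := by
  obtain ⟨p, hp, hvp, hup⟩ := h.exists_dual hf hv hu hind
  have d0 : ∀ t : F, v ≠ t • u := fun t e => by
    rcases eq_or_ne t 0 with rfl | ht
    · exact hv0 (by rw [e, zero_smul])
    · exact hind t⁻¹ (by rw [e, inv_smul_smul₀ ht])
  obtain ⟨p', hp', hup', hvp'⟩ := h.exists_dual hf hu hv d0
  have pv : f p v = 0 := f_symm_zero hf hvp
  have p'u : f p' u = 0 := f_symm_zero hf hup'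
  refine ⟨th hf p' u (-1) * th hf p v 1, M.mul_mem (hS p' hp' u hu p'u (-1)) (hS p hp v hv pv 1),
    Subgroup.mul_mem _ (th_mem_iso hf _ _ _) (th_mem_iso hf _ _ _), ?_⟩
  rw [mul_mulVec, th_mulVec hf pv, hup, h.ti₂ u hu v hv, one_mul, one_smul, mul_zero, zero_smul,
    add_zero, th_mulVec hf p'u, f_add_left hf, f_add_left hf, hup', hvp', f_self hf,
    h.ti₂ v hv u hu]
  module

/-- one long root element gives the whole root groups on its side -/
theorem rootIn_of_long (h2 : (2 : F) ≠ 0) (h : Polar f W₁ W₂) (hS : Short hf W₁ W₂ M)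
    {y : ι → F} (hy : y ∈ W₂) (hy0 : y ≠ 0) {l : F} (hl : l ≠ 0) (hyl : rt hf y l ∈ M) :
    ∀ v ∈ W₂, RootIn hf M v := by
  have inv : ∀ u v : ι → F, u ≠ 0 → (∀ t : F, v ≠ t • u) → ∀ t : F, u ≠ t • v := by
    intro u v hu hind t e
    rcases eq_or_ne t 0 with rfl | ht
    · exact hu (by rw [e, zero_smul])
    · exact hind t⁻¹ (by rw [e, inv_smul_smul₀ ht])
  obtain ⟨v0, hv0, hv0i⟩ : ∃ v ∈ W₂, ∀ t : F, v ≠ t • y := by
    by_contra hc
    push Not at hc
    have hle : W₂ ≤ Submodule.span F {y} := fun v hv => by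
      obtain ⟨t, rfl⟩ := hc v hv
      exact Submodule.smul_mem _ _ (Submodule.mem_span_singleton_self y)
    have := Submodule.finrank_mono hle
    rw [finrank_span_singleton hy0] at this
    have := h.dim₂
    omega
  have hv00 : v0 ≠ 0 := fun e => hv0i 0 (by rw [e, zero_smul])
  have hsq : ∀ s : F, rt hf y (l * s ^ 2) ∈ M := by
    intro s
    rcases eq_or_ne s 0 with rfl | hs
    · simp [rt_zero hf]
    obtain ⟨g, hg, hgi, hgy⟩ := exists_short_move hf h hS hy hv0 hv00 (inv _ _ hy0 hv0i)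
    have h1 := conj_mem hg hyl
    rw [conj_rt hf hgi, hgy] at h1
    obtain ⟨g', hg', hgi', hgv⟩ := exists_short_move hf h hS hv0 (W₂.smul_mem s hy)
      (smul_ne_zero hs hy0) (fun t => by rw [smul_smul]; exact hv0i _)
    have h3 := conj_mem hg' h1
    rwa [conj_rt hf hgi', hgv, rt_smul_vec hf] at h3
  have base : RootIn hf M y := by
    intro t
    have e : t = l * ((t / l + 1) / 2) ^ 2 + -(l * ((t / l - 1) / 2) ^ 2) := by field_simp; ring
    rw [e, ← rt_add hf, ← rt_inv hf]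
    exact M.mul_mem (hsq _) (M.inv_mem (hsq _))
  intro v hv
  by_cases hdep : ∃ t : F, v = t • y
  · obtain ⟨t, rfl⟩ := hdep
    exact base.smul hf t
  · push Not at hdep
    have hv0' : v ≠ 0 := fun e => hdep 0 (by rw [e, zero_smul])
    obtain ⟨g, hg, hgi, hgy⟩ := exists_short_move hf h hS hy hv hv0' (inv _ _ hy0 hdep)
    exact hgy ▸ base.conj hf hg hgi

/-- an isometry exchanging the members of a polarization -/
theorem exists_polar_swap (h : Polar f W₁ W₂) (hd : Module.finrank F W₁ = Module.finrank F W₂) :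
    ∃ w ∈ isoGrp f, (∀ x ∈ W₁, (w : Matrix ι ι F) *ᵥ x ∈ W₂) ∧
      ∀ x ∈ W₂, (w : Matrix ι ι F) *ᵥ x ∈ W₁ := by
  set n := Module.finrank F W₁
  let b := Module.finBasis F W₁
  let L : W₂ →ₗ[F] (Fin n → F) :=
    { toFun := fun q i => f (b i : ι → F) q
      map_add' := fun x y => by ext i; simp [f_add_right hf]
      map_smul' := fun t x => by ext i; simp [f_smul_right hf] }
  have hspan : ∀ x ∈ W₁, x ∈ Submodule.span F (Set.range fun i => (b i : ι → F)) := by
    intro x hx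
    have := congrArg Subtype.val (b.sum_repr ⟨x, hx⟩)
    simp only [AddSubmonoidClass.coe_finset_sum, SetLike.val_smul] at this
    rw [← this]
    exact Submodule.sum_mem _ fun i _ => Submodule.smul_mem _ _ (Submodule.subset_span ⟨i, rfl⟩)
  have hLi : Function.Injective L := by
    rw [← LinearMap.ker_eq_bot, LinearMap.ker_eq_bot']
    intro q hq
    by_contra hq0
    obtain ⟨y, hy⟩ := exists_f_eq_one hf (show (q : ι → F) ≠ 0 by simpa using hq0)
    obtain ⟨p, hp, r, hr, rfl⟩ := h.exists_split y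
    rw [f_add_right hf, h.ti₂ _ q.2 r hr, add_zero] at hy
    have hz : f (q : ι → F) p = 0 := by
      have hp' := hspan p hp
      clear hy hp
      induction hp' using Submodule.span_induction with
      | mem z hz => obtain ⟨i, rfl⟩ := hz; exact f_symm_zero hf (congrFun hq i)
      | zero => exact f_zero_right hf _
      | add x y _ _ hx hy => rw [f_add_right hf, hx, hy, add_zero]
      | smul c x _ hx => rw [f_smul_right hf, hx, mul_zero]
    exact one_ne_zero (hy.symm.trans hz)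
  have hLs : Function.Surjective L :=
    (LinearMap.injective_iff_surjective_of_finrank_eq_finrank
      (by rw [Module.finrank_fin_fun, ← hd])).1 hLi
  choose e' he' using fun i : Fin n => hLs (Pi.single i 1)
  have pair : ∀ i j, f (b i : ι → F) (e' j : ι → F) = if i = j then 1 else 0 := by
    intro i j
    have := congrFun (he' j) i
    simpa [L, Pi.single_apply] using this
  have step : ∀ s : Finset (Fin n), ∃ w ∈ isoGrp f,
      (∀ i, (w : Matrix ι ι F) *ᵥ (b i : ι → F) = if i ∈ s then (e' i : ι → F) else (b i : ι → F)) ∧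
      ∀ i, (w : Matrix ι ι F) *ᵥ (e' i : ι → F) = if i ∈ s then -(b i : ι → F) else (e' i : ι → F) := by
    intro s
    induction s using Finset.induction_on with
    | empty => exact ⟨1, Subgroup.one_mem _, by simp, by simp⟩
    | @insert k s hk ih =>
      obtain ⟨w, hw, w1, w2⟩ := ih
      set R := rt hf (b k : ι → F) 1 * rt hf (e' k : ι → F) 1 * rt hf (b k : ι → F) 1 with hR
      have hkk : f (b k : ι → F) (e' k : ι → F) = 1 := by rw [pair, if_pos rfl]
      have R1 : (R : Matrix ι ι F) *ᵥ (b k : ι → F) = (e' k : ι → F) := by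
        simp only [hR, mul_mulVec, rt_mulVec hf, f_add_left hf, f_smul_left hf, f_self hf,
          f_skew hf (e' k : ι → F) (b k : ι → F), hkk]
        module
      have R2 : (R : Matrix ι ι F) *ᵥ (e' k : ι → F) = -(b k : ι → F) := by
        simp only [hR, mul_mulVec, rt_mulVec hf, f_add_left hf, f_smul_left hf, f_self hf,
          f_skew hf (e' k : ι → F) (b k : ι → F), hkk]
        module
      have Rb : ∀ i, i ≠ k → (R : Matrix ι ι F) *ᵥ (b i : ι → F) = (b i : ι → F) := by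
        intro i hi
        simp only [hR, mul_mulVec, rt_fix hf (h.ti₁ _ (b i).2 _ (b k).2),
          rt_fix hf (show f (b i : ι → F) (e' k : ι → F) = 0 by rw [pair, if_neg hi])]
      have Re : ∀ i, i ≠ k → (R : Matrix ι ι F) *ᵥ (e' i : ι → F) = (e' i : ι → F) := by
        intro i hi
        simp only [hR, mul_mulVec, rt_fix hf (h.ti₂ _ (e' i).2 _ (e' k).2),
          rt_fix hf (f_symm_zero hf (show f (b k : ι → F) (e' i : ι → F) = 0 by
            rw [pair, if_neg (Ne.symm hi)]))]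
      have hRi : R ∈ isoGrp f :=
        Subgroup.mul_mem _ (Subgroup.mul_mem _ (rt_mem_iso hf _ _) (rt_mem_iso hf _ _))
          (rt_mem_iso hf _ _)
      refine ⟨R * w, Subgroup.mul_mem _ hRi hw, fun i => ?_, fun i => ?_⟩
      · rw [mul_mulVec, w1]
        rcases eq_or_ne i k with rfl | hik
        · rw [if_neg hk, R1, if_pos (Finset.mem_insert_self i s)]
        · by_cases his : i ∈ s
          · rw [if_pos his, Re i hik, if_pos (Finset.mem_insert_of_mem his)]
          · rw [if_neg his, Rb i hik, if_neg (by simp [hik, his])]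
      · rw [mul_mulVec, w2]
        rcases eq_or_ne i k with rfl | hik
        · rw [if_neg hk, R2, if_pos (Finset.mem_insert_self i s)]
        · by_cases his : i ∈ s
          · rw [if_pos his, mulVec_neg, Rb i hik, if_pos (Finset.mem_insert_of_mem his)]
          · rw [if_neg his, Re i hik, if_neg (by simp [hik, his])]
  obtain ⟨w, hw, w1, w2⟩ := step Finset.univ
  refine ⟨w, hw, fun x hx => ?_, fun x hx => ?_⟩
  · have hx' := hspan x hx
    clear hx
    induction hx' using Submodule.span_induction with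
    | mem z hz => obtain ⟨i, rfl⟩ := hz; rw [w1, if_pos (Finset.mem_univ i)]; exact (e' i).2
    | zero => rw [mulVec_zero]; exact W₂.zero_mem
    | add x y _ _ hx hy => rw [mulVec_add]; exact W₂.add_mem hx hy
    | smul c x _ hx => rw [mulVec_smul]; exact W₂.smul_mem c hx
  · have hx' : x = ∑ i, f (b i : ι → F) x • (e' i : ι → F) := by
      have : (⟨x, hx⟩ : W₂) = ∑ i, f (b i : ι → F) x • e' i := by
        apply hLi
        rw [map_sum]
        simp only [map_smul, he']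
        exact pi_eq_sum_univ' _
      have := congrArg Subtype.val this
      simpa using this
    rw [hx', mulVec_sum]
    refine Submodule.sum_mem _ fun i _ => ?_
    rw [mulVec_smul, w2, if_pos (Finset.mem_univ i)]
    exact W₁.smul_mem _ (W₁.neg_mem (b i).2)

end Cfsg.Agent.Symplectic
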