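import Cfsg.Agent.Symplectic.AschLemmas
import Cfsg.Agent.Aschbacher.Linear
import Cfsg.Agent.Symplectic.Center

/-! Aschbacher's theorem for subgroups of the symplectic groups, with numerical side conditions. -/

set_option autoImplicit false
set_option maxHeartbeats 1000000
set_option linter.unusedSectionVars false
set_option linter.style.haveILetI false

namespace Cfsg.Agent.Symplectic.Asch

open scoped MatrixGroups Matrix Kronecker
open Cfsg Cfsg.Geo Cfsg.Agent.Aschbacher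

variable {F : Type*} [Field F] {m : ℕ}

local notation "σ₀" => RingEquiv.refl F

/-- The alternatives of Aschbacher's theorem for a subgroup of the symplectic group. -/
inductive SymplecticOutcome [Fintype F] (H : Subgroup (GL (Fin m ⊕ Fin m) F)) : Prop
  | ts (W : Submodule F (Fin m ⊕ Fin m → F)) (h1 : W ≠ ⊥)
      (h2 : IsTotallySingularFor (sympForm m F) W) (h : H ≤ subspaceStabilizer W)
  | nondeg (W : Submodule F (Fin m ⊕ Fin m → F)) (h1 : W ≠ ⊥)
      (h2 : IsNondegenerateOn (sympForm m F) W) (h3 : Module.finrank F W < m)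
      (hev : Even (Module.finrank F W)) (h : H ≤ subspaceStabilizer W)
  | decomp (t k : ℕ) (D : Fin t → Submodule F (Fin m ⊕ Fin m → F))
      (hD : IsNondegenerateMDecomposition (sympForm m F) k D) (hcard : t * k = 2 * m) (hev : Even k)
      (h : H ≤ decompositionStabilizer D)
  | tsPair (D : Fin 2 → Submodule F (Fin m ⊕ Fin m → F)) (hodd : Odd (Fintype.card F))
      (hD : IsMDecomposition m D) (hts : ∀ i, IsTotallySingularFor (sympForm m F) (D i))
      (h : H ≤ decompositionStabilizer D)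
  | field (r : ℕ) (K : Subalgebra F (Matrix (Fin m ⊕ Fin m) (Fin m ⊕ Fin m) F)) (hr : r.Prime)
      (hdvd : r ∣ m) (hK : IsFieldSubalgebra r K) (hs : IsSelfAdjointFor (sympForm m F) K)
      (hk : ∀ k ∈ K, ∀ v, sympForm m F (k *ᵥ v) v = 0) (h : H ≤ subalgebraNormalizer K)
  | unitaryField (K : Subalgebra F (Matrix (Fin m ⊕ Fin m) (Fin m ⊕ Fin m) F))
      (hodd : Odd (Fintype.card F)) (hK : IsFieldSubalgebra 2 K)
      (hs : IsAdjointClosedFor (sympForm m F) K) (hns : ¬ IsSelfAdjointFor (sympForm m F) K)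
      (h : H ≤ subalgebraNormalizer K)
  | tensor (n₁ n₂ : ℕ) (e : (Fin m ⊕ Fin m) ≃ Fin n₁ × Fin n₂) (P : GL (Fin m ⊕ Fin m) F)
      (f₁ : (Fin n₁ → F) → (Fin n₁ → F) → F) (f₂ : (Fin n₂ → F) → (Fin n₂ → F) → F)
      (hodd : Odd (Fintype.card F)) (h1 : 2 ≤ n₁) (h2 : 3 ≤ n₂) (hev : Even n₁)
      (hcard : n₁ * n₂ = 2 * m) (hf₁ : IsSymplecticForm f₁) (hf₂ : IsSymmetricForm f₂)
      (hs : IsTensorFormStructure id (sympForm m F) f₁ f₂ e P)
      (hex : Fintype.card F = 3 → n₂ = 3 → False)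
      (h : H ≤ tensorProductSubgroup n₁ n₂ e P)
  | tensor33 (n₁ : ℕ) (e : (Fin m ⊕ Fin m) ≃ Fin n₁ × Fin 3) (P : GL (Fin m ⊕ Fin m) F)
      (f₁ : (Fin n₁ → F) → (Fin n₁ → F) → F) (f₂ : (Fin 3 → F) → (Fin 3 → F) → F)
      (hq : Fintype.card F = 3) (h1 : 2 ≤ n₁) (hev : Even n₁)
      (hcard : n₁ * 3 = 2 * m) (hf₁ : IsSymplecticForm f₁) (hf₂ : IsSymmetricForm f₂)
      (hs : IsTensorFormStructure id (sympForm m F) f₁ f₂ e P)
      (h : H ≤ tensorProductSubgroup n₁ 3 e P)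
  | subfld (F₀ : Subfield F) (r : ℕ) (P : GL (Fin m ⊕ Fin m) F) (ζ : F) (hr : r.Prime)
      (hF : Fintype.card F = Nat.card F₀ ^ r) (hζ : ζ ≠ 0)
      (hs : IsFormRationalStructure (sympForm m F) F₀ ζ P) (h : H ≤ subfieldSubgroup F₀ P)
  | class6 (R : Subgroup (GL (Fin m ⊕ Fin m) F)) (p k : ℕ) (hR : IsSymplecticTypeGroup 2 R)
      (habs : ActsAbsolutelyIrreducibly (matrixSet R)) (hle : R ≤ similarityGroup (sympForm m F))
      (hp : p.Prime) (hodd : Odd p) (hF : Fintype.card F = p)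
      (hcard : Nat.card R = 2 ^ (1 + 2 * k)) (hcen : Nat.card (Subgroup.center R) = 2)
      (hminus : IsOfMinusType k R) (hdim : 2 * m = 2 ^ k) (h : H ≤ subgroupNormalizer R)
  | wreath (k t : ℕ) (e : (Fin m ⊕ Fin m) ≃ (Fin t → Fin k)) (P : GL (Fin m ⊕ Fin m) F)
      (f₁ : (Fin k → F) → (Fin k → F) → F) (hodd : Odd (Fintype.card F)) (ht : Odd t) (ht3 : 3 ≤ t)
      (hk : 2 ≤ k) (hev : Even k) (hcard : k ^ t = 2 * m) (hex : ¬ (Fintype.card F = 3 ∧ k = 2))
      (hf₁ : IsSymplecticForm f₁) (hs : IsTensorPowerFormStructure id (sympForm m F) f₁ e P)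
      (h : H ≤ tensorWreathSubgroup k t e P)
  | quad (Q : (Fin m ⊕ Fin m → F) → F) (heven : ¬ Odd (Fintype.card F))
      (hQ : IsNondegenerateQuadraticForm Q) (hpol : ∀ u v, QuadraticMap.polar Q u v = sympForm m F u v)
      (h : H ≤ quadSimilarityGroup Q)
  | residual (h : InSymplecticResidualClass H)

theorem formSpace_sympForm :
    FormSpace σ₀ (-1) (sympForm m F) := by
  refine ⟨⟨sf_add_left, sf_smul_left, sf_add_right, fun c u v => sf_smul_right c u v⟩, fun _ => rfl,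
    fun v hv => ?_, fun u v => ?_⟩
  · obtain ⟨x, hx⟩ := sf_exists_one hv
    exact ⟨⟨x, by rw [sf_swap, hx]; simp⟩, ⟨x, by rw [hx]; exact one_ne_zero⟩⟩
  · rw [sf_swap v u, RingEquiv.refl_apply, neg_one_mul]

theorem not_odd_of_two_eq_zero [Fintype F] (h2 : (2 : F) = 0) : ¬ Odd (Fintype.card F) := by
  haveI : CharP F 2 := CharTwo.of_one_ne_zero_of_two_eq_zero one_ne_zero h2
  rw [Nat.not_odd_iff]
  exact FiniteField.even_card_of_char_two (ringChar.eq F 2)

theorem isSymmetricForm_formOfGram {n : ℕ} {G : Matrix (Fin n) (Fin n) F} (hu : IsUnit G)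
    (hs : ∀ i j, G i j = G j i) : IsSymmetricForm (formOfGram σ₀ G) := by
  have hb := isSesq_formOfGram σ₀ G
  refine ⟨⟨hb.add_left, hb.smul_left, hb.add_right, hb.smul_right⟩, fun u v => ?_,
    nondegenerate_formOfGram hu⟩
  simp only [formOfGram, RingEquiv.refl_apply]
  rw [Finset.sum_comm]
  exact Finset.sum_congr rfl fun a _ => Finset.sum_congr rfl fun b _ => by rw [hs b a]; ring

theorem sign_sq {n : ℕ} [NeZero n] {G : Matrix (Fin n) (Fin n) F} (hu : IsUnit G) {c : F}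
    (h : Gᵀ = c • G.map σ₀) : c = 1 ∨ c = -1 := by
  rw [show G.map σ₀ = G from Matrix.map_id _] at h
  have h1 : G = (c * c) • G := by
    conv_lhs => rw [← Matrix.transpose_transpose G, h, Matrix.transpose_smul, h, smul_smul]
  have h0 : G ≠ 0 := hu.ne_zero
  have := smul_left_injective F h0 (show (1 : F) • G = (c * c) • G by rw [one_smul]; exact h1)
  exact mul_self_eq_one_iff.mp this.symm

variable [Fintype F]

local notation "GLs" => GL (Fin m ⊕ Fin m) F

theorem outcome_field (hm : 1 ≤ m) {H : Subgroup GLs} (hH : FixesForm (matrixSet H) (sympForm m F))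
    (hirr : ActsIrreducibly (matrixSet H)) {d : ℕ}
    {K : Subalgebra F (Matrix (Fin m ⊕ Fin m) (Fin m ⊕ Fin m) F)} (hd : 2 ≤ d)
    (hK : IsFieldSubalgebra d K) (hA : AdjClosed σ₀ (sympForm m F) K)
    (hHK : H ≤ subalgebraNormalizer K) : SymplecticOutcome H := by
  haveI : Nonempty (Fin m ⊕ Fin m) := ⟨Sum.inl ⟨0, hm⟩⟩
  have h := formSpace_sympForm (m := m) (F := F)
  obtain ⟨r, L, hr, -, -, hL, hLA, hle⟩ := h.exists_prime_field hd hK hA
  have hHL : H ≤ subalgebraNormalizer L := hHK.trans hle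
  rcases (h.field_parity hL hr hLA).2 rfl with hall | rfl
  · have hk := h.field_alternating sf_self hH hirr hL hHL hall
    exact .field r L hr (field_dvd_half h (by simp [two_mul]) hL hall hk) hL
      (fun X hX u v => by rw [h.adj_spec, hall X hX]) hk hHL
  by_cases hall : ∀ X ∈ L, adj σ₀ (sympForm m F) X = X
  · have hk := h.field_alternating sf_self hH hirr hL hHL hall
    exact .field 2 L hr (field_dvd_half h (by simp [two_mul]) hL hall hk) hL
      (fun X hX u v => by rw [h.adj_spec, hall X hX]) hk hHL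
  push Not at hall
  obtain ⟨k₀, hk₀, hne⟩ := hall
  by_cases h2 : (2 : F) = 0
  · obtain ⟨Q, hQ, hpol, hHQ⟩ := h.field_quadratic h2 hH hL hLA hHL hk₀ hne
    exact .quad Q (not_odd_of_two_eq_zero h2) hQ hpol hHQ
  · refine .unitaryField L (odd_card_of_two_ne_zero h2) hL
      (fun X hX => ⟨adj σ₀ (sympForm m F) X, hLA X hX, fun u v => h.adj_spec X u v⟩)
      (fun hself => hne ?_) hHL
    exact (h.adj_unique (X := k₀) (Y := k₀) fun u v => hself k₀ hk₀ u v)

theorem outcome_tensor_aux {H : Subgroup GLs}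
    (hH : FixesForm (matrixSet H) (sympForm m F)) (h2 : (2 : F) ≠ 0) {a b : ℕ}
    {e : (Fin m ⊕ Fin m) ≃ Fin a × Fin b} {P : GLs}
    {G₁ : Matrix (Fin a) (Fin a) F} {G₂ : Matrix (Fin b) (Fin b) F} {c₁ c₂ : F}
    (d : TensorFormData σ₀ (-1) (sympForm m F) H a b e P G₁ G₂ c₁ c₂) (hc₁ : c₁ = -1) (hc₂ : c₂ = 1) :
    SymplecticOutcome H := by
  have h := formSpace_sympForm (m := m) (F := F)
  have hcard : a * b = 2 * m := by rw [d.card]; simp [two_mul]
  have ha := d.two_le₁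
  have hb := d.two_le₂
  have hm : 1 ≤ m := by nlinarith
  haveI : Nonempty (Fin m ⊕ Fin m) := ⟨Sum.inl ⟨0, hm⟩⟩
  have hodd := odd_card_of_two_ne_zero h2
  have hs2 : G₂ᵀ = G₂ := by rw [d.herm₂, hc₂, one_smul]; exact Matrix.map_id _
  rcases Nat.lt_or_ge b 3 with hb3 | hb3
  · obtain rfl : b = 2 := by omega
    rcases d.symmetric_two h h2 (le_similarityGroup_of_fixes hH) hs2 with
      ⟨K, h1, h2', h3, h4⟩ | ⟨k, D, h1, h2', h3, h4⟩
    · exact .unitaryField K hodd h1 h2' h3 h4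
    · obtain rfl : k = m := by simp at h1; omega
      exact .tsPair D hodd h2' h3 h4
  have hskew : ∀ i j, G₁ i j = - G₁ j i := fun i j => by
    have := congrFun (congrFun d.herm₁ j) i
    rw [hc₁] at this
    simpa using this
  have hdiag : ∀ i, G₁ i i = 0 := fun i => by
    have h3 : (2 : F) * G₁ i i = 0 := by linear_combination hskew i i
    exact (mul_eq_zero.mp h3).resolve_left h2
  have hev : Even a := by simpa using even_card_of_alternating hskew hdiag d.unit₁
  have hf₁ := isSymplecticForm_formOfGram d.unit₁ hskew hdiag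
  have hf₂ := isSymmetricForm_formOfGram d.unit₂ fun i j => (congrFun (congrFun hs2 i) j).symm
  have hst := isTensorFormStructure_of_data h d
  by_cases hex : Fintype.card F = 3 ∧ b = 3
  · obtain ⟨hq, rfl⟩ := hex
    exact .tensor33 a e P _ _ hq ha hev hcard hf₁ hf₂ hst d.le
  exact .tensor a b e P _ _ hodd ha hb3 hev hcard hf₁ hf₂ hst
    (fun hq hb => hex ⟨hq, hb⟩) d.le

theorem outcome_tensor (hm : 1 ≤ m) {H : Subgroup GLs}
    (hH : FixesForm (matrixSet H) (sympForm m F))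
    (hirr : ActsIrreducibly (matrixSet H)) {a : ℕ} (ha : 2 ≤ a)
    (hlt : a < Fintype.card (Fin m ⊕ Fin m))
    (A : Subalgebra F (Matrix (Fin m ⊕ Fin m) (Fin m ⊕ Fin m) F))
    (hA : AdjClosed σ₀ (sympForm m F) A) (hHA : H ≤ subalgebraNormalizer A)
    (φ : Matrix (Fin a) (Fin a) F ≃ₐ[F] A) : SymplecticOutcome H := by
  haveI : Nonempty (Fin m ⊕ Fin m) := ⟨Sum.inl ⟨0, hm⟩⟩
  have h := formSpace_sympForm (m := m) (F := F)
  obtain ⟨b, e, P, G₁, G₂, c₁, c₂, d, hc⟩ := h.exists_tensorFormData ha hlt A hA hHA φ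
  by_cases h2 : (2 : F) = 0
  · obtain ⟨Q, hQ, hpol, hle⟩ := d.char_two h sf_self h2 hH hirr
    exact .quad Q (not_odd_of_two_eq_zero h2) hQ hpol hle
  haveI : NeZero a := ⟨by omega⟩
  haveI : NeZero b := ⟨by have := d.two_le₂; omega⟩
  rcases sign_sq d.unit₁ d.herm₁ with h1 | h1
  · have h2' : c₂ = -1 := by rw [h1, one_mul] at hc; exact hc
    exact outcome_tensor_aux hH h2 (tensorFormData_swap d) h2' h1
  · have h2' : c₂ = 1 := by
      rw [h1] at hc; linear_combination -hc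
    exact outcome_tensor_aux hH h2 d h1 h2'

theorem outcome_core (hm : 1 ≤ m) {H P : Subgroup GLs}
    (hH : FixesForm (matrixSet H) (sympForm m F)) (hle : P ≤ H)
    (hc : PreCore (H ⊔ scalars (Fin m ⊕ Fin m) F) P) : SymplecticOutcome H := by
  classical
  haveI : Nonempty (Fin m ⊕ Fin m) := ⟨Sum.inl ⟨0, hm⟩⟩
  have h := formSpace_sympForm (m := m) (F := F)
  have hn : ∀ g ∈ H, ∀ x ∈ P, g * x * g⁻¹ ∈ P := fun g hg => hc.normal g (Subgroup.mem_sup_left hg)
  have hPf : FixesForm (matrixSet P) (sympForm m F) := fun s hs => hH s (Set.image_mono hle hs)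
  by_cases hsub : ∃ F₀ : Subfield F, F₀ ≠ ⊤ ∧ RealisableOver F₀ (matrixSet P)
  · obtain ⟨F₀, hne, hr⟩ := hsub
    obtain ⟨F₁, r, B, ζ, hr', hF, hζ, -, hrat, hle', -⟩ :=
      h.subfield_case hc.absIrred hn hPf hne hr
    exact .subfld F₁ r B ζ hr' hF hζ hrat hle'
  push Not at hsub
  by_cases hu : ∃ (σ : F ≃+* F) (g : (Fin m ⊕ Fin m → F) → (Fin m ⊕ Fin m → F) → F),
      IsUnitaryForm σ g ∧ FixesForm (matrixSet P) g
  · obtain ⟨σ, g, hg, hfix⟩ := hu
    exact absurd (descent_of_forms hc.absIrred (isSesq_of_unitary hg) hg.nondegenerate h.sesq h.nondeg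
      hfix hPf) (hsub _ (eqLocusField_ne_top hg.ne_refl))
  by_cases hq : ∃ Q : (Fin m ⊕ Fin m → F) → F, IsNondegenerateQuadraticForm Q ∧
      FixesQuadForm (matrixSet P) Q
  · obtain ⟨Q, hQ, hfix⟩ := hq
    by_cases h2 : (2 : F) = 0
    · obtain ⟨Q', a, b, c⟩ := quad_of_fixed h h2 (by simp; omega) hH hle hc.absIrred hn hQ hfix
      exact .quad Q' (not_odd_of_two_eq_zero h2) a b c
    · exfalso
      have hsQ := isSesq_of_bilinear hQ.polar_bilinear
      obtain ⟨c, hcG⟩ := invariant_unique hc.absIrred (isUnit_gram hsQ hQ.nondegenerate)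
        (fun s hs => (fixes_iff_gtr hsQ s).mp (fixesForm_polar hfix s hs))
        (fun s hs => (fixes_iff_gtr h.sesq s).mp (hPf s hs))
      have hz : gramMatrix (sympForm m F) = 0 := by
        ext i j
        have e1 := congrFun (congrFun hcG i) j
        have e2 := congrFun (congrFun hcG j) i
        have e3 : gramMatrix (QuadraticMap.polar Q) j i = gramMatrix (QuadraticMap.polar Q) i j :=
          QuadraticMap.polar_comm Q _ _
        have e4 : gramMatrix (sympForm m F) j i = - gramMatrix (sympForm m F) i j := sf_swap _ _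
        rw [Matrix.smul_apply, e3] at e2
        rw [Matrix.smul_apply] at e1
        rw [e4, ← e1] at e2
        have h3 : (2 : F) * gramMatrix (sympForm m F) i j = 0 := by linear_combination -e2
        exact (mul_eq_zero.mp h3).resolve_left h2
      have hu' := isUnit_gram h.sesq h.nondeg
      rw [hz] at hu'
      exact not_isUnit_zero hu'
  exact .residual ⟨P, ⟨hle, hn, hc.perfect, hc.simple, hc.nonabelian,
    fun g hg => hc.centralizer_scalar g (Subgroup.mem_sup_left hg), hc.absIrred, hsub⟩, hq, hu⟩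

theorem outcome_power (hm : 1 ≤ m) {H : Subgroup GLs}
    (hH : FixesForm (matrixSet H) (sympForm m F)) {t k : ℕ}
    {A : Fin t → Subalgebra F (Matrix (Fin m ⊕ Fin m) (Fin m ⊕ Fin m) F)}
    (hA : TensorPowerData (H ⊔ scalars (Fin m ⊕ Fin m) F) t k A) : SymplecticOutcome H := by
  classical
  haveI : Nonempty (Fin m ⊕ Fin m) := ⟨Sum.inl ⟨0, hm⟩⟩
  have h := formSpace_sympForm (m := m) (F := F)
  obtain ⟨e, P, G₀, i₀, d, hslot⟩ :=
    h.exists_powerFormData_of_tensorPower hA (h.sup_scalars_le_similarity hH)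
  have d' : PowerFormData σ₀ (sympForm m F) H k t e P G₀ :=
    ⟨d.two_le_k, d.two_le_t, d.card, d.gram, d.unit, le_sup_left.trans d.le⟩
  by_cases h2 : (2 : F) = 0
  · obtain ⟨Q, hQ, hpol, hle⟩ := PowerFormData.char_two d' h sf_self h2 hH
    exact .quad Q (not_odd_of_two_eq_zero h2) hQ hpol hle
  obtain ⟨ht, hskew, hdiag⟩ := power_factor_alternating h h2 d'
  have hk := d.two_le_k
  have ht2 := d.two_le_t
  have ht3 : 3 ≤ t := by rcases ht with ⟨s, rfl⟩; omega
  have hev : Even k := by simpa using even_card_of_alternating hskew hdiag d.unit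
  have hex : ¬ (Fintype.card F = 3 ∧ k = 2) := by
    rintro ⟨hq, rfl⟩
    obtain ⟨D, hDle, hDp, hDn, hDA⟩ := hA.perfect i₀
    refine hDn (PowerFormData.no_perfect d' h (isSolvable_gramFix_three_two hq _ _) ?_ hDp i₀ fun x hx =>
      hslot _ (hDA (val_mem_env hx)))
    intro s hs
    refine hH s (Set.image_mono ?_ hs)
    intro x hx
    have h1 : x ∈ ⁅H ⊔ scalars (Fin m ⊕ Fin m) F, H ⊔ scalars (Fin m ⊕ Fin m) F⁆ :=
      Subgroup.commutator_mono hDle hDle (by rw [hDp]; exact hx)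
    rw [commutator_sup_scalars] at h1
    refine (Subgroup.commutator_le.mpr fun a ha b hb => ?_) h1
    rw [commutatorElement_def]
    exact H.mul_mem (H.mul_mem (H.mul_mem ha hb) (H.inv_mem ha)) (H.inv_mem hb)
  exact .wreath k t e P _ (odd_card_of_two_ne_zero h2) ht ht3 hk hev
    (by rw [d.card]; simp [two_mul]) hex
    (isSymplecticForm_formOfGram d.unit hskew hdiag) (isTensorPowerFormStructure_of_data h d') d'.le

/-- Aschbacher's theorem for the symplectic groups. -/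
theorem symplectic_aschbacher (hm : 1 ≤ m) (H : Subgroup GLs) (hH : H ≤ spGL m F) :
    SymplecticOutcome H := by
  classical
  haveI : Nonempty (Fin m ⊕ Fin m) := ⟨Sum.inl ⟨0, hm⟩⟩
  have h := formSpace_sympForm (m := m) (F := F)
  have hfix : FixesForm (matrixSet H) (sympForm m F) := by
    rintro _ ⟨g, hg, rfl⟩ u v
    exact hH hg u v
  have hcardι : Fintype.card (Fin m ⊕ Fin m) = 2 * m := by simp [two_mul]
  by_cases hirr : ActsIrreducibly (matrixSet H)
  swap
  · rcases h.reducible_cases hfix hirr with ⟨W, a, b, c⟩ | ⟨W, a, b, c, e⟩ | ⟨k, D, a, b, c⟩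
    · exact .ts W a b c
    · exact .nondeg W a b (by omega) (even_finrank_of_nondegenerate h sf_self b) e
    · exact .decomp 2 k D b (by omega) (even_of_decomposition h sf_self b) c
  set H' := H ⊔ scalars (Fin m ⊕ Fin m) F with hH'
  have hHle : H ≤ H' := le_sup_left
  have hsim : H' ≤ similarityGroup (sympForm m F) := h.sup_scalars_le_similarity hfix
  obtain ⟨N, hZN, hNH, hNn, hmin, hcases⟩ := structure_theorem H'
    (actsIrreducibly_mono hHle hirr) le_sup_right (by omega)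
  have hNA : H' ≤ subalgebraNormalizer (env N) :=
    le_subalgebraNormalizer fun g hg X hX => cj_mem_env (fun x hx => hNn g hg x hx) hX
  have hAdj := h.adjClosed_env (hNH.trans hsim)
  rcases hcases with ⟨t, e, he⟩ | ⟨d, hd, hK⟩ | ⟨a, ha1, ha2, ⟨φ⟩⟩ | ⟨hNabs, hrest⟩
  · rcases h.imprimitive_cases hfix hAdj he with ⟨t', k, D, a, b, c, -⟩ | ⟨k, D, a, b, c, e'⟩
    · exact .decomp t' k D a (by omega) (even_of_decomposition h sf_self a) c
    · obtain rfl : k = m := by omega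
      by_cases h2 : (2 : F) = 0
      · obtain ⟨Q, hQ, hpol, hle⟩ := quad_of_tsPair h h2 hfix b c e'
        exact .quad Q (not_odd_of_two_eq_zero h2) hQ hpol hle
      · exact .tsPair D (odd_card_of_two_ne_zero h2) b c e'
  · exact outcome_field hm hfix hirr hd hK (h.adjClosed_centre hAdj)
      (hHle.trans (normalizer_centre_le hNA))
  · exact outcome_tensor hm hfix hirr ha1 ha2 (env N) hAdj (hHle.trans hNA) φ
  rcases hrest with ⟨r, k, z, R, hd⟩ | ⟨t, k, A, hA⟩ | hcore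
  · obtain ⟨R₁, hd₁⟩ := h.exists_isoSympData (by omega) hfix hNH hmin
      (fun g hg x hx => hNn g hg x hx) hZN hd
    rcases IsoSympData.symplectic_case hd₁ h with
      ⟨F₁, r', B, ζ, h1, h2, h3, h4, h5⟩ | ⟨p, h1, h2, h3, h4, h5, h6, h7, h8, h9, h10, h11⟩
    · exact .subfld F₁ r' B ζ h1 h2 h3 h4 h5
    · exact .class6 R₁ p k h1 h2 h3 h4 h5 h6 h7 h8 h9 (by omega) h11
  · exact outcome_power hm hfix hA
  · refine outcome_core hm hfix (P := ⁅N, N⁆) ?_ hcore
    have h1 : ⁅N, N⁆ ≤ ⁅H', H'⁆ := Subgroup.commutator_mono hNH hNH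
    rw [hH', commutator_sup_scalars] at h1
    refine h1.trans (Subgroup.commutator_le.mpr fun x hx y hy => ?_)
    rw [commutatorElement_def]
    exact H.mul_mem (H.mul_mem (H.mul_mem hx hy) (H.inv_mem hx)) (H.inv_mem hy)

end Cfsg.Agent.Symplectic.Asch

namespace Cfsg.Agent.Symplectic.Asch

open scoped MatrixGroups Matrix
open Cfsg Cfsg.Geo

variable {F : Type*} [Field F] [Fintype F] {m : ℕ}

/-- The outcome as containment in a member of a geometric class. -/
theorem SymplecticOutcome.exists_class {H : Subgroup (GL (Fin m ⊕ Fin m) F)} (hH : H ≤ spGL m F)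
    (h : SymplecticOutcome H) :
    (∃ M : Subgroup (GL (Fin m ⊕ Fin m) F), InSymplecticClass m F M ∧ H ≤ M) ∨
      InSymplecticResidualClass H := by
  cases h with
  | ts W h1 h2 h => exact Or.inl ⟨_, Or.inl (Or.inl ⟨W, h1, h2, rfl⟩), le_inf h hH⟩
  | nondeg W h1 h2 h3 hev h =>
    exact Or.inl ⟨_, Or.inl (Or.inr <| Or.inl ⟨W, h1, h2, h3, rfl⟩), le_inf h hH⟩
  | decomp t k D hD hcard hev h =>
    exact Or.inl ⟨_, Or.inl (Or.inr <| Or.inr <| Or.inl ⟨t, k, D, hD, rfl⟩), le_inf h hH⟩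
  | tsPair D hodd hD hts h =>
    exact Or.inl ⟨_, Or.inl (Or.inr <| Or.inr <| Or.inr <| Or.inl ⟨D, hodd, hD, hts, rfl⟩),
      le_inf h hH⟩
  | field r K hr hdvd hK hs hk h =>
    exact Or.inl ⟨_, Or.inr (Or.inl ⟨r, K, hr, hK, hs, hk, rfl⟩), le_inf h hH⟩
  | unitaryField K hodd hK hs hns h =>
    exact Or.inl ⟨_, Or.inr <| Or.inr <| Or.inl ⟨K, hodd, hK, hs, hns, rfl⟩, le_inf h hH⟩
  | tensor n₁ n₂ e P f₁ f₂ hodd h1 h2 hev hcard hf₁ hf₂ hs hex h =>
    exact Or.inl ⟨_, Or.inr <| Or.inr <| Or.inr <| Or.inl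
      ⟨n₁, n₂, e, P, f₁, f₂, hodd, h2, hf₁, hf₂, hs, rfl⟩, le_inf h hH⟩
  | tensor33 n₁ e P f₁ f₂ hq h1 hev hcard hf₁ hf₂ hs h =>
    exact Or.inl ⟨_, Or.inr <| Or.inr <| Or.inr <| Or.inl
      ⟨n₁, 3, e, P, f₁, f₂, by rw [hq]; exact ⟨1, rfl⟩, le_rfl, hf₁, hf₂, hs, rfl⟩, le_inf h hH⟩
  | subfld F₀ r P ζ hr hF hζ hs h =>
    exact Or.inl ⟨_, Or.inl (Or.inr <| Or.inr <| Or.inr <| Or.inr <| Or.inl
      ⟨F₀, r, P, ζ, hr, hF, hζ, hs, rfl⟩), le_inf h hH⟩
  | class6 R p k hR habs hle hp hodd hF hcard hcen hminus hdim h =>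
    exact Or.inl ⟨_, Or.inl (Or.inr <| Or.inr <| Or.inr <| Or.inr <| Or.inr <| Or.inl
      ⟨R, p, k, hR, habs, hle, hp, hodd, hF, hcard, hcen, hminus, rfl⟩), le_inf h hH⟩
  | wreath k t e P f₁ hodd ht ht3 hk hev hcard hex hf₁ hs h =>
    exact Or.inl ⟨_, Or.inr <| Or.inr <| Or.inr <| Or.inr
      ⟨k, t, e, P, f₁, hodd, ht, ht3, hex, hf₁, hs, rfl⟩, le_inf h hH⟩
  | quad Q heven hQ hpol h =>
    exact Or.inl ⟨_, Or.inl (Or.inr <| Or.inr <| Or.inr <| Or.inr <| Or.inr <| Or.inr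
      ⟨Q, heven, hQ, hpol, rfl⟩), le_inf h hH⟩
  | residual h => exact Or.inr h

end Cfsg.Agent.Symplectic.Asch
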