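import Cfsg.Agent.Symplectic.AschFrame
import Cfsg.Agent.Symplectic.AschTheorem
import Cfsg.Agent.Aschbacher.FormedPowerTwo

/-! A four-dimensional orthogonal tensor factor of plus type is a tensor product of two planes. -/

set_option autoImplicit false
set_option maxHeartbeats 1000000
set_option linter.unusedSectionVars false
set_option linter.style.haveILetI false

namespace Cfsg.Agent.Symplectic.Asch

open scoped MatrixGroups Matrix Kronecker
open Cfsg Cfsg.Geo Cfsg.Agent.Aschbacher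

variable {F : Type*} [Field F]

local notation "M2" => Matrix (Fin 2) (Fin 2) F
local notation "V4" => (Fin 4 → F)

theorem bilinear_sum {n : ℕ} {f : (Fin n → F) → (Fin n → F) → F} (hf : IsBilinearForm f)
    {κ : Type} [Fintype κ] (x y : κ → F) (β : κ → Fin n → F) :
    f (∑ p, x p • β p) (∑ p, y p • β p) = ∑ p, ∑ r, x p * y r * f (β p) (β r) := by
  let B : (Fin n → F) →ₗ[F] (Fin n → F) →ₗ[F] F :=
    LinearMap.mk₂ F f hf.add_left hf.smul_left hf.add_right hf.smul_right
  show B (∑ p, x p • β p) (∑ p, y p • β p) = _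
  simp only [map_sum, map_smul, LinearMap.coe_sum, Finset.sum_apply, LinearMap.smul_apply,
    smul_eq_mul, Finset.mul_sum]
  rw [Finset.sum_comm]
  exact Finset.sum_congr rfl fun p _ => Finset.sum_congr rfl fun r _ => by
    show _ * (_ * f (β p) (β r)) = _
    ring

/-- A symmetric form of plus type on four dimensions is the tensor square of the alternating
plane. -/
theorem exists_plus_basis (h2 : (2 : F) ≠ 0) {f : V4 → V4 → F} (hf : IsSymmetricForm f)
    (hplus : IsPlusTypeOn (fun v : V4 => f v v) ⊤) :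
    ∃ β : Fin 2 × Fin 2 → V4, ∀ p r, f (β p) (β r) = altTwo p.1 r.1 * altTwo p.2 r.2 := by
  obtain ⟨U, -, hU, hdim⟩ := hplus
  rw [finrank_top, Module.finrank_fin_fun] at hdim
  have hrk : Module.finrank F U = 2 := by omega
  have hb := hf.bilinear
  have hs := hf.symm
  have hUU : ∀ u ∈ U, ∀ v ∈ U, f u v = 0 := by
    intro u hu v hv
    have h1 : f (u + v) (u + v) = 0 := hU _ (U.add_mem hu hv)
    rw [hb.add_left, hb.add_right, hb.add_right, show f u u = 0 from hU u hu,
      show f v v = 0 from hU v hv, hs v u] at h1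
    exact (mul_eq_zero.mp (show (2 : F) * f u v = 0 by linear_combination h1)).resolve_left h2
  have hdual : ∀ u : V4, u ≠ 0 → ∃ v, f u v = 1 := by
    intro u hu
    obtain ⟨-, x, hx⟩ := hf.nondegenerate u hu
    exact ⟨(f u x)⁻¹ • x, by rw [hb.smul_right, inv_mul_cancel₀ hx]⟩
  let b := Module.finBasisOfFinrankEq F U hrk
  set u1 : V4 := (b 0 : V4) with hu1
  have hne1 : u1 ≠ 0 := fun h => b.ne_zero 0 (Subtype.ext h)
  obtain ⟨v, hv⟩ := hdual u1 hne1
  set u2 : V4 := (b 1 : V4) - f (b 1 : V4) v • u1 with hu2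
  have hne2 : u2 ≠ 0 := by
    intro h
    have h' : b 1 - f (b 1 : V4) v • b 0 = 0 := Subtype.ext h
    have h'' := congrArg (fun z : U => b.repr z 1) h'
    simp at h''
  have hu2U : u2 ∈ U := U.sub_mem (b 1).2 (U.smul_mem _ (b 0).2)
  have hu2v : f u2 v = 0 := by
    rw [hu2, sub_eq_add_neg, ← neg_smul, hb.add_left, hb.smul_left, hv]; ring
  obtain ⟨w, hw⟩ := hdual u2 hne2
  set w' : V4 := w + (-f u1 w) • v with hw'
  have hu1w' : f u1 w' = 0 := by rw [hw', hb.add_right, hb.smul_right, hv]; ring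
  have hu2w' : f u2 w' = 1 := by rw [hw', hb.add_right, hb.smul_right, hu2v, hw]; ring
  have h11 : f u1 u1 = 0 := hUU _ (b 0).2 _ (b 0).2
  have h12 : f u1 u2 = 0 := hUU _ (b 0).2 _ hu2U
  have h21 : f u2 u1 = 0 := hUU _ hu2U _ (b 0).2
  have h22 : f u2 u2 = 0 := hUU _ hu2U _ hu2U
  have hvu1 : f v u1 = 1 := by rw [hs, hv]
  have hvu2 : f v u2 = 0 := by rw [hs, hu2v]
  have hwu1 : f w' u1 = 0 := by rw [hs, hu1w']
  have hwu2 : f w' u2 = 1 := by rw [hs, hu2w']
  set v1 : V4 := v + (-f v v / 2) • u1 with hv1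
  set v2 : V4 := w' + (-f w' w' / 2) • u2 + (-f v w') • u1 with hv2
  have e11 : f u1 v1 = 1 := by rw [hv1, hb.add_right, hb.smul_right, h11, hv]; ring
  have e12 : f u1 v2 = 0 := by
    rw [hv2, hb.add_right, hb.add_right, hb.smul_right, hb.smul_right, h11, h12, hu1w']; ring
  have e21 : f u2 v1 = 0 := by rw [hv1, hb.add_right, hb.smul_right, h21, hu2v]; ring
  have e22 : f u2 v2 = 1 := by
    rw [hv2, hb.add_right, hb.add_right, hb.smul_right, hb.smul_right, h21, h22, hu2w']; ring
  have g11 : f v1 v1 = 0 := by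
    simp only [hv1, hb.add_left, hb.add_right, hb.smul_left, hb.smul_right, h11, hv, hvu1]
    field_simp
    ring
  have g12 : f v1 v2 = 0 := by
    simp only [hv1, hv2, hb.add_left, hb.add_right, hb.smul_left, hb.smul_right, h11, h12, hu1w',
      hvu1, hvu2]
    ring
  have g22 : f v2 v2 = 0 := by
    simp only [hv2, hb.add_left, hb.add_right, hb.smul_left, hb.smul_right, h11, h12, h21, h22,
      hu1w', hu2w', hwu1, hwu2]
    field_simp
    ring
  have e11' : f v1 u1 = 1 := by rw [hs, e11]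
  have e12' : f v2 u1 = 0 := by rw [hs, e12]
  have e21' : f v1 u2 = 0 := by rw [hs, e21]
  have e22' : f v2 u2 = 1 := by rw [hs, e22]
  have g21 : f v2 v1 = 0 := by rw [hs, g12]
  refine ⟨fun p => ![![u1, u2], ![-v2, v1]] p.1 p.2, ?_⟩
  have hneg : (-v2 : V4) = (-1 : F) • v2 := (neg_one_smul F v2).symm
  rintro ⟨i, j⟩ ⟨k, l⟩
  fin_cases i <;> fin_cases j <;> fin_cases k <;> fin_cases l <;>
    simp [altTwo, hneg, hb.smul_left, hb.smul_right, -neg_smul, h11, h12, h21, h22, e11, e12, e21,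
      e22, e11', e12', e21', e22', g11, g12, g21, g22]

/-- The polar form of the determinant. -/
def detBil (W W' : Matrix (Fin 2) (Fin 2) F) : F := (W + W').det - W.det - W'.det

theorem detBil_mul (a c W W' : M2) :
    detBil (a * W * c) (a * W' * c) = a.det * c.det * detBil W W' := by
  simp only [detBil, ← add_mul, ← mul_add, Matrix.det_mul]
  ring

theorem rank_one_two {M : M2} (h : M.det = 0) :
    ∃ x y : Fin 2 → F, ∀ i j, M i j = x i * y j := by
  rw [Matrix.det_fin_two] at h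
  by_cases h0 : M 0 0 = 0
  · by_cases h1 : M 0 1 = 0
    · exact ⟨![0, 1], ![M 1 0, M 1 1], fun i j => by fin_cases i <;> fin_cases j <;> simp [h0, h1]⟩
    · have h10 : M 1 0 = 0 := by
        rw [h0, zero_mul, zero_sub, neg_eq_zero] at h
        exact (mul_eq_zero.mp h).resolve_left h1
      exact ⟨![M 0 1, M 1 1], ![0, 1],
        fun i j => by fin_cases i <;> fin_cases j <;> simp [h0, h10]⟩
  · refine ⟨![M 0 0, M 1 0], ![1, M 0 1 / M 0 0], fun i j => ?_⟩
    fin_cases i <;> fin_cases j <;> simp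
    · field_simp
    · field_simp
      linear_combination h

/-- Four matrices with the pairings of the standard ones come from a pair of changes of basis. -/
theorem det_pairs (h2 : (2 : F) ≠ 0) (W : Fin 2 × Fin 2 → M2) {l : F} (hl : l ≠ 0)
    (hW : ∀ p r, detBil (W p) (W r) = l * (altTwo p.1 r.1 * altTwo p.2 r.2)) :
    ∃ a c : M2, a.det ≠ 0 ∧ c.det ≠ 0 ∧
      ((∀ p i j, W p i j = a i p.1 * c j p.2) ∨ ∀ p i j, W p i j = a i p.2 * c j p.1) := by
  have hdet : ∀ p, (W p).det = 0 := by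
    intro p
    have h := hW p p
    have h0 : ∀ i : Fin 2, (altTwo i i : F) = 0 := fun i => by fin_cases i <;> simp [altTwo]
    rw [h0, zero_mul, mul_zero, detBil, ← two_smul F (W p), Matrix.det_smul, Fintype.card_fin] at h
    exact (mul_eq_zero.mp (show (2 : F) * (W p).det = 0 by linear_combination h)).resolve_left h2
  obtain ⟨x, y, hxy⟩ := rank_one_two (hdet (0, 0))
  obtain ⟨x', y', hxy'⟩ := rank_one_two (hdet (1, 1))
  set a : M2 := !![x 0, x' 0; x 1, x' 1] with ha
  set c : M2 := !![y 0, y 1; y' 0, y' 1] with hc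
  have hac : a.det * c.det = l := by
    have h := hW (0, 0) (1, 1)
    simp [detBil, altTwo, Matrix.det_fin_two, hxy, hxy'] at h
    rw [ha, hc]
    simp [Matrix.det_fin_two]
    linear_combination h
  have ha0 : a.det ≠ 0 := fun h => hl (by rw [← hac, h, zero_mul])
  have hc0 : c.det ≠ 0 := fun h => hl (by rw [← hac, h, mul_zero])
  have hW00 : W (0, 0) = a * !![1, 0; 0, 0] * c := by
    ext i j; fin_cases i <;> fin_cases j <;> simp [ha, hc, hxy]
  have hW11 : W (1, 1) = a * !![0, 0; 0, 1] * c := by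
    ext i j; fin_cases i <;> fin_cases j <;> simp [ha, hc, hxy']
  set Z : Fin 2 × Fin 2 → M2 := fun p => a⁻¹ * W p * c⁻¹ with hZ
  have hWZ : ∀ p, W p = a * Z p * c := fun p => by
    rw [hZ]
    simp only [← mul_assoc, Matrix.mul_nonsing_inv _ (isUnit_iff_ne_zero.mpr ha0), one_mul]
    rw [mul_assoc, Matrix.nonsing_inv_mul _ (isUnit_iff_ne_zero.mpr hc0), mul_one]
  have hB : ∀ X Y p r, W p = a * X * c → W r = a * Y * c →
      detBil X Y = altTwo p.1 r.1 * altTwo p.2 r.2 := by
    intro X Y p r hX hY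
    refine mul_left_cancel₀ hl ?_
    rw [← hW, hX, hY, detBil_mul, hac]
  have f01 := hB _ _ (0, 0) (0, 1) hW00 (hWZ _)
  have g01 := hB _ _ (1, 1) (0, 1) hW11 (hWZ _)
  have f10 := hB _ _ (0, 0) (1, 0) hW00 (hWZ _)
  have g10 := hB _ _ (1, 1) (1, 0) hW11 (hWZ _)
  have hmix := hB _ _ (0, 1) (1, 0) (hWZ _) (hWZ _)
  simp [detBil, altTwo, Matrix.det_fin_two] at f01 g01 f10 g10 hmix
  have z01 : Z (0, 1) 1 1 = 0 := by linear_combination f01
  have w01 : Z (0, 1) 0 0 = 0 := by linear_combination g01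
  have z10 : Z (1, 0) 1 1 = 0 := by linear_combination f10
  have w10 : Z (1, 0) 0 0 = 0 := by linear_combination g10
  have d01 : (Z (0, 1)).det = 0 := by
    rw [hZ]; simp only [Matrix.det_mul, hdet, mul_zero, zero_mul]
  have d10 : (Z (1, 0)).det = 0 := by
    rw [hZ]; simp only [Matrix.det_mul, hdet, mul_zero, zero_mul]
  rw [Matrix.det_fin_two, z01, w01, mul_zero, zero_sub, neg_eq_zero] at d01
  rw [Matrix.det_fin_two, z10, w10, mul_zero, zero_sub, neg_eq_zero] at d10
  rw [z01, w01, z10, w10] at hmix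
  have hw : ∀ p, W p = a * Z p * c := hWZ
  rcases mul_eq_zero.mp d01 with ht | hr
  · have hr : Z (0, 1) 1 0 ≠ 0 := fun h => by
      rw [ht, h] at hmix; exact one_ne_zero (α := F) (by linear_combination hmix)
    have ht' : Z (1, 0) 0 1 * Z (0, 1) 1 0 = 1 := by
      rw [ht] at hmix; linear_combination -hmix
    have hr' : Z (1, 0) 1 0 = 0 := (mul_eq_zero.mp d10).resolve_left fun h => by
      rw [h, zero_mul] at ht'; exact zero_ne_one ht'
    set r := Z (0, 1) 1 0
    set t' := Z (1, 0) 0 1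
    refine ⟨!![x 0, r * x' 0; x 1, r * x' 1], !![y 0, t' * y' 0; y 1, t' * y' 1], ?_, ?_, Or.inr ?_⟩
    · rw [show (!![x 0, r * x' 0; x 1, r * x' 1] : M2).det = r * a.det by
        simp [ha, Matrix.det_fin_two]; ring]
      exact mul_ne_zero hr ha0
    · rw [show (!![y 0, t' * y' 0; y 1, t' * y' 1] : M2).det = t' * c.det by
        simp [hc, Matrix.det_fin_two]; ring]
      exact mul_ne_zero (left_ne_zero_of_mul_eq_one ht') hc0
    · refine Prod.forall.mpr (Fin.forall_fin_two.mpr ⟨Fin.forall_fin_two.mpr ⟨fun i j => ?_, fun i j => ?_⟩,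
        Fin.forall_fin_two.mpr ⟨fun i j => ?_, fun i j => ?_⟩⟩)
      · fin_cases i <;> fin_cases j <;> simp [hxy]
      · rw [show W (0, 1) = _ from hw (0, 1)]
        fin_cases i <;> fin_cases j <;>
          simp [ha, hc, Matrix.mul_apply, Matrix.vecMul, dotProduct, Fin.sum_univ_two, -mul_eq_mul_left_iff,
            -mul_eq_mul_right_iff, z01, w01, ht, r] <;> ring
      · rw [show W (1, 0) = _ from hw (1, 0)]
        fin_cases i <;> fin_cases j <;>
          simp [ha, hc, Matrix.mul_apply, Matrix.vecMul, dotProduct, Fin.sum_univ_two, -mul_eq_mul_left_iff,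
            -mul_eq_mul_right_iff, z10, w10, hr', t'] <;> ring
      · fin_cases i <;> fin_cases j <;> simp [hxy'] <;>
          first
            | linear_combination (-(x' 0) * y' 0) * ht'
            | linear_combination (-(x' 0) * y' 1) * ht'
            | linear_combination (-(x' 1) * y' 0) * ht'
            | linear_combination (-(x' 1) * y' 1) * ht'
  · have ht : Z (0, 1) 0 1 ≠ 0 := fun h => by
      rw [hr, h] at hmix; exact one_ne_zero (α := F) (by linear_combination hmix)
    have hr' : Z (1, 0) 1 0 * Z (0, 1) 0 1 = 1 := by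
      rw [hr] at hmix; linear_combination -hmix
    have ht' : Z (1, 0) 0 1 = 0 := (mul_eq_zero.mp d10).resolve_right fun h => by
      rw [h, zero_mul] at hr'; exact zero_ne_one hr'
    set t := Z (0, 1) 0 1
    set r' := Z (1, 0) 1 0
    refine ⟨!![x 0, r' * x' 0; x 1, r' * x' 1], !![y 0, t * y' 0; y 1, t * y' 1], ?_, ?_, Or.inl ?_⟩
    · rw [show (!![x 0, r' * x' 0; x 1, r' * x' 1] : M2).det = r' * a.det by
        simp [ha, Matrix.det_fin_two]; ring]
      exact mul_ne_zero (left_ne_zero_of_mul_eq_one hr') ha0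
    · rw [show (!![y 0, t * y' 0; y 1, t * y' 1] : M2).det = t * c.det by
        simp [hc, Matrix.det_fin_two]; ring]
      exact mul_ne_zero ht hc0
    · refine Prod.forall.mpr (Fin.forall_fin_two.mpr ⟨Fin.forall_fin_two.mpr ⟨fun i j => ?_, fun i j => ?_⟩,
        Fin.forall_fin_two.mpr ⟨fun i j => ?_, fun i j => ?_⟩⟩)
      · fin_cases i <;> fin_cases j <;> simp [hxy]
      · rw [show W (0, 1) = _ from hw (0, 1)]
        fin_cases i <;> fin_cases j <;>
          simp [ha, hc, Matrix.mul_apply, Matrix.vecMul, dotProduct, Fin.sum_univ_two, -mul_eq_mul_left_iff,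
            -mul_eq_mul_right_iff, z01, w01, hr, t] <;> ring
      · rw [show W (1, 0) = _ from hw (1, 0)]
        fin_cases i <;> fin_cases j <;>
          simp [ha, hc, Matrix.mul_apply, Matrix.vecMul, dotProduct, Fin.sum_univ_two, -mul_eq_mul_left_iff,
            -mul_eq_mul_right_iff, z10, w10, ht', r'] <;> ring
      · fin_cases i <;> fin_cases j <;> simp [hxy'] <;>
          first
            | linear_combination (-(x' 0) * y' 0) * hr'
            | linear_combination (-(x' 0) * y' 1) * hr'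
            | linear_combination (-(x' 1) * y' 0) * hr'
            | linear_combination (-(x' 1) * y' 1) * hr'

variable {m : ℕ}

/-- A tensor decomposition with a plus type four-dimensional factor refines to three planes. -/
theorem tensor_plus_wreath (h2 : (2 : F) ≠ 0) {e : (Fin m ⊕ Fin m) ≃ Fin 2 × Fin 4}
    {P : GL (Fin m ⊕ Fin m) F} {f₁ : (Fin 2 → F) → (Fin 2 → F) → F} {f₂ : V4 → V4 → F}
    (hf₁ : IsSymplecticForm f₁) (hf₂ : IsSymmetricForm f₂)
    (hplus : IsPlusTypeOn (fun v : V4 => f₂ v v) ⊤)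
    (hs : IsTensorFormStructure id (sympForm m F) f₁ f₂ e P) :
    ∃ (e' : (Fin m ⊕ Fin m) ≃ (Fin 3 → Fin 2)) (P' : GL (Fin m ⊕ Fin m) F) (c : F), c ≠ 0 ∧
      (∀ x y, coordForm e' P' (sympForm m F) x y =
        c * formOfGram id (pureMat fun _ : Fin 3 => (altTwo : M2)) x y) ∧
      tensorProductSubgroup 2 4 e P ⊓ spGL m F ≤ tensorWreathSubgroup 2 3 e' P' := by
  classical
  obtain ⟨β, hβ⟩ := exists_plus_basis h2 hf₂ hplus
  obtain ⟨c, hc, hv⟩ := tensor_value hf₁.bilinear hf₂.bilinear hs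
  set d := f₁ (Pi.single 0 1) (Pi.single 1 1) with hd
  have hg₁ : ∀ i j : Fin 2, f₁ (Pi.single i 1) (Pi.single j 1) = d * altTwo i j := by
    intro i j
    fin_cases i <;> fin_cases j <;>
      simp [altTwo, hd, hf₁.alternating, hf₁.skew (Pi.single 1 1) (Pi.single 0 1)]
  have hd0 : d ≠ 0 := by
    intro h0
    obtain ⟨-, x, hx⟩ := hf₁.nondegenerate (Pi.single 0 1)
      (fun h => one_ne_zero (α := F) (by simpa using congrFun h 0))
    apply hx
    rw [(isSesq_of_bilinear hf₁.bilinear).eq_formOfGram]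
    simp [formOfGram, gramMatrix, hg₁, h0]
  -- the coordinates of the four-dimensional factor
  have hli : LinearIndependent F β := by
    rw [Fintype.linearIndependent_iff]
    intro g hg p
    let δ : Fin 2 × Fin 2 → F := Pi.single (p.1 + 1, p.2 + 1) 1
    have h := bilinear_sum hf₂.bilinear g δ β
    rw [hg, show f₂ 0 (∑ r, δ r • β r) = 0 by
      rw [show (0 : V4) = (0 : F) • (0 : V4) from (zero_smul _ _).symm, hf₂.bilinear.smul_left,
        zero_mul]] at h
    obtain ⟨i, j⟩ := p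
    fin_cases i <;> fin_cases j <;>
      simpa [δ, hβ, altTwo, Fintype.sum_prod_type, Fin.sum_univ_two, Pi.single_apply] using h.symm
  let bb := basisOfLinearIndependentOfCardEqFinrank hli (by simp)
  have hbb : ⇑bb = β := coe_basisOfLinearIndependentOfCardEqFinrank _ _
  let W : V4 → M2 := fun w => Matrix.of fun i j => bb.repr w (i, j)
  have hWsum : ∀ w, ∑ p : Fin 2 × Fin 2, W w p.1 p.2 • β p = w := fun w => by
    rw [← hbb]; exact bb.sum_repr w
  have hfW : ∀ w w', f₂ w w' = detBil (W w) (W w') := by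
    intro w w'
    conv_lhs => rw [← hWsum w, ← hWsum w']
    rw [bilinear_sum hf₂.bilinear]
    simp [hβ, altTwo, Fintype.sum_prod_type, Fin.sum_univ_two, detBil, Matrix.det_fin_two]
    ring
  -- the new coordinates
  let e' : (Fin m ⊕ Fin m) ≃ (Fin 3 → Fin 2) := e.trans (Fintype.equivOfCardEq (by simp))
  let col : (Fin 3 → Fin 2) → (Fin m ⊕ Fin m → F) := fun x =>
    tpv e P (Pi.single (x 0) 1) (β (x 1, x 2))
  have hcol : ∀ x y, sympForm m F (col x) (col y) =
      (c * d) * (pureMat fun _ : Fin 3 => (altTwo : M2)) x y := by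
    intro x y
    rw [hv, hg₁, hβ]
    simp [pureMat, Fin.prod_univ_three]
    ring
  let M : Matrix (Fin m ⊕ Fin m) (Fin m ⊕ Fin m) F := Matrix.of fun i j => col (e' j) i
  have hMs : ∀ x, M *ᵥ (Pi.single x (1 : F) ∘ e') = col x := by
    intro x
    have h : (Pi.single x (1 : F) ∘ e' : Fin m ⊕ Fin m → F) = Pi.single (e'.symm x) 1 := by
      funext i
      by_cases hi : e' i = x
      · subst hi; simp
      · simp [Pi.single_apply, hi, e'.eq_symm_apply]
    funext i
    rw [h, Matrix.mulVec_single_one]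
    simp [M]
  have hsf := formSpace_sympForm (m := m) (F := F)
  have hform : ∀ z z' : (Fin 3 → Fin 2) → F, sympForm m F (M *ᵥ (z ∘ e')) (M *ᵥ (z' ∘ e')) =
      (c * d) * formOfGram id (pureMat fun _ : Fin 3 => (altTwo : M2)) z z' := by
    intro z z'
    let f' : ((Fin 3 → Fin 2) → F) → ((Fin 3 → Fin 2) → F) → F :=
      fun u v => sympForm m F (M *ᵥ (u ∘ e')) (M *ᵥ (v ∘ e'))
    have hb' : IsSesq (RingEquiv.refl F) f' := by
      refine ⟨fun u v w => ?_, fun r u v => ?_, fun u v w => ?_, fun r u v => ?_⟩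
      · show sympForm m F (M *ᵥ (u ∘ e' + v ∘ e')) _ = _
        rw [Matrix.mulVec_add]; exact hsf.sesq.add_left _ _ _
      · show sympForm m F (M *ᵥ (r • (u ∘ e'))) _ = _
        rw [Matrix.mulVec_smul]; exact hsf.sesq.smul_left _ _ _
      · show sympForm m F _ (M *ᵥ (v ∘ e' + w ∘ e')) = _
        rw [Matrix.mulVec_add]; exact hsf.sesq.add_right _ _ _
      · show sympForm m F _ (M *ᵥ (r • (v ∘ e'))) = _
        rw [Matrix.mulVec_smul]; exact hsf.sesq.smul_right _ _ _
    have hgram : gramMatrix f' = (c * d) • pureMat fun _ : Fin 3 => (altTwo : M2) := by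
      ext x y
      show sympForm m F (M *ᵥ _) (M *ᵥ _) = _
      rw [hMs, hMs, hcol]
      rfl
    show f' z z' = _
    rw [hb'.eq_formOfGram, hgram]
    simp only [formOfGram, Matrix.smul_apply, smul_eq_mul, id, RingEquiv.refl_apply, Finset.mul_sum]
    exact Finset.sum_congr rfl fun p _ => Finset.sum_congr rfl fun r _ => by ring
  have hM0 : M.det ≠ 0 := by
    intro h0
    obtain ⟨z, hz0, hz⟩ := Matrix.exists_mulVec_eq_zero_iff.mpr h0
    have hz' : (z ∘ e'.symm) ∘ e' = z := by simp [Function.comp_assoc]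
    have hne : z ∘ e'.symm ≠ 0 := fun h => hz0 (by rw [← hz', h]; rfl)
    obtain ⟨-, u, hu⟩ := nondegenerate_formOfGram (σ := RingEquiv.refl F)
      (isUnit_altPow (F := F) 3) (z ∘ e'.symm) hne
    apply hu
    have h := hform (z ∘ e'.symm) u
    rw [hz', hz, show sympForm m F 0 (M *ᵥ (u ∘ e')) = 0 by simp [sympForm]] at h
    exact (mul_eq_zero.mp h.symm).resolve_left (mul_ne_zero hc hd0)
  let P' : GL (Fin m ⊕ Fin m) F := Matrix.GeneralLinearGroup.mkOfDetNeZero M hM0
  refine ⟨e', P', c * d, mul_ne_zero hc hd0, hform, ?_⟩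
  rintro g ⟨hgT, hgS⟩
  obtain ⟨A, B, l, hl, hAB, -, hB⟩ := tensor_factor hf₁.bilinear hf₂.bilinear hf₁.nondegenerate
    hf₂.nondegenerate two_pos (by norm_num) hs hgT hgS
  obtain ⟨a, a', ha, ha', hcases⟩ := det_pairs h2
    (fun p => W ((B : Matrix (Fin 4) (Fin 4) F) *ᵥ β p)) hl (fun p r => by rw [← hfW, hB, hβ])
  let A' : GL (Fin 2) F := Matrix.GeneralLinearGroup.mkOfDetNeZero a ha
  let C' : GL (Fin 2) F := Matrix.GeneralLinearGroup.mkOfDetNeZero a' ha'
  obtain ⟨π, hπ⟩ : ∃ π : Equiv.Perm (Fin 3), π.symm 0 = 0 ∧ ∀ p : Fin 2 × Fin 2, ∀ i j,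
      W ((B : Matrix (Fin 4) (Fin 4) F) *ᵥ β p) i j =
        a i (![0, p.1, p.2] (π.symm 1)) * a' j (![0, p.1, p.2] (π.symm 2)) := by
    rcases hcases with h | h
    · exact ⟨1, rfl, fun p i j => by simpa [show (1 : Equiv.Perm (Fin 3)).symm = 1 from rfl] using h p i j⟩
    · exact ⟨Equiv.swap 1 2, by decide, fun p i j => by simpa using h p i j⟩
  have htens : ∀ (u : Fin 2 → F) (w : V4),
      tpv e P u w = ∑ y : Fin 2, ∑ p : Fin 2 × Fin 2,
        (u y * W w p.1 p.2) • tpv e P (Pi.single y 1) (β p) := by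
    intro u w
    simp only [tpv, ← Matrix.mulVec_smul, ← Matrix.mulVec_sum]
    congr 1
    funext i
    simp only [Finset.sum_apply, Pi.smul_apply, Function.comp_apply, tvec, smul_eq_mul]
    conv_lhs => rw [← hWsum w]
    simp only [Finset.sum_apply, Pi.smul_apply, smul_eq_mul]
    generalize (e i).1 = k
    fin_cases k <;> simp [Fin.sum_univ_two, Finset.mul_sum] <;>
      exact Finset.sum_congr rfl fun p _ => by ring
  let Y : GL (Fin 3 → Fin 2) F := pureGL ![A, A', C'] * factorPermGL π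
  have hY : Y ∈ tensorWreathStandard 2 3 F :=
    mul_mem (Subgroup.subset_closure (Or.inl ⟨![A, A', C'], fun x y => rfl⟩))
      (Subgroup.subset_closure (Or.inr ⟨π, fun x y => rfl⟩))
  have hYval : ∀ x y, (Y : Matrix (Fin 3 → Fin 2) (Fin 3 → Fin 2) F) y x =
      (A : M2) (y 0) (x (π.symm 0)) * a (y 1) (x (π.symm 1)) * a' (y 2) (x (π.symm 2)) := by
    intro x y
    show ((pureMat (fun i => ((![A, A', C'] i : GL (Fin 2) F) : M2)) * factorPerm π :
      Matrix (Fin 3 → Fin 2) (Fin 3 → Fin 2) F)) y x = _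
    have hkey : ∀ k : Fin 3 → Fin 2, (x = k ∘ π) ↔ (k = x ∘ π.symm) := by
      intro k; constructor
      · rintro rfl; simp [Function.comp_assoc]
      · rintro rfl; simp [Function.comp_assoc]
    simp [Matrix.mul_apply, factorPerm, hkey, pureMat, Fin.prod_univ_three]
    rfl
  rw [tensorWreathSubgroup_eq]
  refine ⟨Y, hY, ?_⟩
  refine Units.ext (Matrix.ext_of_mulVec_single fun k => ?_)
  have hk : (Pi.single k (1 : F) : Fin m ⊕ Fin m → F) = (P' : Mat m F) *ᵥ
      ((((((P'⁻¹ : GL (Fin m ⊕ Fin m) F) : Mat m F) *ᵥ Pi.single k 1)) ∘ e'.symm) ∘ e') := by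
    simp only [Function.comp_assoc, Equiv.symm_comp_self, Function.comp_id, Matrix.mulVec_mulVec,
      ← Units.val_mul, mul_inv_cancel, Units.val_one, Matrix.one_mulVec]
  rw [hk]
  show coordAlg e' P' _ *ᵥ _ = _
  rw [coordAlg_mulVec]
  generalize ((((P'⁻¹ : GL (Fin m ⊕ Fin m) F) : Mat m F) *ᵥ Pi.single k 1) ∘ e'.symm) = z
  have hlin : ∀ z : (Fin 3 → Fin 2) → F, M *ᵥ (z ∘ e') = ∑ x, z x • col x := by
    intro z
    have : z ∘ e' = ∑ x, z x • (Pi.single x (1 : F) ∘ e' : Fin m ⊕ Fin m → F) := by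
      funext i; simp [Finset.sum_apply, Pi.single_apply]
    rw [this, Matrix.mulVec_sum]
    exact Finset.sum_congr rfl fun x _ => by rw [Matrix.mulVec_smul, hMs]
  show M *ᵥ _ = (g : Mat m F) *ᵥ (M *ᵥ _)
  rw [hlin, hlin, Matrix.mulVec_sum]
  simp only [Matrix.mulVec, dotProduct, Finset.sum_smul]
  rw [Finset.sum_comm]
  refine Finset.sum_congr rfl fun x _ => ?_
  show _ = (g : Mat m F) *ᵥ (z x • col x)
  rw [Matrix.mulVec_smul, show (g : Mat m F) *ᵥ col x = _ from hAB _ _, htens,
    Finset.smul_sum]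
  simp only [Finset.smul_sum, smul_smul]
  let E : (Fin 3 → Fin 2) ≃ Fin 2 × Fin 2 × Fin 2 :=
    { toFun := fun y => (y 0, y 1, y 2)
      invFun := fun p => ![p.1, p.2.1, p.2.2]
      left_inv := fun y => by funext i; fin_cases i <;> rfl
      right_inv := fun p => rfl }
  rw [← E.symm.sum_comp, Fintype.sum_prod_type]
  refine Finset.sum_congr rfl fun y _ => Finset.sum_congr rfl fun p _ => ?_
  have hw := hπ.2 (x 1, x 2) p.1 p.2
  have hx0 : ∀ i : Fin 3, i ≠ 0 → ![0, x 1, x 2] i = x i := by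
    intro i hi; fin_cases i <;> first | exact absurd rfl hi | rfl
  rw [hx0 _ (fun h => by have := π.symm.injective (h.trans hπ.1.symm); exact absurd this (by decide)),
    hx0 _ (fun h => by have := π.symm.injective (h.trans hπ.1.symm); exact absurd this (by decide))]
    at hw
  rw [hYval, hπ.1, hw, Matrix.mulVec_single_one]
  show ((A : M2) y (x 0) * a p.1 (x (π.symm 1)) * a' p.2 (x (π.symm 2)) * z x) • col ![y, p.1, p.2] = _
  congr 1
  simp [Matrix.col_apply]
  ring

end Cfsg.Agent.Symplectic.Asch
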