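import Cfsg.Agent.Symplectic.AschThree

/-! Skew square roots of `±1` in the symplectic group of degree four over three elements: a pair of
planes, or a group of symplectic type. -/

set_option autoImplicit false
set_option maxHeartbeats 1000000
set_option linter.unusedSectionVars false
set_option linter.style.haveILetI false

namespace Cfsg.Agent.Symplectic.Asch

open scoped MatrixGroups Matrix
open Cfsg Cfsg.Geo Cfsg.Agent.Aschbacher

variable {F : Type*} [Field F]

local notation "M2" => Matrix (Fin 2) (Fin 2) F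
local notation "G2" => GL (Fin 2) F

theorem conj_mem_of_le {G : Type*} [Group G] [Finite G] {N : Subgroup G} {g : G}
    (h : ∀ x ∈ N, g * x * g⁻¹ ∈ N) : g ∈ Subgroup.normalizer (N : Set G) := by
  rw [Subgroup.mem_normalizer_iff]
  intro x
  refine ⟨h x, fun hx => ?_⟩
  let φ : N → N := fun y => ⟨g * y * g⁻¹, h y y.2⟩
  have hφ : Function.Injective φ := fun a b hab => by
    have := congrArg Subtype.val hab
    simpa [φ] using this
  obtain ⟨⟨y, hy⟩, hyx⟩ := Finite.surjective_of_injective hφ ⟨_, hx⟩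
  have := congrArg Subtype.val hyx
  simp [φ] at this
  exact this ▸ hy

/-- Coordinates from a family of vectors with tensor Gram matrix. -/
theorem exists_coords {m t : ℕ} (e : (Fin m ⊕ Fin m) ≃ (Fin t → Fin 2))
    (G₀ : Fin t → Matrix (Fin 2) (Fin 2) F) (hG : ∀ i, IsUnit (G₀ i)) {c : F} (hc : c ≠ 0)
    (col : (Fin t → Fin 2) → (Fin m ⊕ Fin m → F))
    (hcol : ∀ x y, sympForm m F (col x) (col y) = c * pureMat G₀ x y) :
    ∃ P : GL (Fin m ⊕ Fin m) F,
      (∀ z : (Fin t → Fin 2) → F, (P : Mat m F) *ᵥ (z ∘ e) = ∑ x, z x • col x) ∧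
      ∀ x y, coordForm e P (sympForm m F) x y = c * formOfGram id (pureMat G₀) x y := by
  classical
  let M : Mat m F := Matrix.of fun i j => col (e j) i
  have hMz : ∀ z : (Fin t → Fin 2) → F, M *ᵥ (z ∘ e) = ∑ x, z x • col x := by
    intro z
    funext i
    simp only [Matrix.mulVec, dotProduct, M, Matrix.of_apply, Function.comp_apply, Finset.sum_apply,
      Pi.smul_apply, smul_eq_mul]
    rw [← Equiv.sum_comp e (fun x => z x * col x i)]
    exact Finset.sum_congr rfl fun j _ => mul_comm _ _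
  have hsf := formSpace_sympForm (m := m) (F := F)
  have hform : ∀ z z' : (Fin t → Fin 2) → F, sympForm m F (M *ᵥ (z ∘ e)) (M *ᵥ (z' ∘ e)) =
      c * formOfGram id (pureMat G₀) z z' := by
    intro z z'
    let B : (Fin m ⊕ Fin m → F) →ₗ[F] (Fin m ⊕ Fin m → F) →ₗ[F] F :=
      LinearMap.mk₂ F (sympForm m F) hsf.sesq.add_left hsf.sesq.smul_left hsf.sesq.add_right
        hsf.sesq.smul_right
    rw [hMz, hMz]
    show B (∑ x, z x • col x) (∑ y, z' y • col y) = _
    simp only [map_sum, map_smul, LinearMap.coe_sum, Finset.sum_apply, LinearMap.smul_apply,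
      smul_eq_mul, formOfGram, Finset.mul_sum, id]
    rw [Finset.sum_comm]
    refine Finset.sum_congr rfl fun x _ => Finset.sum_congr rfl fun y _ => ?_
    show _ * (_ * sympForm m F (col x) (col y)) = _
    rw [hcol]
    ring
  have hM0 : M.det ≠ 0 := by
    intro h0
    obtain ⟨z, hz0, hz⟩ := Matrix.exists_mulVec_eq_zero_iff.mpr h0
    have hz' : (z ∘ e.symm) ∘ e = z := by simp [Function.comp_assoc]
    have hne : z ∘ e.symm ≠ 0 := fun h => hz0 (by rw [← hz', h]; rfl)
    obtain ⟨-, u, hu⟩ := nondegenerate_formOfGram (σ := RingEquiv.refl F)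
      (isUnit_pureMat hG) (z ∘ e.symm) hne
    apply hu
    have h := hform (z ∘ e.symm) u
    rw [hz', hz, show sympForm m F 0 (M *ᵥ (u ∘ e)) = 0 by simp [sympForm]] at h
    exact (mul_eq_zero.mp h.symm).resolve_left hc
  exact ⟨Matrix.GeneralLinearGroup.mkOfDetNeZero M hM0, hMz, hform⟩

section four

local notation "I4" => (Fin 2 ⊕ Fin 2)
local notation "V" => (Fin 2 ⊕ Fin 2 → F)
local notation "sf" => sympForm 2 F

variable [Fintype F] (hq : Fintype.card F = 3)

include hq in
theorem sq_one_of_ne_zero {a : F} (ha : a ≠ 0) : a * a = 1 := by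
  have := FiniteField.pow_card_sub_one_eq_one a ha
  rw [hq] at this
  rw [← sq]; exact this

include hq in
theorem pm_one {a : F} (ha : a ≠ 0) : a = 1 ∨ a = -1 :=
  mul_self_eq_one_iff.mp (sq_one_of_ne_zero hq ha)

include hq in
/-- A skew square root of `±1` has a symplectic pair of isotropic vectors. -/
theorem exists_skew_basis {J : Matrix (Fin 2 ⊕ Fin 2) (Fin 2 ⊕ Fin 2) F} {s : F}
    (hs : s * s = 1) (hJJ : ∀ v, J *ᵥ (J *ᵥ v) = s • v)
    (hJf : ∀ u v, sf (J *ᵥ u) v = - sf u (J *ᵥ v)) :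
    ∃ x y : V, sf x y = 1 ∧ sf x (J *ᵥ x) = 0 ∧ sf y (J *ᵥ y) = 0 ∧ sf x (J *ᵥ y) = 0 := by
  have h2 := two_ne_zero' hq
  have h3 := three_eq_zero hq
  have hs0 : s ≠ 0 := left_ne_zero_of_mul_eq_one hs
  have hsym : ∀ u v, sf v (J *ᵥ u) = sf u (J *ᵥ v) := fun u v => by
    rw [Symplectic.sf_swap, hJf, neg_neg]
  have hnd : ∀ u : V, (∀ v, sf v u = 0) → u = 0 := fun u hu => by
    by_contra h
    obtain ⟨x, hx⟩ := Symplectic.sf_exists_one h
    rw [Symplectic.sf_swap, hu, neg_zero] at hx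
    exact zero_ne_one hx
  obtain ⟨z, hz⟩ : ∃ z, sf z (J *ᵥ z) ≠ 0 := by
    by_contra hcon
    push Not at hcon
    have hJ0 : ∀ v, J *ᵥ v = 0 := fun v => hnd _ fun u => by
      have h := hcon (u + v)
      rw [Matrix.mulVec_add, sf_add_left, sf_add_right, sf_add_right, hcon, hcon, hsym u v] at h
      exact (mul_eq_zero.mp (show (2 : F) * sf u (J *ᵥ v) = 0 by linear_combination h)).resolve_left h2
    let v : V := Pi.single (Sum.inl 0) 1
    have h := hJJ v
    rw [hJ0, eq_comm, smul_eq_zero] at h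
    rcases h with h | h
    · exact hs0 h
    · exact one_ne_zero (α := F) (by simpa [v] using congrFun h (Sum.inl 0))
  set a := sf z (J *ᵥ z) with ha
  set w0 := J *ᵥ z with hw0
  have hJw0 : J *ᵥ w0 = s • z := hJJ z
  have hw0z : sf w0 z = -a := by rw [Symplectic.sf_swap]
  let π : V → V := fun u => u + (-(sf u w0) / a) • z + (sf u z / a) • w0
  have hπz : ∀ u, sf (π u) z = 0 := fun u => by
    simp only [π, sf_add_left, sf_smul_left, Symplectic.sf_self, hw0z]
    field_simp
    ring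
  have hπw : ∀ u, sf (π u) w0 = 0 := fun u => by
    simp only [π, sf_add_left, sf_smul_left, Symplectic.sf_self, ← ha]
    field_simp
    ring
  obtain ⟨u₀, hu₀⟩ : ∃ u, sf (π u) (J *ᵥ π u) ≠ 0 := by
    by_contra hcon
    push Not at hcon
    have hπadd : ∀ u v, π (u + v) = π u + π v := fun u v => by
      funext i
      simp only [π, sf_add_left, Pi.add_apply, Pi.smul_apply, smul_eq_mul]
      field_simp
      ring
    have hπ0 : ∀ v, π v = 0 := by
      intro v
      have hJv : J *ᵥ π v = 0 := hnd _ fun u => by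
        have h := hcon (u + v)
        rw [hπadd, Matrix.mulVec_add, sf_add_left, sf_add_right, sf_add_right, hcon, hcon,
          hsym (π u) (π v)] at h
        have h1 : sf (π u) (J *ᵥ π v) = 0 :=
          (mul_eq_zero.mp (show (2 : F) * sf (π u) (J *ᵥ π v) = 0 by linear_combination h)).resolve_left h2
        simp only [π, sf_add_left, sf_smul_left] at h1
        have hzv : sf z (J *ᵥ π v) = 0 := by rw [hsym, hw0.symm, hπw]
        have hwv : sf w0 (J *ᵥ π v) = 0 := by
          rw [hsym, hJw0, sf_smul_right, hπz, mul_zero]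
        have h1' := h1
        rw [show (π v) = v + (-(sf v w0) / a) • z + (sf v z / a) • w0 from rfl] at hzv hwv
        rw [hzv, hwv, mul_zero, add_zero, mul_zero, add_zero] at h1'
        exact h1'
      have h := hJJ (π v)
      rw [hJv, Matrix.mulVec_zero, eq_comm, smul_eq_zero] at h
      exact h.resolve_left hs0
    have hle : (⊤ : Submodule F V) ≤ Submodule.span F (Set.range ![z, w0]) := by
      intro u _
      have h : u = (sf u w0 / a) • z + (-(sf u z) / a) • w0 := by
        have h := hπ0 u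
        funext i
        have hi := congrFun h i
        simp only [π, Pi.add_apply, Pi.smul_apply, smul_eq_mul, Pi.zero_apply] at hi
        simp only [Pi.add_apply, Pi.smul_apply, smul_eq_mul]
        linear_combination hi
      rw [h]
      exact Submodule.add_mem _ (Submodule.smul_mem _ _ (Submodule.subset_span ⟨0, rfl⟩))
        (Submodule.smul_mem _ _ (Submodule.subset_span ⟨1, rfl⟩))
    have h1 := (Submodule.finrank_mono hle).trans (finrank_range_le_card ![z, w0])
    rw [finrank_top, Module.finrank_pi] at h1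
    simp at h1
  set w := π u₀ with hw
  set b := sf w (J *ᵥ w) with hb
  obtain ⟨p, p', hpp⟩ : ∃ p p' : F, (p * p - s * (p' * p')) * b = -a := by
    rcases pm_one hq hz with ha1 | ha1 <;> rcases pm_one hq hu₀ with hb1 | hb1 <;>
      rcases mul_self_eq_one_iff.mp hs with hs1 | hs1 <;> rw [ha1, hb1, hs1]
    all_goals first
      | exact ⟨1, 0, by ring1⟩
      | exact ⟨0, 1, by ring1⟩
      | exact ⟨1, 1, by linear_combination h3⟩
      | exact ⟨1, 1, by linear_combination -h3⟩
  set w1 := p • w + p' • (J *ᵥ w) with hw1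
  have hwz : sf w z = 0 := hπz u₀
  have hwW : sf w w0 = 0 := hπw u₀
  have hzw : sf z w = 0 := by rw [Symplectic.sf_swap, hwz, neg_zero]
  have hWw : sf w0 w = 0 := by rw [Symplectic.sf_swap, hwW, neg_zero]
  have hJwz : sf (J *ᵥ w) z = 0 := by rw [hJf, hwW, neg_zero]
  have hJwW : sf (J *ᵥ w) w0 = 0 := by rw [hJf, hJw0, sf_smul_right, hwz, mul_zero, neg_zero]
  have hzJw : sf z (J *ᵥ w) = 0 := by rw [Symplectic.sf_swap, hJwz, neg_zero]
  have hWJw : sf w0 (J *ᵥ w) = 0 := by rw [Symplectic.sf_swap, hJwW, neg_zero]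
  have hJwJw : sf (J *ᵥ w) w = -b := by rw [Symplectic.sf_swap]
  have hwJw : sf w (J *ᵥ w) = b := rfl
  have hval : (p * p - s * (p' * p')) * b = -a := hpp
  have hJw1 : J *ᵥ w1 = p • (J *ᵥ w) + (p' * s) • w := by
    rw [hw1, Matrix.mulVec_add, Matrix.mulVec_smul, Matrix.mulVec_smul, hJJ, smul_smul]
  refine ⟨z + w1, ((2 * a)⁻¹) • (J *ᵥ z + (-1 : F) • (J *ᵥ w1)), ?_, ?_, ?_, ?_⟩
  all_goals
    simp only [hJw1, hJw0, ← hw0, hw1, Matrix.mulVec_add, Matrix.mulVec_smul, hJJ, sf_add_left,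
      sf_add_right, sf_smul_left, sf_smul_right, Symplectic.sf_self, ← ha, hw0z, hwz, hwW, hzw, hWw,
      hJwz, hJwW, hzJw, hWJw, hJwJw, hwJw]
  · field_simp
    linear_combination (-1 : F) * hval
  · linear_combination hval
  · field_simp
    linear_combination (-s) * hval
  · field_simp
    linear_combination (0 : F) * hval

include hq in
/-- The shape of a centralising isometry in coordinates. -/
theorem skew_rank_one {s p1 p2 p3 p4 r1 r2 r3 r4 : F} (hs : s * s = 1)
    (hd : (p1 * r2 - p2 * r1) - s * (p3 * r4 - p4 * r3) = 1)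
    (hP : p1 * p4 - p2 * p3 = 0) (hR : r1 * r4 - r2 * r3 = 0)
    (hS : p1 * r4 - p2 * r3 - p3 * r2 + p4 * r1 = 0) :
    ∃ (M : Matrix (Fin 2) (Fin 2) F) (p p' : F), (p * p - s * (p' * p')) * M.det = 1 ∧
      p1 = p * M 0 0 ∧ p2 = p * M 1 0 ∧ p3 = p' * M 0 0 ∧ p4 = p' * M 1 0 ∧
      r1 = p * M 0 1 ∧ r2 = p * M 1 1 ∧ r3 = p' * M 0 1 ∧ r4 = p' * M 1 1 := by
  have hY : p1 * r3 - p3 * r1 = 0 := by
    linear_combination (-(p1 * r3 - p3 * r1)) * hd + (p1 * r1 - s * (p3 * r3)) * hS +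
      (-(p1 * p1) + s * (p3 * p3)) * hR + (-(r1 * r1) + s * (r3 * r3)) * hP
  have hY' : p2 * r4 - p4 * r2 = 0 := by
    linear_combination (-(p2 * r4 - p4 * r2)) * hd + (p2 * r2 - s * (p4 * r4)) * hS +
      (-(p2 * p2) + s * (p4 * p4)) * hR + (-(r2 * r2) + s * (r4 * r4)) * hP
  have hX : p1 * r4 - p3 * r2 = 0 := by
    linear_combination (-(p1 * r4 - p3 * r2)) * hd + (p1 * r2 - s * (p3 * r4)) * hS +
      (-(p1 * p2) + s * (p3 * p4)) * hR + (-(r1 * r2) + s * (r3 * r4)) * hP
  have hX' : p2 * r3 - p4 * r1 = 0 := by linear_combination hX - hS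
  have fin : ∀ (M : M2) (p p' : F), p1 = p * M 0 0 → p2 = p * M 1 0 → p3 = p' * M 0 0 →
      p4 = p' * M 1 0 → r1 = p * M 0 1 → r2 = p * M 1 1 → r3 = p' * M 0 1 → r4 = p' * M 1 1 →
      ∃ (M : Matrix (Fin 2) (Fin 2) F) (p p' : F), (p * p - s * (p' * p')) * M.det = 1 ∧
      p1 = p * M 0 0 ∧ p2 = p * M 1 0 ∧ p3 = p' * M 0 0 ∧ p4 = p' * M 1 0 ∧
      r1 = p * M 0 1 ∧ r2 = p * M 1 1 ∧ r3 = p' * M 0 1 ∧ r4 = p' * M 1 1 := by
    intro M p p' a1 a2 a3 a4 b1 b2 b3 b4
    refine ⟨M, p, p', ?_, a1, a2, a3, a4, b1, b2, b3, b4⟩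
    rw [Matrix.det_fin_two]
    rw [a1, a2, a3, a4, b1, b2, b3, b4] at hd
    linear_combination hd
  by_cases h1 : p1 ≠ 0
  · refine fin !![p1, r1; p2, r2] 1 (p3 / p1) ?_ ?_ ?_ ?_ ?_ ?_ ?_ ?_ <;> simp
    · field_simp
    · field_simp; linear_combination hP
    · field_simp; linear_combination hY
    · field_simp; linear_combination hX
  push Not at h1
  by_cases h2 : p2 ≠ 0
  · subst h1
    refine fin !![0, r1; p2, r2] 1 (p4 / p2) ?_ ?_ ?_ ?_ ?_ ?_ ?_ ?_ <;> simp
    · exact (mul_eq_zero.mp (show p2 * p3 = 0 by linear_combination -hP)).resolve_left h2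
    · field_simp
    · field_simp; linear_combination hX'
    · field_simp; linear_combination hY'
  push Not at h2
  subst h1 h2
  have hne : p3 ≠ 0 ∨ p4 ≠ 0 := by
    by_contra hh
    push Not at hh
    rw [hh.1, hh.2] at hd
    exact one_ne_zero (α := F) (by linear_combination -hd)
  have hr1 : r1 = 0 := by
    rcases hne with h | h
    · exact (mul_eq_zero.mp (show p3 * r1 = 0 by linear_combination -hY)).resolve_left h
    · exact (mul_eq_zero.mp (show p4 * r1 = 0 by linear_combination -hX')).resolve_left h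
  have hr2 : r2 = 0 := by
    rcases hne with h | h
    · exact (mul_eq_zero.mp (show p3 * r2 = 0 by linear_combination -hX)).resolve_left h
    · exact (mul_eq_zero.mp (show p4 * r2 = 0 by linear_combination -hY')).resolve_left h
  subst hr1 hr2
  exact fin !![p3, r3; p4, r4] 0 1 (by simp) (by simp) (by simp) (by simp) (by simp) (by simp)
    (by simp) (by simp)

/-- The diagonal matrix of signs of the second factor. -/
def sgnMat (a : F) : Matrix (Fin 2) (Fin 2) F := !![1, 0; 0, a]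

include hq in
theorem orth_shape {x : G2} (hx : x ∈ gramFix (RingEquiv.refl F) (1 : M2)) :
    ((x : M2) 0 1 = 0 ∧ (x : M2) 1 0 = 0) ∨ ((x : M2) 0 0 = 0 ∧ (x : M2) 1 1 = 0) := by
  obtain ⟨φ, -⟩ := exists_zmod_equiv hq
  have key : ∀ a b c d : ZMod 3, a * a + c * c = 1 → b * b + d * d = 1 → a * b + c * d = 0 →
      (b = 0 ∧ c = 0) ∨ (a = 0 ∧ d = 0) := by
    set_option synthInstance.maxSize 4000 in decide
  have h : gtr (RingEquiv.refl F) 1 (x : M2) = 1 := hx
  rw [gtr, mul_one, show (x : M2).map (RingEquiv.refl F) = (x : M2) from Matrix.map_id _] at h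
  have h00 := congrFun (congrFun h 0) 0
  have h11 := congrFun (congrFun h 1) 1
  have h01 := congrFun (congrFun h 0) 1
  simp [Matrix.mul_apply, Fin.sum_univ_two] at h00 h11 h01
  obtain ⟨a, ha⟩ := φ.surjective ((x : M2) 0 0)
  obtain ⟨b, hb⟩ := φ.surjective ((x : M2) 0 1)
  obtain ⟨c, hc⟩ := φ.surjective ((x : M2) 1 0)
  obtain ⟨d, hd⟩ := φ.surjective ((x : M2) 1 1)
  have e1 : a * a + c * c = 1 := φ.injective (by
    simp only [map_add, map_mul, map_one, ha, hc]; exact h00)
  have e2 : b * b + d * d = 1 := φ.injective (by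
    simp only [map_add, map_mul, map_one, hb, hd]; exact h11)
  have e3 : a * b + c * d = 0 := φ.injective (by
    simp only [map_add, map_mul, map_zero, ha, hb, hc, hd]; exact h01)
  rcases key a b c d e1 e2 e3 with ⟨r1, r2⟩ | ⟨r1, r2⟩
  · left; rw [← hb, ← hc, r1, r2, map_zero]; exact ⟨rfl, rfl⟩
  · right; rw [← ha, ← hd, r1, r2, map_zero]; exact ⟨rfl, rfl⟩

include hq in
theorem orth_comm {x y : G2} (hx : x ∈ gramFix (RingEquiv.refl F) (1 : M2))
    (hy : y ∈ gramFix (RingEquiv.refl F) (1 : M2)) :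
    (x : M2) * (y : G2) = (y : M2) * (x : G2) ∨ (x : M2) * (y : G2) = -((y : M2) * (x : G2)) := by
  have hx' := x.ne_zero
  have hy' := y.ne_zero
  have hdx := ((Matrix.isUnit_iff_isUnit_det _).mp x.isUnit).ne_zero
  have hdy := ((Matrix.isUnit_iff_isUnit_det _).mp y.isUnit).ne_zero
  rw [Matrix.det_fin_two] at hdx hdy
  rcases orth_shape hq hx with ⟨a1, a2⟩ | ⟨a1, a2⟩ <;>
    rcases orth_shape hq hy with ⟨b1, b2⟩ | ⟨b1, b2⟩ <;>
    simp [a1, a2, b1, b2] at hdx hdy <;>
    rcases pm_one hq hdx.1 with c1 | c1 <;> rcases pm_one hq hdx.2 with c2 | c2 <;>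
    rcases pm_one hq hdy.1 with d1 | d1 <;> rcases pm_one hq hdy.2 with d2 | d2
  all_goals first
    | (left; ext i j; fin_cases i <;> fin_cases j <;>
        simp [Matrix.mul_apply, Fin.sum_univ_two, a1, a2, b1, b2, c1, c2, d1, d2]; done)
    | (right; ext i j; fin_cases i <;> fin_cases j <;>
        simp [Matrix.mul_apply, Fin.sum_univ_two, a1, a2, b1, b2, c1, c2, d1, d2]; done)

include hq in
theorem orth_span (X : M2) :
    X ∈ Submodule.span F (matrixSet (gramFix (RingEquiv.refl F) (1 : M2))) := by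
  have h2 := two_ne_zero' hq
  have mem : ∀ Y : M2, Yᵀ * Y = 1 →
      Y ∈ Submodule.span F (matrixSet (gramFix (RingEquiv.refl F) (1 : M2))) := fun Y hY => by
    have hdet : Y.det ≠ 0 := by
      intro h0
      have := congrArg Matrix.det hY
      rw [Matrix.det_mul, h0, mul_zero, Matrix.det_one] at this
      exact zero_ne_one this
    refine Submodule.subset_span ⟨Matrix.GeneralLinearGroup.mkOfDetNeZero Y hdet, ?_, rfl⟩
    show gtr (RingEquiv.refl F) 1 Y = 1
    rw [gtr, mul_one, show Y.map (RingEquiv.refl F) = Y from Matrix.map_id _, hY]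
  have e : X = ((X 0 0 + X 1 1) / 2) • (1 : M2) + ((X 0 0 - X 1 1) / 2) • !![1, 0; 0, -1]
      + ((X 0 1 + X 1 0) / 2) • !![0, 1; 1, 0] + ((X 0 1 - X 1 0) / 2) • !![0, 1; -1, 0] := by
    ext i j
    fin_cases i <;> fin_cases j <;> simp <;> field_simp <;> ring
  rw [e]
  refine Submodule.add_mem _ (Submodule.add_mem _ (Submodule.add_mem _
    (Submodule.smul_mem _ _ (mem _ (by simp))) (Submodule.smul_mem _ _ (mem _ ?_)))
    (Submodule.smul_mem _ _ (mem _ ?_))) (Submodule.smul_mem _ _ (mem _ ?_)) <;>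
  · ext i j
    fin_cases i <;> fin_cases j <;> simp [Matrix.mul_apply, Fin.sum_univ_two]

theorem orth_conj {d B : G2} (hd : d ∈ gramFix (RingEquiv.refl F) (1 : M2)) {l : F} (hl : l ≠ 0)
    (hB : (B : M2)ᵀ * (B : G2) = l • 1) : B * d * B⁻¹ ∈ gramFix (RingEquiv.refl F) (1 : M2) := by
  have h : gtr (RingEquiv.refl F) 1 (d : M2) = 1 := hd
  rw [gtr, mul_one, show (d : M2).map (RingEquiv.refl F) = (d : M2) from Matrix.map_id _] at h
  show gtr (RingEquiv.refl F) 1 ((B * d * B⁻¹ : G2) : M2) = 1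
  rw [gtr, mul_one, show ((B * d * B⁻¹ : G2) : M2).map (RingEquiv.refl F) = _ from Matrix.map_id _,
    Units.val_mul, Units.val_mul, Matrix.transpose_mul, Matrix.transpose_mul]
  set B' : M2 := ((B⁻¹ : G2) : M2)
  have hBB : (B : M2) * B' = 1 := by rw [← Units.val_mul, mul_inv_cancel, Units.val_one]
  have h2 : l • (B'ᵀ * B') = 1 := by
    calc l • (B'ᵀ * B') = B'ᵀ * (l • (1 : M2)) * B' := by
          rw [Matrix.mul_smul, mul_one, Matrix.smul_mul]
      _ = ((B : M2) * B')ᵀ * ((B : M2) * B') := by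
          rw [← hB, Matrix.transpose_mul]; simp only [mul_assoc]
      _ = 1 := by rw [hBB, Matrix.transpose_one, one_mul]
  calc B'ᵀ * ((d : M2)ᵀ * (B : M2)ᵀ) * ((B : M2) * (d : M2) * B')
      = B'ᵀ * ((d : M2)ᵀ * ((B : M2)ᵀ * (B : M2)) * (d : M2)) * B' := by simp only [mul_assoc]
    _ = B'ᵀ * (l • ((d : M2)ᵀ * (d : M2))) * B' := by
        rw [hB, Matrix.mul_smul, mul_one, Matrix.smul_mul]
    _ = 1 := by rw [h, Matrix.mul_smul, mul_one, Matrix.smul_mul, h2]

theorem pure2_add (A B B' : M2) : pureMat ![A, B] + pureMat ![A, B'] = pureMat ![A, B + B'] := by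
  ext x y; simp [pureMat, Fin.prod_univ_two, mul_add]

theorem pure2_zero (A : M2) : pureMat ![A, (0 : M2)] = 0 := by
  ext x y; simp [pureMat, Fin.prod_univ_two]

theorem pure2_mul (A B A' B' : M2) : pureMat ![A, B] * pureMat ![A', B'] = pureMat ![A * A', B * B'] := by
  rw [pureMat_mul]; congr 1; funext i; fin_cases i <;> rfl

theorem pure2_transpose (A B : M2) : (pureMat ![A, B])ᵀ = pureMat ![Aᵀ, Bᵀ] := by
  rw [pureMat_transpose]; congr 1; funext i; fin_cases i <;> rfl

theorem pure2_neg (A B : M2) : pureMat ![-A, -B] = pureMat ![A, B] := by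
  ext x y; simp [pureMat, Fin.prod_univ_two]

theorem pure2_neg_left (A B : M2) : pureMat ![-A, B] = pureMat ![A, -B] := by
  ext x y; simp [pureMat, Fin.prod_univ_two]

theorem pure2_val (u v : G2) :
    (fun i => ((![u, v] i : G2) : M2)) = ![(u : M2), (v : M2)] := by
  funext i; fin_cases i <;> rfl

/-- The set on which a skew square root determines the tensor structure. -/
def skewSet (J : Matrix (Fin 2 ⊕ Fin 2) (Fin 2 ⊕ Fin 2) F) :
    Set (GL (Fin 2 ⊕ Fin 2) F) :=
  {g | g ∈ spGL 2 F ∧ ((g : Mat 2 F) * J = J * (g : Mat 2 F) ∨ (g : Mat 2 F) * J = -(J * (g : Mat 2 F)))}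

include hq in
/-- The tensor structure attached to a skew square root. -/
theorem exists_skew_tensor {J : Matrix (Fin 2 ⊕ Fin 2) (Fin 2 ⊕ Fin 2) F} {s : F}
    (hs : s * s = 1) (hJJ : ∀ v, J *ᵥ (J *ᵥ v) = s • v)
    (hJf : ∀ u v, sf (J *ᵥ u) v = - sf u (J *ᵥ v)) :
    ∃ (e : (Fin 2 ⊕ Fin 2) ≃ (Fin 2 → Fin 2)) (P : GL (Fin 2 ⊕ Fin 2) F)
      (col : (Fin 2 → Fin 2) → (Fin 2 ⊕ Fin 2 → F)),
      (∀ z : (Fin 2 → Fin 2) → F, (P : Mat 2 F) *ᵥ (z ∘ e) = ∑ q, z q • col q) ∧
      (∀ q r, sf (col q) (col r) = pureMat ![altTwo, sgnMat (-s)] q r) ∧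
      (∀ x y, coordForm e P sf x y = 1 * formOfGram id (pureMat ![altTwo, sgnMat (-s)]) x y) ∧
      ∀ g ∈ skewSet J, ∃ (M B : GL (Fin 2) F) (l : F), l ≠ 0 ∧
        (B : M2)ᵀ * sgnMat (-s) * (B : G2) = l • sgnMat (-s) ∧ g = pureIn e P ![M, B] := by
  classical
  have hs0 : s ≠ 0 := left_ne_zero_of_mul_eq_one hs
  have h2 := two_ne_zero' hq
  obtain ⟨x, y, hxy, hxx, hyy, hxy'⟩ := exists_skew_basis hq hs hJJ hJf
  set X := J *ᵥ x with hX
  set Y := J *ᵥ y with hY
  have hJX : J *ᵥ X = s • x := hJJ x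
  have hJY : J *ᵥ Y = s • y := hJJ y
  have hyx : sf y x = -1 := by rw [Symplectic.sf_swap, hxy]
  have hXx : sf X x = 0 := by rw [Symplectic.sf_swap, hxx, neg_zero]
  have hYy : sf Y y = 0 := by rw [Symplectic.sf_swap, hyy, neg_zero]
  have hYx : sf Y x = 0 := by rw [Symplectic.sf_swap, hxy', neg_zero]
  have hXy : sf X y = 0 := by rw [hX, hJf, ← hY, hxy', neg_zero]
  have hyX : sf y X = 0 := by rw [Symplectic.sf_swap, hXy, neg_zero]
  have hXY : sf X Y = -s := by rw [hX, hJf, hJY, sf_smul_right, hxy, mul_one]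
  have hYX : sf Y X = s := by rw [Symplectic.sf_swap, hXY, neg_neg]
  let col : (Fin 2 → Fin 2) → V := fun q => ![![x, X], ![y, Y]] (q 0) (q 1)
  have htab : ∀ i l j k : Fin 2, sf (![![x, X], ![y, Y]] i l) (![![x, X], ![y, Y]] j k) =
      altTwo i j * sgnMat (-s) l k := by
    intro i l j k
    fin_cases i <;> fin_cases l <;> fin_cases j <;> fin_cases k <;>
      simp [altTwo, sgnMat, Symplectic.sf_self, hxy, hxx, hyy, hxy', hyx, hXx, hYy, hYx, hXy, hyX,
        hXY, hYX]
  have hcol : ∀ q r, sf (col q) (col r) = 1 * pureMat ![altTwo, sgnMat (-s)] q r := fun q r => by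
    rw [one_mul, show pureMat ![altTwo, sgnMat (-s)] q r = altTwo (q 0) (r 0) * sgnMat (-s) (q 1) (r 1)
      by simp [pureMat, Fin.prod_univ_two]]
    exact htab _ _ _ _
  have hG : ∀ i, IsUnit (![altTwo, sgnMat (-s)] i : M2) := by
    intro i
    rw [Matrix.isUnit_iff_isUnit_det, isUnit_iff_ne_zero]
    fin_cases i <;> simp [altTwo, sgnMat, Matrix.det_fin_two, hs0]
  obtain ⟨P, hP, hval⟩ := exists_coords (Fintype.equivOfCardEq (by simp) : I4 ≃ (Fin 2 → Fin 2))
    ![altTwo, sgnMat (-s)] hG one_ne_zero col hcol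
  refine ⟨_, P, col, hP, fun q r => by rw [hcol, one_mul], hval, ?_⟩
  set e : I4 ≃ (Fin 2 → Fin 2) := Fintype.equivOfCardEq (by simp)
  have hsum : ∀ z : (Fin 2 → Fin 2) → F, ∑ q, z q • col q =
      z ![0, 0] • x + z ![1, 0] • y + z ![0, 1] • X + z ![1, 1] • Y := by
    intro z
    rw [← (finTwoArrowEquiv (Fin 2)).symm.sum_comp, Fintype.sum_prod_type]
    simp only [Fin.sum_univ_two]
    show z ![0, 0] • x + z ![0, 1] • X + (z ![1, 0] • y + z ![1, 1] • Y) = _
    abel
  have hspan : ∀ v : V, ∃ p1 p2 p3 p4 : F, v = p1 • x + p2 • y + p3 • X + p4 • Y := by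
    intro v
    obtain ⟨z, rfl⟩ := exists_coord e P v
    exact ⟨_, _, _, _, (hP z).trans (hsum z)⟩
  have heq : ∀ A B : Mat 2 F, A *ᵥ x = B *ᵥ x → A *ᵥ y = B *ᵥ y → A *ᵥ X = B *ᵥ X →
      A *ᵥ Y = B *ᵥ Y → A = B := by
    intro A B a1 a2 a3 a4
    refine Matrix.ext_of_mulVec_single fun k => ?_
    obtain ⟨p1, p2, p3, p4, hv⟩ := hspan (Pi.single k 1)
    rw [hv]
    simp only [Matrix.mulVec_add, Matrix.mulVec_smul, a1, a2, a3, a4]
  have hΦ : ∀ (M B : G2) (q : Fin 2 → Fin 2), (pureIn e P ![M, B] : Mat 2 F) *ᵥ col q =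
      ((M : M2) 0 (q 0) * (B : M2) 0 (q 1)) • x + ((M : M2) 1 (q 0) * (B : M2) 0 (q 1)) • y +
      ((M : M2) 0 (q 0) * (B : M2) 1 (q 1)) • X + ((M : M2) 1 (q 0) * (B : M2) 1 (q 1)) • Y := by
    intro M B q
    have hq' : col q = (P : Mat 2 F) *ᵥ ((Pi.single q (1 : F) : (Fin 2 → Fin 2) → F) ∘ e) := by
      rw [hP]; simp [Pi.single_apply]
    rw [hq', pureIn_val, coordAlg_mulVec, hP, hsum]
    simp [Matrix.mulVec_single_one, Matrix.col_apply, pureMat, Fin.prod_univ_two]
  have hcomm : ∀ g ∈ spGL 2 F, (g : Mat 2 F) * J = J * (g : Mat 2 F) →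
      ∃ (M B : G2) (l : F), l ≠ 0 ∧ (B : M2)ᵀ * sgnMat (-s) * (B : G2) = l • sgnMat (-s) ∧
        g = pureIn e P ![M, B] := by
    intro g hg hgJ
    have hg' : ∀ u v, sf ((g : Mat 2 F) *ᵥ u) ((g : Mat 2 F) *ᵥ v) = sf u v := hg
    have hgJ' : ∀ v, (g : Mat 2 F) *ᵥ (J *ᵥ v) = J *ᵥ ((g : Mat 2 F) *ᵥ v) := fun v => by
      rw [Matrix.mulVec_mulVec, Matrix.mulVec_mulVec, hgJ]
    obtain ⟨p1, p2, p3, p4, hgx⟩ := hspan ((g : Mat 2 F) *ᵥ x)
    obtain ⟨r1, r2, r3, r4, hgy⟩ := hspan ((g : Mat 2 F) *ᵥ y)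
    have hgX : (g : Mat 2 F) *ᵥ X = p1 • X + p2 • Y + (s * p3) • x + (s * p4) • y := by
      rw [hX, hgJ', hgx]
      simp only [Matrix.mulVec_add, Matrix.mulVec_smul, ← hX, ← hY, hJX, hJY, smul_smul]
      rw [mul_comm s p3, mul_comm s p4]
    have hgY : (g : Mat 2 F) *ᵥ Y = r1 • X + r2 • Y + (s * r3) • x + (s * r4) • y := by
      rw [hY, hgJ', hgy]
      simp only [Matrix.mulVec_add, Matrix.mulVec_smul, ← hX, ← hY, hJX, hJY, smul_smul]
      rw [mul_comm s r3, mul_comm s r4]
    have e1 := hg' x y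
    have e2 := hg' x Y
    have e3 := hg' x X
    have e4 := hg' y Y
    rw [hgx, hgy] at e1
    rw [hgx, hgY] at e2
    rw [hgx, hgX] at e3
    rw [hgy, hgY] at e4
    simp only [sf_add_left, sf_add_right, sf_smul_left, sf_smul_right, Symplectic.sf_self, hxy, hxx,
      hyy, hxy', hyx, hXx, hYy, hYx, hXy, hyX, hXY, hYX] at e1 e2 e3 e4
    obtain ⟨M, p, p', hdet, a1, a2, a3, a4, b1, b2, b3, b4⟩ := skew_rank_one hq hs
      (p1 := p1) (p2 := p2) (p3 := p3) (p4 := p4) (r1 := r1) (r2 := r2) (r3 := r3) (r4 := r4)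
      (by linear_combination e1)
      ((mul_eq_zero.mp (show (2 * s) * (p1 * p4 - p2 * p3) = 0 by linear_combination e3)).resolve_left
        (mul_ne_zero h2 hs0))
      ((mul_eq_zero.mp (show (2 * s) * (r1 * r4 - r2 * r3) = 0 by linear_combination e4)).resolve_left
        (mul_ne_zero h2 hs0))
      ((mul_eq_zero.mp (show s * (p1 * r4 - p2 * r3 - p3 * r2 + p4 * r1) = 0 by
        linear_combination e2)).resolve_left hs0)
    set B : M2 := !![p, s * p'; p', p] with hB
    have hBdet : B.det = p * p - s * (p' * p') := by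
      rw [hB, Matrix.det_fin_two]; simp; ring
    have hl : p * p - s * (p' * p') ≠ 0 := left_ne_zero_of_mul_eq_one hdet
    refine ⟨Matrix.GeneralLinearGroup.mkOfDetNeZero M (right_ne_zero_of_mul_eq_one hdet),
      Matrix.GeneralLinearGroup.mkOfDetNeZero B (by rw [hBdet]; exact hl), _, hl, ?_, ?_⟩
    · show Bᵀ * sgnMat (-s) * B = _
      ext i j
      fin_cases i <;> fin_cases j <;> simp [hB, sgnMat, Matrix.mul_apply, Fin.sum_univ_two]
      · ring
      · ring
      · ring
      · linear_combination (p' * p') * (0 : F) * hs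
    · refine Units.ext (heq _ _ ?_ ?_ ?_ ?_)
      · rw [show x = col ![0, 0] from rfl, hΦ, show col ![0, 0] = x from rfl, hgx, a1, a2, a3, a4]
        simp [hB, mul_comm]
      · rw [show y = col ![1, 0] from rfl, hΦ, show col ![1, 0] = y from rfl, hgy, b1, b2, b3, b4]
        simp [hB, mul_comm]
      · rw [show X = col ![0, 1] from rfl, hΦ, show col ![0, 1] = X from rfl, hgX, a1, a2, a3, a4]
        simp [hB, mul_comm, mul_left_comm, mul_assoc]
        abel
      · rw [show Y = col ![1, 1] from rfl, hΦ, show col ![1, 1] = Y from rfl, hgY, b1, b2, b3, b4]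
        simp [hB, mul_comm, mul_left_comm, mul_assoc]
        abel
  rintro g ⟨hg, hgJ | hgJ⟩
  · exact hcomm g hg hgJ
  set S : G2 := Matrix.GeneralLinearGroup.mkOfDetNeZero (sgnMat (-1 : F))
    (by simp [sgnMat, Matrix.det_fin_two]) with hS
  have hSv : (S : M2) = sgnMat (-1) := rfl
  set σ := pureIn e P ![1, S] with hσ
  have hσmem : σ ∈ spGL 2 F := pureIn_mem_spGL hval (g := pureGL ![1, S]) (by
    show gtr _ _ (pureMat fun i => ((![1, S] i : G2) : M2)) = _
    rw [gtr, pure2_val, show (pureMat ![((1 : G2) : M2), (S : M2)]).map (RingEquiv.refl F) = _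
      from Matrix.map_id _, pure2_transpose, pure2_mul, pure2_mul, hSv, Units.val_one]
    congr 1
    funext i
    fin_cases i
    · simp
    · ext a b
      fin_cases a <;> fin_cases b <;> simp [sgnMat, Matrix.mul_apply, Fin.sum_univ_two])
  have hσx : (σ : Mat 2 F) *ᵥ x = x := by
    have h := hΦ 1 S ![0, 0]
    rw [show col ![0, 0] = x from rfl] at h
    simpa [hSv, sgnMat] using h
  have hσy : (σ : Mat 2 F) *ᵥ y = y := by
    have h := hΦ 1 S ![1, 0]
    rw [show col ![1, 0] = y from rfl] at h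
    simpa [hSv, sgnMat] using h
  have hσX : (σ : Mat 2 F) *ᵥ X = -X := by
    have h := hΦ 1 S ![0, 1]
    rw [show col ![0, 1] = X from rfl] at h
    simpa [hSv, sgnMat] using h
  have hσY : (σ : Mat 2 F) *ᵥ Y = -Y := by
    have h := hΦ 1 S ![1, 1]
    rw [show col ![1, 1] = Y from rfl] at h
    simpa [hSv, sgnMat] using h
  have hσJ : (σ : Mat 2 F) * J = -(J * (σ : Mat 2 F)) := by
    refine heq _ _ ?_ ?_ ?_ ?_ <;>
      simp only [Matrix.neg_mulVec, ← Matrix.mulVec_mulVec, hσx, hσy, hσX, hσY, ← hX, ← hY, hJX,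
        hJY, Matrix.mulVec_smul, Matrix.mulVec_neg, smul_neg, neg_neg]
  obtain ⟨M, B, l, hl, hB, hgs⟩ := hcomm (g * σ) ((spGL 2 F).mul_mem hg hσmem) (by
    rw [Units.val_mul, mul_assoc, hσJ, mul_neg, ← mul_assoc, hgJ, neg_mul, neg_neg, mul_assoc])
  refine ⟨M, B * S, l, hl, ?_, ?_⟩
  · rw [Units.val_mul, Matrix.transpose_mul, hSv]
    calc (sgnMat (-1 : F))ᵀ * (B : M2)ᵀ * sgnMat (-s) * ((B : M2) * sgnMat (-1))
        = (sgnMat (-1 : F))ᵀ * ((B : M2)ᵀ * sgnMat (-s) * (B : M2)) * sgnMat (-1) := by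
          simp only [mul_assoc]
      _ = _ := by
          rw [hB, Matrix.mul_smul, Matrix.smul_mul]
          congr 1
          ext a b
          fin_cases a <;> fin_cases b <;> simp [sgnMat, Matrix.mul_apply, Fin.sum_univ_two]
  · have hσσ : σ * σ = 1 := by
      rw [hσ, ← map_mul, show (![1, S] * ![1, S] : Fin 2 → G2) = 1 from ?_, map_one]
      funext i
      fin_cases i
      · simp
      · refine Units.ext ?_
        show (S : M2) * (S : M2) = 1
        ext a b
        fin_cases a <;> fin_cases b <;> simp [hSv, sgnMat, Matrix.mul_apply, Fin.sum_univ_two]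
    calc g = g * σ * σ := by rw [mul_assoc, hσσ, mul_one]
      _ = pureIn e P ![M, B] * pureIn e P ![1, S] := by rw [hgs]
      _ = _ := by rw [← map_mul]; congr 1; funext i; fin_cases i <;> simp

include hq in
/-- A skew involution determines a pair of planes. -/
theorem skew_plus {J : Matrix (Fin 2 ⊕ Fin 2) (Fin 2 ⊕ Fin 2) F}
    (hJJ : ∀ v, J *ᵥ (J *ᵥ v) = v) (hJf : ∀ u v, sf (J *ᵥ u) v = - sf u (J *ᵥ v)) :
    ∃ D : Fin 2 → Submodule F (Fin 2 ⊕ Fin 2 → F), IsNondegenerateMDecomposition sf 2 D ∧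
      skewSet J ⊆ decompositionStabilizer D := by
  classical
  obtain ⟨e, P, col, hP, hgram, hval, hfac⟩ :=
    exists_skew_tensor hq (s := (1 : F)) (one_mul 1) (fun v => by rw [hJJ, one_smul]) hJf
  let b : Fin 2 → Fin 2 → V := fun l i => col ![i, l]
  let D : Fin 2 → Submodule F V := fun l => Submodule.span F (Set.range (b l))
  have hb : ∀ l i k j, sf (b l i) (b k j) = altTwo i j * sgnMat (-1 : F) l k := fun l i k j => by
    rw [hgram]; simp [pureMat, Fin.prod_univ_two]
  have hcomb : ∀ l, ∀ v ∈ D l, ∃ c : Fin 2 → F, v = c 0 • b l 0 + c 1 • b l 1 := fun l v hv => by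
    obtain ⟨c, rfl⟩ := (Submodule.mem_span_range_iff_exists_fun F).mp hv
    exact ⟨c, by rw [Fin.sum_univ_two]⟩
  have hsgn : ∀ l : Fin 2, sgnMat (-1 : F) l l ≠ 0 := fun l => by fin_cases l <;> simp [sgnMat]
  have hli : ∀ l, LinearIndependent F (b l) := by
    intro l
    rw [Fintype.linearIndependent_iff]
    intro c hc
    rw [Fin.sum_univ_two] at hc
    have h0 := congrArg (fun v => sf v (b l 1)) hc
    have h1 := congrArg (fun v => sf v (b l 0)) hc
    simp only [sf_add_left, sf_smul_left, hb, show sf (0 : V) (b l 1) = 0 by simp [sympForm],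
      show sf (0 : V) (b l 0) = 0 by simp [sympForm]] at h0 h1
    simp [altTwo, hsgn l] at h0 h1
    intro i; fin_cases i
    · exact h0
    · exact h1
  have hD : IsNondegenerateMDecomposition sf 2 D := by
    refine nondegDecomp_mk le_rfl two_pos (fun l => ?_) ?_ ?_ ?_
    · rw [finrank_span_eq_card (hli l)]; simp
    · intro l w hw hw0
      obtain ⟨c, rfl⟩ := hcomb l w hw
      have hc : c 0 ≠ 0 ∨ c 1 ≠ 0 := by
        by_contra h
        push Not at h
        exact hw0 (by rw [h.1, h.2, zero_smul, zero_smul, add_zero])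
      have hmem : ∀ i, b l i ∈ D l := fun i => Submodule.subset_span ⟨i, rfl⟩
      rcases hc with hc | hc
      · exact ⟨⟨_, hmem 1, by simp [sf_add_right, sf_smul_right, hb, altTwo, hc, hsgn l]⟩,
          ⟨_, hmem 1, by simp [sf_add_left, sf_smul_left, hb, altTwo, hc, hsgn l]⟩⟩
      · exact ⟨⟨_, hmem 0, by simp [sf_add_right, sf_smul_right, hb, altTwo, hc, hsgn l]⟩,
          ⟨_, hmem 0, by simp [sf_add_left, sf_smul_left, hb, altTwo, hc, hsgn l]⟩⟩
    · intro l k hlk u hu v hv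
      obtain ⟨c, rfl⟩ := hcomb l u hu
      obtain ⟨d, rfl⟩ := hcomb k v hv
      have h0 : sgnMat (-1 : F) l k = 0 := by
        fin_cases l <;> fin_cases k <;> simp_all [sgnMat]
      simp [sf_add_left, sf_smul_left, sf_add_right, sf_smul_right, hb, h0]
    · rw [eq_top_iff]
      intro v _
      obtain ⟨z, rfl⟩ := exists_coord e P v
      rw [hP]
      refine Submodule.sum_mem _ fun q _ => Submodule.smul_mem _ _
        (Submodule.mem_iSup_of_mem (q 1) (Submodule.subset_span ⟨q 0, ?_⟩))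
      show col ![q 0, q 1] = col q
      congr 1; funext i; fin_cases i <;> rfl
  refine ⟨D, hD, fun g hg => ?_⟩
  obtain ⟨M, B, c, hc, hB, rfl⟩ := hfac g hg
  have h00 := congrFun (congrFun hB 0) 0
  have h11 := congrFun (congrFun hB 1) 1
  have h01 := congrFun (congrFun hB 0) 1
  simp [sgnMat, Matrix.mul_apply, Fin.sum_univ_two] at h00 h11 h01
  have hcolB : ∀ l, ∃ k, ∀ k', k' ≠ k → (B : M2) k' l = 0 := by
    intro l
    have hne : (B : M2) 0 l = 0 ∨ (B : M2) 1 l = 0 := by
      by_contra h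
      push Not at h
      have e1 := sq_one_of_ne_zero hq h.1
      have e2 := sq_one_of_ne_zero hq h.2
      refine hc ?_
      fin_cases l
      · simp at e1 e2; linear_combination -h00 + e1 - e2
      · simp at e1 e2; linear_combination h11 - e1 + e2
    rcases hne with h | h
    · exact ⟨1, fun k' hk' => by fin_cases k' <;> simp_all⟩
    · exact ⟨0, fun k' hk' => by fin_cases k' <;> simp_all⟩
  choose τ hτ using hcolB
  have hmap : ∀ l, (D l).map (Matrix.toLin' (pureIn e P ![M, B] : Mat 2 F)) = D (τ l) := by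
    intro l
    refine Submodule.eq_of_le_of_finrank_eq ?_ ?_
    · rw [Submodule.map_span_le]
      rintro _ ⟨i, rfl⟩
      rw [Matrix.toLin'_apply]
      have hq' : b l i = (P : Mat 2 F) *ᵥ ((Pi.single ![i, l] (1 : F) : (Fin 2 → Fin 2) → F) ∘ e) := by
        rw [hP]; simp [Pi.single_apply, b]
      rw [hq', pureIn_val, coordAlg_mulVec, hP]
      refine Submodule.sum_mem _ fun r _ => ?_
      by_cases hr : r 1 = τ l
      · refine Submodule.smul_mem _ _ (Submodule.subset_span ⟨r 0, ?_⟩)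
        show col ![r 0, τ l] = col r
        congr 1; funext j; fin_cases j
        · rfl
        · exact hr.symm
      · have : (pureMat (fun i => ((![M, B] i : G2) : M2)) *ᵥ
            (Pi.single ![i, l] (1 : F) : (Fin 2 → Fin 2) → F)) r = 0 := by
          simp [Matrix.mulVec_single_one, Matrix.col_apply, pureMat, Fin.prod_univ_two, hτ l _ hr]
        rw [this, zero_smul]
        exact Submodule.zero_mem _
    · rw [← (Submodule.equivMapOfInjective _ (Matrix.mulVec_injective_iff_isUnit.mpr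
        (pureIn e P ![M, B]).isUnit) (D l)).finrank_eq, hD.decomp.finrank_eq, hD.decomp.finrank_eq]
  have hτinj : Function.Injective τ := by
    intro l k hlk
    by_contra hne
    have h := (hmap l).trans (hlk ▸ (hmap k).symm)
    have heq := Submodule.map_injective_of_injective
      (f := Matrix.toLin' (pureIn e P ![M, B] : Mat 2 F)) (fun u v huv =>
        Matrix.mulVec_injective_iff_isUnit.mpr (pureIn e P ![M, B]).isUnit
          (by simpa [Matrix.toLin'_apply] using huv)) h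
    have hdis := hD.decomp.indep.pairwiseDisjoint hne
    rw [Function.onFun, heq, disjoint_self] at hdis
    have := hD.decomp.finrank_eq k
    rw [hdis, finrank_bot] at this
    omega
  exact ⟨Equiv.ofBijective τ (Finite.injective_iff_bijective.mp hτinj), hmap⟩

include hq in
/-- A skew square root of minus one determines a group of symplectic type. -/
theorem skew_minus {J : Matrix (Fin 2 ⊕ Fin 2) (Fin 2 ⊕ Fin 2) F}
    (hJJ : ∀ v, J *ᵥ (J *ᵥ v) = (-1 : F) • v)
    (hJf : ∀ u v, sf (J *ᵥ u) v = - sf u (J *ᵥ v)) :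
    ∃ (R : Subgroup (GL (Fin 2 ⊕ Fin 2) F)) (k : ℕ), IsSymplecticTypeGroup 2 R ∧
      ActsAbsolutelyIrreducibly (matrixSet R) ∧ R ≤ similarityGroup sf ∧
      Nat.card R = 2 ^ (1 + 2 * k) ∧ Nat.card (Subgroup.center R) = 2 ∧ IsOfMinusType k R ∧
      2 * 2 = 2 ^ k ∧ skewSet J ⊆ subgroupNormalizer R := by
  classical
  have h3 := three_eq_zero hq
  obtain ⟨e, P, col, hP, hgram, hval, hfac⟩ :=
    exists_skew_tensor hq (s := (-1 : F)) (by ring) hJJ hJf
  have hone : sgnMat (-(-1) : F) = (1 : M2) := by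
    ext i j; fin_cases i <;> fin_cases j <;> simp [sgnMat]
  rw [hone] at hval hfac
  set O := gramFix (RingEquiv.refl F) (1 : M2) with hO
  have hmemO : ∀ x : G2, x ∈ O ↔ (x : M2)ᵀ * (x : M2) = 1 := fun x => by
    show gtr (RingEquiv.refl F) 1 (x : M2) = 1 ↔ _
    rw [gtr, mul_one, show (x : M2).map (RingEquiv.refl F) = (x : M2) from Matrix.map_id _]
  set Q : Fin 2 → Subgroup G2 := ![quat hq, O] with hQ
  set N := tensorN e P Q with hN
  set G := spGL 2 F ⊓ Subgroup.normalizer (N : Set (GL I4 F)) with hG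
  have hmemN : ∀ (z : GL I4 F) (u v : G2), z ∈ scalars I4 F → u ∈ quat hq → v ∈ O →
      z * pureIn e P ![u, v] ∈ N := fun z u v hz hu hv =>
    (mem_tensorN e P Q).mpr ⟨z, hz, _, fun i => by fin_cases i <;> assumption, rfl⟩
  have hmemN' : ∀ u v : G2, u ∈ quat hq → v ∈ O → pureIn e P ![u, v] ∈ N := fun u v hu hv => by
    simpa using hmemN 1 u v (one_mem _) hu hv
  have hdec : ∀ x ∈ N, ∃ z ∈ scalars I4 F, ∃ u ∈ quat hq, ∃ v ∈ O, x = z * pureIn e P ![u, v] := by
    intro x hx
    obtain ⟨z, hz, q, hq', rfl⟩ := (mem_tensorN e P Q).mp hx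
    refine ⟨z, hz, q 0, hq' 0, q 1, hq' 1, ?_⟩
    congr 2; funext i; fin_cases i <;> rfl
  have hpureSp : ∀ u v : G2, (u : M2)ᵀ * altTwo * (u : M2) = (u : M2).det • altTwo →
      ((v : M2)ᵀ * (v : M2) = (u : M2).det • 1) → (u : M2).det * (u : M2).det = 1 →
      pureIn e P ![u, v] ∈ spGL 2 F := by
    intro u v h1 h2 h4
    refine pureIn_mem_spGL hval (g := pureGL ![u, v]) ?_
    show gtr _ _ (pureMat fun i => ((![u, v] i : G2) : M2)) = _
    rw [gtr, pure2_val, show (pureMat ![(u : M2), (v : M2)]).map (RingEquiv.refl F) = _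
      from Matrix.map_id _, pure2_transpose, pure2_mul, pure2_mul, mul_one, h1, h2]
    ext a b
    simp [pureMat, Fin.prod_univ_two]
    linear_combination (altTwo (a 0) (b 0) * (1 : M2) (a 1) (b 1)) * h4
  have hQSp : ∀ u v : G2, (u : M2).det = 1 → (v : M2)ᵀ * (v : M2) = 1 →
      pureIn e P ![u, v] ∈ spGL 2 F := fun u v hu hv =>
    hpureSp u v (transpose_mul_altTwo_mul _) (by rw [hu, hv, one_smul]) (by rw [hu, one_mul])
  have hNG : N ≤ G ⊔ scalars I4 F := by
    intro x hx
    obtain ⟨z, hz, u, hu, v, hv, rfl⟩ := hdec x hx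
    refine mul_mem (Subgroup.mem_sup_right hz) (Subgroup.mem_sup_left
      ⟨hQSp u v hu.1 ((hmemO v).mp hv), ?_⟩)
    exact Subgroup.le_normalizer (hmemN' u v hu hv)
  have hGn : ∀ g ∈ G, ∀ x ∈ N, g * x * g⁻¹ ∈ N := fun g hg x hx =>
    (Subgroup.mem_normalizer_iff.mp hg.2 x).mp hx
  -- elements normalising the tensor group
  have hnorm : ∀ (A B : G2) (l : F), l ≠ 0 → (B : M2)ᵀ * (B : M2) = l • 1 →
      pureIn e P ![A, B] ∈ Subgroup.normalizer (N : Set (GL I4 F)) := by
    intro A B l hl hB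
    refine conj_mem_of_le fun x hx => ?_
    obtain ⟨z, hz, u, hu, v, hv, rfl⟩ := hdec x hx
    have e1 : pureIn e P ![A, B] * (z * pureIn e P ![u, v]) * (pureIn e P ![A, B])⁻¹ =
        z * pureIn e P ![A * u * A⁻¹, B * v * B⁻¹] := by
      rw [← mul_assoc, ← scalars_comm hz, mul_assoc z, mul_assoc z, ← map_inv, ← map_mul,
        ← map_mul]
      congr 2
      funext i; fin_cases i <;> rfl
    rw [e1]
    exact hmemN z _ _ hz (quat_conj hq hu A) (orth_conj hv hl hB)
  have htarget : skewSet J ⊆ G := by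
    intro g hg
    refine ⟨hg.1, ?_⟩
    obtain ⟨M, B, l, hl, hB, rfl⟩ := hfac g hg
    exact hnorm M B l hl (by simpa using hB)
  -- the mixing element
  set i₀ : M2 := !![0, -1; 1, 0] with hi₀
  set E₀ : M2 := !![1, 0; 0, 0] with hE₀
  set E₁ : M2 := !![0, 0; 0, 1] with hE₁
  have hii : i₀ * -i₀ = 1 := by
    ext i j; fin_cases i <;> fin_cases j <;> simp [hi₀]
  have hii' : -i₀ * i₀ = 1 := by rw [neg_mul, ← mul_neg, hii]
  have hE : E₀ * E₀ = E₀ ∧ E₁ * E₁ = E₁ ∧ E₀ * E₁ = 0 ∧ E₁ * E₀ = 0 ∧ E₀ + E₁ = 1 := by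
    refine ⟨?_, ?_, ?_, ?_, ?_⟩ <;> ext i j <;> fin_cases i <;> fin_cases j <;> simp [hE₀, hE₁]
  set T : Matrix (Fin 2 → Fin 2) (Fin 2 → Fin 2) F := pureMat ![1, E₀] + pureMat ![i₀, E₁] with hT
  set T' : Matrix (Fin 2 → Fin 2) (Fin 2 → Fin 2) F := pureMat ![1, E₀] + pureMat ![-i₀, E₁]
    with hT'
  have hone2 : pureMat ![(1 : M2), (1 : M2)] = 1 := by
    rw [← pureMat_one]; congr 1; funext i; fin_cases i <;> rfl
  have hTT : T * T' = 1 ∧ T' * T = 1 := by
    constructor <;>
      simp only [hT, hT', add_mul, mul_add, pure2_mul, one_mul, mul_one, hii, hii', hE.1, hE.2.1,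
        hE.2.2.1, hE.2.2.2.1, pure2_zero, add_zero, zero_add, pure2_add, hE.2.2.2.2, hone2]
  let Tu : GL (Fin 2 → Fin 2) F := ⟨T, T', hTT.1, hTT.2⟩
  set θ := coordEquiv e P Tu with hθ
  have hθconj : ∀ u v u' v' : G2, T * pureMat ![(u : M2), (v : M2)] * T' = pureMat ![(u' : M2), (v' : M2)] →
      θ * pureIn e P ![u, v] * θ⁻¹ = pureIn e P ![u', v'] := by
    intro u v u' v' h
    show coordEquiv e P Tu * coordEquiv e P (pureGL _) * (coordEquiv e P Tu)⁻¹ =
      coordEquiv e P (pureGL _)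
    rw [← map_inv, ← map_mul, ← map_mul]
    congr 1
    refine Units.ext ?_
    show T * pureMat (fun i => ((![u, v] i : G2) : M2)) * T' = pureMat fun i => ((![u', v'] i : G2) : M2)
    rw [pure2_val, pure2_val, h]
  set S : G2 := Matrix.GeneralLinearGroup.mkOfDetNeZero (sgnMat (-1 : F))
    (by simp [sgnMat, Matrix.det_fin_two]) with hS
  have hSO : S ∈ O := (hmemO S).mpr (by
    ext a b; show ((sgnMat (-1 : F))ᵀ * sgnMat (-1) : M2) a b = _
    fin_cases a <;> fin_cases b <;> simp [sgnMat, Matrix.mul_apply, Fin.sum_univ_two])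
  set I₀ : G2 := Matrix.GeneralLinearGroup.mkOfDetNeZero i₀
    (by simp [hi₀, Matrix.det_fin_two]) with hI₀
  have hI₀q : I₀ ∈ quat hq := ⟨by show i₀.det = 1; simp [hi₀, Matrix.det_fin_two],
    Or.inl (by show i₀.trace = 0; simp [hi₀, Matrix.trace_fin_two])⟩
  have hθq : ∀ u : G2, u ∈ quat hq →
      θ * pureIn e P ![u, 1] * θ⁻¹ = pureIn e P ![u, 1] ∨
      θ * pureIn e P ![u, 1] * θ⁻¹ = pureIn e P ![u, S] := by
    intro u hu
    have hexp : T * pureMat ![(u : M2), 1] * T' =
        pureMat ![(u : M2), E₀] + pureMat ![i₀ * (u : M2) * -i₀, E₁] := by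
      simp only [hT, hT', add_mul, mul_add, pure2_mul, one_mul, mul_one, hE.1, hE.2.1, hE.2.2.1,
        hE.2.2.2.1, pure2_zero, add_zero, zero_add]
    rcases quat_comm hq hI₀q hu with h | h
    · refine Or.inl (hθconj u 1 u 1 ?_)
      rw [Units.val_one, hexp, show i₀ * (u : M2) = (u : M2) * i₀ from h, mul_assoc, hii, mul_one,
        pure2_add, hE.2.2.2.2]
    · refine Or.inr (hθconj u 1 u S ?_)
      rw [Units.val_one, hexp, show i₀ * (u : M2) = -((u : M2) * i₀) from h, neg_mul, mul_assoc, hii,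
        mul_one, pure2_neg_left, pure2_add, show E₀ + -E₁ = (S : M2) from ?_]
      ext a b
      show (E₀ + -E₁) a b = sgnMat (-1 : F) a b
      fin_cases a <;> fin_cases b <;> simp [hE₀, hE₁, sgnMat]
  have hθv : ∀ v : G2, v ∈ O →
      ((v : M2) 0 1 = 0 ∧ (v : M2) 1 0 = 0 ∧ θ * pureIn e P ![1, v] * θ⁻¹ = pureIn e P ![1, v]) ∨
      (∃ v' ∈ O, θ * pureIn e P ![1, v] * θ⁻¹ = pureIn e P ![I₀, v']) := by
    intro v hv
    have hexp : T * pureMat ![1, (v : M2)] * T' =
        pureMat ![1, E₀ * (v : M2) * E₀] + pureMat ![i₀, E₁ * (v : M2) * E₀] +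
        (pureMat ![-i₀, E₀ * (v : M2) * E₁] + pureMat ![1, E₁ * (v : M2) * E₁]) := by
      simp only [hT, hT', add_mul, mul_add, pure2_mul, one_mul, mul_one, hii, mul_assoc]
    rcases orth_shape hq hv with ⟨a1, a2⟩ | ⟨a1, a2⟩
    · refine Or.inl ⟨a1, a2, hθconj 1 v 1 v ?_⟩
      obtain ⟨z1, z2, z3⟩ : E₁ * (v : M2) * E₀ = 0 ∧ E₀ * (v : M2) * E₁ = 0 ∧
          E₀ * (v : M2) * E₀ + E₁ * (v : M2) * E₁ = (v : M2) := by
        rw [Matrix.eta_fin_two (v : M2), a1, a2]
        simp [hE₀, hE₁, ← Matrix.ext_iff, Fin.forall_fin_two]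
      rw [Units.val_one, hexp, z1, z2, pure2_zero, pure2_zero, add_zero, zero_add, pure2_add, z3]
    · right
      obtain ⟨z1, z2⟩ : E₀ * (v : M2) * E₀ = 0 ∧ E₁ * (v : M2) * E₁ = 0 := by
        rw [Matrix.eta_fin_two (v : M2), a1, a2]
        simp [hE₀, hE₁, ← Matrix.ext_iff, Fin.forall_fin_two]
      set w : M2 := !![0, -(v : M2) 0 1; (v : M2) 1 0, 0] with hw
      have hv' := (hmemO v).mp hv
      have h00 := congrFun (congrFun hv' 0) 0
      have h11 := congrFun (congrFun hv' 1) 1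
      simp [Matrix.mul_apply, Fin.sum_univ_two, a1, a2] at h00 h11
      have hwO : wᵀ * w = 1 := by
        ext i j; fin_cases i <;> fin_cases j <;> simp [hw, Matrix.mul_apply, Fin.sum_univ_two, h00, h11]
      have hwdet : w.det ≠ 0 := fun h0 => by
        have := congrArg Matrix.det hwO
        rw [Matrix.det_mul, h0, mul_zero, Matrix.det_one] at this
        exact zero_ne_one this
      refine ⟨Matrix.GeneralLinearGroup.mkOfDetNeZero w hwdet, (hmemO _).mpr hwO,
        hθconj 1 v I₀ _ ?_⟩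
      rw [Units.val_one, hexp, z1, z2, pure2_zero, add_zero, zero_add, pure2_neg_left, pure2_add,
        show E₁ * (v : M2) * E₀ + -(E₀ * (v : M2) * E₁) = w from ?_]
      · rfl
      rw [Matrix.eta_fin_two (v : M2), a1, a2, hw]
      simp [hE₀, hE₁, ← Matrix.ext_iff, Fin.forall_fin_two]
  have hθG : θ ∈ G := by
    refine ⟨pureIn_mem_spGL hval (g := Tu) ?_, conj_mem_of_le fun x hx => ?_⟩
    · show gtr _ _ T = _
      have hd : i₀ᵀ * altTwo * i₀ = (altTwo : M2) := by
        rw [transpose_mul_altTwo_mul]; simp [hi₀, Matrix.det_fin_two]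
      have hd2 : E₀ᵀ = E₀ ∧ E₁ᵀ = E₁ := by
        constructor <;> ext i j <;> fin_cases i <;> fin_cases j <;> simp [hE₀, hE₁]
      rw [gtr, show T.map (RingEquiv.refl F) = T from Matrix.map_id _, hT, Matrix.transpose_add,
        pure2_transpose, pure2_transpose, Matrix.transpose_one, hd2.1, hd2.2]
      simp only [add_mul, mul_add, pure2_mul, one_mul, mul_one, hd, hE.1, hE.2.1, hE.2.2.1,
        hE.2.2.2.1, pure2_zero, add_zero, zero_add, pure2_add, hE.2.2.2.2]
    · obtain ⟨z, hz, u, hu, v, hv, rfl⟩ := hdec x hx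
      have e1 : θ * (z * pureIn e P ![u, v]) * θ⁻¹ =
          z * ((θ * pureIn e P ![u, 1] * θ⁻¹) * (θ * pureIn e P ![1, v] * θ⁻¹)) := by
        rw [show ![u, v] = ![u, 1] * ![(1 : G2), v] by funext i; fin_cases i <;> simp, map_mul,
          ← mul_assoc θ z, ← scalars_comm hz θ]
        group
      rw [e1]
      refine N.mul_mem (Subgroup.mem_sup_left hz) (N.mul_mem ?_ ?_)
      · rcases hθq u hu with h | h <;> rw [h]
        · exact hmemN' u 1 hu O.one_mem
        · exact hmemN' u S hu hSO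
      · rcases hθv v hv with ⟨-, -, h⟩ | ⟨v', hv', h⟩ <;> rw [h]
        · exact hmemN' 1 v (quat hq).one_mem hv
        · exact hmemN' I₀ v' hI₀q hv'
  -- the element exchanging the two reflection classes
  set A₀ : G2 := Matrix.GeneralLinearGroup.mkOfDetNeZero (sgnMat (-1 : F))
    (by simp [sgnMat, Matrix.det_fin_two]) with hA₀
  set B₀ : G2 := Matrix.GeneralLinearGroup.mkOfDetNeZero (!![1, -1; 1, 1] : M2)
    (by simp [Matrix.det_fin_two]; exact fun h => two_ne_zero' hq (by linear_combination h)) with hB₀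
  have hB₀v : (B₀ : M2)ᵀ * (B₀ : M2) = (-1 : F) • 1 := by
    show (!![1, -1; 1, 1] : M2)ᵀ * !![1, -1; 1, 1] = _
    ext i j
    fin_cases i <;> fin_cases j <;> simp [Matrix.mul_apply, Fin.sum_univ_two] <;>
      linear_combination h3
  have hhG : pureIn e P ![A₀, B₀] ∈ G :=
    ⟨hpureSp A₀ B₀ (transpose_mul_altTwo_mul _)
      (by rw [hB₀v]; show _ = (sgnMat (-1 : F)).det • (1 : M2); simp [sgnMat, Matrix.det_fin_two])
      (by show (sgnMat (-1 : F)).det * (sgnMat (-1 : F)).det = 1; simp [sgnMat, Matrix.det_fin_two]),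
      hnorm A₀ B₀ (-1) (neg_ne_zero.mpr one_ne_zero) hB₀v⟩
  set W : G2 := B₀ * S * B₀⁻¹ with hW
  have hWO : W ∈ O := orth_conj hSO (neg_ne_zero.mpr one_ne_zero) hB₀v
  have hWv : (W : M2) = !![0, 1; 1, 0] := by
    have hB : (B₀ : M2) * sgnMat (-1 : F) = !![0, 1; 1, 0] * (B₀ : M2) := by
      show (!![1, -1; 1, 1] : M2) * sgnMat (-1) = !![0, 1; 1, 0] * !![1, -1; 1, 1]
      ext i j
      fin_cases i <;> fin_cases j <;> simp [sgnMat, Matrix.mul_apply, Fin.sum_univ_two]
    rw [hW, Units.val_mul, Units.val_mul, show (S : M2) = sgnMat (-1 : F) from rfl, hB, mul_assoc,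
      ← Units.val_mul, mul_inv_cancel, Units.val_one, mul_one]
  have hmin : ∀ M : Subgroup (GL I4 F), scalars I4 F ≤ M → M ≤ N →
      (∀ g ∈ G, ∀ x ∈ M, g * x * g⁻¹ ∈ M) → M = scalars I4 F ∨ M = N := by
    intro M hMZ hMN hMn
    by_cases hle : M ≤ scalars I4 F
    · exact Or.inl (le_antisymm hle hMZ)
    right
    have hscal : ∀ u v : G2, (∃ c : F, (u : M2) = c • 1) → (∃ c : F, (v : M2) = c • 1) →
        pureIn e P ![u, v] ∈ M := fun u v hu hv =>
      hMZ (pureIn_scalar e P fun i => by fin_cases i <;> assumption)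
    have hs1 : ∃ c : F, ((1 : G2) : M2) = c • 1 := ⟨1, by rw [Units.val_one, one_smul]⟩
    have hA : ∀ z ∈ scalars I4 F, ∀ u ∈ quat hq, ∀ v ∈ O, z * pureIn e P ![u, v] ∈ M →
        (¬ ∃ c : F, (u : M2) = c • 1) → M = N := by
      intro z hz u hu v hv hx hns
      have hms : ∀ w : G2, (Pi.mulSingle 0 w : Fin 2 → G2) = ![w, 1] := fun w => by
        funext i; fin_cases i <;> simp
      have hslot : ∀ w ∈ quat hq, pureIn e P ![w, 1] ∈ M := fun w hw => by
        rw [← hms]
        exact slot_full e P hq hMZ hMn (i := 0) (fun s hs => by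
          rw [hms]
          refine ⟨hQSp s 1 hs (by simp), hnorm s 1 1 one_ne_zero (by simp)⟩) hz hx
          (show ![u, v] 0 ∈ quat hq from hu) (show ¬ ∃ c : F, ((![u, v] 0 : G2) : M2) = c • 1 from hns)
          w hw
      set j₀ : G2 := Matrix.GeneralLinearGroup.mkOfDetNeZero (!![1, 1; 1, -1] : M2)
        (by simp [Matrix.det_fin_two]; exact fun h => two_ne_zero' hq (by linear_combination -h))
      have hj₀ : j₀ ∈ quat hq := ⟨by
        show (!![1, 1; 1, -1] : M2).det = 1
        simp [Matrix.det_fin_two]; linear_combination -h3, Or.inl (by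
        show (!![1, 1; 1, -1] : M2).trace = 0
        simp [Matrix.trace_fin_two])⟩
      have hS1 : pureIn e P ![1, S] ∈ M := by
        have h := hMn θ hθG _ (hslot j₀ hj₀)
        rcases hθq j₀ hj₀ with h' | h'
        · exfalso
          -- the conjugate is not the identity
          have e1 : θ * pureIn e P ![j₀, 1] = pureIn e P ![j₀, 1] * θ :=
            mul_inv_eq_iff_eq_mul.mp h'
          have e2 := congrArg (fun g : GL (Fin 2 → Fin 2) F =>
            (g : Matrix (Fin 2 → Fin 2) (Fin 2 → Fin 2) F) ![0, 1] ![0, 1]) ((coordEquiv e P).injective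
            (show coordEquiv e P (Tu * pureGL ![j₀, 1]) = coordEquiv e P (pureGL ![j₀, 1] * Tu) by
              rw [map_mul, map_mul]; exact e1))
          simp only [Units.val_mul] at e2
          rw [show ((Tu : GL (Fin 2 → Fin 2) F) : Matrix (Fin 2 → Fin 2) (Fin 2 → Fin 2) F) = T from rfl,
            show ((pureGL ![j₀, 1] : GL (Fin 2 → Fin 2) F) : Matrix (Fin 2 → Fin 2) (Fin 2 → Fin 2) F)
              = pureMat ![(j₀ : M2), ((1 : G2) : M2)] by
              show pureMat _ = _; rw [pure2_val], hT, Units.val_one, add_mul, mul_add, pure2_mul,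
            pure2_mul, pure2_mul, pure2_mul] at e2
          simp [pureMat, Fin.prod_univ_two, hi₀, hE₀, hE₁, j₀, Matrix.mul_apply, Fin.sum_univ_two] at e2
          exact two_ne_zero' hq (by linear_combination -e2)
        · rw [h'] at h
          have h'' := M.mul_mem (hslot j₀⁻¹ ((quat hq).inv_mem hj₀)) h
          rw [← map_mul] at h''
          convert h'' using 2
          funext i; fin_cases i <;> simp
      have hW1 : pureIn e P ![1, W] ∈ M := by
        have h := hMn _ hhG _ hS1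
        rw [← map_inv, ← map_mul, ← map_mul] at h
        convert h using 2
        funext i; fin_cases i <;> simp [hW]
      have hdiag : ∀ v : G2, v ∈ O → (v : M2) 0 1 = 0 → (v : M2) 1 0 = 0 →
          pureIn e P ![1, v] ∈ M := by
        intro v hv a1 a2
        have hv' := (hmemO v).mp hv
        have h00 := congrFun (congrFun hv' 0) 0
        have h11 := congrFun (congrFun hv' 1) 1
        simp [Matrix.mul_apply, Fin.sum_univ_two, a1, a2] at h00 h11
        have h0 : (v : M2) 0 0 ≠ 0 := left_ne_zero_of_mul_eq_one h00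
        by_cases heq : (v : M2) 1 1 = (v : M2) 0 0
        · exact hscal 1 v hs1 ⟨(v : M2) 0 0, by
            ext i j; fin_cases i <;> fin_cases j <;> simp [a1, a2, heq]⟩
        · have h11' : (v : M2) 1 1 = -(v : M2) 0 0 :=
            (mul_self_eq_mul_self_iff.mp (h11.trans h00.symm)).resolve_left heq
          have : ![(1 : G2), v] = ![1, v * S⁻¹] * ![1, S] := by funext i; fin_cases i <;> simp
          rw [this, map_mul]
          refine M.mul_mem (hscal 1 _ hs1 ⟨(v : M2) 0 0, ?_⟩) hS1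
          have hvS : (v : M2) = ((v : M2) 0 0) • (S : M2) := by
            ext i j
            show _ = (v : M2) 0 0 * sgnMat (-1 : F) i j
            fin_cases i <;> fin_cases j <;> simp [sgnMat, a1, a2, h11']
          rw [Units.val_mul]
          conv_lhs => rw [hvS]
          rw [Matrix.smul_mul, ← Units.val_mul, mul_inv_cancel, Units.val_one]
      refine le_antisymm hMN fun y hy => ?_
      obtain ⟨z', hz', u', hu', v', hv', rfl⟩ := hdec y hy
      refine M.mul_mem (hMZ hz') ?_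
      rw [show ![u', v'] = ![u', 1] * ![(1 : G2), v'] by funext i; fin_cases i <;> simp, map_mul]
      refine M.mul_mem (hslot u' hu') ?_
      rcases orth_shape hq hv' with ⟨a1, a2⟩ | ⟨a1, a2⟩
      · exact hdiag v' hv' a1 a2
      · have hd := hdiag (W * v') (O.mul_mem hWO hv')
          (by rw [Units.val_mul, hWv]; simp [Matrix.mul_apply, Fin.sum_univ_two, a2])
          (by rw [Units.val_mul, hWv]; simp [Matrix.mul_apply, Fin.sum_univ_two, a1])
        have hWW : W * W = 1 := Units.ext (by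
          rw [Units.val_mul, hWv]; ext i j; fin_cases i <;> fin_cases j <;> simp)
        have : ![(1 : G2), v'] = ![1, W] * ![1, W * v'] := by
          funext i; fin_cases i <;> simp [← mul_assoc, hWW]
        rw [this, map_mul]
        exact M.mul_mem hW1 hd
    obtain ⟨x, hxM, hxZ⟩ := SetLike.not_le_iff_exists.mp hle
    obtain ⟨z, hz, u, hu, v, hv, rfl⟩ := hdec x (hMN hxM)
    by_cases hns : ∃ c : F, (u : M2) = c • 1
    swap
    · exact hA z hz u hu v hv hxM hns
    -- move the second factor into the first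
    have hv1 : pureIn e P ![1, v] ∈ M := by
      have h1 := M.mul_mem (M.inv_mem (M.mul_mem (hMZ hz) (hscal u 1 hns hs1))) hxM
      rw [mul_inv_rev, mul_assoc, inv_mul_cancel_left, ← map_inv, ← map_mul] at h1
      convert h1 using 2
      funext i; fin_cases i <;> simp
    have hnv : ¬ ∃ c : F, (v : M2) = c • 1 := fun h =>
      hxZ (mul_mem hz (pureIn_scalar e P fun i => by fin_cases i <;> assumption))
    have hI : ¬ ∃ c : F, (I₀ : M2) = c • 1 := by
      rintro ⟨c, hc⟩
      have := congrFun (congrFun hc 1) 0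
      simp [hI₀, hi₀] at this
    have hfin : ∀ v : G2, v ∈ O → pureIn e P ![1, v] ∈ M →
        ((v : M2) 0 1 ≠ 0 ∨ (v : M2) 1 0 ≠ 0) → M = N := by
      intro v hv hv1 hne
      rcases hθv v hv with ⟨a1, a2, -⟩ | ⟨v', hv', h⟩
      · rcases hne with hne | hne
        · exact absurd a1 hne
        · exact absurd a2 hne
      · have h1 := hMn θ hθG _ hv1
        rw [h] at h1
        exact hA 1 (one_mem _) I₀ hI₀q v' hv' (by rwa [one_mul]) hI
    by_cases hne : (v : M2) 0 1 ≠ 0 ∨ (v : M2) 1 0 ≠ 0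
    · exact hfin v hv hv1 hne
    push Not at hne
    have h1 := hMn _ hhG _ hv1
    rw [← map_inv, ← map_mul, ← map_mul] at h1
    have h2 : pureIn e P ![1, B₀ * v * B₀⁻¹] ∈ M := by
      convert h1 using 2
      funext i; fin_cases i <;> simp
    refine hfin _ (orth_conj hv (neg_ne_zero.mpr one_ne_zero) hB₀v) h2 ?_
    by_contra hcon
    push Not at hcon
    apply hnv
    set X := ((B₀ * v * B₀⁻¹ : G2) : M2) with hX
    have hXB : X * (B₀ : M2) = (B₀ : M2) * (v : M2) := by
      rw [hX, ← Units.val_mul, inv_mul_cancel_right, Units.val_mul]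
    have e00 := congrFun (congrFun hXB 0) 0
    have e01 := congrFun (congrFun hXB 0) 1
    simp [hB₀, Matrix.mul_apply, Fin.sum_univ_two, hne.1, hne.2, hcon.1] at e00 e01
    exact ⟨(v : M2) 0 0, by
      ext i j; fin_cases i <;> fin_cases j <;> simp [hne.1, hne.2]
      linear_combination e00 - e01⟩
  obtain ⟨R, k, a1, a2, a3, a4, a5, a6, a7, hle⟩ := class6_of_minimal (m := 2) one_le_two hq
    (G := G) (N := N) inf_le_left hNG le_sup_left hGn hmin
    (tensorN_commutator e P Q fun i x hx y hy => by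
      fin_cases i
      · exact commutator_scalar_of (quat_comm hq hx hy)
      · exact commutator_scalar_of (orth_comm hq hx hy))
    (tensorN_absIrred e P Q fun i X => by
      fin_cases i
      · exact quat_span hq X
      · exact orth_span hq X)
  exact ⟨R, k, a1, a2, a3, a4, a5, a6, a7, fun g hg => hle (htarget hg)⟩

end four

end Cfsg.Agent.Symplectic.Asch
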