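import Cfsg.Agent.Symplectic.AschMaximalCases
import Cfsg.Agent.Symplectic.AschSkew
import Cfsg.Agent.Symplectic.AschPlus

/-! The exceptional cases of the maximal subgroup lists in dimensions four and eight. -/

set_option autoImplicit false
set_option maxHeartbeats 1000000
set_option linter.unusedSectionVars false
set_option linter.style.haveILetI false

namespace Cfsg.Agent.Symplectic.Asch

open scoped MatrixGroups Matrix
open Cfsg Cfsg.Geo

variable {F : Type*} [Field F] [Fintype F] {m : ℕ}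

theorem class6_eq (hm : 2 ≤ m) (hodd : Odd (Fintype.card F))
    {H R : Subgroup (GL (Fin m ⊕ Fin m) F)} (hH : IsMaximalIn (spGL m F) H)
    (hR : IsSymplecticTypeGroup 2 R) (habs : ActsAbsolutelyIrreducibly (matrixSet R))
    (hle : R ≤ similarityGroup (sympForm m F)) (h : H ≤ subgroupNormalizer R) :
    H = subgroupNormalizer R ⊓ spGL m F := by
  haveI : Nonempty (Fin m ⊕ Fin m) := ⟨Sum.inl ⟨0, by omega⟩⟩
  exact maximal_eq hH h (symp_proper hm hodd hR.pGroup hle
    (Aschbacher.absIrred_not_le_scalars (by simp; omega) habs))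

theorem dim_pow_four {k : ℕ} (h : 2 * 2 = 2 ^ k) : k = 2 :=
  (Nat.pow_right_injective (le_refl 2) (show (2 : ℕ) ^ 2 = 2 ^ k from h)).symm

theorem dim_pow_eight {k : ℕ} (h : 2 * 4 = 2 ^ k) : k = 3 :=
  (Nat.pow_right_injective (le_refl 2) (show (2 : ℕ) ^ 3 = 2 ^ k from h)).symm

theorem decomp_eight {t k : ℕ} {D : Fin t → Submodule F (Fin 4 ⊕ Fin 4 → F)}
    (hD : IsNondegenerateMDecomposition (sympForm 4 F) k D) (hcard : t * k = 2 * 4) (hev : Even k) :
    (t = 4 ∧ k = 2) ∨ (t = 2 ∧ k = 4) := by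
  obtain ⟨h1, h2, h3, h4⟩ := decomp_bound hD hcard hev
  obtain ⟨s, rfl⟩ := hev
  interval_cases t <;> omega

theorem tensor_eight {a b : ℕ} (h1 : 2 ≤ a) (h2 : 3 ≤ b) (hev : Even a) (hcard : a * b = 2 * 4) :
    a = 2 ∧ b = 4 := by
  obtain ⟨s, rfl⟩ := hev
  have h3 : s + s ≤ 2 := by nlinarith
  have h4 : s = 1 := by omega
  subst h4
  omega

theorem wreath_eight {k t : ℕ} (hk : 2 ≤ k) (ht : 3 ≤ t) (hcard : k ^ t = 2 * 4) : k = 2 ∧ t = 3 := by
  have h1 : k ^ 3 ≤ 8 := (Nat.pow_le_pow_right (by omega) ht).trans hcard.le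
  have h2 : k = 2 := by
    by_contra hne
    have : 3 ^ 3 ≤ k ^ 3 := Nat.pow_le_pow_left (by omega) 3
    omega
  subst h2
  exact ⟨rfl, Nat.pow_right_injective le_rfl (show (2 : ℕ) ^ t = 2 ^ 3 from hcard)⟩

theorem two_ne_zero_of_odd (hodd : Odd (Fintype.card F)) : (2 : F) ≠ 0 := fun h => by
  obtain ⟨s, hs⟩ := hodd
  have h0 := FiniteField.cast_card_eq_zero F
  rw [hs, Nat.cast_add, Nat.cast_mul, Nat.cast_ofNat, Nat.cast_one, h, zero_mul, zero_add] at h0
  exact one_ne_zero h0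

/-- Over three elements a pair of totally singular planes lies in a pair of non-singular planes. -/
theorem tsPair_three (hq : Fintype.card F = 3) {D : Fin 2 → Submodule F (Fin 2 ⊕ Fin 2 → F)}
    (hD : IsMDecomposition 2 D) (hts : ∀ i, IsTotallySingularFor (sympForm 2 F) (D i)) :
    ∃ D' : Fin 2 → Submodule F (Fin 2 ⊕ Fin 2 → F),
      IsNondegenerateMDecomposition (sympForm 2 F) 2 D' ∧
      decompositionStabilizer D ⊓ spGL 2 F ≤ decompositionStabilizer D' := by
  classical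
  have hsf := formSpace_sympForm (m := 2) (F := F)
  have hc : IsCompl (D 0) (D 1) := by
    refine ⟨hD.indep.pairwiseDisjoint (show (0 : Fin 2) ≠ 1 by decide), ?_⟩
    rw [codisjoint_iff, eq_top_iff, ← hD.iSup_eq_top]
    refine iSup_le fun i => ?_
    fin_cases i
    · exact le_sup_left
    · exact le_sup_right
  set E := Submodule.prodEquivOfIsCompl _ _ hc
  let p : (Fin 2 ⊕ Fin 2 → F) →ₗ[F] (Fin 2 ⊕ Fin 2 → F) :=
    (D 0).subtype ∘ₗ LinearMap.fst F (D 0) (D 1) ∘ₗ E.symm.toLinearMap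
  set J : Matrix (Fin 2 ⊕ Fin 2) (Fin 2 ⊕ Fin 2) F := LinearMap.toMatrix' (p + p - LinearMap.id)
  have hJ : ∀ a ∈ D 0, ∀ b ∈ D 1, J *ᵥ (a + b) = a - b := by
    intro a ha b hb
    have h1 : E.symm (a + b) = (⟨a, ha⟩, ⟨b, hb⟩) := by
      rw [LinearEquiv.symm_apply_eq]
      simp [E]
    rw [← Matrix.toLin'_apply, Matrix.toLin'_toMatrix']
    simp [p, h1]
  have hsplit : ∀ v, ∃ a ∈ D 0, ∃ b ∈ D 1, v = a + b := fun v => by
    obtain ⟨a, ha, b, hb, h⟩ := Submodule.mem_sup.mp (hc.sup_eq_top.ge (Submodule.mem_top (x := v)))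
    exact ⟨a, ha, b, hb, h.symm⟩
  have hJJ : ∀ v, J *ᵥ (J *ᵥ v) = v := by
    intro v
    obtain ⟨a, ha, b, hb, rfl⟩ := hsplit v
    rw [hJ a ha b hb, sub_eq_add_neg, hJ a ha (-b) ((D 1).neg_mem hb), sub_neg_eq_add]
  have hJf : ∀ u v, sympForm 2 F (J *ᵥ u) v = - sympForm 2 F u (J *ᵥ v) := by
    intro u v
    obtain ⟨a, ha, b, hb, rfl⟩ := hsplit u
    obtain ⟨a', ha', b', hb', rfl⟩ := hsplit v
    rw [hJ a ha b hb, hJ a' ha' b' hb', sub_eq_add_neg, sub_eq_add_neg,
      ← neg_one_smul F b, ← neg_one_smul F b']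
    simp only [hsf.sesq.add_left, hsf.sesq.add_right, hsf.sesq.smul_left, hsf.sesq.smul_right,
      hts 0 a ha a' ha', hts 1 b hb b' hb', RingEquiv.refl_apply]
    ring
  obtain ⟨D', hD', hle⟩ := skew_plus hq hJJ hJf
  refine ⟨D', hD', ?_⟩
  rintro g ⟨⟨σ, hσ⟩, hgS⟩
  refine hle ⟨hgS, ?_⟩
  have hmap : ∀ i, ∀ a ∈ D i, (g : Mat 2 F) *ᵥ a ∈ D (σ i) := fun i a ha => by
    rw [← hσ i]
    exact ⟨a, ha, Matrix.toLin'_apply _ _⟩
  obtain h | h : σ 0 = 0 ∨ σ 0 = 1 := by omega
  · have h1 : σ 1 = 1 := by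
      have : σ 1 ≠ σ 0 := σ.injective.ne (by decide)
      omega
    refine Or.inl (Matrix.ext_of_mulVec_single fun k => ?_)
    obtain ⟨a, ha, b, hb, hv⟩ := hsplit (Pi.single k 1)
    rw [hv, ← Matrix.mulVec_mulVec, ← Matrix.mulVec_mulVec, hJ a ha b hb, Matrix.mulVec_add,
      Matrix.mulVec_sub, hJ _ (h ▸ hmap 0 a ha) _ (h1 ▸ hmap 1 b hb)]
  · have h1 : σ 1 = 0 := by
      have : σ 1 ≠ σ 0 := σ.injective.ne (by decide)
      omega
    refine Or.inr (Matrix.ext_of_mulVec_single fun k => ?_)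
    obtain ⟨a, ha, b, hb, hv⟩ := hsplit (Pi.single k 1)
    rw [hv, Matrix.neg_mulVec, ← Matrix.mulVec_mulVec, ← Matrix.mulVec_mulVec, hJ a ha b hb,
      Matrix.mulVec_add, Matrix.mulVec_sub, add_comm ((g : Mat 2 F) *ᵥ a),
      hJ _ (h1 ▸ hmap 1 b hb) _ (h ▸ hmap 0 a ha), neg_sub]

/-- Over three elements a unitary field normaliser lies in a normaliser of symplectic type. -/
theorem unitaryField_three (hq : Fintype.card F = 3)
    {K : Subalgebra F (Matrix (Fin 2 ⊕ Fin 2) (Fin 2 ⊕ Fin 2) F)} (hK : IsFieldSubalgebra 2 K)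
    (hs : IsAdjointClosedFor (sympForm 2 F) K) (hns : ¬ IsSelfAdjointFor (sympForm 2 F) K) :
    ∃ (R : Subgroup (GL (Fin 2 ⊕ Fin 2) F)) (k : ℕ), IsSymplecticTypeGroup 2 R ∧
      ActsAbsolutelyIrreducibly (matrixSet R) ∧ R ≤ similarityGroup (sympForm 2 F) ∧
      Nat.card R = 2 ^ (1 + 2 * k) ∧ Nat.card (Subgroup.center R) = 2 ∧ IsOfMinusType k R ∧
      2 * 2 = 2 ^ k ∧ subalgebraNormalizer K ⊓ spGL 2 F ≤ subgroupNormalizer R := by
  classical
  have h2 := two_ne_zero' hq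
  have hsf := formSpace_sympForm (m := 2) (F := F)
  have hswap : ∀ u v : Fin 2 ⊕ Fin 2 → F, sympForm 2 F u v = - sympForm 2 F v u :=
    fun u v => Symplectic.sf_swap u v
  obtain ⟨k₀, hk₀, k₁, hk₁, hadj, hne⟩ : ∃ k₀ ∈ K, ∃ k₁ ∈ K,
      (∀ u v, sympForm 2 F (k₀ *ᵥ u) v = sympForm 2 F u (k₁ *ᵥ v)) ∧ k₀ ≠ k₁ := by
    by_contra hcon
    push Not at hcon
    refine hns fun k hk u v => ?_
    obtain ⟨k', hk', h⟩ := hs k hk
    rw [h, ← hcon k hk k' hk' h]
  set J := k₀ - k₁ with hJ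
  have hJK : J ∈ K := K.sub_mem hk₀ hk₁
  have hJ0 : J ≠ 0 := sub_ne_zero.mpr hne
  have hskew : ∀ u v, sympForm 2 F (J *ᵥ u) v = - sympForm 2 F u (J *ᵥ v) := by
    intro u v
    have h1 : sympForm 2 F (k₁ *ᵥ u) v = sympForm 2 F u (k₀ *ᵥ v) := by
      rw [hswap, ← hadj, hswap, neg_neg]
    rw [hJ, Matrix.sub_mulVec, Matrix.sub_mulVec, sub_eq_add_neg, sub_eq_add_neg,
      ← neg_one_smul F (k₁ *ᵥ u), ← neg_one_smul F (k₁ *ᵥ v)]
    simp only [hsf.sesq.add_left, hsf.sesq.add_right, hsf.sesq.smul_left, hsf.sesq.smul_right,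
      RingEquiv.refl_apply, h1, hadj]
    ring
  have hscal : ∀ (c : F) (X : Mat 2 F), (∀ u v, sympForm 2 F (X *ᵥ u) v = - sympForm 2 F u (X *ᵥ v)) →
      X = c • 1 → c = 0 := by
    intro c X hX hc
    obtain ⟨x, hx⟩ := Symplectic.sf_exists_one (F := F) (Symplectic.ev_ne_zero (0 : Fin 2))
    have h := hX (Symplectic.ev 0) x
    rw [hc, Matrix.smul_mulVec, Matrix.smul_mulVec, Matrix.one_mulVec, Matrix.one_mulVec,
      hsf.sesq.smul_left, hsf.sesq.smul_right, RingEquiv.refl_apply, hx] at h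
    exact (mul_eq_zero.mp (show (2 : F) * c = 0 by linear_combination h)).resolve_left h2
  have hgen : ∀ z ∈ K, ∃ x y : F, z = x • (1 : Mat 2 F) + y • J := by
    intro z hz
    have hli : LinearIndependent F ![(1 : Mat 2 F), J] := by
      rw [LinearIndependent.pair_iff]
      intro s t hst
      by_cases ht : t = 0
      · subst ht
        rw [zero_smul, add_zero, smul_eq_zero] at hst
        exact ⟨hst.resolve_right one_ne_zero, rfl⟩
      · exfalso
        have hJc : J = (-s / t) • (1 : Mat 2 F) := by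
          rw [div_eq_inv_mul, ← smul_smul, eq_inv_smul_iff₀ ht, neg_smul]
          exact eq_neg_of_add_eq_zero_right hst
        have h0 := hscal _ J hskew hJc
        rw [h0, zero_smul] at hJc
        exact hJ0 hJc
    have hle : Submodule.span F (Set.range ![(1 : Mat 2 F), J]) ≤ Subalgebra.toSubmodule K := by
      rw [Submodule.span_le]
      rintro _ ⟨i, rfl⟩
      fin_cases i
      · exact K.one_mem
      · exact hJK
    have heq : Submodule.span F (Set.range ![(1 : Mat 2 F), J]) = Subalgebra.toSubmodule K :=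
      Submodule.eq_of_le_of_finrank_eq hle (by
        rw [finrank_span_eq_card hli, Subalgebra.finrank_toSubmodule, hK.finrank_eq]; simp)
    obtain ⟨c, hc⟩ := (Submodule.mem_span_range_iff_exists_fun F).mp (heq.ge hz)
    exact ⟨c 0, c 1, by rw [← hc, Fin.sum_univ_two]; rfl⟩
  have hcoef : ∀ x y : F,
      (∀ u v, sympForm 2 F ((x • (1 : Mat 2 F) + y • J) *ᵥ u) v =
        - sympForm 2 F u ((x • (1 : Mat 2 F) + y • J) *ᵥ v)) → x = 0 := by
    intro x y h
    refine hscal x (x • 1) (fun u v => ?_) rfl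
    have := h u v
    simp only [Matrix.add_mulVec, Matrix.smul_mulVec, hsf.sesq.add_left, hsf.sesq.add_right,
      hsf.sesq.smul_left, hsf.sesq.smul_right, RingEquiv.refl_apply, hskew] at this ⊢
    linear_combination this
  obtain ⟨a, b, hab⟩ := hgen _ (K.mul_mem hJK hJK)
  have hJ2 : J * J = (-1 : F) • (1 : Mat 2 F) := by
    have hb : b = 0 := by
      by_contra hb
      have hskew' : ∀ u v, sympForm 2 F ((b • J) *ᵥ u) v = sympForm 2 F u ((b • J) *ᵥ v) := by
        intro u v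
        have h1 : sympForm 2 F ((J * J) *ᵥ u) v = sympForm 2 F u ((J * J) *ᵥ v) := by
          rw [← Matrix.mulVec_mulVec, ← Matrix.mulVec_mulVec, hskew, hskew, neg_neg]
        rw [hab] at h1
        simp only [Matrix.add_mulVec, Matrix.smul_mulVec, Matrix.one_mulVec, hsf.sesq.add_left,
          hsf.sesq.add_right, hsf.sesq.smul_left, hsf.sesq.smul_right, RingEquiv.refl_apply] at h1 ⊢
        linear_combination h1
      apply hJ0
      refine hsf.ext_matrix fun u v => ?_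
      have h := hskew' u v
      rw [Matrix.smul_mulVec, Matrix.smul_mulVec, hsf.sesq.smul_left, hsf.sesq.smul_right,
        RingEquiv.refl_apply] at h
      have h0 := mul_left_cancel₀ hb h
      have h3 := hskew u v
      rw [Matrix.zero_mulVec, show sympForm 2 F u 0 = 0 by simp [sympForm]]
      exact (mul_eq_zero.mp (show (2 : F) * sympForm 2 F u (J *ᵥ v) = 0 by
        linear_combination h3 - h0)).resolve_left h2
    rw [hb, zero_smul, add_zero] at hab
    have hdom : ∀ z w : Mat 2 F, z ∈ K → z * w = 0 → z = 0 ∨ w = 0 := by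
      intro z w hz hzw
      refine (em (z = 0)).imp_right fun hz0 => ?_
      obtain ⟨y, hy, hzy⟩ := hK.inv z hz hz0
      calc w = y * z * w := by rw [← hK.comm z hz y hy, hzy, one_mul]
        _ = 0 := by rw [mul_assoc, hzw, mul_zero]
    have ha0 : a ≠ 0 := by
      intro ha
      rw [ha, zero_smul] at hab
      exact hJ0 ((hdom J J hJK hab).elim id id)
    rcases pm_one hq ha0 with ha | ha
    · exfalso
      rw [ha, one_smul] at hab
      have h : (J - 1) * (J + 1) = 0 := by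
        rw [sub_mul, mul_add, one_mul, hab]; simp
        abel
      rcases hdom _ _ (K.sub_mem hJK K.one_mem) h with h' | h'
      · have hJ1 : J = (1 : F) • 1 := by rw [one_smul]; exact sub_eq_zero.mp h'
        exact one_ne_zero (hscal 1 J hskew hJ1)
      · have hJ1 : J = (-1 : F) • 1 := by rw [neg_one_smul]; exact eq_neg_of_add_eq_zero_left h'
        exact one_ne_zero (neg_eq_zero.mp (hscal (-1) J hskew hJ1))
    · rw [hab, ha]
  have hJJ : ∀ v, J *ᵥ (J *ᵥ v) = (-1 : F) • v := fun v => by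
    rw [Matrix.mulVec_mulVec, hJ2, Matrix.smul_mulVec, Matrix.one_mulVec]
  obtain ⟨R, k, hR, habs, hle, hcard, hcen, hminus, hdim, hsub⟩ := skew_minus hq hJJ hskew
  refine ⟨R, k, hR, habs, hle, hcard, hcen, hminus, hdim, ?_⟩
  rintro g ⟨hgK, hgS⟩
  refine hsub ⟨hgS, ?_⟩
  set G := (g : Mat 2 F) * J * ((g⁻¹ : GL (Fin 2 ⊕ Fin 2) F) : Mat 2 F) with hG
  have hGG : G * (g : Mat 2 F) = (g : Mat 2 F) * J := by
    rw [hG, mul_assoc, ← Units.val_mul, inv_mul_cancel, Units.val_one, mul_one]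
  have hg' : ∀ u v, sympForm 2 F ((g : Mat 2 F) *ᵥ u) ((g : Mat 2 F) *ᵥ v) = sympForm 2 F u v := hgS
  have hGskew : ∀ u v, sympForm 2 F (G *ᵥ u) v = - sympForm 2 F u (G *ᵥ v) := by
    intro u v
    obtain ⟨u', rfl⟩ := Matrix.mulVec_surjective_iff_isUnit.mpr g.isUnit u
    obtain ⟨v', rfl⟩ := Matrix.mulVec_surjective_iff_isUnit.mpr g.isUnit v
    rw [Matrix.mulVec_mulVec, Matrix.mulVec_mulVec, hGG, ← Matrix.mulVec_mulVec,
      ← Matrix.mulVec_mulVec, hg', hg', hskew]
  obtain ⟨x, y, hxy⟩ := hgen G ((hgK J).mp hJK)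
  have hx : x = 0 := hcoef x y (hxy ▸ hGskew)
  rw [hx, zero_smul, zero_add] at hxy
  have hy : y * y = 1 := by
    have h : G * G = (-1 : F) • (1 : Mat 2 F) := by
      calc G * G = G * (g : Mat 2 F) * (J * ((g⁻¹ : GL (Fin 2 ⊕ Fin 2) F) : Mat 2 F)) := by
            conv_lhs => arg 2; rw [hG]
            simp only [mul_assoc]
        _ = _ := by
            rw [hGG, mul_assoc, ← mul_assoc J, hJ2, Matrix.smul_mul, one_mul, Matrix.mul_smul,
              ← Units.val_mul, mul_inv_cancel, Units.val_one]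
    rw [hxy, Matrix.smul_mul, Matrix.mul_smul, smul_smul, hJ2, smul_smul] at h
    have := smul_left_injective F (one_ne_zero : (1 : Mat 2 F) ≠ 0) h
    linear_combination -this
  rcases mul_self_eq_one_iff.mp hy with hy1 | hy1
  · rw [hy1, one_smul] at hxy
    exact Or.inl (by rw [← hGG, hxy])
  · rw [hy1, neg_one_smul] at hxy
    exact Or.inr (by rw [← hGG, hxy, neg_mul])

/-- The symplectic form on a plane. -/
theorem isSymplecticForm_altTwo :
    IsSymplecticForm (formOfGram (RingEquiv.refl F) (Aschbacher.altTwo : Matrix (Fin 2) (Fin 2) F)) := by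
  refine Aschbacher.isSymplecticForm_formOfGram ?_ (fun i j => ?_) fun i => ?_
  · rw [Matrix.isUnit_iff_isUnit_det]
    simp [Aschbacher.altTwo, Matrix.det_fin_two]
  · fin_cases i <;> fin_cases j <;> simp [Aschbacher.altTwo]
  · fin_cases i <;> simp [Aschbacher.altTwo]

/-- Three planes carry the structure of a tensor power. -/
theorem powerStructure_of_value {e : (Fin m ⊕ Fin m) ≃ (Fin 3 → Fin 2)} {P : GL (Fin m ⊕ Fin m) F}
    {c : F} (hc : c ≠ 0)
    (hval : ∀ x y, Aschbacher.coordForm e P (sympForm m F) x y =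
      c * formOfGram id (Aschbacher.pureMat fun _ : Fin 3 => (Aschbacher.altTwo : Matrix (Fin 2) (Fin 2) F)) x y) :
    IsTensorPowerFormStructure id (sympForm m F)
      (formOfGram (RingEquiv.refl F) (Aschbacher.altTwo : Matrix (Fin 2) (Fin 2) F)) e P := by
  have hg : gramMatrix (formOfGram (RingEquiv.refl F) (Aschbacher.altTwo : Matrix (Fin 2) (Fin 2) F)) =
      Aschbacher.altTwo := by
    ext i j
    simp [gramMatrix, formOfGram, Pi.single_apply]
  refine ⟨c, hc, fun x y => ?_⟩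
  rw [hg]
  exact hval x y

end Cfsg.Agent.Symplectic.Asch
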