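import Cfsg.Agent.Symplectic.AschMaximal

/-! The numerical cases of the maximal subgroup theorem in small dimension. -/

set_option autoImplicit false
set_option linter.unusedSectionVars false

namespace Cfsg.Agent.Symplectic.Asch

open scoped MatrixGroups Matrix
open Cfsg Cfsg.Geo

variable {F : Type*} [Field F]

theorem nondeg_none {W : Submodule F (Fin 2 ⊕ Fin 2 → F)} (hev : Even (Module.finrank F W))
    (h1 : W ≠ ⊥) (h3 : Module.finrank F W < 2) : False := by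
  rcases hev with ⟨s, hs⟩
  exact h1 (Submodule.finrank_eq_zero.mp (by omega))

theorem decomp_bound {m t k : ℕ} {D : Fin t → Submodule F (Fin m ⊕ Fin m → F)}
    (hD : IsNondegenerateMDecomposition (sympForm m F) k D) (hcard : t * k = 2 * m) (hev : Even k) :
    2 ≤ t ∧ 2 ≤ k ∧ k ≤ m ∧ t ≤ m := by
  have ht := hD.decomp.two_le
  have hk := hD.decomp.pos
  obtain ⟨s, rfl⟩ := hev
  refine ⟨ht, by omega, ?_, ?_⟩
  · nlinarith
  · have : t * 2 ≤ t * (s + s) := Nat.mul_le_mul_left t (by omega)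
    omega

theorem decomp_two {t k : ℕ} {D : Fin t → Submodule F (Fin 2 ⊕ Fin 2 → F)}
    (hD : IsNondegenerateMDecomposition (sympForm 2 F) k D) (hcard : t * k = 2 * 2) (hev : Even k) :
    t = 2 ∧ k = 2 := by
  obtain ⟨h1, h2, h3, h4⟩ := decomp_bound hD hcard hev
  constructor <;> omega

theorem decomp_prime {m t k : ℕ} (hm : m.Prime ∧ Odd m) {D : Fin t → Submodule F (Fin m ⊕ Fin m → F)}
    (hD : IsNondegenerateMDecomposition (sympForm m F) k D) (hcard : t * k = 2 * m) (hev : Even k) :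
    t = m ∧ k = 2 := by
  obtain ⟨h1, h2, h3, h4⟩ := decomp_bound hD hcard hev
  obtain ⟨s, rfl⟩ := hev
  have h : t * s = m := by linarith
  rcases hm.1.eq_one_or_self_of_dvd t ⟨s, h.symm⟩ with rfl | rfl
  · omega
  · have : s = 1 := Nat.eq_of_mul_eq_mul_left (by omega : 0 < t) (h.trans (mul_one t).symm)
    exact ⟨rfl, by omega⟩

theorem tensor_prime {m a b : ℕ} (hm : m.Prime ∧ Odd m) (h1 : 2 ≤ a) (h2 : 3 ≤ b) (hev : Even a)
    (hcard : a * b = 2 * m) : a = 2 ∧ b = m := by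
  obtain ⟨s, rfl⟩ := hev
  have h : s * b = m := by linarith
  rcases hm.1.eq_one_or_self_of_dvd b ⟨s, by rw [mul_comm, h]⟩ with rfl | rfl
  · omega
  · have : s = 1 := Nat.eq_of_mul_eq_mul_right (by omega : 0 < b) (h.trans (one_mul b).symm)
    exact ⟨by omega, rfl⟩

theorem decomp_six {t k : ℕ} {D : Fin t → Submodule F (Fin 6 ⊕ Fin 6 → F)}
    (hD : IsNondegenerateMDecomposition (sympForm 6 F) k D) (hcard : t * k = 2 * 6) (hev : Even k) :
    (t = 6 ∧ k = 2) ∨ (t = 3 ∧ k = 4) ∨ (t = 2 ∧ k = 6) := by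
  obtain ⟨h1, h2, h3, h4⟩ := decomp_bound hD hcard hev
  obtain ⟨s, rfl⟩ := hev
  interval_cases t <;> omega

theorem tensor_six {a b : ℕ} (h1 : 2 ≤ a) (h2 : 3 ≤ b) (hev : Even a) (hcard : a * b = 2 * 6) :
    (a = 2 ∧ b = 6) ∨ (a = 4 ∧ b = 3) := by
  obtain ⟨s, rfl⟩ := hev
  have h3 : s + s ≤ 4 := by nlinarith
  have h4 : s ≤ 2 := by omega
  interval_cases s <;> omega

theorem prime_dvd_six {r : ℕ} (hr : r.Prime) (h : r ∣ 6) : r = 2 ∨ r = 3 := by
  have h3 := Nat.le_of_dvd (by norm_num) h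
  interval_cases r <;> simp_all +decide

theorem not_two_pow {m : ℕ} (hm : m = 3 ∨ m = 5 ∨ m = 6) (k : ℕ) : ¬ 2 * m = 2 ^ k := by
  intro h
  have hk : k < 2 * m := h ▸ Nat.lt_two_pow_self
  have : k < 12 := by omega
  interval_cases k <;> omega

theorem not_pow {m k t : ℕ} (hm : m = 3 ∨ m = 5 ∨ m = 6) (hk : 2 ≤ k) (hev : Even k) (ht : 3 ≤ t) :
    ¬ k ^ t = 2 * m := by
  intro h
  have h1 : k ^ 3 ≤ k ^ t := Nat.pow_le_pow_right (by omega) ht
  have h2 : k = 2 := by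
    by_contra hne
    have : 4 ≤ k := by rcases hev with ⟨s, rfl⟩; omega
    have : 4 ^ 3 ≤ k ^ 3 := Nat.pow_le_pow_left this 3
    omega
  subst h2
  exact not_two_pow hm t h.symm

end Cfsg.Agent.Symplectic.Asch
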