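import Cfsg.Agent.Symplectic.AschProper
import Cfsg.Agent.Symplectic.AschLemmas
import Cfsg.Agent.Aschbacher.FormCongruence

/-! Decompositions into planes over two elements, and three-dimensional orthogonal tensor factors
over three elements. -/

set_option autoImplicit false
set_option maxHeartbeats 1000000
set_option linter.unusedSectionVars false
set_option linter.style.haveILetI false

namespace Cfsg.Agent.Symplectic.Asch

open scoped MatrixGroups Matrix Kronecker
open Cfsg Cfsg.Geo Cfsg.Agent.Symplectic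
open Cfsg.Agent.Aschbacher (coordEquiv coordAlg coordForm)

variable {F : Type*} [Field F] {m : ℕ}

local notation "GLs" => GL (Fin m ⊕ Fin m) F
local notation "𝕍" => (Fin m ⊕ Fin m → F)
local notation "sf" => sympForm m F

theorem sf_sum_left {κ : Type*} (s : Finset κ) (x : κ → 𝕍) (v : 𝕍) :
    sf (∑ i ∈ s, x i) v = ∑ i ∈ s, sf (x i) v := by
  classical
  induction s using Finset.induction_on with
  | empty => simp [sympForm]
  | insert a s ha ih => rw [Finset.sum_insert ha, Finset.sum_insert ha, sf_add_left, ih]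

theorem formSpace_sympForm' : IsBilinearForm sf ∧ IsNondegenerateForm sf := by
  refine ⟨⟨sf_add_left, sf_smul_left, sf_add_right, fun c u v => sf_smul_right c u v⟩, fun v hv => ?_⟩
  obtain ⟨x, hx⟩ := sf_exists_one hv
  exact ⟨⟨x, by rw [sf_swap, hx]; simp⟩, ⟨x, by rw [hx]; exact one_ne_zero⟩⟩

/-- Orthogonal non-degenerate subspaces filling the space form a decomposition. -/
theorem nondegDecomp_mk {t k : ℕ} {D : Fin t → Submodule F 𝕍} (ht : 2 ≤ t) (hk : 0 < k)
    (hrk : ∀ i, Module.finrank F (D i) = k) (hnd : ∀ i, IsNondegenerateOn sf (D i))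
    (horth : ∀ i j, i ≠ j → AreOrthogonalFor sf (D i) (D j)) (htop : iSup D = ⊤) :
    IsNondegenerateMDecomposition sf k D := by
  refine ⟨⟨ht, hk, hrk, ?_, htop⟩, hnd, horth⟩
  rw [iSupIndep_def]
  intro i
  rw [Submodule.disjoint_def]
  intro x hx hx'
  by_contra hne
  obtain ⟨⟨y, hy, hyx⟩, -⟩ := hnd i x hx hne
  let L : 𝕍 →ₗ[F] F :=
    { toFun := fun u => sf y u
      map_add' := fun a b => sf_add_right _ _ _
      map_smul' := fun c b => sf_smul_right _ _ _ }
  have hle : (⨆ (j) (_ : j ≠ i), D j) ≤ LinearMap.ker L :=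
    iSup₂_le fun j hj z hz => horth i j (Ne.symm hj) y hy z hz
  exact hyx (LinearMap.mem_ker.mp (hle hx'))

/-- Over two elements a decomposition into planes carries a quadratic form. -/
theorem decomp_two_quad [Fintype F] (hm : 1 ≤ m) (hq : Fintype.card F = 2) {t : ℕ}
    {D : Fin t → Submodule F 𝕍} (hD : IsNondegenerateMDecomposition sf 2 D) :
    ∃ Q : 𝕍 → F, IsNondegenerateQuadraticForm Q ∧ (∀ u v, QuadraticMap.polar Q u v = sf u v) ∧
      decompositionStabilizer D ⊓ spGL m F ≤ quadSimilarityGroup Q := by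
  classical
  have hF : ∀ c : F, c = 0 ∨ c = 1 := by
    intro c
    by_contra h
    push Not at h
    have h3 : ({c, 0, 1} : Finset F).card = 3 := by simp [h.1, h.2]
    have := Finset.card_le_univ ({c, 0, 1} : Finset F)
    omega
  have h2 : (2 : F) = 0 := by
    rcases hF 2 with h | h
    · exact h
    · exact absurd (show (1 : F) = 0 by linear_combination h) one_ne_zero
  let ind : Fin t → 𝕍 → F := fun i v => if ∃ w ∈ D i, sf v w ≠ 0 then 1 else 0
  let Q : 𝕍 → F := fun v => ∑ i, ind i v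
  have hind : ∀ x : Fin t → 𝕍, (∀ i, x i ∈ D i) → ∀ i,
      ind i (∑ j, x j) = if x i = 0 then 0 else 1 := by
    intro x hx i
    have h1 : ∀ w ∈ D i, sf (∑ j, x j) w = sf (x i) w := fun w hw => by
      rw [sf_sum_left, Finset.sum_eq_single i (fun j _ hj => hD.orthogonal j i hj _ (hx j) _ hw)
        (by simp)]
    by_cases h0 : x i = 0
    · rw [if_pos h0]
      refine if_neg ?_
      rintro ⟨w, hw, h⟩
      rw [h1 w hw, h0] at h
      exact h (by simp [sympForm])
    · rw [if_neg h0]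
      refine if_pos ?_
      obtain ⟨-, w, hw, h⟩ := hD.nondegenerate i (x i) (hx i) h0
      exact ⟨w, hw, by rw [h1 w hw]; exact h⟩
  have hdec : ∀ v : 𝕍, ∃ x : Fin t → 𝕍, (∀ i, x i ∈ D i) ∧ ∑ j, x j = v := by
    intro v
    have hv : v ∈ iSup D := hD.decomp.iSup_eq_top ▸ Submodule.mem_top
    obtain ⟨f, hf, hsum⟩ := (Submodule.mem_iSup_iff_exists_finsupp _ _).mp hv
    exact ⟨f, hf, by rw [← hsum, Finsupp.sum_fintype]; exact fun _ => rfl⟩
  have hloc : ∀ i, ∀ x ∈ D i, ∀ y ∈ D i, (if x + y = 0 then (0 : F) else 1) =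
      (if x = 0 then 0 else 1) + (if y = 0 then 0 else 1) + sf x y := by
    intro i x hx y hy
    by_cases hx0 : x = 0
    · subst hx0; simp [sympForm]
    by_cases hy0 : y = 0
    · subst hy0; simp [sympForm]
    have htwo : x + x = 0 := by
      funext a; simp only [Pi.add_apply, Pi.zero_apply]; linear_combination (x a) * h2
    by_cases hxy : x + y = 0
    · have he : y = x := add_left_cancel (hxy.trans htwo.symm)
      rw [if_pos hxy, if_neg hx0, if_neg hy0, he, sf_self]
      linear_combination -h2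
    · rw [if_neg hxy, if_neg hx0, if_neg hy0]
      rcases hF (sf x y) with h0 | h0
      · exfalso
        have hne : x ≠ y := fun h => hxy (by rw [← h]; exact htwo)
        have hli : LinearIndependent F ![x, y] := by
          rw [LinearIndependent.pair_iff]
          intro a b hab
          rcases hF a with rfl | rfl <;> rcases hF b with rfl | rfl
          · exact ⟨rfl, rfl⟩
          · exact absurd (by simpa using hab) hy0
          · exact absurd (by simpa using hab) hx0
          · exact absurd (by simpa using hab) hxy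
        have hle : Submodule.span F (Set.range ![x, y]) ≤ D i := by
          rw [Submodule.span_le]
          rintro _ ⟨a, rfl⟩
          fin_cases a
          · exact hx
          · exact hy
        have heq := Submodule.eq_of_le_of_finrank_eq hle (by
          rw [finrank_span_eq_card hli, hD.decomp.finrank_eq]; simp)
        obtain ⟨-, w, hw, hwne⟩ := hD.nondegenerate i x hx hx0
        rw [← heq] at hw
        obtain ⟨c, rfl⟩ := (Submodule.mem_span_range_iff_exists_fun F).mp hw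
        apply hwne
        simp [Fin.sum_univ_two, sf_add_right, sf_smul_right, sf_self, h0]
      · rw [h0]; linear_combination -h2
  have hadd : ∀ u v, Q (u + v) = Q u + Q v + sf u v := by
    intro u v
    obtain ⟨x, hx, rfl⟩ := hdec u
    obtain ⟨y, hy, rfl⟩ := hdec v
    have hf : sf (∑ j, x j) (∑ j, y j) = ∑ i, sf (x i) (y i) := by
      rw [sf_sum_left]
      refine Finset.sum_congr rfl fun i _ => ?_
      rw [sf_swap, sf_sum_left, Finset.sum_eq_single i
        (fun j _ hj => hD.orthogonal j i hj _ (hy j) _ (hx i)) (by simp), ← sf_swap]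
    rw [hf, ← Finset.sum_add_distrib]
    simp only [Q]
    simp_rw [hind _ (fun i => (D i).add_mem (hx i) (hy i)), hind _ hx, hind _ hy]
    rw [← Finset.sum_add_distrib, ← Finset.sum_add_distrib]
    exact Finset.sum_congr rfl fun i _ => hloc i _ (hx i) _ (hy i)
  have hpol : ∀ u v, QuadraticMap.polar Q u v = sf u v := fun u v => by
    rw [QuadraticMap.polar, hadd]; ring
  have hpol' : QuadraticMap.polar Q = sf := funext fun u => funext fun v => hpol u v
  have hfs := formSpace_sympForm' (m := m) (F := F)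
  refine ⟨Q, ⟨fun c v => ?_, by rw [hpol']; exact hfs.1, by rw [hpol']; exact hfs.2⟩, hpol, ?_⟩
  · rcases hF c with rfl | rfl
    · simp [Q, ind, sympForm]
    · simp
  rintro g ⟨⟨σ, hσ⟩, hg⟩
  refine ⟨1, fun v => ?_⟩
  rw [Units.val_one, one_mul]
  have hg' : ∀ u v, sf ((g : Mat m F) *ᵥ u) ((g : Mat m F) *ᵥ v) = sf u v := hg
  have key : ∀ i, ind (σ i) ((g : Mat m F) *ᵥ v) = ind i v := by
    intro i
    refine if_congr ⟨?_, ?_⟩ rfl rfl
    · rintro ⟨w, hw, h⟩
      rw [← hσ i] at hw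
      obtain ⟨z, hz, rfl⟩ := hw
      rw [Matrix.toLin'_apply, hg'] at h
      exact ⟨z, hz, h⟩
    · rintro ⟨w, hw, h⟩
      exact ⟨(g : Mat m F) *ᵥ w, by rw [← hσ i]; exact ⟨w, hw, Matrix.toLin'_apply _ _⟩,
        by rw [hg']; exact h⟩
  simp only [Q]
  rw [← Equiv.sum_comp σ]
  exact Finset.sum_congr rfl fun i _ => key i

/-- A pure tensor vector. -/
def tvec {a b : ℕ} (u : Fin a → F) (w : Fin b → F) : Fin a × Fin b → F := fun p => u p.1 * w p.2

theorem kron_mulVec_tvec {a b : ℕ} (A : Matrix (Fin a) (Fin a) F) (B : Matrix (Fin b) (Fin b) F)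
    (u : Fin a → F) (w : Fin b → F) : (A ⊗ₖ B) *ᵥ tvec u w = tvec (A *ᵥ u) (B *ᵥ w) := by
  funext p
  simp only [Matrix.mulVec, dotProduct, tvec, Matrix.kroneckerMap_apply, Fintype.sum_prod_type,
    Finset.sum_mul_sum]
  exact Finset.sum_congr rfl fun i _ => Finset.sum_congr rfl fun j _ => by ring

theorem formOfGram_tvec {a b : ℕ} (G₁ : Matrix (Fin a) (Fin a) F) (G₂ : Matrix (Fin b) (Fin b) F)
    (u u' : Fin a → F) (w w' : Fin b → F) :
    formOfGram id (G₁ ⊗ₖ G₂) (tvec u w) (tvec u' w') =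
      formOfGram id G₁ u u' * formOfGram id G₂ w w' := by
  simp only [formOfGram, tvec, Matrix.kroneckerMap_apply, id, Fintype.sum_prod_type,
    Finset.sum_mul_sum]
  exact Finset.sum_congr rfl fun i _ => Finset.sum_congr rfl fun k _ => Finset.sum_congr rfl
    fun j _ => Finset.sum_congr rfl fun l _ => by ring

section tensor

variable {a b : ℕ} {e : (Fin m ⊕ Fin m) ≃ Fin a × Fin b} {P : GL (Fin m ⊕ Fin m) F}
  {f₁ : (Fin a → F) → (Fin a → F) → F} {f₂ : (Fin b → F) → (Fin b → F) → F}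

/-- The vector of the space attached to a pure tensor. -/
def tpv (e : (Fin m ⊕ Fin m) ≃ Fin a × Fin b) (P : GLs) (u : Fin a → F) (w : Fin b → F) : 𝕍 :=
  (P : Mat m F) *ᵥ (tvec u w ∘ e)

theorem tensor_value (hb₁ : IsBilinearForm f₁) (hb₂ : IsBilinearForm f₂)
    (hs : IsTensorFormStructure id sf f₁ f₂ e P) :
    ∃ c : F, c ≠ 0 ∧ ∀ u u' w w', sf (tpv e P u w) (tpv e P u' w') = c * (f₁ u u' * f₂ w w') := by
  obtain ⟨c, hc, h⟩ := hs
  refine ⟨c, hc, fun u u' w w' => ?_⟩
  rw [tpv, tpv, h, formOfGram_tvec, (Aschbacher.isSesq_of_bilinear hb₁).eq_formOfGram u u',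
    (Aschbacher.isSesq_of_bilinear hb₂).eq_formOfGram w w']
  rfl

theorem tensor_act {g : GLs} (hg : g ∈ tensorProductSubgroup a b e P) :
    ∃ (A : GL (Fin a) F) (B : GL (Fin b) F), ∀ u w,
      (g : Mat m F) *ᵥ tpv e P u w =
        tpv e P ((A : Matrix (Fin a) (Fin a) F) *ᵥ u) ((B : Matrix (Fin b) (Fin b) F) *ᵥ w) := by
  rw [Aschbacher.tensorProductSubgroup_eq] at hg
  obtain ⟨k, ⟨A, B, hk⟩, hkg⟩ := hg
  refine ⟨A, B, fun u w => ?_⟩
  rw [← hkg]
  show coordAlg e P _ *ᵥ _ = _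
  rw [tpv, Aschbacher.coordAlg_mulVec, hk, kron_mulVec_tvec]
  rfl

/-- The factors of an isometry in a tensor product are similitudes. -/
theorem tensor_factor (hb₁ : IsBilinearForm f₁) (hb₂ : IsBilinearForm f₂)
    (hn₁ : IsNondegenerateForm f₁) (hn₂ : IsNondegenerateForm f₂) (ha : 0 < a) (hb : 0 < b)
    (hs : IsTensorFormStructure id sf f₁ f₂ e P) {g : GLs} (hg : g ∈ tensorProductSubgroup a b e P)
    (hgS : g ∈ spGL m F) :
    ∃ (A : GL (Fin a) F) (B : GL (Fin b) F) (l : F), l ≠ 0 ∧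
      (∀ u w, (g : Mat m F) *ᵥ tpv e P u w =
        tpv e P ((A : Matrix (Fin a) (Fin a) F) *ᵥ u) ((B : Matrix (Fin b) (Fin b) F) *ᵥ w)) ∧
      (∀ u u', f₁ ((A : Matrix (Fin a) (Fin a) F) *ᵥ u) ((A : Matrix (Fin a) (Fin a) F) *ᵥ u') =
        l⁻¹ * f₁ u u') ∧
      ∀ w w', f₂ ((B : Matrix (Fin b) (Fin b) F) *ᵥ w) ((B : Matrix (Fin b) (Fin b) F) *ᵥ w') =
        l * f₂ w w' := by
  obtain ⟨A, B, hAB⟩ := tensor_act hg
  obtain ⟨c, hc, hv⟩ := tensor_value hb₁ hb₂ hs
  have key : ∀ u u' w w',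
      f₁ ((A : Matrix (Fin a) (Fin a) F) *ᵥ u) ((A : Matrix (Fin a) (Fin a) F) *ᵥ u') *
      f₂ ((B : Matrix (Fin b) (Fin b) F) *ᵥ w) ((B : Matrix (Fin b) (Fin b) F) *ᵥ w') =
      f₁ u u' * f₂ w w' := by
    intro u u' w w'
    refine mul_left_cancel₀ hc ?_
    rw [← hv, ← hv, ← hAB, ← hAB]
    exact hgS _ _
  have hone : ∀ {n : ℕ} {f : (Fin n → F) → (Fin n → F) → F}, IsBilinearForm f →
      IsNondegenerateForm f → 0 < n → ∃ u u', f u u' = 1 := by
    intro n f hbf hnf hn
    let v : Fin n → F := Pi.single ⟨0, hn⟩ 1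
    obtain ⟨-, x, hx⟩ := hnf v (fun h => one_ne_zero (α := F) (by
      simpa [v] using congrFun h ⟨0, hn⟩))
    exact ⟨v, (f v x)⁻¹ • x, by rw [hbf.smul_right, inv_mul_cancel₀ hx]⟩
  obtain ⟨u₀, u₁, hu⟩ := hone hb₁ hn₁ ha
  obtain ⟨w₀, w₁, hw⟩ := hone hb₂ hn₂ hb
  set l := f₂ ((B : Matrix (Fin b) (Fin b) F) *ᵥ w₀) ((B : Matrix (Fin b) (Fin b) F) *ᵥ w₁) with hl
  set l' := f₁ ((A : Matrix (Fin a) (Fin a) F) *ᵥ u₀) ((A : Matrix (Fin a) (Fin a) F) *ᵥ u₁)
  have hll : l' * l = 1 := by rw [hl, key, hu, hw, mul_one]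
  refine ⟨A, B, l, right_ne_zero_of_mul_eq_one hll, hAB, fun u u' => ?_, fun w w' => ?_⟩
  · have h := key u u' w₀ w₁
    rw [hw, mul_one] at h
    rw [← h, mul_left_comm, inv_mul_cancel₀ (right_ne_zero_of_mul_eq_one hll), mul_one]
  · have h := key u₀ u₁ w w'
    rw [hu, one_mul] at h
    rw [← h, ← mul_assoc, mul_comm l, hll, one_mul]

end tensor

/-- Over three elements a three-dimensional orthogonal tensor factor gives a decomposition. -/
theorem tensor_three_frame [Fintype F] (hq : Fintype.card F = 3) {a : ℕ} (ha : 0 < a)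
    {e : (Fin m ⊕ Fin m) ≃ Fin a × Fin 3} {P : GL (Fin m ⊕ Fin m) F}
    {f₁ : (Fin a → F) → (Fin a → F) → F} {f₂ : (Fin 3 → F) → (Fin 3 → F) → F}
    (hf₁ : IsSymplecticForm f₁) (hf₂ : IsSymmetricForm f₂)
    (hs : IsTensorFormStructure id sf f₁ f₂ e P) :
    ∃ D : Fin 3 → Submodule F 𝕍, IsNondegenerateMDecomposition sf a D ∧
      tensorProductSubgroup a 3 e P ⊓ spGL m F ≤ decompositionStabilizer D := by
  classical
  have h3 : (3 : F) = 0 := by
    have := FiniteField.cast_card_eq_zero F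
    rw [hq] at this
    exact_mod_cast this
  have hsq : ∀ x : F, x ≠ 0 → x * x = 1 := fun x hx => by
    have := FiniteField.pow_card_sub_one_eq_one x hx
    rw [hq] at this
    rw [← sq]; exact this
  have h2 : (2 : F) ≠ 0 := fun h2 => one_ne_zero (α := F) (by linear_combination h3 - h2)
  set G₂ := gramMatrix f₂
  have hs2 : G₂ᵀ = G₂ := by ext i j; exact hf₂.symm _ _
  obtain ⟨B₁, ν, hν, hB₁⟩ := Aschbacher.symmetric_similar h2 (n := 3) ⟨1, rfl⟩
    (Aschbacher.isUnit_gram (Aschbacher.isSesq_of_bilinear hf₂.bilinear) hf₂.nondegenerate) hs2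
    isUnit_one Matrix.transpose_one
  set M : Matrix (Fin 3) (Fin 3) F := (B₁ : Matrix (Fin 3) (Fin 3) F) with hM
  set M' : Matrix (Fin 3) (Fin 3) F := ((B₁⁻¹ : GL (Fin 3) F) : Matrix (Fin 3) (Fin 3) F) with hM'
  have hMM' : ∀ w, M *ᵥ (M' *ᵥ w) = w := fun w => by
    rw [Matrix.mulVec_mulVec, hM, hM', ← Units.val_mul, mul_inv_cancel, Units.val_one,
      Matrix.one_mulVec]
  have hf₂M : ∀ w w', f₂ (M *ᵥ w) (M *ᵥ w') = ν * (w ⬝ᵥ w') := by
    intro w w'
    rw [(Aschbacher.isSesq_of_bilinear hf₂.bilinear).eq_formOfGram, Aschbacher.formOfGram_mulVec,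
      hB₁, Aschbacher.formOfGram_eq]
    simp [Matrix.smul_mulVec, Matrix.one_mulVec, dotProduct_smul]
  obtain ⟨c, hc, hv⟩ := tensor_value hf₁.bilinear hf₂.bilinear hs
  let col : Fin 3 → Fin 3 → F := fun i => M *ᵥ Pi.single i 1
  have hcol : ∀ i j, f₂ (col i) (col j) = if i = j then ν else 0 := fun i j => by
    rw [hf₂M]
    simp [Pi.single_apply, eq_comm]
  let L : Fin 3 → (Fin a → F) →ₗ[F] 𝕍 := fun i =>
    { toFun := fun u => tpv e P u (col i)
      map_add' := fun u v => by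
        rw [tpv, tpv, tpv, ← Matrix.mulVec_add]
        congr 1; funext p; simp [tvec, add_mul]
      map_smul' := fun r u => by
        rw [tpv, tpv, RingHom.id_apply, ← Matrix.mulVec_smul]
        congr 1; funext p; simp [tvec, mul_assoc] }
  have hLv : ∀ i j u u', sf (L i u) (L j u') = if i = j then c * ν * f₁ u u' else 0 := by
    intro i j u u'
    show sf (tpv e P u (col i)) (tpv e P u' (col j)) = _
    rw [hv, hcol]
    split_ifs <;> ring
  have hinj : ∀ i, Function.Injective (L i) := by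
    intro i
    rw [← LinearMap.ker_eq_bot, LinearMap.ker_eq_bot']
    intro u hu
    by_contra hu0
    obtain ⟨-, x, hx⟩ := hf₁.nondegenerate u hu0
    have h := hLv i i u x
    rw [hu, if_pos rfl, show sf (0 : 𝕍) (L i x) = 0 by simp [sympForm]] at h
    exact mul_ne_zero (mul_ne_zero hc hν) hx h.symm
  let D : Fin 3 → Submodule F 𝕍 := fun i => LinearMap.range (L i)
  have hD : IsNondegenerateMDecomposition sf a D := by
    refine nondegDecomp_mk (by norm_num) ha (fun i => ?_) ?_ ?_ ?_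
    · rw [LinearMap.finrank_range_of_inj (hinj i), Module.finrank_fin_fun]
    · rintro i _ ⟨u, rfl⟩ hu0
      have hu : u ≠ 0 := fun h => hu0 (by rw [h, map_zero])
      obtain ⟨⟨x, hx⟩, ⟨y, hy⟩⟩ := hf₁.nondegenerate u hu
      exact ⟨⟨L i x, ⟨x, rfl⟩, by rw [hLv, if_pos rfl]; exact mul_ne_zero (mul_ne_zero hc hν) hx⟩,
        ⟨L i y, ⟨y, rfl⟩, by rw [hLv, if_pos rfl]; exact mul_ne_zero (mul_ne_zero hc hν) hy⟩⟩
    · rintro i j hij _ ⟨u, rfl⟩ _ ⟨u', rfl⟩
      rw [hLv, if_neg hij]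
    · rw [eq_top_iff]
      intro v _
      obtain ⟨x, rfl⟩ := Aschbacher.exists_coord e P v
      have hx : (P : Mat m F) *ᵥ (x ∘ e) =
          ∑ i, L i (fun k => (M' *ᵥ fun l => x (k, l)) i) := by
        show _ = ∑ i, (P : Mat m F) *ᵥ (tvec _ (col i) ∘ e)
        rw [← Matrix.mulVec_sum]
        congr 1
        funext p
        simp only [Finset.sum_apply, Function.comp_apply, tvec, col]
        have h := congrFun (hMM' fun l => x ((e p).1, l)) (e p).2
        rw [Matrix.mulVec, dotProduct] at h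
        rw [← h]
        exact Finset.sum_congr rfl fun i _ => by rw [Matrix.mulVec_single_one]; exact mul_comm _ _
      rw [hx]
      exact Submodule.sum_mem _ fun i _ => Submodule.mem_iSup_of_mem i ⟨_, rfl⟩
  refine ⟨D, hD, ?_⟩
  rintro g ⟨hgT, hgS⟩
  obtain ⟨A, B, l, hl0, hAB, -, hB⟩ := tensor_factor hf₁.bilinear hf₂.bilinear hf₁.nondegenerate
    hf₂.nondegenerate ha (by norm_num) hs hgT hgS
  set Y : Matrix (Fin 3) (Fin 3) F := M' * (B : Matrix (Fin 3) (Fin 3) F) * M with hY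
  have hBM : ∀ w, (B : Matrix (Fin 3) (Fin 3) F) *ᵥ (M *ᵥ w) = M *ᵥ (Y *ᵥ w) := fun w => by
    rw [hY, ← Matrix.mulVec_mulVec, ← Matrix.mulVec_mulVec, hMM']
  have hYY : ∀ i j, (Y *ᵥ Pi.single i 1) ⬝ᵥ (Y *ᵥ Pi.single j 1) = if i = j then l else 0 := by
    intro i j
    refine mul_left_cancel₀ hν ?_
    rw [← hf₂M, ← hBM, ← hBM, hB, hf₂M]
    simp [Pi.single_apply, mul_comm, eq_comm]
  have hl1 : l = 1 := by
    have he : Yᵀ * Y = l • (1 : Matrix (Fin 3) (Fin 3) F) := by
      ext i j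
      have h := hYY i j
      rw [Matrix.mulVec_single_one, Matrix.mulVec_single_one] at h
      rw [Matrix.smul_apply, Matrix.one_apply, smul_eq_mul, mul_ite, mul_one, mul_zero, ← h]
      rfl
    have hd := congrArg Matrix.det he
    rw [Matrix.det_mul, Matrix.det_transpose, Matrix.det_smul, Fintype.card_fin, Matrix.det_one,
      mul_one, pow_succ, sq, hsq l hl0, one_mul] at hd
    have hd0 : Y.det ≠ 0 := fun h => hl0 (by rw [← hd, h, mul_zero])
    rw [← hd, hsq _ hd0]
  have hmono : ∀ i, ∃ j, ∃ s : F, s ≠ 0 ∧ Y *ᵥ Pi.single i 1 = s • Pi.single j 1 := by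
    intro i
    set u : Fin 3 → F := Y *ᵥ Pi.single i 1 with hu
    have hdot : u 0 * u 0 + u 1 * u 1 + u 2 * u 2 = 1 := by
      have h1 := hYY i i
      rw [if_pos rfl, hl1, ← hu] at h1
      simpa [dotProduct, Fin.sum_univ_three] using h1
    have key : (u 0 ≠ 0 ∧ u 1 = 0 ∧ u 2 = 0) ∨ (u 0 = 0 ∧ u 1 ≠ 0 ∧ u 2 = 0) ∨
        (u 0 = 0 ∧ u 1 = 0 ∧ u 2 ≠ 0) := by
      have hd : ∀ z, u z * u z = if u z = 0 then 0 else 1 := fun z => by
        split_ifs with hz
        · rw [hz, mul_zero]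
        · exact hsq _ hz
      rw [hd 0, hd 1, hd 2] at hdot
      by_cases h0 : u 0 = 0 <;> by_cases h1 : u 1 = 0 <;> by_cases h2' : u 2 = 0
      all_goals simp [h0, h1, h2'] at hdot ⊢
      all_goals first
        | exact one_ne_zero (α := F) (by linear_combination hdot)
        | exact one_ne_zero (α := F) (by linear_combination h3 - hdot)
    rcases key with ⟨h0, h1, h2'⟩ | ⟨h0, h1, h2'⟩ | ⟨h0, h1, h2'⟩
    · exact ⟨0, u 0, h0, by funext z; fin_cases z <;> simp [h1, h2']⟩
    · exact ⟨1, u 1, h1, by funext z; fin_cases z <;> simp [h0, h2']⟩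
    · exact ⟨2, u 2, h2', by funext z; fin_cases z <;> simp [h0, h1]⟩
  choose π s hs0 hπ using hmono
  have hmap : ∀ i, (D i).map (Matrix.toLin' (g : Mat m F)) = D (π i) := by
    intro i
    refine Submodule.eq_of_le_of_finrank_eq ?_ ?_
    · rintro _ ⟨_, ⟨u, rfl⟩, rfl⟩
      refine ⟨s i • ((A : Matrix (Fin a) (Fin a) F) *ᵥ u), ?_⟩
      rw [Matrix.toLin'_apply]
      show tpv e P _ _ = (g : Mat m F) *ᵥ tpv e P u (col i)
      rw [hAB, hBM, hπ, Matrix.mulVec_smul, tpv, tpv]
      congr 1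
      funext p
      simp [tvec, col]
      ring
    · rw [← (Submodule.equivMapOfInjective _ (Matrix.mulVec_injective_iff_isUnit.mpr g.isUnit)
        (D i)).finrank_eq, hD.decomp.finrank_eq, hD.decomp.finrank_eq]
  have hπinj : Function.Injective π := by
    intro i j hij
    by_contra hne
    have h := (hmap i).trans (hij ▸ (hmap j).symm)
    have heq := Submodule.map_injective_of_injective
      (f := Matrix.toLin' (g : Mat m F)) (fun x y hxy => Matrix.mulVec_injective_iff_isUnit.mpr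
        g.isUnit (by simpa [Matrix.toLin'_apply] using hxy)) h
    have hdis := hD.decomp.indep.pairwiseDisjoint hne
    rw [Function.onFun, heq, disjoint_self] at hdis
    have := hD.decomp.finrank_eq j
    rw [hdis, finrank_bot] at this
    omega
  exact ⟨Equiv.ofBijective π (Finite.injective_iff_bijective.mp hπinj), hmap⟩

end Cfsg.Agent.Symplectic.Asch
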