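import Cfsg.Agent.Symplectic.AschTheorem
import Cfsg.Agent.Symplectic.AschFrame
import Cfsg.Agent.Aschbacher.LinearMaximal

/-! Maximal subgroups of the symplectic groups: the outcomes of Aschbacher's theorem as equalities. -/

set_option autoImplicit false
set_option maxHeartbeats 1000000
set_option linter.unusedSectionVars false
set_option linter.style.haveILetI false

namespace Cfsg.Agent.Symplectic.Asch

open scoped MatrixGroups Matrix
open Cfsg Cfsg.Geo

variable {F : Type*} [Field F] {m : ℕ}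

/-- A maximal subgroup of the symplectic group is cut out by a member of one of the classes. -/
inductive MaxOutcome [Fintype F] (H : Subgroup (GL (Fin m ⊕ Fin m) F)) : Prop
  | ts (W : Submodule F (Fin m ⊕ Fin m → F)) (h1 : W ≠ ⊥)
      (h2 : IsTotallySingularFor (sympForm m F) W) (h : H = subspaceStabilizer W ⊓ spGL m F)
  | nondeg (W : Submodule F (Fin m ⊕ Fin m → F)) (h1 : W ≠ ⊥)
      (h2 : IsNondegenerateOn (sympForm m F) W) (h3 : Module.finrank F W < m)
      (hev : Even (Module.finrank F W)) (h : H = subspaceStabilizer W ⊓ spGL m F)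
  | decomp (t k : ℕ) (D : Fin t → Submodule F (Fin m ⊕ Fin m → F))
      (hD : IsNondegenerateMDecomposition (sympForm m F) k D) (hcard : t * k = 2 * m) (hev : Even k)
      (hq : k = 2 → 3 ≤ Fintype.card F) (h : H = decompositionStabilizer D ⊓ spGL m F)
  | tsPair (D : Fin 2 → Submodule F (Fin m ⊕ Fin m → F)) (hodd : Odd (Fintype.card F))
      (hD : IsMDecomposition m D) (hts : ∀ i, IsTotallySingularFor (sympForm m F) (D i))
      (h : H = decompositionStabilizer D ⊓ spGL m F)
  | field (r : ℕ) (K : Subalgebra F (Matrix (Fin m ⊕ Fin m) (Fin m ⊕ Fin m) F)) (hr : r.Prime)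
      (hdvd : r ∣ m) (hK : IsFieldSubalgebra r K) (hs : IsSelfAdjointFor (sympForm m F) K)
      (hk : ∀ k ∈ K, ∀ v, sympForm m F (k *ᵥ v) v = 0)
      (h : H = subalgebraNormalizer K ⊓ spGL m F)
  | unitaryField (K : Subalgebra F (Matrix (Fin m ⊕ Fin m) (Fin m ⊕ Fin m) F))
      (hodd : Odd (Fintype.card F)) (hK : IsFieldSubalgebra 2 K)
      (hs : IsAdjointClosedFor (sympForm m F) K) (hns : ¬ IsSelfAdjointFor (sympForm m F) K)
      (h : H = subalgebraNormalizer K ⊓ spGL m F)
  | tensor (n₁ n₂ : ℕ) (e : (Fin m ⊕ Fin m) ≃ Fin n₁ × Fin n₂) (P : GL (Fin m ⊕ Fin m) F)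
      (f₁ : (Fin n₁ → F) → (Fin n₁ → F) → F) (f₂ : (Fin n₂ → F) → (Fin n₂ → F) → F)
      (hodd : Odd (Fintype.card F)) (h1 : 2 ≤ n₁) (h2 : 3 ≤ n₂) (hev : Even n₁)
      (hcard : n₁ * n₂ = 2 * m) (hf₁ : IsSymplecticForm f₁) (hf₂ : IsSymmetricForm f₂)
      (hs : IsTensorFormStructure id (sympForm m F) f₁ f₂ e P)
      (hq : n₂ = 3 → 5 ≤ Fintype.card F)
      (h : H = tensorProductSubgroup n₁ n₂ e P ⊓ spGL m F)
  | subfld (F₀ : Subfield F) (r : ℕ) (P : GL (Fin m ⊕ Fin m) F) (ζ : F) (hr : r.Prime)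
      (hF : Fintype.card F = Nat.card F₀ ^ r) (hζ : ζ ≠ 0)
      (hs : IsFormRationalStructure (sympForm m F) F₀ ζ P)
      (h : H = subfieldSubgroup F₀ P ⊓ spGL m F)
  | class6 (R : Subgroup (GL (Fin m ⊕ Fin m) F)) (p k : ℕ) (hR : IsSymplecticTypeGroup 2 R)
      (habs : ActsAbsolutelyIrreducibly (matrixSet R)) (hle : R ≤ similarityGroup (sympForm m F))
      (hp : p.Prime) (hodd : Odd p) (hF : Fintype.card F = p)
      (hcard : Nat.card R = 2 ^ (1 + 2 * k)) (hcen : Nat.card (Subgroup.center R) = 2)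
      (hminus : IsOfMinusType k R) (hdim : 2 * m = 2 ^ k)
      (h : H = subgroupNormalizer R ⊓ spGL m F)
  | wreath (k t : ℕ) (e : (Fin m ⊕ Fin m) ≃ (Fin t → Fin k)) (P : GL (Fin m ⊕ Fin m) F)
      (f₁ : (Fin k → F) → (Fin k → F) → F) (hodd : Odd (Fintype.card F)) (ht : Odd t) (ht3 : 3 ≤ t)
      (hk : 2 ≤ k) (hev : Even k) (hcard : k ^ t = 2 * m) (hq : k = 2 → 5 ≤ Fintype.card F)
      (hf₁ : IsSymplecticForm f₁) (hs : IsTensorPowerFormStructure id (sympForm m F) f₁ e P)
      (h : H = tensorWreathSubgroup k t e P ⊓ spGL m F)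
  | quad (Q : (Fin m ⊕ Fin m → F) → F) (heven : ¬ Odd (Fintype.card F))
      (hQ : IsNondegenerateQuadraticForm Q)
      (hpol : ∀ u v, QuadraticMap.polar Q u v = sympForm m F u v)
      (h : H = quadSimilarityGroup Q ⊓ spGL m F)
  | residual (h : InSymplecticResidualClass H)

theorem maximal_eq {H M : Subgroup (GL (Fin m ⊕ Fin m) F)} (hH : IsMaximalIn (spGL m F) H)
    (hle : H ≤ M) (hM : ¬ spGL m F ≤ M) : H = M ⊓ spGL m F := by
  rcases hH.2 (M ⊓ spGL m F) (le_inf hle hH.1.le) inf_le_right with h | h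
  · exact h.symm
  · exact absurd (inf_eq_right.mp h) hM

theorem two_eq_zero_of_not_odd [Fintype F] (h : ¬ Odd (Fintype.card F)) : (2 : F) = 0 := by
  by_contra h2
  exact h (Aschbacher.odd_card_of_two_ne_zero h2)

theorem five_le_of_odd [Fintype F] (hodd : Odd (Fintype.card F)) (h3 : Fintype.card F ≠ 3) :
    5 ≤ Fintype.card F := by
  have : 1 < Fintype.card F := Fintype.one_lt_card
  rcases hodd with ⟨s, hs⟩
  omega

/-- Aschbacher's theorem for a maximal subgroup of the symplectic group. -/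
theorem symplectic_maximal [Fintype F] (hm : 2 ≤ m) (H : Subgroup (GL (Fin m ⊕ Fin m) F))
    (hH : IsMaximalIn (spGL m F) H) : MaxOutcome H := by
  haveI : Nonempty (Fin m ⊕ Fin m) := ⟨Sum.inl ⟨0, by omega⟩⟩
  have eq := fun {M : Subgroup (GL (Fin m ⊕ Fin m) F)} (h : H ≤ M) (hM : ¬ spGL m F ≤ M) =>
    maximal_eq hH h hM
  have hn : Module.finrank F (Fin m ⊕ Fin m → F) = 2 * m := by
    rw [Module.finrank_pi]; simp [two_mul]
  cases symplectic_aschbacher (by omega) H hH.1.le with
  | ts W h1 h2 h =>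
    refine .ts W h1 h2 (eq h (subspace_proper h1 fun ht => ?_))
    subst ht
    obtain ⟨x, hx⟩ := Symplectic.sf_exists_one (F := F) (Symplectic.ev_ne_zero (⟨0, by omega⟩ : Fin m))
    exact one_ne_zero (hx.symm.trans (h2 _ Submodule.mem_top _ Submodule.mem_top))
  | nondeg W h1 h2 h3 hev h =>
    refine .nondeg W h1 h2 h3 hev (eq h (subspace_proper h1 fun ht => ?_))
    subst ht
    rw [finrank_top, hn] at h3
    omega
  | decomp t k D hD hcard hev h =>
    have hk : 2 ≤ k := by
      have := hD.decomp.pos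
      rcases hev with ⟨s, rfl⟩
      omega
    by_cases hq : k = 2 ∧ Fintype.card F = 2
    · obtain ⟨rfl, hq⟩ := hq
      obtain ⟨Q, hQ, hpol, hle⟩ := decomp_two_quad (by omega) hq hD
      exact .quad Q (by rw [hq]; decide) hQ hpol (eq ((le_inf h hH.1.le).trans hle)
        (quad_proper hm (two_eq_zero_of_not_odd (by rw [hq]; decide)) hQ hpol))
    · exact .decomp t k D hD hcard hev (fun h2 => by
        have : 1 < Fintype.card F := Fintype.one_lt_card
        simp only [h2, true_and] at hq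
        omega) (eq h (decomp_proper hD.decomp hk))
  | tsPair D hodd hD hts h => exact .tsPair D hodd hD hts (eq h (decomp_proper hD hm))
  | field r K hr hdvd hK hs hk h =>
    exact .field r K hr hdvd hK hs hk (eq h (field_proper hm hK hr.two_le))
  | unitaryField K hodd hK hs hns h =>
    exact .unitaryField K hodd hK hs hns (eq h (field_proper hm hK le_rfl))
  | tensor n₁ n₂ e P f₁ f₂ hodd h1 h2 hev hcard hf₁ hf₂ hs hex h =>
    exact .tensor n₁ n₂ e P f₁ f₂ hodd h1 h2 hev hcard hf₁ hf₂ hs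
      (fun h3 => five_le_of_odd hodd fun hq => hex hq h3)
      (eq h (tensor_proper e P h1 (by omega)))
  | tensor33 n₁ e P f₁ f₂ hq h1 hev hcard hf₁ hf₂ hs h =>
    obtain ⟨D, hD, hle⟩ := tensor_three_frame hq (by omega) hf₁ hf₂ hs
    exact .decomp 3 n₁ D hD (by omega) hev (fun _ => by omega)
      (eq ((le_inf h hH.1.le).trans hle) (decomp_proper hD.decomp h1))
  | subfld F₀ r P ζ hr hF hζ hs h =>
    exact .subfld F₀ r P ζ hr hF hζ hs
      (eq h (subfield_proper (by omega) (Aschbacher.subfield_ne_top hr hF) P))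
  | class6 R p k hR habs hle hp hodd hF hcard hcen hminus hdim h =>
    exact .class6 R p k hR habs hle hp hodd hF hcard hcen hminus hdim (eq h
      (symp_proper hm (hF ▸ hodd) hR.pGroup hle
        (Aschbacher.absIrred_not_le_scalars (by simp; omega) habs)))
  | wreath k t e P f₁ hodd ht ht3 hk hev hcard hex hf₁ hs h =>
    exact .wreath k t e P f₁ hodd ht ht3 hk hev hcard
      (fun h2 => five_le_of_odd hodd fun hq => hex ⟨hq, h2⟩) hf₁ hs
      (eq h (wreath_proper e P hk ht3))
  | quad Q heven hQ hpol h =>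
    exact .quad Q heven hQ hpol (eq h (quad_proper hm (two_eq_zero_of_not_odd heven) hQ hpol))
  | residual h => exact .residual h

end Cfsg.Agent.Symplectic.Asch
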