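import Cfsg.Agent.Symplectic.AschFrame
import Cfsg.Agent.Symplectic.AschTheorem
import Cfsg.Agent.Aschbacher.FormedPowerTwo

/-! Symplectic-type normalisers over three elements: tensor powers of the quaternion group. -/

set_option autoImplicit false
set_option maxHeartbeats 1000000
set_option linter.unusedSectionVars false
set_option linter.style.haveILetI false

namespace Cfsg.Agent.Symplectic.Asch

open scoped MatrixGroups Matrix Kronecker
open Cfsg Cfsg.Geo Cfsg.Agent.Aschbacher

variable {F : Type*} [Field F]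

local notation "M2" => Matrix (Fin 2) (Fin 2) F
local notation "G2" => GL (Fin 2) F

/-- The predicate cutting out the quaternion group among the invertible two by two matrices. -/
def IsQuat (X : Matrix (Fin 2) (Fin 2) F) : Prop :=
  X.det = 1 ∧ (X.trace = 0 ∨ ∃ c : F, X = c • 1)

section basic

variable [Fintype F] (hq : Fintype.card F = 3)

include hq in
theorem three_eq_zero : (3 : F) = 0 := by
  have := FiniteField.cast_card_eq_zero F
  rw [hq] at this
  exact_mod_cast this

include hq in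
theorem two_ne_zero' : (2 : F) ≠ 0 := fun h2 =>
  one_ne_zero (α := F) (by linear_combination three_eq_zero hq - h2)

include hq in
theorem exists_zmod_equiv : ∃ φ : ZMod 3 ≃+* F, True :=
  ⟨ZMod.ringEquivOfPrime F Nat.prime_three hq, trivial⟩

include hq in
/-- Two trace zero matrices of determinant one are equal, opposite, or anticommute. -/
theorem quat_dichotomy {x y : M2} (hx : x.det = 1) (hx0 : x.trace = 0) (hy : y.det = 1)
    (hy0 : y.trace = 0) : y = x ∨ y = -x ∨ x * y = -(y * x) := by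
  obtain ⟨φ, -⟩ := exists_zmod_equiv hq
  have key : ∀ a b c a' b' c' : ZMod 3, -(a * a) - b * c = 1 → -(a' * a') - b' * c' = 1 →
      (a' = a ∧ b' = b ∧ c' = c) ∨ (a' = -a ∧ b' = -b ∧ c' = -c) ∨
        2 * (a * a') + b * c' + c * b' = 0 := by decide
  have hxd : x 1 1 = - x 0 0 := by
    rw [Matrix.trace_fin_two] at hx0; linear_combination hx0
  have hyd : y 1 1 = - y 0 0 := by
    rw [Matrix.trace_fin_two] at hy0; linear_combination hy0
  rw [Matrix.det_fin_two, hxd] at hx
  rw [Matrix.det_fin_two, hyd] at hy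
  obtain ⟨a, ha⟩ := φ.surjective (x 0 0)
  obtain ⟨b, hb⟩ := φ.surjective (x 0 1)
  obtain ⟨c, hc⟩ := φ.surjective (x 1 0)
  obtain ⟨a', ha'⟩ := φ.surjective (y 0 0)
  obtain ⟨b', hb'⟩ := φ.surjective (y 0 1)
  obtain ⟨c', hc'⟩ := φ.surjective (y 1 0)
  have e1 : -(a * a) - b * c = 1 := φ.injective (by
    simp only [map_sub, map_neg, map_mul, map_one, ha, hb, hc]; linear_combination hx)
  have e2 : -(a' * a') - b' * c' = 1 := φ.injective (by
    simp only [map_sub, map_neg, map_mul, map_one, ha', hb', hc']; linear_combination hy)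
  rcases key a b c a' b' c' e1 e2 with ⟨r1, r2, r3⟩ | ⟨r1, r2, r3⟩ | r
  · left
    rw [r1] at ha'; rw [r2] at hb'; rw [r3] at hc'
    ext i j
    fin_cases i <;> fin_cases j <;> simp [← ha, ← hb, ← hc, ← ha', ← hb', ← hc', hxd, hyd]
  · right; left
    rw [r1, map_neg] at ha'; rw [r2, map_neg] at hb'; rw [r3, map_neg] at hc'
    ext i j
    fin_cases i <;> fin_cases j <;> simp [← ha, ← hb, ← hc, ← ha', ← hb', ← hc', hxd, hyd]
  · right; right
    have e3 := congrArg φ r
    simp only [map_add, map_mul, map_zero, map_ofNat, ha, hb, hc, ha', hb', hc'] at e3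
    ext i j
    fin_cases i <;> fin_cases j <;>
      simp [Matrix.mul_apply, Fin.sum_univ_two, hxd, hyd] <;>
      first
        | linear_combination e3
        | linear_combination (0 : F) * e3

theorem sq_of_trace_zero {x : M2} (hx : x.det = 1) (hx0 : x.trace = 0) : x * x = -1 := by
  have hxd : x 1 1 = - x 0 0 := by
    rw [Matrix.trace_fin_two] at hx0; linear_combination hx0
  rw [Matrix.det_fin_two, hxd] at hx
  ext i j
  fin_cases i <;> fin_cases j <;>
    simp [Matrix.mul_apply, Fin.sum_univ_two, hxd] <;>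
    first
      | linear_combination (-1 : F) * hx
      | ring

include hq in
theorem isQuat_mul {x y : M2} (hx : IsQuat x) (hy : IsQuat y) : IsQuat (x * y) := by
  refine ⟨by rw [Matrix.det_mul, hx.1, hy.1, one_mul], ?_⟩
  obtain ⟨hxd, hx⟩ := hx
  obtain ⟨hyd, hy⟩ := hy
  rcases hx with hx0 | ⟨c, rfl⟩
  · rcases hy with hy0 | ⟨c, rfl⟩
    · rcases quat_dichotomy hq hxd hx0 hyd hy0 with rfl | rfl | h
      · exact Or.inr ⟨-1, by rw [sq_of_trace_zero hxd hx0]; simp⟩
      · exact Or.inr ⟨1, by rw [mul_neg, sq_of_trace_zero hxd hx0]; simp⟩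
      · left
        have h1 := congrArg Matrix.trace h
        rw [Matrix.trace_neg, Matrix.trace_mul_comm y x] at h1
        exact (mul_eq_zero.mp (show (2 : F) * (x * y).trace = 0 by linear_combination h1)).resolve_left
          (two_ne_zero' hq)
    · left
      rw [Matrix.mul_smul, mul_one, Matrix.trace_smul, hx0, smul_zero]
  · rcases hy with hy0 | ⟨d, rfl⟩
    · left
      rw [Matrix.smul_mul, one_mul, Matrix.trace_smul, hy0, smul_zero]
    · exact Or.inr ⟨c * d, by rw [Matrix.smul_mul, one_mul, smul_smul]⟩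

theorem isQuat_one : IsQuat (1 : M2) := ⟨Matrix.det_one, Or.inr ⟨1, (one_smul _ _).symm⟩⟩

include hq in
theorem isQuat_inv {x : G2} (hx : IsQuat (x : M2)) : IsQuat ((x⁻¹ : G2) : M2) := by
  obtain ⟨n, hn⟩ : ∃ n : ℕ, x⁻¹ = x ^ n := by
    haveI : Finite G2 := inferInstance
    refine ⟨orderOf x - 1, ?_⟩
    refine inv_eq_of_mul_eq_one_right ?_
    rw [← pow_succ', Nat.sub_add_cancel (orderOf_pos x), pow_orderOf_eq_one]
  rw [hn, Units.val_pow_eq_pow_val]
  clear hn
  induction n with
  | zero => rw [pow_zero]; exact isQuat_one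
  | succ n ih => rw [pow_succ]; exact isQuat_mul hq ih hx

/-- The quaternion group of order eight inside the general linear group of degree two over three
elements. -/
def quat : Subgroup (GL (Fin 2) F) where
  carrier := {x | IsQuat (x : M2)}
  one_mem' := by show IsQuat _; rw [Units.val_one]; exact isQuat_one
  mul_mem' {a b} ha hb := by show IsQuat _; rw [Units.val_mul]; exact isQuat_mul hq ha hb
  inv_mem' {a} ha := isQuat_inv hq ha

theorem mem_quat {x : G2} : x ∈ quat hq ↔ IsQuat (x : M2) := Iff.rfl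

include hq in
/-- The quaternion group is normal. -/
theorem quat_conj {x : G2} (hx : x ∈ quat hq) (g : G2) : g * x * g⁻¹ ∈ quat hq := by
  obtain ⟨h1, h2⟩ := (mem_quat hq).mp hx
  refine (mem_quat hq).mpr ⟨?_, ?_⟩
  · rw [Units.val_mul, Units.val_mul, Matrix.det_mul_right_comm, ← Units.val_mul, mul_inv_cancel,
      Units.val_one, one_mul, h1]
  · rcases h2 with h | ⟨c, hc⟩
    · left
      rw [Units.val_mul, Units.val_mul, Matrix.trace_mul_cycle, ← Units.val_mul, inv_mul_cancel,
        Units.val_one, one_mul, h]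
    · right
      refine ⟨c, ?_⟩
      rw [Units.val_mul, Units.val_mul, hc, Matrix.mul_smul, mul_one, Matrix.smul_mul,
        ← Units.val_mul, mul_inv_cancel, Units.val_one]

include hq in
theorem quat_comm {x y : M2} (hx : IsQuat x) (hy : IsQuat y) :
    x * y = y * x ∨ x * y = -(y * x) := by
  rcases hx.2 with hx0 | ⟨c, rfl⟩
  · rcases hy.2 with hy0 | ⟨c, rfl⟩
    · rcases quat_dichotomy hq hx.1 hx0 hy.1 hy0 with rfl | rfl | h
      · exact Or.inl rfl
      · exact Or.inl (by rw [mul_neg, neg_mul])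
      · exact Or.inr h
    · exact Or.inl (by rw [Matrix.mul_smul, mul_one, Matrix.smul_mul, one_mul])
  · exact Or.inl (by rw [Matrix.mul_smul, mul_one, Matrix.smul_mul, one_mul])

theorem commutator_scalar_of {x y : G2}
    (h : (x : M2) * (y : G2) = (y : M2) * (x : G2) ∨ (x : M2) * (y : G2) = -((y : M2) * (x : G2))) :
    ∃ c : F, ((x * y * x⁻¹ * y⁻¹ : G2) : M2) = c • 1 := by
  have e : ((y * x * x⁻¹ * y⁻¹ : G2) : M2) = 1 := by
    rw [mul_inv_cancel_right, mul_inv_cancel, Units.val_one]
  rcases h with h | h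
  · exact ⟨1, by rw [one_smul, Units.val_mul, Units.val_mul, Units.val_mul, h,
      ← Units.val_mul, ← Units.val_mul, ← Units.val_mul, e]⟩
  · exact ⟨-1, by rw [neg_smul, one_smul, Units.val_mul, Units.val_mul, Units.val_mul, h,
      neg_mul, neg_mul, ← Units.val_mul, ← Units.val_mul, ← Units.val_mul, e]⟩

include hq in
theorem quat_span (X : M2) : X ∈ Submodule.span F (matrixSet (quat hq)) := by
  have h3 := three_eq_zero hq
  have mem : ∀ Y : M2, IsQuat Y → Y ∈ Submodule.span F (matrixSet (quat hq)) := fun Y hY => by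
    refine Submodule.subset_span ⟨Matrix.GeneralLinearGroup.mkOfDetNeZero Y
      (by rw [hY.1]; exact one_ne_zero), ?_, rfl⟩
    exact hY
  have hi : IsQuat (!![0, -1; 1, 0] : M2) :=
    ⟨by simp [Matrix.det_fin_two], Or.inl (by simp [Matrix.trace_fin_two])⟩
  have hj : IsQuat (!![1, 1; 1, -1] : M2) :=
    ⟨by simp [Matrix.det_fin_two]; linear_combination -h3, Or.inl (by simp [Matrix.trace_fin_two])⟩
  have hk : IsQuat (!![-1, 1; 1, 1] : M2) :=
    ⟨by simp [Matrix.det_fin_two]; linear_combination -h3, Or.inl (by simp [Matrix.trace_fin_two])⟩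
  have e : X = (-(X 0 0 + X 1 1)) • (1 : M2) + (-(X 1 0 - X 0 1)) • !![0, -1; 1, 0]
      + (X 0 0 - X 1 1 + X 0 1 + X 1 0) • !![1, 1; 1, -1]
      + (X 0 1 + X 1 0 - X 0 0 + X 1 1) • !![-1, 1; 1, 1] := by
    ext i j
    fin_cases i <;> fin_cases j <;> simp
    · linear_combination (X 1 1) * h3
    · linear_combination (-(X 1 0)) * h3
    · linear_combination (-(X 0 1)) * h3
    · linear_combination (X 0 0) * h3
  rw [e]
  exact Submodule.add_mem _ (Submodule.add_mem _ (Submodule.add_mem _
    (Submodule.smul_mem _ _ (mem _ isQuat_one)) (Submodule.smul_mem _ _ (mem _ hi)))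
    (Submodule.smul_mem _ _ (mem _ hj))) (Submodule.smul_mem _ _ (mem _ hk))

include hq in
/-- Anticommuting quaternions are conjugate in the special linear group. -/
theorem quat_transitive {x y : M2} (hx : x.det = 1) (hx0 : x.trace = 0) (hy : y.det = 1)
    (hy0 : y.trace = 0) (hxy : x * y = -(y * x)) :
    ∃ s : G2, (s : M2).det = 1 ∧ (s : M2) * x = y * (s : G2) := by
  have hxd : x 1 1 = - x 0 0 := by
    rw [Matrix.trace_fin_two] at hx0; linear_combination hx0
  have hyd : y 1 1 = - y 0 0 := by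
    rw [Matrix.trace_fin_two] at hy0; linear_combination hy0
  have e00 := congrFun (congrFun hxy 0) 0
  simp [Matrix.mul_apply, Fin.sum_univ_two] at e00
  rw [Matrix.det_fin_two, hxd] at hx
  rw [Matrix.det_fin_two, hyd] at hy
  have hd : ((y + x) * (1 + x)).det = 1 := by
    rw [Matrix.det_mul, Matrix.det_fin_two, Matrix.det_fin_two]
    simp [hxd, hyd]
    have h1 : (y 0 0 + x 0 0) * (-y 0 0 + -x 0 0) - (y 0 1 + x 0 1) * (y 1 0 + x 1 0) = 2 := by
      linear_combination hx + hy - e00
    have h2 : (1 + x 0 0) * (1 + -x 0 0) - x 0 1 * x 1 0 = 2 := by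
      linear_combination hx
    rw [h1, h2]
    linear_combination three_eq_zero hq
  refine ⟨Matrix.GeneralLinearGroup.mkOfDetNeZero ((y + x) * (1 + x))
    (by rw [hd]; exact one_ne_zero), hd, ?_⟩
  show (y + x) * (1 + x) * x = y * ((y + x) * (1 + x))
  have h1 := sq_of_trace_zero (x := x) (by rw [Matrix.det_fin_two, hxd]; exact hx) hx0
  have h2 := sq_of_trace_zero (x := y) (by rw [Matrix.det_fin_two, hyd]; exact hy) hy0
  simp only [mul_add, add_mul, mul_one, ← mul_assoc, h1, h2]
  simp only [mul_assoc, h1, mul_neg, neg_mul, one_mul, mul_one]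
  abel

end basic

section machinery

variable {ι : Type} [Fintype ι] [DecidableEq ι] {t : ℕ}

/-- Pure tensors in the coordinates attached to `e` and `P`. -/
def pureIn (e : ι ≃ (Fin t → Fin 2)) (P : GL ι F) : (Fin t → GL (Fin 2) F) →* GL ι F :=
  (coordEquiv e P).toMonoidHom.comp (pureHom 2 t)

theorem pureIn_val (e : ι ≃ (Fin t → Fin 2)) (P : GL ι F) (q : Fin t → G2) :
    (pureIn e P q : Matrix ι ι F) = coordAlg e P (pureMat fun i => (q i : M2)) := rfl

/-- Scalars times the pure tensors with factors in given groups. -/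
def tensorN (e : ι ≃ (Fin t → Fin 2)) (P : GL ι F) (Q : Fin t → Subgroup (GL (Fin 2) F)) :
    Subgroup (GL ι F) :=
  scalars ι F ⊔ (Subgroup.pi Set.univ Q).map (pureIn e P)

variable (e : ι ≃ (Fin t → Fin 2)) (P : GL ι F) (Q : Fin t → Subgroup (GL (Fin 2) F))

theorem mem_tensorN {x : GL ι F} :
    x ∈ tensorN e P Q ↔ ∃ z ∈ scalars ι F, ∃ q, (∀ i, q i ∈ Q i) ∧ x = z * pureIn e P q := by
  rw [tensorN, Subgroup.mem_sup_of_normal_left]
  constructor
  · rintro ⟨z, hz, _, ⟨q, hq, rfl⟩, rfl⟩
    exact ⟨z, hz, q, fun i => hq i trivial, rfl⟩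
  · rintro ⟨z, hz, q, hq, rfl⟩
    exact ⟨z, hz, _, ⟨q, fun i _ => hq i, rfl⟩, rfl⟩

theorem pureIn_scalar {q : Fin t → G2} (h : ∀ i, ∃ c : F, (q i : M2) = c • 1) :
    pureIn e P q ∈ scalars ι F := by
  choose c hc using h
  have hv : (pureIn e P q : Matrix ι ι F) = (∏ i, c i) • (1 : Matrix ι ι F) := by
    rw [pureIn_val, show (fun i => (q i : M2)) = fun i => c i • (1 : M2) from funext hc,
      pureMat_smul, pureMat_one, map_smul, map_one]
  haveI : Nonempty ι := e.nonempty
  have h0 : ∏ i, c i ≠ 0 := fun h0 => (pureIn e P q).ne_zero (by rw [hv, h0, zero_smul])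
  exact (mem_scalars_iff _).mpr ⟨Units.mk0 _ h0, hv⟩

theorem scalar_of_pureIn {q : Fin t → G2} (h : pureIn e P q ∈ scalars ι F) (i : Fin t) :
    ∃ c : F, (q i : M2) = c • 1 := by
  obtain ⟨c, hc⟩ := (mem_scalars_iff _).mp h
  rw [pureIn_val, show (c : F) • (1 : Matrix ι ι F) =
    coordAlg e P (pureMat (Function.update (fun _ => (1 : M2)) i ((c : F) • 1))) by
      rw [pureMat_update_smul, Function.update_eq_self, pureMat_one, map_smul, map_one]] at hc
  obtain ⟨c', -, hc'⟩ := pureMat_unique (fun j => (q j).ne_zero) ((coordAlg e P).injective hc) i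
  exact ⟨c' * c, by rw [hc', Function.update_self, smul_smul]⟩

theorem tensorN_commutator
    (hQ : ∀ i, ∀ x ∈ Q i, ∀ y ∈ Q i, ∃ c : F, ((x * y * x⁻¹ * y⁻¹ : G2) : M2) = c • 1) :
    ⁅tensorN e P Q, tensorN e P Q⁆ ≤ scalars ι F := by
  rw [Subgroup.commutator_le]
  intro a ha b hb
  obtain ⟨z, hz, q, hq, rfl⟩ := (mem_tensorN e P Q).mp ha
  obtain ⟨w, hw, r, hr, rfl⟩ := (mem_tensorN e P Q).mp hb
  rw [commutatorElement_def]
  have e1 : z * pureIn e P q * (w * pureIn e P r) * (z * pureIn e P q)⁻¹ * (w * pureIn e P r)⁻¹ =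
      pureIn e P (q * r * q⁻¹ * r⁻¹) := by
    rw [map_mul, map_mul, map_mul, map_inv, map_inv]
    set A := pureIn e P q
    set B := pureIn e P r
    have hz' : ∀ g, z * g = g * z := scalars_comm hz
    have hw' : ∀ g, w * g = g * w := scalars_comm hw
    calc z * A * (w * B) * (z * A)⁻¹ * (w * B)⁻¹ = z * (A * w) * B * A⁻¹ * z⁻¹ * B⁻¹ * w⁻¹ := by group
      _ = z * (w * (A * B * A⁻¹)) * z⁻¹ * B⁻¹ * w⁻¹ := by rw [← hw' A]; group
      _ = w * (A * B * A⁻¹) * B⁻¹ * w⁻¹ := by rw [hz' (w * (A * B * A⁻¹)), mul_inv_cancel_right]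
      _ = _ := by rw [mul_assoc w, hw' (A * B * A⁻¹ * B⁻¹), mul_inv_cancel_right]
  rw [e1]
  exact pureIn_scalar e P fun i => hQ i _ (hq i) _ (hr i)

theorem tensorN_absIrred (hspan : ∀ i, ∀ X : M2, X ∈ Submodule.span F (matrixSet (Q i))) :
    ActsAbsolutelyIrreducibly (matrixSet (tensorN e P Q)) := by
  classical
  haveI : Nonempty ι := e.nonempty
  set A := env (tensorN e P Q) with hA
  refine absIrred_of_env_eq_top ?_
  have hslot : ∀ i, ∀ X : M2, coordAlg e P (pureMat (Function.update (fun _ => 1) i X)) ∈ A := by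
    intro i X
    induction hspan i X using Submodule.span_induction with
    | mem X hX =>
      obtain ⟨x, hx, rfl⟩ := hX
      have hmem : pureIn e P (Pi.mulSingle i x) ∈ tensorN e P Q :=
        (mem_tensorN e P Q).mpr ⟨1, one_mem _, _, fun j => by
          by_cases h : j = i
          · subst h; simpa using hx
          · simp [h, one_mem], (one_mul _).symm⟩
      have h := val_mem_env hmem
      rw [pureIn_val] at h
      convert h using 3
      funext j
      by_cases h : j = i
      · subst h; simp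
      · simp [h]
    | zero =>
      rw [← zero_smul F (1 : M2), pureMat_update_smul, zero_smul, map_zero]
      exact A.zero_mem
    | add X Y _ _ hX hY => rw [pureMat_update_add, map_add]; exact A.add_mem hX hY
    | smul c X _ hX => rw [pureMat_update_smul, map_smul]; exact A.smul_mem hX c
  have hpure : ∀ X : Fin t → M2, coordAlg e P (pureMat X) ∈ A := by
    intro X
    suffices h : ∀ s : Finset (Fin t),
        coordAlg e P (pureMat fun i => if i ∈ s then X i else 1) ∈ A by
      simpa using h Finset.univ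
    intro s
    induction s using Finset.induction_on with
    | empty => simp only [Finset.notMem_empty, if_false, pureMat_one, map_one]; exact A.one_mem
    | insert a s ha ih =>
      have he : (pureMat fun i => if i ∈ insert a s then X i else 1) =
          pureMat (Function.update (fun _ => (1 : M2)) a (X a)) *
            pureMat fun i => if i ∈ s then X i else 1 := by
        rw [pureMat_mul]
        congr 1
        funext i
        by_cases h : i = a
        · subst h; simp [ha]
        · simp [h]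
      rw [he, map_mul]
      exact A.mul_mem (hslot a _) ih
  rw [eq_top_iff]
  intro Y hY
  clear hY
  obtain ⟨Z, rfl⟩ := (coordAlg e P).surjective Y
  induction Z using Matrix.induction_on' with
  | h_zero => rw [map_zero]; exact A.zero_mem
  | h_add X Y hX hY => rw [map_add]; exact A.add_mem hX hY
  | h_std_basis x y c =>
    have he : Matrix.single x y c =
        c • pureMat fun i => Matrix.single (x i) (y i) (1 : F) := by
      ext u v
      simp only [Matrix.smul_apply, pureMat, Matrix.of_apply, Matrix.single_apply, smul_eq_mul]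
      by_cases h : x = u ∧ y = v
      · obtain ⟨rfl, rfl⟩ := h; simp
      · rw [if_neg h]
        rw [Finset.prod_eq_zero_iff.mpr, mul_zero]
        rw [not_and_or] at h
        rcases h with h | h <;> obtain ⟨i, hi⟩ := Function.ne_iff.mp h
        · exact ⟨i, Finset.mem_univ i, by simp [hi]⟩
        · exact ⟨i, Finset.mem_univ i, by simp [hi]⟩
    rw [he, map_smul]
    exact A.smul_mem (hpure _) c

/-- An invariant subgroup meeting a quaternion slot non-centrally contains it. -/
theorem slot_full [Fintype F] (hq : Fintype.card F = 3) {G M : Subgroup (GL ι F)} {i : Fin t}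
    (hMZ : scalars ι F ≤ M) (hMn : ∀ g ∈ G, ∀ x ∈ M, g * x * g⁻¹ ∈ M)
    (hG : ∀ s : G2, (s : M2).det = 1 → pureIn e P (Pi.mulSingle i s) ∈ G)
    {z : GL ι F} (hz : z ∈ scalars ι F) {q : Fin t → G2} (hx : z * pureIn e P q ∈ M)
    (hqi : q i ∈ quat hq) (hns : ¬ ∃ c : F, (q i : M2) = c • 1) :
    ∀ u ∈ quat hq, pureIn e P (Pi.mulSingle i u) ∈ M := by
  classical
  set a := q i with ha
  have ha0 : (a : M2).trace = 0 := hqi.2.resolve_right hns
  have had : (a : M2).det = 1 := hqi.1
  -- a partner anticommuting with `a`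
  obtain ⟨b, hb, hab⟩ : ∃ b : G2, ((b : M2).det = 1 ∧ (b : M2).trace = 0) ∧
      (a : M2) * (b : G2) = -((b : M2) * (a : G2)) := by
    by_contra hcon
    push Not at hcon
    have hcen : ∀ X : M2, (a : M2) * X = X * (a : G2) := by
      intro X
      induction quat_span hq X using Submodule.span_induction with
      | mem X hX =>
        obtain ⟨x, hx, rfl⟩ := hX
        rcases quat_comm hq hqi hx with h | h
        · exact h
        · exfalso
          rcases hx.2 with hx0 | ⟨c, hc⟩
          · exact hcon x ⟨hx.1, hx0⟩ h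
          · rw [hc, Matrix.mul_smul, mul_one, Matrix.smul_mul, one_mul] at h
            have hc0 : c ≠ 0 := fun h0 => x.ne_zero (by rw [hc, h0, zero_smul])
            have h2 : ((2 : F) * c) • (a : M2) = 0 := by
              rw [two_mul, add_smul]; exact add_eq_zero_iff_eq_neg.mpr h
            exact a.ne_zero
              ((smul_eq_zero.mp h2).resolve_left (mul_ne_zero (two_ne_zero' hq) hc0))
      | zero => simp
      | add X Y _ _ hX hY => rw [mul_add, add_mul, hX, hY]
      | smul c X _ hX => rw [Matrix.mul_smul, Matrix.smul_mul, hX]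
    have h01 := congrFun (congrFun (hcen !![1, 0; 0, 0]) 0) 1
    have h10 := congrFun (congrFun (hcen !![1, 0; 0, 0]) 1) 0
    have h11 := congrFun (congrFun (hcen !![0, 1; 0, 0]) 0) 1
    simp [Matrix.mul_apply, Fin.sum_univ_two] at h01 h10 h11
    apply hns
    exact ⟨(a : M2) 0 0, by
      ext r s; fin_cases r <;> fin_cases s <;> simp [← h01, h10, h11]⟩
  obtain ⟨s, hs, hsa⟩ := quat_transitive hq had ha0 hb.1 hb.2 hab
  have hb' : b ∈ quat hq := ⟨hb.1, Or.inl hb.2⟩
  have hsab : s * a * s⁻¹ = b := by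
    rw [mul_inv_eq_iff_eq_mul]
    exact Units.ext hsa
  have hr : pureIn e P (Pi.mulSingle i (b * a⁻¹)) ∈ M := by
    have h := M.mul_mem (hMn _ (hG s hs) _ hx) (M.inv_mem hx)
    have e1 : pureIn e P (Pi.mulSingle i s) * (z * pureIn e P q) *
        (pureIn e P (Pi.mulSingle i s))⁻¹ * (z * pureIn e P q)⁻¹ =
        pureIn e P (Pi.mulSingle i (b * a⁻¹)) := by
      set A := pureIn e P (Pi.mulSingle i s)
      set B := pureIn e P q with hB
      calc A * (z * B) * A⁻¹ * (z * B)⁻¹ = (A * z) * B * A⁻¹ * B⁻¹ * z⁻¹ := by group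
        _ = z * (A * B * A⁻¹ * B⁻¹) * z⁻¹ := by rw [← scalars_comm hz A]; group
        _ = A * B * A⁻¹ * B⁻¹ := by rw [scalars_comm hz (A * B * A⁻¹ * B⁻¹), mul_inv_cancel_right]
        _ = _ := by
          simp only [A, hB, ← map_mul, ← map_inv]
          congr 1
          funext j
          by_cases hj : j = i
          · subst hj; simp [← hsab, ← ha]
          · simp [hj]
    rwa [e1] at h
  set r := b * a⁻¹ with hr'
  have hrq : r ∈ quat hq := (quat hq).mul_mem hb' ((quat hq).inv_mem hqi)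
  have hrns : ¬ ∃ c : F, (r : M2) = c • 1 := by
    rintro ⟨c, hc⟩
    have hbe : (b : M2) = c • (a : M2) := by
      have : b = r * a := by rw [hr', inv_mul_cancel_right]
      rw [this, Units.val_mul, hc, Matrix.smul_mul, one_mul]
    rw [hbe, Matrix.mul_smul, Matrix.smul_mul, sq_of_trace_zero had ha0] at hab
    have hc0 : c ≠ 0 := fun h0 => b.ne_zero (by rw [hbe, h0, zero_smul])
    have h1 := congrFun (congrFun hab 0) 0
    simp at h1
    exact mul_ne_zero (two_ne_zero' hq) hc0 (by linear_combination -h1)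
  have hr0 : (r : M2).trace = 0 := hrq.2.resolve_right hrns
  have hscal : ∀ u : G2, (∃ c : F, (u : M2) = c • 1) → pureIn e P (Pi.mulSingle i u) ∈ M :=
    fun u hu => hMZ (pureIn_scalar e P fun j => by
      by_cases h : j = i
      · subst h; simpa using hu
      · exact ⟨1, by simp [h]⟩)
  intro u hu
  rcases hu.2 with hu0 | hu0
  · rcases quat_dichotomy hq hrq.1 hr0 hu.1 hu0 with h | h | h
    · rw [show u = r from Units.ext h]; exact hr
    · have h' : (Pi.mulSingle i u : Fin t → G2) = Pi.mulSingle i (u * r⁻¹) * Pi.mulSingle i r := by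
        rw [← Pi.mulSingle_mul, inv_mul_cancel_right]
      rw [h', map_mul]
      refine M.mul_mem (hscal _ ⟨-1, ?_⟩) hr
      rw [Units.val_mul, h, neg_mul, ← Units.val_mul, mul_inv_cancel, Units.val_one, neg_smul,
        one_smul]
    · obtain ⟨s', hs', hsr⟩ := quat_transitive hq hrq.1 hr0 hu.1 hu0 h
      have h' : s' * r * s'⁻¹ = u := by
        rw [mul_inv_eq_iff_eq_mul]; exact Units.ext hsr
      rw [← h', Pi.mulSingle_mul, Pi.mulSingle_mul, Pi.mulSingle_inv, map_mul, map_mul, map_inv]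
      exact hMn _ (hG s' hs') _ hr
  · exact hscal u hu0

end machinery

variable [Fintype F] {m : ℕ}

/-- A minimal normal subgroup abelian modulo scalars gives a class of symplectic type. -/
theorem class6_of_minimal (hm : 1 ≤ m) (hq : Fintype.card F = 3)
    {G N : Subgroup (GL (Fin m ⊕ Fin m) F)} (hG : G ≤ spGL m F)
    (hN : N ≤ G ⊔ scalars (Fin m ⊕ Fin m) F) (hZN : scalars (Fin m ⊕ Fin m) F ≤ N)
    (hnorm : ∀ g ∈ G, ∀ x ∈ N, g * x * g⁻¹ ∈ N)
    (hmin : ∀ M : Subgroup (GL (Fin m ⊕ Fin m) F), scalars (Fin m ⊕ Fin m) F ≤ M → M ≤ N →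
      (∀ g ∈ G, ∀ x ∈ M, g * x * g⁻¹ ∈ M) → M = scalars (Fin m ⊕ Fin m) F ∨ M = N)
    (hab : ⁅N, N⁆ ≤ scalars (Fin m ⊕ Fin m) F) (habs : ActsAbsolutelyIrreducibly (matrixSet N)) :
    ∃ (R : Subgroup (GL (Fin m ⊕ Fin m) F)) (k : ℕ), IsSymplecticTypeGroup 2 R ∧
      ActsAbsolutelyIrreducibly (matrixSet R) ∧ R ≤ similarityGroup (sympForm m F) ∧
      Nat.card R = 2 ^ (1 + 2 * k) ∧ Nat.card (Subgroup.center R) = 2 ∧ IsOfMinusType k R ∧
      2 * m = 2 ^ k ∧ G ≤ subgroupNormalizer R := by
  haveI : Nonempty (Fin m ⊕ Fin m) := ⟨Sum.inl ⟨0, hm⟩⟩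
  have h := formSpace_sympForm (m := m) (F := F)
  have hfix : FixesForm (matrixSet G) (sympForm m F) := by
    rintro _ ⟨g, hg, rfl⟩ u v
    exact hG hg u v
  have hd : 2 ≤ Fintype.card (Fin m ⊕ Fin m) := by simp; omega
  have hnorm' : ∀ g ∈ G ⊔ scalars (Fin m ⊕ Fin m) F, ∀ x ∈ N, g * x * g⁻¹ ∈ N := by
    intro g hg x hx
    obtain ⟨a, ha, z, hz, rfl⟩ := Subgroup.mem_sup_of_normal_right.mp hg
    rw [mul_inv_rev, show a * z * x * (z⁻¹ * a⁻¹) = a * (z * x) * z⁻¹ * a⁻¹ by group,
      scalars_comm hz x, show a * (x * z) * z⁻¹ * a⁻¹ = a * x * a⁻¹ by group]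
    exact hnorm a ha x hx
  have hmin' : ∀ M : Subgroup (GL (Fin m ⊕ Fin m) F), scalars (Fin m ⊕ Fin m) F ≤ M → M ≤ N →
      (∀ g ∈ G ⊔ scalars (Fin m ⊕ Fin m) F, ∀ x ∈ M, g * x * g⁻¹ ∈ M) →
      M = scalars (Fin m ⊕ Fin m) F ∨ M = N :=
    fun M h1 h2 h3 => hmin M h1 h2 fun g hg => h3 g (Subgroup.mem_sup_left hg)
  obtain ⟨r, k, z, R, d⟩ := exists_sympData (G ⊔ scalars (Fin m ⊕ Fin m) F) N hd hZN hN hnorm'
    hmin' hab habs
  obtain ⟨R₁, d₁⟩ := h.exists_isoSympData hd hfix hN hmin' hnorm' hZN d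
  rcases IsoSympData.symplectic_case d₁ h with
    ⟨F₁, r', B, ζ, h1, h2, -, -, -⟩ | ⟨p, h1, h2, h3, -, -, -, h7, h8, h9, h10, h11⟩
  · exfalso
    haveI : Finite F₁ := inferInstance
    have h4 : 2 ≤ Nat.card F₁ := Finite.one_lt_card
    have h5 := Nat.pow_le_pow_left h4 r'
    have h6 : 2 ^ 2 ≤ 2 ^ r' := Nat.pow_le_pow_right (by norm_num) h1.two_le
    omega
  · exact ⟨R₁, k, h1, h2, h3, h7, h8, h9, by simpa [two_mul] using h10, h11⟩

theorem pureIn_mem_spGL {t : ℕ} {e : (Fin m ⊕ Fin m) ≃ (Fin t → Fin 2)}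
    {P : GL (Fin m ⊕ Fin m) F} {G₀ : Fin t → Matrix (Fin 2) (Fin 2) F} {c : F}
    (hval : ∀ x y, coordForm e P (sympForm m F) x y = c * formOfGram id (pureMat G₀) x y)
    {g : GL (Fin t → Fin 2) F}
    (hg : gtr (RingEquiv.refl F) (pureMat G₀)
      (g : Matrix (Fin t → Fin 2) (Fin t → Fin 2) F) = pureMat G₀) :
    coordEquiv e P g ∈ spGL m F := by
  intro u v
  obtain ⟨x, rfl⟩ := exists_coord e P u
  obtain ⟨y, rfl⟩ := exists_coord e P v
  show sympForm m F (coordAlg e P _ *ᵥ _) (coordAlg e P _ *ᵥ _) = _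
  rw [coordAlg_mulVec, coordAlg_mulVec]
  show coordForm e P (sympForm m F) _ _ = coordForm e P (sympForm m F) x y
  rw [hval, hval, show (id : F → F) = ⇑(RingEquiv.refl F) from rfl, formOfGram_mulVec, hg]

/-- Over three elements the tensor power of three planes lies in a normaliser of symplectic type. -/
theorem wreath_three_class6 (hm : 1 ≤ m) (hq : Fintype.card F = 3)
    (e : (Fin m ⊕ Fin m) ≃ (Fin 3 → Fin 2)) (P : GL (Fin m ⊕ Fin m) F) {c : F}
    (hval : ∀ x y, coordForm e P (sympForm m F) x y =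
      c * formOfGram id (pureMat fun _ : Fin 3 => (altTwo : Matrix (Fin 2) (Fin 2) F)) x y) :
    ∃ (R : Subgroup (GL (Fin m ⊕ Fin m) F)) (k : ℕ), IsSymplecticTypeGroup 2 R ∧
      ActsAbsolutelyIrreducibly (matrixSet R) ∧ R ≤ similarityGroup (sympForm m F) ∧
      Nat.card R = 2 ^ (1 + 2 * k) ∧ Nat.card (Subgroup.center R) = 2 ∧ IsOfMinusType k R ∧
      2 * m = 2 ^ k ∧ tensorWreathSubgroup 2 3 e P ⊓ spGL m F ≤ subgroupNormalizer R := by
  classical
  set Q : Fin 3 → Subgroup (GL (Fin 2) F) := fun _ => quat hq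
  set G := tensorWreathSubgroup 2 3 e P ⊓ spGL m F with hGdef
  set N := tensorN e P Q with hNdef
  have hWmem : ∀ g, g ∈ tensorWreathStandard 2 3 F → coordEquiv e P g ∈ tensorWreathSubgroup 2 3 e P :=
    fun g hg => by rw [tensorWreathSubgroup_eq]; exact ⟨g, hg, rfl⟩
  have hpureG : ∀ q : Fin 3 → G2, (∀ i, (q i : M2).det = 1) → pureIn e P q ∈ G := fun q hdet =>
    ⟨hWmem _ (Subgroup.subset_closure (Or.inl ⟨q, fun x y => rfl⟩)),
      pureIn_mem_spGL hval (g := pureGL q) (by
        show (pureMat fun i => (q i : M2))ᵀ * _ * (pureMat fun i => (q i : M2)).map _ = _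
        rw [show (pureMat fun i => (q i : M2)).map (RingEquiv.refl F) = pureMat fun i => (q i : M2)
          from Matrix.map_id _, pureMat_transpose, pureMat_mul, pureMat_mul]
        congr 1
        funext i
        rw [transpose_mul_altTwo_mul, hdet, one_smul])⟩
  have hpermG : ∀ π : Equiv.Perm (Fin 3), coordEquiv e P (factorPermGL π) ∈ G := fun π =>
    ⟨hWmem _ (Subgroup.subset_closure (Or.inr ⟨π, fun x y => rfl⟩)),
      pureIn_mem_spGL hval (g := factorPermGL π) (by
        show gtr _ _ (factorPerm π) = _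
        have h := gtr_pureMat_perm (RingEquiv.refl F) (fun _ : Fin 3 => (altTwo : M2))
          (fun _ => 1) π
        rw [pureMat_one, one_mul] at h
        rw [h]
        congr 1
        funext i
        simp [gtr])⟩
  have hnorm : ∀ g ∈ G, ∀ x ∈ N, g * x * g⁻¹ ∈ N := by
    intro g hg x hx
    obtain ⟨z, hz, q, hq', rfl⟩ := (mem_tensorN e P Q).mp hx
    have hgW := hg.1
    rw [tensorWreathSubgroup_eq] at hgW
    obtain ⟨g', hg', hgg⟩ := hgW
    obtain ⟨y, π, hy⟩ := tensorWreath_normalForm hg'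
    refine (mem_tensorN e P Q).mpr ⟨z, hz, fun j => y j * q (π.symm j) * (y j)⁻¹,
      fun j => quat_conj hq (hq' _) _, ?_⟩
    have e1 : g' * pureGL q = pureGL (fun j => y j * q (π.symm j) * (y j)⁻¹) * g' := by
      refine Units.ext ?_
      show (g' : Matrix _ _ F) * pureMat (fun i => (q i : M2)) =
        pureMat (fun j => ((y j * q (π.symm j) * (y j)⁻¹ : G2) : M2)) * (g' : Matrix _ _ F)
      rw [hy, mul_assoc, factorPerm_conj, ← mul_assoc, ← mul_assoc, pureMat_mul, pureMat_mul]
      congr 2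
      funext j
      rw [← Units.val_mul, ← Units.val_mul, inv_mul_cancel_right]
    have e2 : g * pureIn e P q = pureIn e P (fun j => y j * q (π.symm j) * (y j)⁻¹) * g := by
      rw [← hgg]
      show coordEquiv e P g' * coordEquiv e P (pureGL q) = coordEquiv e P (pureGL _) * coordEquiv e P g'
      rw [← map_mul, ← map_mul, e1]
    rw [← mul_assoc, ← scalars_comm hz g, mul_assoc z g, e2, mul_assoc z, mul_inv_cancel_right]
  have hN : N ≤ G ⊔ scalars (Fin m ⊕ Fin m) F := by
    intro x hx
    obtain ⟨z, hz, q, hq', rfl⟩ := (mem_tensorN e P Q).mp hx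
    exact mul_mem (Subgroup.mem_sup_right hz) (Subgroup.mem_sup_left (hpureG q fun i => (hq' i).1))
  have hmin : ∀ M : Subgroup (GL (Fin m ⊕ Fin m) F), scalars (Fin m ⊕ Fin m) F ≤ M → M ≤ N →
      (∀ g ∈ G, ∀ x ∈ M, g * x * g⁻¹ ∈ M) → M = scalars (Fin m ⊕ Fin m) F ∨ M = N := by
    intro M hMZ hMN hMn
    by_cases hle : M ≤ scalars (Fin m ⊕ Fin m) F
    · exact Or.inl (le_antisymm hle hMZ)
    right
    obtain ⟨x, hxM, hxZ⟩ := SetLike.not_le_iff_exists.mp hle
    obtain ⟨z, hz, q, hq', rfl⟩ := (mem_tensorN e P Q).mp (hMN hxM)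
    obtain ⟨i, hi⟩ : ∃ i, ¬ ∃ c : F, (q i : M2) = c • 1 := by
      by_contra hh
      push Not at hh
      exact hxZ (mul_mem hz (pureIn_scalar e P hh))
    have hfull := slot_full e P hq hMZ hMn
      (fun s hs => hpureG _ fun j => by
        by_cases h : j = i
        · subst h; simpa using hs
        · simp [h]) hz hxM (hq' i) hi
    refine le_antisymm hMN (sup_le hMZ (Subgroup.map_le_iff_le_comap.mpr fun r hr => ?_))
    refine Subgroup.pi_mem_of_mulSingle_mem r fun j => ?_
    have hj := hMn _ (hpermG (Equiv.swap i j)) _ (hfull (r j) (hr j trivial))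
    show pureIn e P (Pi.mulSingle j (r j)) ∈ M
    have e1 : coordEquiv e P (factorPermGL (Equiv.swap i j)) * pureIn e P (Pi.mulSingle i (r j)) *
        (coordEquiv e P (factorPermGL (Equiv.swap i j)))⁻¹ = pureIn e P (Pi.mulSingle j (r j)) := by
      rw [mul_inv_eq_iff_eq_mul]
      show coordEquiv e P _ * coordEquiv e P (pureGL _) = coordEquiv e P (pureGL _) * coordEquiv e P _
      rw [← map_mul, ← map_mul]
      congr 1
      refine Units.ext ?_
      show factorPerm _ * pureMat _ = pureMat _ * factorPerm _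
      rw [factorPerm_conj]
      congr 2
      funext l
      by_cases hl : l = j
      · subst hl; simp
      · rw [Pi.mulSingle_eq_of_ne hl, Pi.mulSingle_eq_of_ne]
        intro h
        apply hl
        have := congrArg (Equiv.swap i j) h
        simpa using this
    rwa [e1] at hj
  exact class6_of_minimal hm hq inf_le_right hN le_sup_left hnorm hmin
    (tensorN_commutator e P Q fun i x hx y hy => commutator_scalar_of (quat_comm hq hx hy))
    (tensorN_absIrred e P Q fun i X => quat_span hq X)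

end Cfsg.Agent.Symplectic.Asch
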