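import Cfsg.Agent.Symplectic.AutPoints

/-! Counting the semilinear automorphisms of `PSp`. -/

set_option autoImplicit false
set_option linter.unusedSectionVars false

namespace Cfsg.Agent.Symplectic

open scoped Matrix
open Matrix Module

variable {m : ℕ} {F : Type*} [Field F]

local notation "𝕍" => Fin m ⊕ Fin m → F
local notation "f⟪" u ", " v "⟫" => Cfsg.sympForm m F u v

/-- the scalar similitude -/
def scalG (z : Fˣ) : Cfsg.GSp m F :=
  ⟨Units.map (Matrix.scalar (Fin m ⊕ Fin m) : F →+* Mat m F).toMonoidHom z, z * z, fun u v => by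
    show f⟪Matrix.scalar _ (z : F) *ᵥ u, Matrix.scalar _ (z : F) *ᵥ v⟫ = _
    rw [Matrix.scalar_apply, ← Matrix.smul_one_eq_diagonal, Matrix.smul_mulVec, Matrix.smul_mulVec,
      Matrix.one_mulVec, Matrix.one_mulVec, sf_smul_left, sf_smul_right, Units.val_mul, mul_assoc]⟩

theorem scalG_mulVec (z : Fˣ) (v : 𝕍) : ((scalG (m := m) z).1 : Mat m F) *ᵥ v = (z : F) • v := by
  show Matrix.scalar _ (z : F) *ᵥ v = _
  rw [Matrix.scalar_apply, ← Matrix.smul_one_eq_diagonal, Matrix.smul_mulVec, Matrix.one_mulVec]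

theorem gspMap_scalG (σ : F ≃+* F) (z : Fˣ) :
    gspMap (m := m) σ (scalG z) = scalG (Units.map σ.toMonoidHom z) := by
  refine Subtype.ext (Units.ext ?_)
  rw [gspMap_coe]
  show (Matrix.scalar _ (z : F)).map σ = Matrix.scalar _ (σ z)
  simp [Matrix.diagonal_map]

/-- `diag(μ, 1)` -/
def multG (μ : Fˣ) : Cfsg.GSp m F :=
  ⟨Units.map (Matrix.diagonalRingHom (Fin m ⊕ Fin m) F).toMonoidHom
      (MulEquiv.piUnits.symm (Sum.elim (fun _ => μ) (fun _ => 1))), μ, fun u v => by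
    show f⟪Matrix.diagonal (fun i => ((Sum.elim (fun _ => μ) (fun _ => 1)
      : Fin m ⊕ Fin m → Fˣ) i : F)) *ᵥ u, Matrix.diagonal (fun i => ((Sum.elim (fun _ => μ)
        (fun _ => 1) : Fin m ⊕ Fin m → Fˣ) i : F)) *ᵥ v⟫ = _
    simp [sympForm_eq, Matrix.mulVec_diagonal, Finset.mul_sum, mul_sub, mul_assoc, mul_left_comm]⟩

theorem multG_sf (μ : Fˣ) (u v : 𝕍) :
    f⟪((multG (m := m) μ).1 : Mat m F) *ᵥ u, ((multG (m := m) μ).1 : Mat m F) *ᵥ v⟫ = μ * f⟪u, v⟫ := by
  show f⟪Matrix.diagonal (fun i => ((Sum.elim (fun _ => μ) (fun _ => 1)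
      : Fin m ⊕ Fin m → Fˣ) i : F)) *ᵥ u, Matrix.diagonal (fun i => ((Sum.elim (fun _ => μ)
        (fun _ => 1) : Fin m ⊕ Fin m → Fˣ) i : F)) *ᵥ v⟫ = _
  simp [sympForm_eq, Matrix.mulVec_diagonal, Finset.mul_sum, mul_sub, mul_assoc, mul_left_comm]

/-- a symplectic matrix as a similitude -/
def spG (s : Matrix.symplecticGroup (Fin m) F) : Cfsg.GSp m F :=
  ⟨⟨(s : Mat m F), ((s⁻¹ : Matrix.symplecticGroup (Fin m) F) : Mat m F),
    by rw [← Submonoid.coe_mul, mul_inv_cancel]; rfl,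
    by rw [← Submonoid.coe_mul, inv_mul_cancel]; rfl⟩, 1, fun u v => by
    show f⟪(s : Mat m F) *ᵥ u, (s : Mat m F) *ᵥ v⟫ = _
    rw [sf_invariant, Units.val_one, one_mul]⟩

theorem spG_coe (s : Matrix.symplecticGroup (Fin m) F) :
    ((spG s).1 : Mat m F) = (s : Mat m F) := rfl

theorem card_gsp [Fintype F] (hm : 1 ≤ m) :
    Nat.card (Cfsg.GSp m F) =
      Nat.card Fˣ * Nat.card (Matrix.symplecticGroup (Fin m) F) := by
  rw [← Nat.card_prod]
  refine (Nat.card_eq_of_bijective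
    (fun z : Fˣ × Matrix.symplecticGroup (Fin m) F => multG z.1 * spG z.2) ⟨?_, ?_⟩).symm
  · rintro ⟨μ, s⟩ ⟨ν, t⟩ he
    simp only at he
    let e : 𝕍 := Pi.single (Sum.inl ⟨0, hm⟩) 1
    obtain ⟨x, hx⟩ := sf_exists_one (v := e) (by simp [e])
    have key : ∀ (μ : Fˣ) (s : Matrix.symplecticGroup (Fin m) F),
        f⟪((multG μ * spG s).1 : Mat m F) *ᵥ e, ((multG μ * spG s).1 : Mat m F) *ᵥ x⟫ = μ := by
      intro μ s
      rw [Subgroup.coe_mul, Units.val_mul, spG_coe, ← Matrix.mulVec_mulVec, ← Matrix.mulVec_mulVec,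
        multG_sf, sf_invariant, hx, mul_one]
    have hμ : μ = ν := Units.ext (by rw [← key μ s, he, key])
    subst hμ
    have h2 := congrArg (fun g : Cfsg.GSp m F => (g.1 : Mat m F)) (mul_left_cancel he)
    exact Prod.ext rfl (Subtype.ext h2)
  · rintro ⟨g, c, hc⟩
    let k : Cfsg.GSp m F := (multG c)⁻¹ * ⟨g, c, hc⟩
    have hmem : (k.1 : Mat m F) ∈ Matrix.symplecticGroup (Fin m) F := by
      rw [mem_symplectic_iff_form]
      intro u v
      have h1 := multG_sf c ((k.1 : Mat m F) *ᵥ u) ((k.1 : Mat m F) *ᵥ v)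
      rw [Matrix.mulVec_mulVec, Matrix.mulVec_mulVec, ← Units.val_mul, ← Subgroup.coe_mul,
        mul_inv_cancel_left, hc] at h1
      exact (mul_left_cancel₀ c.ne_zero h1).symm
    refine ⟨(c, ⟨_, hmem⟩), ?_⟩
    show multG c * spG ⟨_, hmem⟩ = _
    rw [show spG ⟨_, hmem⟩ = k from Subtype.ext (Units.ext rfl), mul_inv_cancel_left]

variable [Fintype F]

theorem semiPSp_scalG (z : Fˣ) : semiPSp (scalG (m := m) z) (RingEquiv.refl F) = 1 :=
  MulEquiv.ext fun x => by
    obtain ⟨s, rfl⟩ := psp_surjective x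
    rw [semiPSp_psp, MulAut.one_apply]
    congr 1
    refine sp_ext fun y => ?_
    obtain ⟨y, rfl⟩ := semiVec_surjective (scalG (m := m) z).1 (RingEquiv.refl F) y
    rw [semiSp_semiVec, semiVec, semiVec, scalG_mulVec, scalG_mulVec, Matrix.mulVec_smul]
    rfl

theorem eq_of_semiPSp_eq_one {p : ℕ} [Fact p.Prime] [CharP F p] (hm : 1 ≤ m) {g : Cfsg.GSp m F}
    {σ : F ≃+* F} (h : semiPSp g σ = 1) : σ = RingEquiv.refl F ∧ ∃ z, g = scalG z := by
  obtain ⟨μ, hμ0, hμ⟩ := exists_mult g.2 σ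
  have key : ∀ v : 𝕍, v ≠ 0 → ∃ a : F, semiVec g.1 σ v = a • v := by
    intro v hv
    have h1 := congrArg (fun φ : MulAut (Cfsg.PSp m F) => φ (psp (T v 1))) h
    simp only [semiPSp_psp, semiSp_T g σ hμ0 hμ, MulAut.one_apply] at h1
    exact span_of_psp_T_eq (p := p) hm (semiVec_ne_zero g.1 σ hv)
      (div_ne_zero (by simp) hμ0) h1
  choose a ha using key
  let e : Fin m ⊕ Fin m → 𝕍 := fun i => Pi.single i 1
  have he : ∀ i, e i ≠ 0 := fun i => by simp [e]
  have hσe : ∀ i, sigVec σ (e i) = e i := fun i => funext fun j => by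
    rcases eq_or_ne j i with rfl | h <;> simp [sigVec, e, *]
  have hge : ∀ i, (g.1 : Mat m F) *ᵥ e i = a (e i) (he i) • e i := fun i => by
    have := ha (e i) (he i)
    rwa [semiVec, hσe] at this
  have hpair : ∀ i j, i ≠ j → ∀ x : F,
      σ x * a (e j) (he j) = a (e i) (he i) * x := by
    intro i j hij x
    have hne : e i + x • e j ≠ 0 := fun h0 => by
      have := congrFun h0 i
      simp [e, hij] at this
    have h1 := ha _ hne
    rw [semiVec_add, semiVec_smul, semiVec, semiVec, hσe, hσe, hge, hge, smul_smul] at h1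
    have e1 := congrFun h1 i
    have e2 := congrFun h1 j
    simp [e, hij, Ne.symm hij] at e1 e2
    rw [e2, e1]
  let i0 : Fin m ⊕ Fin m := Sum.inl ⟨0, hm⟩
  let i1 : Fin m ⊕ Fin m := Sum.inr ⟨0, hm⟩
  have hsame : ∀ j, a (e j) (he j) = a (e i0) (he i0) := by
    intro j
    rcases eq_or_ne i0 j with rfl | hj
    · rfl
    simpa using hpair i0 j hj 1
  have ha0 : a (e i0) (he i0) ≠ 0 := fun h0 => by
    have := hge i0
    rw [h0, zero_smul] at this
    exact he i0 (Matrix.mulVec_injective_of_isUnit g.1.isUnit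
      (this.trans (Matrix.mulVec_zero _).symm))
  refine ⟨RingEquiv.ext fun x => ?_, Units.mk0 _ ha0, Subtype.ext (Units.ext
    (Matrix.ext_of_mulVec_single fun i => ?_))⟩
  · have := hpair i0 i1 (by simp [i0, i1]) x
    rw [hsame i1, mul_comm] at this
    exact mul_left_cancel₀ ha0 this
  · rw [show (Pi.single i 1 : 𝕍) = e i from rfl, hge, scalG_mulVec, hsame]
    rfl

/-- the semilinear automorphisms -/
def semiRange (m : ℕ) (F : Type*) [Field F] [Fintype F] : Set (MulAut (Cfsg.PSp m F)) :=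
  Set.range fun z : Cfsg.GSp m F × RingAut F => semiPSp z.1 z.2

theorem semiPSp_eq_iff {p : ℕ} [Fact p.Prime] [CharP F p] (hm : 1 ≤ m) (g h : Cfsg.GSp m F)
    (σ τ : F ≃+* F) :
    semiPSp h τ = semiPSp g σ ↔ τ = σ ∧ ∃ z, h = g * scalG z := by
  constructor
  · intro he
    have h1 : (semiPSp g σ)⁻¹ * semiPSp h τ = 1 := by rw [he, inv_mul_cancel]
    rw [semiPSp_inv, semiPSp_mul] at h1
    obtain ⟨hσ, z, hz⟩ := eq_of_semiPSp_eq_one (p := p) hm h1
    refine ⟨RingEquiv.ext fun a => ?_, Units.map σ.toMonoidHom z, ?_⟩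
    · have := RingEquiv.congr_fun hσ a
      simp only [RingEquiv.trans_apply, RingEquiv.refl_apply] at this
      rw [← σ.apply_symm_apply (τ a), this]
    · have h2 := congrArg (gspMap σ) hz
      rw [gspMap_scalG] at h2
      rw [← h2]
      refine Subtype.ext (Units.ext ?_)
      simp only [Subgroup.coe_mul, Units.val_mul, gspMap_coe, Matrix.map_mul, Matrix.map_map,
        show (⇑σ ∘ ⇑σ.symm) = id from funext σ.apply_symm_apply, Matrix.map_id, Subgroup.coe_inv]
      rw [← mul_assoc, ← Units.val_mul, mul_inv_cancel, Units.val_one, one_mul]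
  · rintro ⟨rfl, z, rfl⟩
    have h1 : semiPSp g τ * semiPSp (scalG (Units.map τ.symm.toMonoidHom z)) (RingEquiv.refl F) =
        semiPSp (g * scalG z) τ := by
      rw [semiPSp_mul, gspMap_scalG]
      congr 1
      · congr 2
        exact Units.ext (τ.apply_symm_apply _)
    rw [← h1, semiPSp_scalG, mul_one]

theorem card_semiRange {p : ℕ} [Fact p.Prime] [CharP F p] (hm : 1 ≤ m) :
    Nat.card (semiRange m F) =
      Nat.card (Matrix.symplecticGroup (Fin m) F) * Nat.card (RingAut F) := by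
  classical
  have hrep : ∀ y : semiRange m F, ∃ z : Cfsg.GSp m F × RingAut F, semiPSp z.1 z.2 = y.1 :=
    fun y => y.2
  choose r hr using hrep
  have h := Nat.card_eq_of_bijective
    (fun w : semiRange m F × Fˣ => ((r w.1).1 * scalG w.2, (r w.1).2)) ⟨?_, ?_⟩
  · rw [Nat.card_prod, Nat.card_prod, card_gsp hm, mul_comm (Nat.card (semiRange m F)),
      mul_assoc] at h
    exact Nat.eq_of_mul_eq_mul_left Nat.card_pos h
  · rintro ⟨y, z⟩ ⟨y', z'⟩ he
    simp only [Prod.mk.injEq] at he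
    have h2 : semiPSp (r y).1 (r y).2 = semiPSp (r y').1 (r y').2 := by
      rw [← (semiPSp_eq_iff (p := p) hm (r y).1 _ (r y).2 (r y).2).mpr ⟨rfl, z, rfl⟩, he.1, he.2]
      exact (semiPSp_eq_iff (p := p) hm (r y').1 _ (r y').2 (r y').2).mpr ⟨rfl, z', rfl⟩
    have hy : y = y' := Subtype.ext (by rw [← hr, ← hr, h2])
    subst hy
    refine Prod.ext rfl (Units.ext ?_)
    have h3 := congrArg (fun g : Cfsg.GSp m F =>
      ((g.1 : Mat m F) *ᵥ Pi.single (Sum.inl ⟨0, hm⟩) (1 : F)) (Sum.inl ⟨0, hm⟩))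
      (mul_left_cancel he.1)
    simpa only [scalG_mulVec, Pi.smul_apply, Pi.single_eq_same, smul_eq_mul, mul_one] using h3
  · rintro ⟨g, σ⟩
    let y : semiRange m F := ⟨semiPSp g σ, (g, σ), rfl⟩
    obtain ⟨hσ, z, hz⟩ := (semiPSp_eq_iff (p := p) hm (r y).1 g (r y).2 σ).mp (hr y).symm
    exact ⟨(y, z), Prod.ext hz.symm hσ.symm⟩

theorem card_ringAut {p f : ℕ} [Fact p.Prime] (hf : 1 ≤ f) (hF : Fintype.card F = p ^ f) :
    Nat.card (RingAut F) = f := by
  obtain ⟨r, hr⟩ := CharP.exists F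
  obtain ⟨k, hrp, hk⟩ := FiniteField.card F r
  have hpr : r = p := by
    have hd : r ∣ p ^ f := hF ▸ hk ▸ dvd_pow_self r k.pos.ne'
    exact (Nat.prime_dvd_prime_iff_eq hrp Fact.out).mp (hrp.dvd_of_dvd_pow hd)
  subst hpr
  letI := ZMod.algebra F r
  have hfin : Module.finrank (ZMod r) F = f := by
    have h := Module.card_eq_pow_finrank (K := ZMod r) (V := F)
    rw [hF, ZMod.card] at h
    exact (Nat.pow_right_injective hrp.two_le h).symm
  let e : RingAut F ≃ (F ≃ₐ[ZMod r] F) :=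
    { toFun := fun σ => AlgEquiv.ofRingEquiv (f := σ)
        (fun x => RingHom.congr_fun (Subsingleton.elim ((σ : F →+* F).comp (algebraMap (ZMod r) F))
          (algebraMap (ZMod r) F)) x)
      invFun := fun g => g.toRingEquiv
      left_inv := fun σ => RingEquiv.ext fun x => rfl
      right_inv := fun g => AlgEquiv.ext fun x => rfl }
  rw [Nat.card_congr e, ← Nat.card_eq_of_bijective _
    (FiniteField.bijective_frobeniusAlgEquivOfAlgebraic_pow (ZMod r) F), Nat.card_eq_fintype_card,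
    Fintype.card_fin, hfin]

theorem card_sp_eq_gcd_mul (hm : 1 ≤ m) :
    Nat.card (Matrix.symplecticGroup (Fin m) F) =
      Nat.gcd 2 (Fintype.card F - 1) * Nat.card (Cfsg.PSp m F) := by
  rw [card_sp, ← card_psp_mul m F hm, mul_comm]

end Cfsg.Agent.Symplectic
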