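import Cfsg.Agent.Symplectic.Center
import Cfsg.Prelude.Def_LieTypeDatum
import Mathlib

/-! Automorphisms of `Sp` and `PSp` induced by semilinear similitudes. -/

set_option autoImplicit false
set_option linter.unusedSectionVars false

namespace Cfsg.Agent.Symplectic

open scoped Matrix
open Matrix

variable {m : ℕ} {F : Type*} [Field F]

/-- the projection to `PSp` -/
def psp : Matrix.symplecticGroup (Fin m) F →* Cfsg.PSp m F :=
  QuotientGroup.mk' (Subgroup.center (Matrix.symplecticGroup (Fin m) F))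

theorem psp_surjective : Function.Surjective (psp : _ → Cfsg.PSp m F) :=
  QuotientGroup.mk'_surjective _

theorem psp_eq_one {s : Matrix.symplecticGroup (Fin m) F} :
    psp s = 1 ↔ s ∈ Subgroup.center (Matrix.symplecticGroup (Fin m) F) :=
  QuotientGroup.eq_one_iff s

theorem psp_eq_iff {s t : Matrix.symplecticGroup (Fin m) F} :
    psp s = psp t ↔ ∃ c : F, c ^ 2 = 1 ∧ ∀ v, (s : Mat m F) *ᵥ v = c • ((t : Mat m F) *ᵥ v) := by
  have key : psp s = psp t ↔ t⁻¹ * s ∈ Subgroup.center (Matrix.symplecticGroup (Fin m) F) := by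
    rw [← psp_eq_one, map_mul, map_inv, inv_mul_eq_one]; exact eq_comm
  rw [key, mem_center_iff]
  constructor
  · rintro ⟨c, hc⟩
    rcases Nat.eq_zero_or_pos m with rfl | hm
    · exact ⟨1, one_pow 2, fun v => funext fun i => (i.elim (fun j => j.elim0) fun j => j.elim0)⟩
    refine ⟨c, scalar_sq hm _ hc, fun v => ?_⟩
    have := congrArg (fun x => (t : Mat m F) *ᵥ x) (hc v)
    simp only [Matrix.mulVec_smul, Matrix.mulVec_mulVec, ← Submonoid.coe_mul, mul_inv_cancel_left]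
      at this
    exact this
  · rintro ⟨c, -, hc⟩
    refine ⟨c, fun v => ?_⟩
    rw [Submonoid.coe_mul, ← Matrix.mulVec_mulVec, hc, Matrix.mulVec_smul, Matrix.mulVec_mulVec,
      ← Submonoid.coe_mul, inv_mul_cancel, Submonoid.coe_one, Matrix.one_mulVec]

/-- apply a field automorphism to every coordinate -/
def sigVec (σ : F ≃+* F) (v : Fin m ⊕ Fin m → F) : Fin m ⊕ Fin m → F := fun i => σ (v i)

theorem sf_sigVec (σ : F ≃+* F) (u v : Fin m ⊕ Fin m → F) :
    Cfsg.sympForm m F (sigVec σ u) (sigVec σ v) = σ (Cfsg.sympForm m F u v) := by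
  simp [sympForm_eq, sigVec, map_sum]

theorem mulVec_sigVec (σ : F ≃+* F) (A : Mat m F) (x : Fin m ⊕ Fin m → F) :
    A.map σ *ᵥ sigVec σ x = sigVec σ (A *ᵥ x) := by
  funext i
  simp [Matrix.mulVec, dotProduct, sigVec, map_sum]

/-- the semilinear map `x ↦ g σ(x)` -/
def semiVec (g : GL (Fin m ⊕ Fin m) F) (σ : F ≃+* F) (x : Fin m ⊕ Fin m → F) :
    Fin m ⊕ Fin m → F :=
  (g : Mat m F) *ᵥ sigVec σ x

theorem semiVec_add (g : GL (Fin m ⊕ Fin m) F) (σ : F ≃+* F) (x y : Fin m ⊕ Fin m → F) :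
    semiVec g σ (x + y) = semiVec g σ x + semiVec g σ y := by
  rw [semiVec, semiVec, semiVec, ← Matrix.mulVec_add]
  congr 1
  funext i; simp [sigVec]

theorem semiVec_smul (g : GL (Fin m ⊕ Fin m) F) (σ : F ≃+* F) (c : F) (x : Fin m ⊕ Fin m → F) :
    semiVec g σ (c • x) = σ c • semiVec g σ x := by
  rw [semiVec, semiVec, ← Matrix.mulVec_smul]
  congr 1
  funext i; simp [sigVec]

theorem semiVec_surjective (g : GL (Fin m ⊕ Fin m) F) (σ : F ≃+* F) :
    Function.Surjective (semiVec g σ) := fun y =>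
  ⟨sigVec σ.symm (((g⁻¹ : GL (Fin m ⊕ Fin m) F) : Mat m F) *ᵥ y), by
    rw [semiVec, show sigVec σ (sigVec σ.symm (((g⁻¹ : GL (Fin m ⊕ Fin m) F) : Mat m F) *ᵥ y)) =
        ((g⁻¹ : GL (Fin m ⊕ Fin m) F) : Mat m F) *ᵥ y from funext fun i => σ.apply_symm_apply _,
      Matrix.mulVec_mulVec, ← Units.val_mul, mul_inv_cancel, Units.val_one, Matrix.one_mulVec]⟩

theorem semiVec_injective (g : GL (Fin m ⊕ Fin m) F) (σ : F ≃+* F) :
    Function.Injective (semiVec g σ) := fun x y h => funext fun i =>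
  σ.injective (congrFun (Matrix.mulVec_injective_of_isUnit g.isUnit h) i)

theorem semiVec_zero (g : GL (Fin m ⊕ Fin m) F) (σ : F ≃+* F) : semiVec g σ 0 = 0 := by
  rw [← zero_smul F (0 : Fin m ⊕ Fin m → F), semiVec_smul, map_zero, zero_smul, zero_smul]

theorem semiVec_ne_zero (g : GL (Fin m ⊕ Fin m) F) (σ : F ≃+* F) {x : Fin m ⊕ Fin m → F}
    (hx : x ≠ 0) : semiVec g σ x ≠ 0 := fun h =>
  hx (semiVec_injective g σ (h.trans (semiVec_zero g σ).symm))

theorem exists_mult {g : GL (Fin m ⊕ Fin m) F} (hg : g ∈ Cfsg.GSp m F) (σ : F ≃+* F) :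
    ∃ μ : F, μ ≠ 0 ∧ ∀ u v, Cfsg.sympForm m F (semiVec g σ u) (semiVec g σ v) =
      μ * σ (Cfsg.sympForm m F u v) := by
  obtain ⟨c, hc⟩ := hg
  exact ⟨c, c.ne_zero, fun u v => by rw [semiVec, semiVec, hc, sf_sigVec]⟩

/-- the matrix `g σ(A) g⁻¹` -/
def semiMat (g : GL (Fin m ⊕ Fin m) F) (σ : F ≃+* F) (A : Mat m F) : Mat m F :=
  (g : Mat m F) * A.map σ * ((g⁻¹ : GL (Fin m ⊕ Fin m) F) : Mat m F)

theorem semiMat_semiVec (g : GL (Fin m ⊕ Fin m) F) (σ : F ≃+* F) (A : Mat m F)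
    (x : Fin m ⊕ Fin m → F) : semiMat g σ A *ᵥ semiVec g σ x = semiVec g σ (A *ᵥ x) := by
  rw [semiMat, semiVec, semiVec, ← Matrix.mulVec_mulVec, Matrix.mulVec_mulVec _ _ (g : Mat m F),
    ← Units.val_mul, inv_mul_cancel, Units.val_one, Matrix.one_mulVec, ← Matrix.mulVec_mulVec,
    mulVec_sigVec]

theorem semiMat_mem {g : GL (Fin m ⊕ Fin m) F} (hg : g ∈ Cfsg.GSp m F) (σ : F ≃+* F)
    (s : Matrix.symplecticGroup (Fin m) F) :
    semiMat g σ (s : Mat m F) ∈ Matrix.symplecticGroup (Fin m) F := by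
  rw [mem_symplectic_iff_form]
  intro u v
  obtain ⟨μ, -, hμ⟩ := exists_mult hg σ
  obtain ⟨u, rfl⟩ := semiVec_surjective g σ u
  obtain ⟨v, rfl⟩ := semiVec_surjective g σ v
  rw [semiMat_semiVec, semiMat_semiVec, hμ, hμ, sf_invariant]

variable [Finite F]

/-- conjugation by a semilinear similitude on `Sp` -/
noncomputable def semiSp (g : Cfsg.GSp m F) (σ : F ≃+* F) :
    Matrix.symplecticGroup (Fin m) F ≃* Matrix.symplecticGroup (Fin m) F :=
  MulEquiv.ofBijective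
    ({ toFun := fun s => ⟨semiMat g.1 σ (s : Mat m F), semiMat_mem g.2 σ s⟩
       map_one' := sp_ext fun x => by
        obtain ⟨x, rfl⟩ := semiVec_surjective g.1 σ x
        show semiMat _ _ _ *ᵥ _ = _
        rw [semiMat_semiVec]
        simp
       map_mul' := fun a b => sp_ext fun x => by
        obtain ⟨x, rfl⟩ := semiVec_surjective g.1 σ x
        show semiMat _ _ _ *ᵥ _ = (semiMat _ _ _ * semiMat _ _ _) *ᵥ _
        rw [semiMat_semiVec, ← Matrix.mulVec_mulVec, semiMat_semiVec, semiMat_semiVec,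
          Submonoid.coe_mul, ← Matrix.mulVec_mulVec] } :
      Matrix.symplecticGroup (Fin m) F →* Matrix.symplecticGroup (Fin m) F)
    (by
      have hinj : Function.Injective fun s : Matrix.symplecticGroup (Fin m) F =>
          (⟨semiMat g.1 σ (s : Mat m F), semiMat_mem g.2 σ s⟩ :
            Matrix.symplecticGroup (Fin m) F) := fun a b h => sp_ext fun x => by
        refine semiVec_injective g.1 σ ?_
        rw [← semiMat_semiVec, ← semiMat_semiVec, show semiMat g.1 σ (a : Mat m F) =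
          semiMat g.1 σ (b : Mat m F) from congrArg Subtype.val h]
      exact Finite.injective_iff_bijective.1 hinj)

theorem semiSp_coe (g : Cfsg.GSp m F) (σ : F ≃+* F) (s : Matrix.symplecticGroup (Fin m) F) :
    (semiSp g σ s : Mat m F) = semiMat g.1 σ (s : Mat m F) := rfl

theorem semiSp_semiVec (g : Cfsg.GSp m F) (σ : F ≃+* F) (s : Matrix.symplecticGroup (Fin m) F)
    (x : Fin m ⊕ Fin m → F) :
    (semiSp g σ s : Mat m F) *ᵥ semiVec g.1 σ x = semiVec g.1 σ ((s : Mat m F) *ᵥ x) :=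
  semiMat_semiVec _ _ _ _

omit [Finite F] in
theorem center_map_aut (e : Matrix.symplecticGroup (Fin m) F ≃* Matrix.symplecticGroup (Fin m) F) :
    (Subgroup.center (Matrix.symplecticGroup (Fin m) F)).map e.toMonoidHom =
      Subgroup.center (Matrix.symplecticGroup (Fin m) F) := by
  ext x
  rw [Subgroup.mem_map_equiv, Subgroup.mem_center_iff, Subgroup.mem_center_iff]
  exact ⟨fun h y => e.symm.injective (by simpa using h (e.symm y)),
    fun h y => e.injective (by simpa using h (e y))⟩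

/-- the automorphism of `PSp` induced by a semilinear similitude -/
noncomputable def semiPSp (g : Cfsg.GSp m F) (σ : F ≃+* F) : MulAut (Cfsg.PSp m F) :=
  QuotientGroup.congr _ _ (semiSp g σ) (center_map_aut _)

theorem semiPSp_psp (g : Cfsg.GSp m F) (σ : F ≃+* F) (s : Matrix.symplecticGroup (Fin m) F) :
    semiPSp g σ (psp s) = psp (semiSp g σ s) := rfl

theorem isInduced_semiPSp (g : Cfsg.GSp m F) (σ : F ≃+* F) :
    Cfsg.IsInducedBySemilinearPSp g.1 σ (semiPSp g σ) := fun s s' h =>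
  (semiPSp_psp g σ s).trans (congrArg psp (Subtype.ext ((semiSp_coe g σ s).trans h.symm)))

theorem eq_semiPSp_of_isInduced {g : GL (Fin m ⊕ Fin m) F} (hg : g ∈ Cfsg.GSp m F)
    {σ : F ≃+* F} {β : MulAut (Cfsg.PSp m F)} (h : Cfsg.IsInducedBySemilinearPSp g σ β) :
    β = semiPSp ⟨g, hg⟩ σ := MulEquiv.ext fun x => by
  obtain ⟨s, rfl⟩ := psp_surjective x
  rw [semiPSp_psp]
  exact h s _ (semiSp_coe ⟨g, hg⟩ σ s)

theorem semiSp_T (g : Cfsg.GSp m F) (σ : F ≃+* F) {μ : F} (hμ0 : μ ≠ 0)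
    (hμ : ∀ u v, Cfsg.sympForm m F (semiVec g.1 σ u) (semiVec g.1 σ v) =
      μ * σ (Cfsg.sympForm m F u v)) (v : Fin m ⊕ Fin m → F) (c : F) :
    semiSp g σ (T v c) = T (semiVec g.1 σ v) (σ c / μ) := sp_ext fun x => by
  obtain ⟨x, rfl⟩ := semiVec_surjective g.1 σ x
  rw [semiSp_semiVec, T_mulVec, T_mulVec, semiVec_add, semiVec_smul, hμ, map_mul]
  field_simp

omit [Finite F] in
theorem glMap_mem {g : GL (Fin m ⊕ Fin m) F} (hg : g ∈ Cfsg.GSp m F) (σ : F ≃+* F) :
    Units.map (σ.mapMatrix : Mat m F ≃+* Mat m F).toMonoidHom g ∈ Cfsg.GSp m F := by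
  obtain ⟨c, hc⟩ := hg
  refine ⟨Units.map σ.toMonoidHom c, fun u v => ?_⟩
  obtain ⟨u, rfl⟩ : ∃ u', sigVec σ u' = u := ⟨sigVec σ.symm u, funext fun i => σ.apply_symm_apply _⟩
  obtain ⟨v, rfl⟩ : ∃ v', sigVec σ v' = v := ⟨sigVec σ.symm v, funext fun i => σ.apply_symm_apply _⟩
  show Cfsg.sympForm m F (((g : Mat m F).map σ) *ᵥ _) (((g : Mat m F).map σ) *ᵥ _) = _
  rw [mulVec_sigVec, mulVec_sigVec, sf_sigVec, sf_sigVec, hc, map_mul]
  rfl

/-- the twist of a similitude by a field automorphism -/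
def gspMap (σ : F ≃+* F) (g : Cfsg.GSp m F) : Cfsg.GSp m F := ⟨_, glMap_mem g.2 σ⟩

omit [Finite F] in
theorem gspMap_coe (σ : F ≃+* F) (g : Cfsg.GSp m F) :
    ((gspMap σ g).1 : Mat m F) = (g.1 : Mat m F).map σ := rfl

omit [Finite F] in
theorem semiVec_comp (g h : Cfsg.GSp m F) (σ τ : F ≃+* F) (x : Fin m ⊕ Fin m → F) :
    semiVec g.1 σ (semiVec h.1 τ x) = semiVec (g * gspMap σ h).1 (τ.trans σ) x := by
  simp only [semiVec, Subgroup.coe_mul, Units.val_mul, gspMap_coe, ← Matrix.mulVec_mulVec]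
  rw [← mulVec_sigVec]
  rfl

theorem semiPSp_mul (g h : Cfsg.GSp m F) (σ τ : F ≃+* F) :
    semiPSp g σ * semiPSp h τ = semiPSp (g * gspMap σ h) (τ.trans σ) := MulEquiv.ext fun x => by
  obtain ⟨s, rfl⟩ := psp_surjective x
  rw [MulAut.mul_apply, semiPSp_psp, semiPSp_psp, semiPSp_psp]
  congr 1
  refine sp_ext fun y => ?_
  obtain ⟨y, rfl⟩ := semiVec_surjective (g * gspMap σ h).1 (τ.trans σ) y
  rw [semiSp_semiVec, ← semiVec_comp, ← semiVec_comp, semiSp_semiVec, semiSp_semiVec]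

theorem semiPSp_one : semiPSp (1 : Cfsg.GSp m F) (RingEquiv.refl F) = 1 := MulEquiv.ext fun x => by
  obtain ⟨s, rfl⟩ := psp_surjective x
  rw [semiPSp_psp, MulAut.one_apply]
  congr 1
  refine Subtype.ext ?_
  simp [semiSp_coe, semiMat]

theorem semiPSp_inv (g : Cfsg.GSp m F) (σ : F ≃+* F) :
    (semiPSp g σ)⁻¹ = semiPSp (gspMap σ.symm g⁻¹) σ.symm := by
  refine inv_eq_of_mul_eq_one_right ?_
  rw [semiPSp_mul, ← semiPSp_one]
  congr 1
  · refine Subtype.ext (Units.ext ?_)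
    rw [Subgroup.coe_mul, Units.val_mul, gspMap_coe, gspMap_coe, Matrix.map_map,
      show (⇑σ ∘ ⇑σ.symm) = id from funext σ.apply_symm_apply, Matrix.map_id, Subgroup.coe_inv,
      ← Units.val_mul, mul_inv_cancel]
    rfl
  · exact RingEquiv.ext fun a => σ.apply_symm_apply a

end Cfsg.Agent.Symplectic
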