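import Cfsg.Agent.Symplectic.HermSubBasic

/-! Unitary subfield structures: parameters and rational points. -/

set_option autoImplicit false

namespace Cfsg.Agent.Symplectic

open scoped MatrixGroups Matrix
open Matrix Cfsg.Agent.H95

variable {ι : Type} [Fintype ι] [DecidableEq ι] {F : Type*} [Field F]
  {σ : F ≃+* F} {f : (ι → F) → (ι → F) → F} {F₀ : Subfield F} {V : AddSubgroup (ι → F)}
  {M : Subgroup (GL ι F)}

namespace HSub

variable (H : HSub σ f F₀ V)
include H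

theorem pair_fix {P : (ι → F) →ₗ[F] (ι → F)} {k : ℕ} (h : H.IsProj P k) {e d : ι → F}
    (hPe : P e = e) (hPd : P d = d) {v : ι → F} (hv : H.projPair P e d v = v) : P v = v := by
  conv_lhs => rw [← hv, projPair_apply, map_sub, map_sub, map_smul, map_smul, h.2.2.1, hPe, hPd]
  exact hv

/-- `M` lies between the stabiliser of `V` and the special isometries -/
def Over (_H : HSub σ f F₀ V) (M : Subgroup (GL ι F)) : Prop :=
  M ≤ isoGrp f ⊓ Geo.specialLinear ι F ∧
    ∀ g ∈ isoGrp f ⊓ Geo.specialLinear ι F,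
      (∀ v ∈ V, (g : Matrix ι ι F) *ᵥ v ∈ V) → g ∈ M

/-- transvection parameters of `M` at the rational vectors -/
def Par (H : HSub σ f F₀ V) (M : Subgroup (GL ι F)) (a : F) : Prop :=
  σ a = -a ∧ ∀ v ∈ V, f v v = 0 → ut H.herm v a ∈ M

/-- rational points -/
def RatPt (_H : HSub σ f F₀ V) (w : ι → F) : Prop := ∃ c : F, c ≠ 0 ∧ c • w ∈ V

variable (hO : H.Over M)
include hO

theorem iso_of_mem {g : GL ι F} (hg : g ∈ M) : g ∈ isoGrp f := (hO.1 hg).1

theorem ut_rat {v : ι → F} (hv : v ∈ V) (h : f v v = 0) {a : F} (haF : a ∈ F₀) (ha : σ a = -a) :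
    ut H.herm v a ∈ M :=
  hO.2 _ ⟨ut_mem_iso H.herm h ha, ut_mem_sl H.herm v a⟩ fun x hx => by
    rw [ut_mulVec H.herm h]
    exact V.add_mem hx (H.smul _ (F₀.mul_mem haF (H.rat x hx v hv)) v hv)

theorem par_rat {a : F} (haF : a ∈ F₀) (ha : σ a = -a) : H.Par M a :=
  ⟨ha, fun _ hv h => H.ut_rat hO hv h haF ha⟩

theorem uh_rat {u v : ι → F} (hu : u ∈ V) (hv : v ∈ V) {c : F} (hc : c ∈ F₀) :
    uh H.herm u v c ∈ M := by
  refine hO.2 _ ⟨uh_mem_iso H.herm u v c, uh_mem_sl H.herm u v c⟩ fun x hx => ?_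
  by_cases h : OrthIso H.herm u v
  · rw [uh_mulVec H.herm h]
    exact V.sub_mem (V.add_mem hx (H.smul _ (F₀.mul_mem hc (H.rat x hx u hu)) v hv))
      (H.smul _ (F₀.mul_mem (H.stable c hc) (H.rat x hx v hv)) u hu)
  · rw [uh, dif_neg h, Units.val_one, one_mulVec]; exact hx

theorem ue_rat {e d : ι → F} (he : e ∈ V) (hd : d ∈ V) {t : F} (ht : t ∈ F₀)
    (h : EichOK H.herm e d t) : ue H.herm e d t ∈ M := by
  refine hO.2 _ ⟨ue_mem_iso H.herm h, ue_mem_sl H.herm e d t⟩ fun x hx => ?_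
  rw [ue_mulVec H.herm h]
  exact V.add_mem (V.add_mem hx (H.smul _ (H.rat x hx e he) d hd))
    (H.smul _ (F₀.sub_mem (F₀.mul_mem ht (H.rat x hx e he)) (H.rat x hx d hd)) e he)

/-- exact transitivity by Eichler elements -/
theorem exists_move {x y e : ι → F} (hx : x ∈ V) (hy : y ∈ V) (he : e ∈ V) (hxx : f x x = 0)
    (hyy : f y y = 0) (hee : f e e = 0) (hxe : f x e = 1) (hye : f y e = 1) :
    ∃ g ∈ M, (g : Matrix ι ι F) *ᵥ x = y := by
  have hf := H.herm
  have h : EichOK hf e (y - x) (f x (y - x)) := by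
    refine ⟨hee, by rw [u_sub_left hf, hye, hxe, sub_self], ?_⟩
    simp only [u_sub_right hf, u_sub_left hf, hxx, hyy, map_sub, map_zero, u_conj hf]
    ring
  refine ⟨_, H.ue_rat hO he (V.sub_mem hy hx) (H.rat x hx _ (V.sub_mem hy hx)) h, ?_⟩
  rw [ue_mulVec hf h, hxe]
  module

theorem exists_trans (hn : 6 ≤ Fintype.card ι) {v w : ι → F} (hv : H.Iso0 v) (hw : H.Iso0 w) :
    ∃ g ∈ M, (g : Matrix ι ι F) *ᵥ w = v := by
  have hf := H.herm
  obtain ⟨e, he, hee, -, we⟩ := H.partner hw.1 hw.2.1 hw.2.2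
  obtain ⟨e₂, he₂, hee₂, hev₂, ve₂⟩ : ∃ e₂ ∈ V, f e₂ e₂ = 0 ∧ (∀ t : F, e₂ ≠ t • e) ∧
      f v e₂ = 1 := by
    obtain ⟨d, hd, dd, dv', vd⟩ := H.partner hv.1 hv.2.1 hv.2.2
    by_cases h : ∀ t : F, d ≠ t • e
    · exact ⟨d, hd, dd, h, vd⟩
    push Not at h
    obtain ⟨t, ht⟩ := h
    obtain ⟨s, hs, hs0, hss⟩ := H.skew
    refine ⟨d + s • v, V.add_mem hd (H.smul s hs v hv.1), ?_, fun t' ht' => ?_,
      by rw [u_add_right hf, u_smul_right hf, vd, hv.2.2]; ring⟩
    · simp only [u_add_left hf, u_add_right hf, u_smul_left hf, u_smul_right hf, dd, hv.2.2, dv',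
        vd, hss]
      ring
    · have h1 : s • v = (t' - t) • e := by rw [sub_smul, ← ht', ← ht]; abel
      have h2 : v = (s⁻¹ * (t' - t)) • e := by rw [mul_smul, ← h1, inv_smul_smul₀ hs0]
      have h3 : f v d = 0 := by
        rw [h2, ht, u_smul_left hf, u_smul_right hf, hee]; ring
      rw [vd] at h3
      exact one_ne_zero h3
  obtain ⟨z, hz, hzz, ze, ze₂⟩ : ∃ z ∈ V, f z z = 0 ∧ f z e = 1 ∧ f z e₂ = 1 := by
    by_cases h : f e₂ e = 0
    · have dual : ∀ a b : ι → F, a ∈ V → b ∈ V → f b b = 0 → (∀ t : F, a ≠ t • b) →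
          b ≠ 0 → ∃ z ∈ V, f z b = 0 ∧ f z a = 1 := by
        intro a b ha hb hbb hab hb0
        obtain ⟨d, hd, -, db, -⟩ := H.partner hb hb0 hbb
        have hne : a - σ (f d a) • b ≠ 0 := fun e => hab _ (sub_eq_zero.1 e)
        obtain ⟨y, hy, hya⟩ := H.exists_ne hne
        set y' := y - f y b • d with hy'
        have y'V : y' ∈ V := V.sub_mem hy (H.smul _ (H.rat y hy b hb) d hd)
        have hy'b : f y' b = 0 := by rw [hy', u_sub_left hf, u_smul_left hf, db]; ring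
        have hy'a : f y' a ≠ 0 := by
          rw [u_sub_right hf, u_smul_right hf, u_inv hf] at hya
          rw [hy', u_sub_left hf, u_smul_left hf, mul_comm]
          exact hya
        exact ⟨(f y' a)⁻¹ • y', H.smul _ (F₀.inv_mem (H.rat _ y'V a ha)) _ y'V,
          by rw [u_smul_left hf, hy'b, mul_zero],
          by rw [u_smul_left hf, inv_mul_cancel₀ hy'a]⟩
      have he0 : e ≠ 0 := fun h0 => by rw [h0, u_zero_right hf] at we; exact zero_ne_one we
      have he₂0 : e₂ ≠ 0 := fun h0 => by rw [h0, u_zero_right hf] at ve₂; exact zero_ne_one ve₂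
      obtain ⟨z₂, hz₂, a1, a2⟩ := dual e₂ e he₂ he hee hev₂ he0
      obtain ⟨z₁, hz₁, b1, b2⟩ := dual e e₂ he he₂ hee₂ (fun t ht => by
        rcases eq_or_ne t 0 with rfl | ht0
        · exact he0 (by rw [ht, zero_smul])
        · exact hev₂ t⁻¹ (by rw [ht, inv_smul_smul₀ ht0])) he₂0
      set z₀ := z₁ + z₂ with hz₀
      have c1 : f z₀ e = 1 := by rw [hz₀, u_add_left hf, b2, a1, add_zero]
      have c2 : f z₀ e₂ = 1 := by rw [hz₀, u_add_left hf, b1, a2, zero_add]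
      have c3 : f e z₀ = 1 := by rw [← u_conj hf, c1, map_one]
      have z₀V : z₀ ∈ V := V.add_mem hz₁ hz₂
      obtain ⟨t, ht, ht1⟩ := H.trace_rat (F₀.neg_mem (H.rat z₀ z₀V z₀ z₀V)) (H.neg_self_fix z₀)
      clear_value z₀
      refine ⟨z₀ + t • e, V.add_mem z₀V (H.smul t ht e he), ?_, ?_, ?_⟩
      · simp only [u_add_left hf, u_add_right hf, u_smul_left hf, u_smul_right hf, hee, c1, c3]
        linear_combination ht1
      · rw [u_add_left hf, u_smul_left hf, hee, c1]; ring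
      · rw [u_add_left hf, u_smul_left hf, u_symm_zero hf h, c2]; ring
    · have h' : f e e₂ ≠ 0 := fun h0 => h (u_symm_zero hf h0)
      have hd : (f e₂ e)⁻¹ • e₂ ∈ V := H.smul _ (F₀.inv_mem (H.rat _ he₂ _ he)) _ he₂
      have hP := H.isProj_pair he hd hee
        (by rw [u_smul_left hf, u_smul_right hf, hee₂]; ring)
        (by rw [u_smul_left hf, inv_mul_cancel₀ h])
      obtain ⟨x, hx, Px, hxx⟩ := hP.exists_aniso H (by omega)
      obtain ⟨xe, xd⟩ := H.projPair_perp LinearMap.id hee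
        (d := (f e₂ e)⁻¹ • e₂) (by rw [u_smul_left hf, u_smul_right hf, hee₂]; ring)
        (by rw [u_smul_left hf, inv_mul_cancel₀ h]) x
      rw [Px] at xe xd
      have xe₂ : f x e₂ = 0 := by
        rw [u_smul_right hf, mul_eq_zero] at xd
        exact xd.resolve_left fun h0 => inv_ne_zero h ((map_eq_zero_iff σ σ.injective).1 h0)
      set z₀ := (f e e₂)⁻¹ • e + (f e₂ e)⁻¹ • e₂ with hz₀
      have z₀V : z₀ ∈ V :=
        V.add_mem (H.smul _ (F₀.inv_mem (H.rat e he e₂ he₂)) e he) hd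
      have hr : σ (-f z₀ z₀ / f x x) = -f z₀ z₀ / f x x := by
        rw [map_div₀, H.neg_self_fix, u_conj hf]
      obtain ⟨c, hc, hc1⟩ := H.norm _
        (F₀.div_mem (F₀.neg_mem (H.rat z₀ z₀V z₀ z₀V)) (H.rat x hx x hx)) hr
      have c1 : f z₀ e = 1 := by
        rw [hz₀, u_add_left hf, u_smul_left hf, u_smul_left hf, hee, mul_zero, zero_add,
          inv_mul_cancel₀ h]
      have c2 : f z₀ e₂ = 1 := by
        rw [hz₀, u_add_left hf, u_smul_left hf, u_smul_left hf, hee₂, mul_zero, add_zero,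
          inv_mul_cancel₀ h']
      have c3 : f z₀ x = 0 := by
        rw [hz₀, u_add_left hf, u_smul_left hf, u_smul_left hf, u_symm_zero hf xe,
          u_symm_zero hf xe₂]; ring
      clear_value z₀
      refine ⟨z₀ + c • x, V.add_mem z₀V (H.smul c hc x hx), ?_,
        by rw [u_add_left hf, u_smul_left hf, xe, c1]; ring,
        by rw [u_add_left hf, u_smul_left hf, xe₂, c2]; ring⟩
      simp only [u_add_left hf, u_add_right hf, u_smul_left hf, u_smul_right hf, c3,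
        u_symm_zero hf c3, mul_zero, add_zero, zero_add]
      rw [← mul_assoc, hc1, div_mul_cancel₀ _ hxx, add_neg_cancel]
  obtain ⟨g1, g1M, e1⟩ := H.exists_move hO hw.1 hz he hw.2.2 hzz hee we ze
  obtain ⟨g2, g2M, e2⟩ := H.exists_move hO hz hv.1 he₂ hzz hv.2.2 hee₂ ze₂ ve₂
  exact ⟨g2 * g1, M.mul_mem g2M g1M, by rw [mul_mulVec, e1, e2]⟩

theorem par_of_one (hn : 6 ≤ Fintype.card ι) {w : ι → F} (hw : H.Iso0 w) {a : F}
    (ha : σ a = -a) (h : ut H.herm w a ∈ M) : H.Par M a := by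
  refine ⟨ha, fun v hv hvv => ?_⟩
  rcases eq_or_ne v 0 with rfl | hv0
  · convert M.one_mem
    exact gl_ext fun x => by rw [ut_mulVec H.herm hvv]; simp
  obtain ⟨g, gM, rfl⟩ := H.exists_trans hO hn ⟨hv, hv0, hvv⟩ hw
  rw [← conj_ut H.herm (H.iso_of_mem hO gM) hw.2.2]
  exact M.mul_mem (M.mul_mem gM h) (M.inv_mem gM)

/-- a rational vector orthogonal to a moved one gives new parameters -/
theorem par_of_orth (hn : 6 ≤ Fintype.card ι) {h : GL ι F} (hh : h ∈ M) {v u e : ι → F}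
    (hv : H.Iso0 v) (hu : H.Iso0 u) (hwu : f ((h : Matrix ι ι F) *ᵥ v) u = 0) (he : e ∈ V)
    (hee : f e e = 0) (heu : f e u = 0) {a : F} (ha : H.Par M a) :
    H.Par M (a * (f ((h : Matrix ι ι F) *ᵥ v) e * σ (f ((h : Matrix ι ι F) *ᵥ v) e))) := by
  have hf := H.herm
  have hhi := H.iso_of_mem hO hh
  set w := (h : Matrix ι ι F) *ᵥ v with hw
  have hww : f w w = 0 := by rw [hw, mem_isoGrp.1 hhi, hv.2.2]
  have hX : ut hf w a ∈ M := by
    rw [hw, ← conj_ut hf hhi hv.2.2]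
    exact M.mul_mem (M.mul_mem hh (ha.2 v hv.1 hv.2.2)) (M.inv_mem hh)
  set β := f w e with hβ
  have hOI : OrthIso hf e u := ⟨hee, hu.2.2, heu⟩
  have hWU : OrthIso hf w u := ⟨hww, hu.2.2, hwu⟩
  have E : ∀ c ∈ F₀, ut hf u (a * (c * β * σ (c * β))) * uh hf w u (a * (c * β)) ∈ M := by
    intro c hc
    have h1 := M.mul_mem (M.inv_mem hX) (M.mul_mem (M.mul_mem (H.uh_rat hO he hu.1 hc) hX)
      (M.inv_mem (H.uh_rat hO he hu.1 hc)))
    have ew : (uh hf e u c : Matrix ι ι F) *ᵥ w = w + (c * β) • u := by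
      rw [uh_mulVec hf hOI, hwu, ← hβ, mul_zero, zero_smul, sub_zero]
    rw [conj_ut hf (uh_mem_iso hf e u c) hww, ew, ut_inv hf hww] at h1
    convert h1 using 1
    have hww' : f (w + (c * β) • u) (w + (c * β) • u) = 0 := by
      simp only [u_add_left hf, u_add_right hf, u_smul_left hf, u_smul_right hf, hww, hu.2.2, hwu,
        u_symm_zero hf hwu]
      ring
    refine gl_ext fun x => ?_
    simp only [mul_mulVec, ut_mulVec hf hww, ut_mulVec hf hu.2.2, ut_mulVec hf hww',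
      uh_mulVec hf hWU, u_add_left hf, u_add_right hf, u_sub_left hf, u_smul_left hf,
      u_smul_right hf, hww, hu.2.2, hwu, u_symm_zero hf hwu, map_mul, ha.1]
    module
  obtain ⟨l, hl, hl1⟩ := H.tr
  have hβskew : σ (a * (β * σ β)) = -(a * (β * σ β)) := by
    rw [map_mul, map_mul, u_inv hf, ha.1]; ring
  refine H.par_of_one hO hn hu hβskew ?_
  have h1 := M.mul_mem (E (l + 1) (F₀.add_mem hl F₀.one_mem))
    (M.inv_mem (M.mul_mem (E l hl) (E 1 F₀.one_mem)))
  simp only [_root_.mul_inv_rev, ut_inv hf hu.2.2, uh_inv hf hWU] at h1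
  convert h1 using 1
  refine gl_ext fun x => ?_
  simp only [mul_mulVec, ut_mulVec hf hu.2.2, uh_mulVec hf hWU, u_add_left hf, u_sub_left hf,
    u_smul_left hf, hww, hu.2.2, hwu, u_symm_zero hf hwu, map_mul, map_add, map_neg, map_one, ha.1]
  match_scalars <;>
    first
    | ring1
    | linear_combination (a * f x u * β * σ β) * hl1
    | linear_combination -(a * f x u * β * σ β) * hl1

variable (hA : ∀ a, H.Par M a → a ∈ F₀)
include hA

theorem norm_rat (hn : 6 ≤ Fintype.card ι) {h : GL ι F} (hh : h ∈ M) {v u e : ι → F}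
    (hv : H.Iso0 v) (hu : H.Iso0 u) (hwu : f ((h : Matrix ι ι F) *ᵥ v) u = 0) (he : e ∈ V)
    (hee : f e e = 0) (heu : f e u = 0) :
    f ((h : Matrix ι ι F) *ᵥ v) e * σ (f ((h : Matrix ι ι F) *ᵥ v) e) ∈ F₀ := by
  obtain ⟨s, hs, hs0, hss⟩ := H.skew
  have := F₀.div_mem (hA _ (H.par_of_orth hO hn hh hv hu hwu he hee heu (H.par_rat hO hs hss))) hs
  rwa [mul_div_cancel_left₀ _ hs0] at this

theorem ratio_rat (hn : 6 ≤ Fintype.card ι) {h : GL ι F} (hh : h ∈ M) {v u e e₂ : ι → F}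
    (hv : H.Iso0 v) (hu : H.Iso0 u) (hwu : f ((h : Matrix ι ι F) *ᵥ v) u = 0) (he : e ∈ V)
    (hee : f e e = 0) (heu : f e u = 0) (he₂ : e₂ ∈ V) (hee₂ : f e₂ e₂ = 0) (heu₂ : f e₂ u = 0)
    (hne : f ((h : Matrix ι ι F) *ᵥ v) e ≠ 0) :
    f ((h : Matrix ι ι F) *ᵥ v) e₂ / f ((h : Matrix ι ι F) *ᵥ v) e ∈ F₀ := by
  have hf := H.herm
  have N := fun {e : ι → F} (he : e ∈ V) (hee : f e e = 0) (heu : f e u = 0) =>
    H.norm_rat hO hA hn hh hv hu hwu he hee heu
  set w := (h : Matrix ι ι F) *ᵥ v with hw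
  set b := f w e with hb
  set b₂ := f w e₂ with hb₂
  obtain ⟨t, htF, ht0, ht⟩ : ∃ t ∈ F₀, t ≠ 0 ∧ σ (σ t * f e e₂) = -(σ t * f e e₂) := by
    by_cases h0 : f e e₂ = 0
    · exact ⟨1, F₀.one_mem, one_ne_zero, by rw [h0, mul_zero, map_zero, neg_zero]⟩
    obtain ⟨s, hs, hs0, hss⟩ := H.skew
    refine ⟨σ (s / f e e₂), H.stable _ (F₀.div_mem hs (H.rat e he e₂ he₂)), ?_, ?_⟩
    · exact fun h1 => div_ne_zero hs0 h0 ((map_eq_zero_iff σ σ.injective).1 h1)
    · rw [u_inv hf, div_mul_cancel₀ _ h0, hss]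
  rw [map_mul, u_inv hf, u_conj hf] at ht
  have h3 : f (e + t • e₂) (e + t • e₂) = 0 := by
    simp only [u_add_left hf, u_add_right hf, u_smul_left hf, u_smul_right hf, hee, hee₂]
    linear_combination ht
  have N3 := N (V.add_mem he (H.smul t htF e₂ he₂)) h3
    (by rw [u_add_left hf, u_smul_left hf, heu, heu₂]; ring)
  rw [u_add_right hf, u_smul_right hf, ← hb, ← hb₂, map_add, map_mul, u_inv hf] at N3
  have N1 := N he hee heu
  have N2 := N he₂ hee₂ heu₂
  rw [← hb] at N1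
  rw [← hb₂] at N2
  set z := t * b * σ b₂ with hz
  have hzmem : z ∈ F₀ := by
    refine H.quad z ?_ ?_
    · have := F₀.sub_mem (F₀.sub_mem N3 N1) (F₀.mul_mem (F₀.mul_mem htF (H.stable t htF)) N2)
      convert this using 1
      rw [hz, map_mul, map_mul, u_inv hf]
      ring
    · have := F₀.mul_mem (F₀.mul_mem htF (H.stable t htF)) (F₀.mul_mem N1 N2)
      convert this using 1
      rw [hz, map_mul, map_mul, u_inv hf]
      ring
  have := F₀.div_mem (H.stable _ (F₀.div_mem hzmem htF)) N1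
  convert this using 1
  rw [hz, mul_assoc, mul_div_cancel_left₀ _ ht0, map_mul, u_inv hf, mul_comm (σ b),
    mul_div_mul_right _ _ fun h => hne ((map_eq_zero_iff σ σ.injective).1 h)]

/-- If no new parameters occur, then moved points orthogonal to rational ones are rational. -/
theorem orth_rational (hn : 7 ≤ Fintype.card ι) {h : GL ι F} (hh : h ∈ M) {v u : ι → F}
    (hv : H.Iso0 v) (hu : H.Iso0 u) (hwu : f ((h : Matrix ι ι F) *ᵥ v) u = 0) :
    H.RatPt ((h : Matrix ι ι F) *ᵥ v) := by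
  have hf := H.herm
  have hhi := H.iso_of_mem hO hh
  have ratio := fun {u e e₂ : ι → F} (hu : H.Iso0 u)
      (hwu : f ((h : Matrix ι ι F) *ᵥ v) u = 0) (he : e ∈ V) (hee : f e e = 0) (heu : f e u = 0)
      (he₂ : e₂ ∈ V) (hee₂ : f e₂ e₂ = 0) (heu₂ : f e₂ u = 0) =>
    H.ratio_rat hO hA (by omega) hh hv hu hwu he hee heu he₂ hee₂ heu₂
  set w := (h : Matrix ι ι F) *ᵥ v with hw
  have hww : f w w = 0 := by rw [hw, mem_isoGrp.1 hhi, hv.2.2]
  obtain ⟨c, hc, hcv⟩ : ∃ c : F, c ≠ 0 ∧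
      ∀ y ∈ V, f y u = 0 → f (c • w) y ∈ F₀ := by
    obtain ⟨c, hc, hcs⟩ : ∃ c : F, c ≠ 0 ∧
        ∀ y, H.Iso0 y → f y u = 0 → c * f w y ∈ F₀ := by
      by_cases h0 : ∃ e, H.Iso0 e ∧ f e u = 0 ∧ f w e ≠ 0
      · obtain ⟨e, he, heu, hne⟩ := h0
        refine ⟨(f w e)⁻¹, inv_ne_zero hne, fun y hy hyu => ?_⟩
        rw [← div_eq_inv_mul]
        exact ratio hu hwu he.1 he.2.2 heu hy.1 hy.2.2 hyu hne
      · push Not at h0
        exact ⟨1, one_ne_zero, fun y hy hyu => by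
          rw [h0 y hy hyu, mul_zero]; exact F₀.zero_mem⟩
    refine ⟨c, hc, fun y hy hyu => ?_⟩
    let D : AddSubgroup (ι → F) :=
      { carrier := {y | c * f w y ∈ F₀}
        add_mem' := fun {p q} hp hq => by
          show c * f w (p + q) ∈ F₀
          rw [u_add_right hf, mul_add]; exact F₀.add_mem hp hq
        zero_mem' := by
          show c * f w 0 ∈ F₀
          rw [u_zero_right hf, mul_zero]; exact F₀.zero_mem
        neg_mem' := fun {p} hp => by
          show c * f w (-p) ∈ F₀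
          rw [u_neg_right hf, mul_neg]; exact F₀.neg_mem hp }
    rw [u_smul_left hf]
    exact H.gen_perp (by omega) hu D hcs hy hyu
  set w' := c • w with hw'
  have w'w' : f w' w' = 0 := by rw [hw', u_smul_left hf, u_smul_right hf, hww]; ring
  have w'u : f w' u = 0 := by rw [hw', u_smul_left hf, hwu, mul_zero]
  obtain ⟨a, ha, haa, hau, hua⟩ := H.partner hu.1 hu.2.1 hu.2.2
  have hP := H.isProj_pair hu.1 ha hu.2.2 haa hau
  set P := H.projPair LinearMap.id u a with hPdef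
  have Pu : ∀ x, f (P x) u = 0 := fun x => (H.projPair_perp _ hu.2.2 haa hau x).1
  have Pa : ∀ x, f (P x) a = 0 := fun x => (H.projPair_perp _ hu.2.2 haa hau x).2
  set α := f w' a with hα
  set y := P w' with hy
  have yV : y ∈ V := H.mem_of_dual fun z hz => by
    rw [hy, hP.2.1, ← hP.left H]; exact hcv _ (hP.1 z hz) (Pu z)
  have hsplit : w' = y + α • u := by
    rw [hy, hPdef, projPair_apply, LinearMap.id_apply, w'u, hα, zero_smul, sub_zero,
      sub_add_cancel]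
  have yu : f y u = 0 := Pu w'
  have ya : f y a = 0 := Pa w'
  have fin : α ∈ F₀ → H.RatPt w := fun hαF => ⟨c, hc, by
    rw [← hw', hsplit]; exact V.add_mem yV (H.smul α hαF u hu.1)⟩
  rcases eq_or_ne y 0 with hy0 | hy0
  · rw [hy0, zero_add] at hsplit
    have hα0 : α ≠ 0 := by
      intro h0
      rw [h0, zero_smul, hw', smul_eq_zero] at hsplit
      have := hsplit.resolve_left hc
      exact hv.2.1 (by rw [← inv_mulVec_mulVec h v, ← hw, this, mulVec_zero])
    exact ⟨α⁻¹ * c, mul_ne_zero (inv_ne_zero hα0) hc,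
      by rw [mul_smul, ← hw', hsplit, inv_smul_smul₀ hα0]; exact hu.1⟩
  have yy : f y y = 0 := by
    rw [hsplit] at w'w'
    simp only [u_add_left hf, u_add_right hf, u_smul_left hf, u_smul_right hf, yu,
      u_symm_zero hf yu, hu.2.2, mul_zero, add_zero] at w'w'
    exact w'w'
  have Py : P y = y := hP.2.2.1 w'
  obtain ⟨d, hd, -, dy, -⟩ := H.partner yV hy0 yy
  obtain ⟨e, he, hee, hey, Pe⟩ : ∃ e ∈ V, f e e = 0 ∧ f e y = 1 ∧ P e = e := by
    have d1 : f (P d) y = 1 := by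
      have := hP.left H d y
      rw [Py] at this
      rw [← this, dy]
    have d2 : f y (P d) = 1 := by rw [← u_conj hf, d1, map_one]
    obtain ⟨t, ht, ht1⟩ := H.trace_rat
      (F₀.neg_mem (H.rat _ (hP.1 d hd) _ (hP.1 d hd))) (H.neg_self_fix (P d))
    refine ⟨P d + t • y, V.add_mem (hP.1 d hd) (H.smul t ht y yV), ?_, ?_, ?_⟩
    · simp only [u_add_left hf, u_add_right hf, u_smul_left hf, u_smul_right hf, d1, d2, yy]
      linear_combination ht1
    · rw [u_add_left hf, u_smul_left hf, d1, yy]; ring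
    · rw [map_add, map_smul, hP.2.2.1, Py]
  have hP₂ := hP.pair H yV he Py Pe yy hee hey
  obtain ⟨u₂, hu₂, Pu₂⟩ := hP₂.exists_iso H (by omega)
  have u₂y : f u₂ y = 0 := by rw [← Pu₂]; exact (H.projPair_perp P yy hee hey u₂).1
  have u₂e : f u₂ e = 0 := by rw [← Pu₂]; exact (H.projPair_perp P yy hee hey u₂).2
  have Pu₂' := H.pair_fix hP Py Pe Pu₂
  have u₂u : f u₂ u = 0 := by rw [← Pu₂']; exact Pu u₂
  have u₂a : f u₂ a = 0 := by rw [← Pu₂']; exact Pa u₂
  have w'u₂ : f w' u₂ = 0 := by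
    rw [hsplit, u_add_left hf, u_smul_left hf, u_symm_zero hf u₂y, u_symm_zero hf u₂u]; ring
  have wu₂ : f w u₂ = 0 := by
    rw [hw', u_smul_left hf, mul_eq_zero] at w'u₂; exact w'u₂.resolve_left hc
  have eu : f e u = 0 := by rw [← Pe]; exact Pu e
  have w'e : f w' e = 1 := by
    rw [hsplit, u_add_left hf, u_smul_left hf, u_symm_zero hf eu, ← u_conj hf e y, hey, map_one]
    ring
  have we : f w e ≠ 0 := fun h0 => by
    rw [hw', u_smul_left hf, h0, mul_zero] at w'e; exact zero_ne_one w'e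
  have := ratio hu₂ wu₂ he hee (u_symm_zero hf u₂e) ha haa (u_symm_zero hf u₂a) we
  apply fin
  rw [← mul_div_mul_left _ _ hc, ← u_smul_left hf, ← u_smul_left hf, ← hw', w'e, div_one] at this
  exact this

theorem rational_all (hn : 7 ≤ Fintype.card ι) {h : GL ι F} (hh : h ∈ M) {v v' : ι → F}
    (hv : H.Iso0 v) (hv' : H.Iso0 v') (hr : H.RatPt ((h : Matrix ι ι F) *ᵥ v)) :
    H.RatPt ((h : Matrix ι ι F) *ᵥ v') := by
  have hf := H.herm
  have hhi := H.iso_of_mem hO hh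
  have step : ∀ {a b : ι → F}, H.Iso0 a → H.Iso0 b → f b a = 0 →
      H.RatPt ((h : Matrix ι ι F) *ᵥ a) → H.RatPt ((h : Matrix ι ι F) *ᵥ b) := by
    intro a b ha hb hba ⟨c, hc, hca⟩
    refine H.orth_rational hO hA hn hh hb (u := c • ((h : Matrix ι ι F) *ᵥ a))
      ⟨hca, smul_ne_zero hc fun h0 => ha.2.1 ?_, ?_⟩ ?_
    · rw [← inv_mulVec_mulVec h a, h0, mulVec_zero]
    · rw [u_smul_left hf, u_smul_right hf, mem_isoGrp.1 hhi, ha.2.2]; ring
    · rw [u_smul_right hf, mem_isoGrp.1 hhi, hba, mul_zero]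
  by_cases h0 : f v' v = 0
  · exact step hv hv' h0 hr
  set d := (f v' v)⁻¹ • v' with hd
  have dd : f d d = 0 := by rw [hd, u_smul_left hf, u_smul_right hf, hv'.2.2]; ring
  have dv' : f d v = 1 := by rw [hd, u_smul_left hf, inv_mul_cancel₀ h0]
  have hP := H.isProj_pair hv.1 (H.smul _ (F₀.inv_mem (H.rat v' hv'.1 v hv.1)) v' hv'.1) hv.2.2
    dd dv'
  obtain ⟨u, hu, Pu⟩ := hP.exists_iso H (by omega)
  obtain ⟨uv, ud⟩ := H.projPair_perp LinearMap.id hv.2.2 dd dv' u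
  rw [Pu] at uv ud
  have uv' : f v' u = 0 := by
    rw [hd, u_smul_right hf, mul_eq_zero] at ud
    exact u_symm_zero hf
      (ud.resolve_left fun h1 => inv_ne_zero h0 ((map_eq_zero_iff σ σ.injective).1 h1))
  exact step hu hv' uv' (step hv hu uv hr)

omit hA in
/-- An element moving all rational points to rational points stabilises `V` up to a scalar. -/
theorem exists_scalar (hn : 7 ≤ Fintype.card ι) {g : GL ι F} (hg : g ∈ M)
    (hr : ∀ v, H.Iso0 v → H.RatPt ((g : Matrix ι ι F) *ᵥ v)) :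
    ∃ c : F, c ≠ 0 ∧ ∀ v ∈ V, c • ((g : Matrix ι ι F) *ᵥ v) ∈ V := by
  have hf := H.herm
  have hgi := H.iso_of_mem hO hg
  obtain ⟨v₀, hv₀, -⟩ := H.isProj_id.exists_iso H (by omega)
  obtain ⟨c₀, hc₀, hc₀v⟩ := hr v₀ hv₀
  refine ⟨c₀, hc₀, fun y hy => ?_⟩
  let D : AddSubgroup (ι → F) :=
    { carrier := {y | c₀ • ((g : Matrix ι ι F) *ᵥ y) ∈ V}
      add_mem' := fun {p q} hp hq => by
        show _ • (_ *ᵥ (p + q)) ∈ V
        rw [mulVec_add, smul_add]; exact V.add_mem hp hq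
      zero_mem' := by
        show _ • (_ *ᵥ (0 : ι → F)) ∈ V
        rw [mulVec_zero, smul_zero]; exact V.zero_mem
      neg_mem' := fun {p} hp => by
        show _ • (_ *ᵥ (-p)) ∈ V
        rw [mulVec_neg, smul_neg]; exact V.neg_mem hp }
  refine H.gen_near hv₀ D (fun c hc => ?_) (fun v hv hne => ?_) hy
  · show _ • (_ *ᵥ (c • v₀)) ∈ V
    rw [mulVec_smul, smul_comm]
    exact H.smul c hc _ hc₀v
  obtain ⟨c, hc, hcv⟩ := hr v hv
  have hne' : f v₀ v ≠ 0 := fun h => hne (u_symm_zero hf h)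
  obtain ⟨s, hs, hs0, hss⟩ := H.skew
  set t := σ (s / f v₀ v) with ht
  have htF : t ∈ F₀ := H.stable _ (F₀.div_mem hs (H.rat v₀ hv₀.1 v hv.1))
  have ht0 : t ≠ 0 := fun h => div_ne_zero hs0 hne' ((map_eq_zero_iff σ σ.injective).1 h)
  have hts : σ t * f v₀ v = s := by rw [ht, u_inv hf, div_mul_cancel₀ _ hne']
  set v₃ := v₀ + t • v with hv₃
  have h3v : f v₃ v = f v₀ v := by rw [hv₃, u_add_left hf, u_smul_left hf, hv.2.2]; ring
  have hv₃i : H.Iso0 v₃ := by
    refine ⟨V.add_mem hv₀.1 (H.smul t htF v hv.1), fun h0 => hne' ?_, ?_⟩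
    · rw [← h3v, h0, u_zero_left hf]
    · have h1 := congrArg σ hts
      rw [map_mul, u_inv hf, u_conj hf, hss] at h1
      simp only [hv₃, u_add_left hf, u_add_right hf, u_smul_left hf, u_smul_right hf, hv.2.2,
        hv₀.2.2]
      linear_combination hts + h1
  obtain ⟨c₃, hc₃, hc₃v⟩ := hr v₃ hv₃i
  have r1 := F₀.div_mem (H.rat _ hc₃v _ hcv) (H.rat _ hc₀v _ hcv)
  have r2 := F₀.div_mem (F₀.div_mem (H.rat _ hc₃v _ hc₀v) (H.rat _ hcv _ hc₀v)) htF
  simp only [u_smul_left hf, u_smul_right hf, mem_isoGrp.1 hgi] at r1 r2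
  simp only [hv₃, u_add_left hf, u_smul_left hf, hv.2.2, hv₀.2.2, mul_zero, add_zero,
    zero_add] at r1 r2
  have hσc : σ c ≠ 0 := fun h => hc ((map_eq_zero_iff σ σ.injective).1 h)
  have hσc₀ : σ c₀ ≠ 0 := fun h => hc₀ ((map_eq_zero_iff σ σ.injective).1 h)
  have hv0' : f v v₀ ≠ 0 := hne
  have key : c₀ / c ∈ F₀ := by
    have := F₀.div_mem r2 r1
    convert this using 1
    field_simp
  have := H.smul _ key _ hcv
  rwa [smul_smul, div_mul_cancel₀ _ hc] at this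

end HSub

end Cfsg.Agent.Symplectic
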