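import Cfsg.Agent.Symplectic.InvolTwoCount
import Cfsg.Agent.Symplectic.OrthTwoParity
import Cfsg.Agent.Orthogonal.StdForms

/-! Involutions of the orthogonal groups in characteristic two. -/

set_option autoImplicit false
set_option maxHeartbeats 1000000
set_option linter.unusedSectionVars false

namespace Cfsg.Agent.Symplectic.InvolOrth

open scoped Matrix
open QuadraticMap Module
open Cfsg.Agent.Orthogonal (O Nondeg IsFrame Aniso restr qmap_smul map_add_polar)
open Cfsg.Agent.Orthogonal.IsFrame (kernel)
open Cfsg.Agent.Symplectic.Invol Cfsg.Agent.Symplectic.OrthTwo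

variable {m s : ℕ} {F : Type*} [Field F]

local notation "𝕍" => (Fin m ⊕ Fin m → F)
local notation "sf" => Cfsg.sympForm m F
local notation "Sp" => Matrix.symplecticGroup (Fin m) F

variable {Q : QuadraticForm F (Fin m ⊕ Fin m → F)}

/-- the polar form of `Q` is the standard alternating form -/
def HasStdPolar (Q : QuadraticForm F (Fin m ⊕ Fin m → F)) : Prop :=
  ∀ u v, polar Q u v = Cfsg.sympForm m F u v

theorem nondeg_of_std (hQp : HasStdPolar Q) : Nondeg Q := fun x hx => by
  by_contra hne
  obtain ⟨y, hy⟩ := sf_exists_one hne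
  have := hx y
  rw [hQp, hy] at this
  exact one_ne_zero this

/-- an isometry as a symplectic matrix -/
noncomputable def toSp (hQp : HasStdPolar Q) : O Q →* Matrix.symplecticGroup (Fin m) F :=
  (spEquiv m F).symm.toMonoidHom.comp
    (Subgroup.inclusion (H := O Q) (K := Isom (spB m F)) fun g hg u v => by
      rw [spB_apply, spB_apply, ← hQp, ← hQp, Orthogonal.polar_map_of_mem hg])

theorem toSp_mulVec (hQp : HasStdPolar Q) (g : O Q) (v : Fin m ⊕ Fin m → F) :
    ((toSp hQp g : Sp) : Mat m F) *ᵥ v = (g : 𝕍 ≃ₗ[F] 𝕍) v :=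
  spEquiv_symm_mulVec _ v

theorem toSp_injective (hQp : HasStdPolar Q) : Function.Injective (toSp hQp) := fun g h hgh =>
  Orthogonal.O.ext_app fun v => by rw [← toSp_mulVec hQp, hgh, toSp_mulVec]

/-- the quadratic form restricted to the frame is the diagonal of the tensor -/
def Compat (Q : QuadraticForm F (Fin m ⊕ Fin m → F)) (a : Frame m F s)
    (H : Matrix (Fin s) (Fin s) F) : Prop :=
  ∀ x, Q (comb a.1 (H *ᵥ x)) = hForm H x x

theorem compat_of_data [CharP F 2] (hQp : HasStdPolar Q) (g : O Q) {a : Frame m F s}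
    {H : Matrix (Fin s) (Fin s) F} (h : Data (toSp hQp g) a H) : Compat Q a H := by
  intro x
  obtain ⟨v, rfl⟩ := cvec_surjective a x
  have h1 := h.2.2 v
  rw [toSp_mulVec] at h1
  have h2 := g.2 v
  rw [h1, map_add_polar, hQp, sf_comb_right, dotProduct_comm, ← hForm_apply] at h2
  linear_combination h2

theorem compat_values [Fintype F] (hQp : HasStdPolar Q) {a a' : Frame m F s}
    {H : Matrix (Fin s) (Fin s) F} (hH : IsUnit H) (h : Compat Q a H) (h' : Compat Q a' H)
    (i : Fin s) : Q (a'.1 i) = Q (a.1 i) := by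
  obtain ⟨y, hy⟩ := Matrix.mulVec_surjective_iff_isUnit.mpr hH (Pi.single i 1)
  have e : ∀ b : Frame m F s, comb b.1 (Pi.single i 1) = b.1 i := fun b => by
    rw [comb_apply]; simp [Pi.single_apply]
  rw [← e a, ← e a', ← hy, h, h']

section two

variable [Fintype F] [CharP F 2]

theorem exists_orth_map (hQp : HasStdPolar Q) {a a' : Frame m F s}
    {H : Matrix (Fin s) (Fin s) F} (hH : IsUnit H) (h : Compat Q a H) (h' : Compat Q a' H) :
    ∃ g : O Q, ∀ i, (g : 𝕍 ≃ₗ[F] 𝕍) (a.1 i) = a'.1 i :=
  Orthogonal.exists_map_family (nondeg_of_std hQp) a.2.1 a'.2.1 (compat_values hQp hH h h')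
    (fun i j _ => by rw [hQp, hQp, a.2.2, a'.2.2])

theorem exists_congr_matrix {H H' : Matrix (Fin s) (Fin s) F} (hu : IsUnit H) (hs : H.IsSymm)
    (hu' : IsUnit H') (hs' : H'.IsSymm) (hiff : (hForm H).IsAlt ↔ (hForm H').IsAlt) :
    ∃ M : Matrix (Fin s) (Fin s) F, IsUnit M ∧ M * H * Mᵀ = H' := by
  obtain ⟨e, he⟩ : ∃ e : (Fin s → F) ≃ₗ[F] (Fin s → F),
      ∀ x y, hForm H (e x) (e y) = hForm H' x y := by
    by_cases hA : (hForm H).IsAlt
    · exact exists_alt_equiv (hiff.mp hA) (hForm_nondeg hu') hA (hForm_nondeg hu) rfl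
    · exact exists_nonalt_equiv (hForm_symm hs') (hForm_symm hs) (hForm_nondeg hu')
        (hForm_nondeg hu) (fun hh => hA (hiff.mpr hh)) hA rfl
  refine ⟨(LinearMap.toMatrix' e.toLinearMap)ᵀ, ?_, ?_⟩
  · rw [Matrix.isUnit_transpose]
    refine Matrix.mulVec_surjective_iff_isUnit.mp fun y => ⟨e.symm y, ?_⟩
    rw [LinearMap.toMatrix'_mulVec]
    exact e.apply_symm_apply y
  · refine Matrix.toBilin'.injective (LinearMap.BilinForm.ext fun x y => ?_)
    rw [Matrix.toBilin'_apply', Matrix.toBilin'_apply', ← hForm_apply H', ← he, hForm_apply,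
      ← Matrix.mulVec_mulVec, ← Matrix.mulVec_mulVec, Matrix.transpose_transpose,
      Matrix.dotProduct_mulVec, Matrix.vecMul_transpose, LinearMap.toMatrix'_mulVec,
      LinearMap.toMatrix'_mulVec]
    rfl

theorem sq_toSp (hQp : HasStdPolar Q) {g : O Q} (hg : g ^ 2 = 1) : toSp hQp g ^ 2 = 1 := by
  rw [← map_pow, hg, map_one]

/-- conjugacy of orthogonal involutions -/
theorem isConj_iff' (hQp : HasStdPolar Q) {g g' : O Q} (hg : g ^ 2 = 1) (hg' : g' ^ 2 = 1) :
    IsConj g g' ↔ ((toSp hQp g : Mat m F) - 1).rank = ((toSp hQp g' : Mat m F) - 1).rank ∧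
      ((∀ v, sf v ((toSp hQp g : Mat m F) *ᵥ v) = 0) ↔
        ∀ v, sf v ((toSp hQp g' : Mat m F) *ᵥ v) = 0) := by
  constructor
  · intro hc
    exact (isConj_iff_invariants (sq_toSp hQp hg) (sq_toSp hQp hg')).mp
      ((toSp hQp).map_isConj hc)
  · rintro ⟨hr, hiff⟩
    obtain ⟨a, H, h⟩ := exists_data _ (sq_toSp hQp hg) rfl
    obtain ⟨a', H', h'⟩ := exists_data _ (sq_toSp hQp hg') hr.symm
    obtain ⟨M, hM, hMH⟩ := exists_congr_matrix h.1 h.2.1 h'.1 h'.2.1
      ((alt_iff h).symm.trans (hiff.trans (alt_iff h')))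
    obtain ⟨a'', h'', -⟩ := exists_frame_change h' M hM h.1 h.2.1 hMH
    obtain ⟨k, hk⟩ := exists_orth_map hQp h.1 (compat_of_data hQp g h) (compat_of_data hQp g' h'')
    refine isConj_iff.mpr ⟨k, toSp_injective hQp ?_⟩
    have h1 := data_conj h (toSp hQp k)
    rw [show imageFrame (toSp hQp k) a = a'' from
      Subtype.ext (funext fun i => (toSp_mulVec hQp k _).trans (hk i))] at h1
    rw [map_mul, map_mul, map_inv]
    exact data_eq h1 h''

/-- the centraliser of an orthogonal involution -/
theorem card_centralizer' (hQp : HasStdPolar Q) (g : O Q) {a : Frame m F s}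
    {H : Matrix (Fin s) (Fin s) F} (h : Data (toSp hQp g) a H) :
    Nat.card (Subgroup.centralizer ({g} : Set (O Q))) =
      Nat.card (Isom (hForm H)) * Nat.card (Fix Q a.1) := by
  have hG : Realises (toSp hQp).range a H := fun M hM => by
    have hu : IsUnit M := by
      rw [Matrix.isUnit_iff_isUnit_det, isUnit_iff_ne_zero]
      intro h0
      have := congrArg Matrix.det hM
      rw [Matrix.det_mul, Matrix.det_mul, h0, zero_mul, zero_mul] at this
      exact ((Matrix.isUnit_iff_isUnit_det H).mp h.1).ne_zero this.symm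
    obtain ⟨a', h', ha'⟩ := exists_frame_change h M hu h.1 h.2.1 hM
    obtain ⟨k, hk⟩ := exists_orth_map hQp h.1 (compat_of_data hQp g h) (compat_of_data hQp g h')
    refine ⟨toSp hQp k, ⟨k, rfl⟩, fun i => ?_⟩
    rw [toSp_mulVec, hk, ← ha', comb_apply]
    simp [Pi.single_apply]
  have h1 := card_centralizer_sub h _ hG
  have hC : Nat.card (Subgroup.centralizer ({g} : Set (O Q))) =
      Nat.card ((toSp hQp).range ⊓ Subgroup.centralizer ({toSp hQp g} : Set Sp) : Subgroup Sp) := by
    refine Nat.card_eq_of_bijective (fun x => ⟨toSp hQp x.1, ⟨x.1, rfl⟩,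
      Subgroup.mem_centralizer_singleton_iff.mpr (by
        rw [← map_mul, Subgroup.mem_centralizer_singleton_iff.mp x.2, map_mul])⟩) ⟨?_, ?_⟩
    · exact fun x y hxy => Subtype.ext (toSp_injective hQp (congrArg Subtype.val hxy))
    · rintro ⟨_, ⟨x, rfl⟩, hx⟩
      refine ⟨⟨x, Subgroup.mem_centralizer_singleton_iff.mpr (toSp_injective hQp ?_)⟩, rfl⟩
      rw [map_mul, map_mul]
      exact Subgroup.mem_centralizer_singleton_iff.mp hx
  have hS : Nat.card (Fix Q a.1) =
      Nat.card ((toSp hQp).range ⊓ MulAction.stabilizer Sp a.1 : Subgroup Sp) := by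
    refine Nat.card_eq_of_bijective (fun x => ⟨toSp hQp x.1, ⟨x.1, rfl⟩,
      funext fun i => (toSp_mulVec hQp x.1 _).trans (x.2 i)⟩) ⟨?_, ?_⟩
    · exact fun x y hxy => Subtype.ext (toSp_injective hQp (congrArg Subtype.val hxy))
    · rintro ⟨_, ⟨x, rfl⟩, hx⟩
      exact ⟨⟨x, fun i => (toSp_mulVec hQp x _).symm.trans (congrFun hx i)⟩, rfl⟩
  rw [hC, hS, h1]

theorem comb_add_value (hQp : HasStdPolar Q) (a : Frame m F s) (x y : Fin s → F) :
    Q (comb a.1 (x + y)) = Q (comb a.1 x) + Q (comb a.1 y) := by
  rw [map_add, map_add_polar, hQp, sf_comb_left, cvec_comb, dotProduct_zero, add_zero]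

theorem comb_mem_span (a : Frame m F s) (i : Fin s) : comb a.1 (Pi.single i 1) = a.1 i := by
  rw [comb_apply]; simp [Pi.single_apply]

/-- the pointwise stabiliser for a totally singular frame -/
theorem card_fix_alt (hQp : HasStdPolar Q) {e₀ f₀ : Fin m → Fin m ⊕ Fin m → F}
    (h₀ : IsFrame Q e₀ f₀) {a : Frame m F s} {H : Matrix (Fin s) (Fin s) F} (hu : IsUnit H)
    (hc : Compat Q a H) (hA : (hForm H).IsAlt) :
    Nat.card (Fix Q a.1) = Fintype.card F ^ (s.choose 2 + s * (2 * m - 2 * s)) *
      (if s = m then 1 else 2 * Fintype.card F ^ ((m - s) * (m - s - 1)) *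
        (Fintype.card F ^ (m - s) - 1) * Orthogonal.oprod (Fintype.card F) (m - s - 1)) := by
  have hQ := nondeg_of_std hQp
  have hts : ∀ x, Q (comb a.1 x) = 0 := fun x => by
    obtain ⟨y, rfl⟩ := Matrix.mulVec_surjective_iff_isUnit.mpr hu x
    rw [hc, hA y]
  have hsm := frame_length_le a
  obtain ⟨f, hf, -⟩ := exists_dual hQ (κ := Empty) (a := a.1) (x := Empty.elim)
    (a.2.1.sum_type linearIndependent_empty_type (by
      rw [Set.range_eq_empty (Empty.elim : Empty → 𝕍), Submodule.span_empty]; exact disjoint_bot_right))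
    (fun i => by rw [← comb_mem_span a]; exact hts _) (fun i j => by rw [hQp, a.2.2])
    (fun i j => j.elim)
  have h1 := card_fix_chain hQ hf (κ := Empty) (x := Empty.elim) linearIndependent_empty_type
    (fun j => j.elim)
  have h2 := card_fix_frame hQ hf (κ := Empty) (x := Empty.elim) (fun j => j.elim) (fun j => j.elim)
  obtain ⟨-, e', f', h', -⟩ := frame_extend hQ hf h₀ (by
    have hk := h₀.finrank_kernel hQ
    have hV : finrank F 𝕍 = 2 * m := Orthogonal.finrank_formPlus F m
    have : finrank F (kernel Q e₀ f₀) = 0 := by omega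
    intro z hz _
    have := Module.finrank_zero_iff.1 this
    exact congrArg Subtype.val (Subsingleton.elim (⟨z, hz⟩ : kernel Q e₀ f₀) 0))
  have hk := hf.finrank_kernel hQ
  have hV : finrank F 𝕍 = 2 * m := Orthogonal.finrank_formPlus F m
  have h3 : Nat.card (Fix (restr Q (kernel Q a.1 f)) (fun j : Empty => (j.elim : kernel Q a.1 f))) =
      Nat.card (O (restr Q (kernel Q a.1 f))) :=
    Nat.card_congr (Equiv.subtypeUnivEquiv fun g j => j.elim)
  have h4 : Nat.card (Fix Q a.1) = Nat.card (Fix Q (Sum.elim a.1 (Empty.elim : Empty → 𝕍))) :=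
    Nat.card_congr (Equiv.subtypeEquivRight fun g => ⟨fun hg i => by
      rcases i with i | i
      · exact hg i
      · exact i.elim, fun hg i => hg (Sum.inl i)⟩)
  rw [h4, h1, h2, h3, card_O_split (hf.nondeg_kernel hQ) h' (by omega),
    prod_chain (u := 2 * m - 2 * s) (by omega) (by simp), Nat.card_eq_fintype_card (α := F)]
  simp only [Fintype.card_empty, Nat.sub_zero]
  congr 1
  by_cases hs : s = m
  · rw [if_pos hs, if_pos (by omega)]
  · rw [if_neg hs, if_neg (by omega)]

/-- the pointwise stabiliser for a frame with a non-singular vector -/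
theorem card_fix_nonalt (hQp : HasStdPolar Q) {e₀ f₀ : Fin m → Fin m ⊕ Fin m → F}
    (h₀ : IsFrame Q e₀ f₀) {a : Frame m F s} {H : Matrix (Fin s) (Fin s) F}
    (hc : Compat Q a H) (hA : ¬ (hForm H).IsAlt) :
    Nat.card (Fix Q a.1) =
      Fintype.card F ^ ((s - 1).choose 2 + (s - 1) * (2 * m - 2 * (s - 1) - 1)) *
        (2 * Fintype.card F ^ ((m - s) ^ 2) * Orthogonal.oprod (Fintype.card F) (m - s)) := by
  classical
  have hQ := nondeg_of_std hQp
  have hsm := frame_length_le a
  have hV : finrank F 𝕍 = 2 * m := Orthogonal.finrank_formPlus F m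
  let σ := Equiv.ofBijective _ (sq_bijective (F := F))
  have hσ : ∀ x : F, (σ.symm x) ^ 2 = x := σ.apply_symm_apply
  let l : (Fin s → F) →ₗ[F] F :=
    { toFun := fun x => σ.symm (Q (comb a.1 x))
      map_add' := fun x y => sq_bijective.1 (by
        show (σ.symm _) ^ 2 = (σ.symm _ + σ.symm _) ^ 2
        rw [add_pow_char, hσ, hσ, hσ, comb_add_value hQp])
      map_smul' := fun c x => sq_bijective.1 (by
        show (σ.symm _) ^ 2 = (c * σ.symm _) ^ 2
        rw [mul_pow, hσ, hσ, map_smul, qmap_smul]) }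
  have hl : ∀ x, Q (comb a.1 x) = (l x) ^ 2 := fun x => (hσ _).symm
  obtain ⟨y₀, hy₀⟩ : ∃ y, l y ≠ 0 := by
    by_contra hcon
    push Not at hcon
    exact hA fun x => by
      show hForm H x x = 0
      rw [← hc, hl, hcon, zero_pow two_ne_zero]
  set y₁ := (l y₀)⁻¹ • y₀
  have hy₁ : l y₁ = 1 := by rw [map_smul, smul_eq_mul, inv_mul_cancel₀ hy₀]
  have hrn := LinearMap.finrank_range_add_finrank_ker l
  rw [LinearMap.range_eq_top.mpr (fun c => ⟨c • y₁, by rw [map_smul, hy₁, smul_eq_mul, mul_one]⟩),
    finrank_top, Module.finrank_self, finrank_coord] at hrn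
  let b := Module.finBasisOfFinrankEq F (LinearMap.ker l)
    (show finrank F (LinearMap.ker l) = s - 1 by omega)
  let w : Fin (s - 1) ⊕ Unit → (Fin s → F) := Sum.elim (fun i => (b i : Fin s → F)) (fun _ => y₁)
  have hw : LinearIndependent F w := by
    refine (b.linearIndependent.map' _ (Submodule.ker_subtype _)).sum_type
      (LinearIndependent.of_subsingleton () (fun h => by simp [h] at hy₁)) ?_
    rw [Set.range_const, Submodule.disjoint_def]
    intro z hz hz'
    obtain ⟨c, rfl⟩ := Submodule.mem_span_singleton.1 hz'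
    have hzk : c • y₁ ∈ LinearMap.ker l := (Submodule.span_le.2 (by
      rintro _ ⟨i, rfl⟩; exact (b i).2)) hz
    rw [LinearMap.mem_ker, map_smul, hy₁, smul_eq_mul, mul_one] at hzk
    rw [hzk, zero_smul]
  let a' : Fin (s - 1) → 𝕍 := fun i => comb a.1 (b i : Fin s → F)
  let x : Unit → 𝕍 := fun _ => comb a.1 y₁
  have hfam : Sum.elim a' x = fun o => comb a.1 (w o) := by
    funext o; rcases o with i | i <;> rfl
  have hpol : ∀ y z, polar Q (comb a.1 y) (comb a.1 z) = 0 := fun y z => by
    rw [hQp, sf_comb_left, cvec_comb, dotProduct_zero]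
  have hli : LinearIndependent F (Sum.elim a' x) := by
    rw [hfam]
    exact hw.map' (comb a.1) (LinearMap.ker_eq_bot.mpr (comb_injective a))
  obtain ⟨f, hf, hxU⟩ := exists_dual hQ (κ := Unit) hli
    (fun i => by rw [hl, LinearMap.mem_ker.mp (b i).2, zero_pow two_ne_zero])
    (fun i j => hpol _ _) (fun i j => hpol _ _)
  have hx : LinearIndependent F x := hli.comp _ Sum.inr_injective
  have h1 := card_fix_chain hQ hf hx hxU
  let y : Unit → kernel Q a' f := fun j => ⟨x j, hxU j⟩
  have h2 := card_fix_frame hQ hf y (fun j => rfl)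
  obtain ⟨-, e', f', h', -⟩ := frame_extend hQ hf h₀ (by
    have hk := h₀.finrank_kernel hQ
    have : finrank F (kernel Q e₀ f₀) = 0 := by omega
    intro z hz _
    have := Module.finrank_zero_iff.1 this
    exact congrArg Subtype.val (Subsingleton.elim (⟨z, hz⟩ : kernel Q e₀ f₀) 0))
  have hk := hf.finrank_kernel hQ
  have h3 := card_fix_vec (hf.nondeg_kernel hQ) h' (by omega) (by omega) y (by
    show Q (comb a.1 y₁) = 1
    rw [hl, hy₁, one_pow])
  have hspan : Submodule.span F (Set.range w) = ⊤ := by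
    refine Submodule.eq_top_of_finrank_eq ?_
    rw [finrank_span_eq_card hw, finrank_coord]
    simp
    omega
  have h4 : Nat.card (Fix Q a.1) = Nat.card (Fix Q (Sum.elim a' x)) := by
    refine Nat.card_congr (Equiv.subtypeEquivRight fun g => ⟨fun hg o => ?_, fun hg i => ?_⟩)
    · rw [congrFun hfam o, comb_apply, map_sum]
      exact Finset.sum_congr rfl fun i _ => by rw [map_smul, hg i]
    · have hfix : ∀ z, (g : 𝕍 ≃ₗ[F] 𝕍) (comb a.1 z) = comb a.1 z := by
        intro z
        have hz : z ∈ Submodule.span F (Set.range w) := by rw [hspan]; trivial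
        induction hz using Submodule.span_induction with
        | mem y hy => obtain ⟨o, rfl⟩ := hy; rw [← congrFun hfam o]; exact hg o
        | zero => simp
        | add y z _ _ hy hz => rw [map_add, map_add, hy, hz]
        | smul c y _ hy => rw [map_smul, map_smul, hy]
      rw [← comb_mem_span a]
      exact hfix _
  rw [h4, h1, h2, h3, prod_chain (u := 2 * m - 2 * (s - 1)) (by omega) (by simp; omega),
    Nat.card_eq_fintype_card (α := F), show m - (s - 1) - 1 = m - s by omega]
  simp only [Fintype.card_unit]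

/-- the element of the orthogonal group of a compatible tensor -/
theorem exists_elem (hQp : HasStdPolar Q) (a : Frame m F s) {H : Matrix (Fin s) (Fin s) F}
    (hu : IsUnit H) (hsym : H.IsSymm) (hc : Compat Q a H) :
    ∃ g : O Q, g ^ 2 = 1 ∧ Data (toSp hQp g) a H := by
  obtain ⟨t, ht, h⟩ := exists_of_data a hu hsym
  have hmem : (spEquiv m F t).1 ∈ O Q := fun v => by
    show Q ((t : Mat m F) *ᵥ v) = Q v
    rw [h.2.2, map_add_polar, hQp, sf_comb_right, dotProduct_comm, ← hForm_apply, hc]
    ring
  have hT : toSp hQp ⟨_, hmem⟩ = t := sp_ext fun v => by rw [toSp_mulVec]; rfl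
  refine ⟨⟨_, hmem⟩, toSp_injective hQp ?_, by rw [hT]; exact h⟩
  rw [map_pow, hT, ht, map_one]

/-- involutions of every type -/
theorem exists_type' (hQp : HasStdPolar Q) {w : ℕ} {e₀ f₀ : Fin w → Fin m ⊕ Fin m → F}
    (h₀ : IsFrame Q e₀ f₀) (hs : 1 ≤ s) (hsm : s ≤ m) (alt : Bool) (hev : alt = true → Even s)
    (hw : alt = true → s ≤ w) (hw' : s ≤ w + 1) :
    ∃ g : O Q, orderOf g = 2 ∧ ((toSp hQp g : Mat m F) - 1).rank = s ∧
      ((∀ v, sf v ((toSp hQp g : Mat m F) *ᵥ v) = 0) ↔ alt = true) := by
  classical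
  have hQ := nondeg_of_std hQp
  obtain ⟨a, H, hu, hsym, hc, hA⟩ : ∃ (a : Frame m F s) (H : Matrix (Fin s) (Fin s) F),
      IsUnit H ∧ H.IsSymm ∧ Compat Q a H ∧ ((hForm H).IsAlt ↔ alt = true) := by
    cases alt
    · have hr : s - 1 ≤ w := by omega
      let e : Fin (s - 1) → 𝕍 := fun i => e₀ (Fin.castLE hr i)
      let f : Fin (s - 1) → 𝕍 := fun i => f₀ (Fin.castLE hr i)
      have he : IsFrame Q e f := ⟨fun i => h₀.qe _, fun i => h₀.qf _,
        fun i j => by simp [e, f, h₀.ef], fun i j => h₀.ee _ _, fun i j => h₀.ff _ _⟩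
      have hk := he.finrank_kernel hQ
      have hV : finrank F 𝕍 = 2 * m := Orthogonal.finrank_formPlus F m
      obtain ⟨x, hx⟩ := (he.nondeg_kernel hQ).exists_value (by omega) 1
      have hQx : Q (x : 𝕍) = 1 := hx
      have hex : ∀ i, polar Q (e i) (x : 𝕍) = 0 := (Orthogonal.IsFrame.mem_kernel.1 x.2).1
      have hfx : ∀ i, polar Q (f i) (x : 𝕍) = 0 := (Orthogonal.IsFrame.mem_kernel.1 x.2).2
      let u : Fin s → 𝕍 := fun j => if h : j.1 < s - 1 then e ⟨j.1, h⟩ + x else x
      have hQu : ∀ j, Q (u j) = 1 := fun j => by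
        simp only [u]
        split_ifs with h
        · rw [map_add_polar, he.qe, hQx, hex, zero_add, add_zero]
        · exact hQx
      have hxx : polar Q (x : 𝕍) x = 0 := by rw [hQp, sf_self]
      have hpu : ∀ i j, sf (u i) (u j) = 0 := fun i j => by
        rw [← hQp]
        simp only [u]
        split_ifs <;> simp [polar_add_left, polar_add_right, he.ee, hex, hxx,
          polar_comm (⇑Q) (x : 𝕍) (e _)]
      have hul : LinearIndependent F u := by
        rw [Fintype.linearIndependent_iff]
        intro c hcz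
        have hlow : ∀ j : Fin s, j.1 < s - 1 → c j = 0 := by
          intro j hj
          have h0 := congrArg (fun z => Q.polarBilin (f ⟨j.1, hj⟩) z) hcz
          simp only [map_sum, map_smul, map_zero] at h0
          rw [Finset.sum_eq_single j] at h0
          · simpa [u, hj, polar_add_right, hfx, he.fe] using h0
          · intro k _ hkj
            simp only [u]
            split_ifs with hk
            · have : (⟨k.1, hk⟩ : Fin (s - 1)) ≠ ⟨j.1, hj⟩ := by
                simp [Fin.ext_iff] at hkj ⊢
                exact hkj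
              simp [polar_add_right, hfx, he.fe, this.symm]
            · simp [hfx]
          · exact fun h => absurd (Finset.mem_univ _) h
        intro j
        by_cases hj : j.1 < s - 1
        · exact hlow j hj
        · rw [Finset.sum_eq_single j] at hcz
          · simp only [u, dif_neg hj, smul_eq_zero] at hcz
            refine hcz.resolve_right fun hx0 => ?_
            rw [hx0, QuadraticMap.map_zero] at hQx
            exact zero_ne_one hQx
          · intro k _ hkj
            have : k.1 < s - 1 := by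
              have h1 := k.2
              have h2 := j.2
              have h3 : k.1 ≠ j.1 := fun h => hkj (Fin.ext h)
              omega
            rw [hlow k this, zero_smul]
          · exact fun h => absurd (Finset.mem_univ _) h
      let a : Frame m F s := ⟨u, hul, hpu⟩
      refine ⟨a, 1, isUnit_one, Matrix.isSymm_one, fun z => ?_,
        iff_of_false (fun hA => ?_) Bool.false_ne_true⟩
      · rw [Matrix.one_mulVec, hForm_apply, Matrix.one_mulVec, comb_apply]
        have key : ∀ S : Finset (Fin s), Q (∑ i ∈ S, z i • u i) = ∑ i ∈ S, z i * z i := by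
          intro S
          induction S using Finset.induction_on with
          | empty => simp
          | insert i S hi ih =>
            have hz0 : polar Q (z i • u i) (∑ k ∈ S, z k • u k) = 0 := by
              rw [← Orthogonal.polarBilin_apply', map_sum]
              exact Finset.sum_eq_zero fun k _ => by
                rw [Orthogonal.polarBilin_apply', polar_smul_left, polar_smul_right, hQp, hpu]
                simp
            rw [Finset.sum_insert hi, Finset.sum_insert hi, map_add_polar, qmap_smul, hQu, ih, hz0]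
            ring
        exact key Finset.univ
      · have := hA (Pi.single ⟨0, hs⟩ 1)
        simp [hForm] at this
    · let R : Matrix (Fin s) (Fin s) F := Matrix.of fun i j => if j = Fin.rev i then 1 else 0
      have hsym : R.IsSymm := Matrix.IsSymm.ext fun i j => by
        simp only [R, Matrix.of_apply]
        congr 1
        exact propext ⟨fun h => by rw [h, Fin.rev_rev], fun h => by rw [h, Fin.rev_rev]⟩
      have hRR : R * R = 1 := by
        ext i j
        rw [Matrix.mul_apply, Finset.sum_eq_single (Fin.rev i) (fun b _ hb => by simp [R, hb])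
          (fun h => absurd (Finset.mem_univ _) h)]
        simp [R, Matrix.one_apply, eq_comm]
      have hRA : (hForm R).IsAlt := alt_of_diag hsym fun i => by
        have hne : i ≠ Fin.rev i := fun h => by
          have h' := congrArg Fin.val h
          rw [Fin.val_rev] at h'
          obtain ⟨r, hr⟩ := hev rfl
          omega
        simp [R, hne]
      have hsw := hw rfl
      let a : Frame m F s := ⟨fun i => e₀ (Fin.castLE hsw i),
        (h₀.linearIndependent.comp _ Sum.inl_injective).comp _ (Fin.castLE_injective hsw),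
        fun i j => by rw [← hQp]; exact h₀.ee _ _⟩
      refine ⟨a, R, ⟨⟨R, R, hRR, hRR⟩, rfl⟩, hsym, fun z => ?_, iff_of_true hRA rfl⟩
      rw [hRA z, comb_apply]
      have key : ∀ S : Finset (Fin s), Q (∑ i ∈ S, (R *ᵥ z) i • a.1 i) = 0 := by
        intro S
        induction S using Finset.induction_on with
        | empty => simp
        | insert i S hi ih =>
          have hz0 : polar Q ((R *ᵥ z) i • a.1 i) (∑ k ∈ S, (R *ᵥ z) k • a.1 k) = 0 := by
            rw [← Orthogonal.polarBilin_apply', map_sum]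
            exact Finset.sum_eq_zero fun k _ => by
              rw [Orthogonal.polarBilin_apply', polar_smul_left, polar_smul_right, hQp, a.2.2]
              simp
          rw [Finset.sum_insert hi, map_add_polar, qmap_smul, ih,
            show Q (a.1 i) = 0 from h₀.qe _, hz0]
          ring
      exact key Finset.univ
  obtain ⟨g, hg, h⟩ := exists_elem hQp a hu hsym hc
  haveI : Fact (Nat.Prime 2) := ⟨Nat.prime_two⟩
  refine ⟨g, orderOf_eq_prime hg fun h1 => ?_, rank_eq h, (alt_iff h).trans hA⟩
  have := rank_eq h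
  rw [h1, map_one, Submonoid.coe_one, sub_self, Matrix.rank_zero] at this
  omega

end two

end Cfsg.Agent.Symplectic.InvolOrth
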