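import Cfsg.Agent.Symplectic.InvolOrth

/-! Classes and centralisers of involutions in orthogonal groups in characteristic two. -/

set_option autoImplicit false
set_option maxHeartbeats 1000000
set_option linter.unusedSectionVars false

namespace Cfsg.Agent.Symplectic.InvolOrth

open scoped Matrix
open QuadraticMap Module
open Cfsg.Agent.Orthogonal (O Nondeg IsFrame Aniso TotSing restr qmap_smul map_add_polar rO rO_app
  rO_fix rO_inv fixSpace mem_fixSpace reflGroup mul_app)
open Cfsg.Agent.Orthogonal.IsFrame (kernel)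
open Cfsg.Agent.Symplectic.Invol Cfsg.Agent.Symplectic.OrthTwo

variable {m s w : ℕ} {F : Type*} [Field F]

local notation "𝕍" => (Fin m ⊕ Fin m → F)
local notation "sf" => Cfsg.sympForm m F

variable {Q : QuadraticForm F (Fin m ⊕ Fin m → F)}

theorem finrank_V : finrank F (Fin m ⊕ Fin m → F) = 2 * m := Orthogonal.finrank_formPlus F m

theorem finrank_fixSpace (hQp : HasStdPolar Q) (g : O Q)
    (hs : ((toSp hQp g : Mat m F) - 1).rank = s) : finrank F (fixSpace g) + s = 2 * m := by
  have h : ((toSp hQp g : Mat m F) - 1).mulVecLin =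
      ((g : 𝕍 ≃ₗ[F] 𝕍) : 𝕍 →ₗ[F] 𝕍) - LinearMap.id := LinearMap.ext fun v => by
    rw [Matrix.mulVecLin_apply, Matrix.sub_mulVec, Matrix.one_mulVec, toSp_mulVec]
    rfl
  have h1 := LinearMap.finrank_range_add_finrank_ker
    (((g : 𝕍 ≃ₗ[F] 𝕍) : 𝕍 →ₗ[F] 𝕍) - LinearMap.id)
  rw [Matrix.rank, h] at hs
  rw [hs, finrank_V] at h1
  have : finrank F (fixSpace g) = finrank F
    (LinearMap.ker (((g : 𝕍 ≃ₗ[F] 𝕍) : 𝕍 →ₗ[F] 𝕍) - LinearMap.id)) := rfl
  omega

section two

variable [Fintype F] [CharP F 2]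

theorem two_eq_zero' : (2 : F) = 0 := CharTwo.two_eq_zero

theorem mem_commutator_iff (hQp : HasStdPolar Q) (hgen : reflGroup Q = ⊤) (g : O Q)
    (hs : ((toSp hQp g : Mat m F) - 1).rank = s) : g ∈ commutator (O Q) ↔ Even s := by
  rw [mem_commutator_iff_even (nondeg_of_std hQp) hgen two_eq_zero' (by rw [finrank_V]; simp)]
  have := finrank_fixSpace hQp g hs
  rw [Nat.even_iff, Nat.even_iff]
  omega

theorem alt_le_index (hQp : HasStdPolar Q) {e₀ f₀ : Fin w → Fin m ⊕ Fin m → F}
    (h₀ : IsFrame Q e₀ f₀) (ha₀ : Aniso Q (kernel Q e₀ f₀)) {g : O Q} {a : Frame m F s}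
    {H : Matrix (Fin s) (Fin s) F} (h : Data (toSp hQp g) a H) (hA : (hForm H).IsAlt) : s ≤ w := by
  have hts : ∀ i, Q (a.1 i) = 0 := fun i => by
    obtain ⟨y, hy⟩ := Matrix.mulVec_surjective_iff_isUnit.mpr h.1 (Pi.single i 1)
    rw [← comb_mem_span a, ← hy, compat_of_data hQp g h, hA y]
  obtain ⟨f, hf, -⟩ := exists_dual (nondeg_of_std hQp) (κ := Empty) (a := a.1) (x := Empty.elim)
    (a.2.1.sum_type linearIndependent_empty_type (by
      rw [Set.range_eq_empty (Empty.elim : Empty → 𝕍), Submodule.span_empty]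
      exact disjoint_bot_right))
    hts (fun i j => by rw [hQp, a.2.2]) (fun i j => j.elim)
  exact (frame_extend (nondeg_of_std hQp) hf h₀ ha₀).1

/-- a fixed vector outside the quadric -/
theorem exists_fixed (hQp : HasStdPolar Q) (g : O Q) (hg : g ^ 2 = 1)
    (hs : ((toSp hQp g : Mat m F) - 1).rank = s)
    (hne : ¬ ((∀ v, sf v ((toSp hQp g : Mat m F) *ᵥ v) = 0) ∧ s = m)) :
    ∃ u, Q u ≠ 0 ∧ (g : 𝕍 ≃ₗ[F] 𝕍) u = u := by
  by_contra hcon
  push Not at hcon
  obtain ⟨a, H, h⟩ := exists_data _ (sq_toSp hQp hg) hs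
  have hts : TotSing Q (fixSpace g) := fun u hu => by
    by_contra hne
    exact hcon u hne (mem_fixSpace.1 hu)
  refine hne ⟨(alt_iff h).mpr fun y => ?_, ?_⟩
  · have hfix : (g : 𝕍 ≃ₗ[F] 𝕍) (comb a.1 (H *ᵥ y)) = comb a.1 (H *ᵥ y) := by
      rw [← toSp_mulVec hQp, h.2.2, cvec_comb, Matrix.mulVec_zero, map_zero, add_zero]
    show hForm H y y = 0
    rw [← compat_of_data hQp g h]
    exact hts _ (mem_fixSpace.2 hfix)
  · have h1 := hts.two_mul_finrank_le (nondeg_of_std hQp)
    have h2 := finrank_fixSpace hQp g hs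
    have h3 := frame_length_le a
    rw [finrank_V] at h1
    omega

/-- no odd isometry commutes with an involution of maximal alternating type -/
theorem mem_commutator_of_commute (hQp : HasStdPolar Q) (hgen : reflGroup Q = ⊤) (hm : 1 ≤ m)
    (g : O Q) (hg : g ^ 2 = 1) (hs : ((toSp hQp g : Mat m F) - 1).rank = m)
    (halt : ∀ v, sf v ((toSp hQp g : Mat m F) *ᵥ v) = 0) {k : O Q} (hk : k * g = g * k) :
    k ∈ commutator (O Q) := by
  obtain ⟨a, H, h⟩ := exists_data _ (sq_toSp hQp hg) hs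
  have hA := (alt_iff h).mp halt
  have hdim : finrank F (fixSpace g) = m := by
    have := finrank_fixSpace hQp g hs
    omega
  have hts : TotSing Q (fixSpace g) := by
    intro u hu
    have h1 := h.2.2 u
    rw [toSp_mulVec, mem_fixSpace.1 hu] at h1
    have h2 : comb a.1 (H *ᵥ cvec a.1 u) = comb a.1 0 := by
      rw [map_zero]; exact (left_eq_add.mp h1)
    have h3 := comb_injective a h2
    rw [← Matrix.mulVec_zero H] at h3
    have h4 := Matrix.mulVec_injective_iff_isUnit.mpr h.1 h3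
    have hle : Submodule.span F (Set.range a.1) ≤ perp a.1 := span_le_perp a
    have heq : Submodule.span F (Set.range a.1) = perp a.1 := Submodule.eq_of_le_of_finrank_eq hle
      (by rw [finrank_span_eq_card a.2.1, finrank_perp a.2.1, Fintype.card_fin]; omega)
    have hu' : u ∈ perp a.1 := mem_perp.mpr fun i => congrFun h4 i
    rw [← heq] at hu'
    obtain ⟨c, rfl⟩ := (Submodule.mem_span_range_iff_exists_fun F).mp hu'
    obtain ⟨y, hy⟩ := Matrix.mulVec_surjective_iff_isUnit.mpr h.1 c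
    rw [← comb_apply, ← hy, compat_of_data hQp g h, hA y]
  refine mem_commutator_of_stab (nondeg_of_std hQp) hgen two_eq_zero' finrank_V hts hdim hm
    (Submodule.eq_of_le_of_finrank_eq ?_ (LinearEquiv.finrank_map_eq _ _))
  rintro _ ⟨u, hu, rfl⟩
  refine mem_fixSpace.2 ?_
  show (g : 𝕍 ≃ₗ[F] 𝕍) ((k : 𝕍 ≃ₗ[F] 𝕍) u) = (k : 𝕍 ≃ₗ[F] 𝕍) u
  rw [← mul_app, ← Subgroup.coe_mul, ← hk, Subgroup.coe_mul, mul_app, mem_fixSpace.1 hu]

theorem commute_rO (g : O Q) {u : 𝕍} (hu : (g : 𝕍 ≃ₗ[F] 𝕍) u = u) : rO Q u * g = g * rO Q u := by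
  have h := Orthogonal.conj_rO g u
  rw [hu, mul_inv_eq_iff_eq_mul] at h
  exact h.symm

/-- conjugacy inside the commutator subgroup -/
theorem exists_conj_mem (hQp : HasStdPolar Q) (hgen : reflGroup Q = ⊤) {g g' : O Q} (hg : g ^ 2 = 1)
    (hc : IsConj g g') (hs : ((toSp hQp g : Mat m F) - 1).rank = s)
    (hne : ¬ ((∀ v, sf v ((toSp hQp g : Mat m F) *ᵥ v) = 0) ∧ s = m)) :
    ∃ k ∈ commutator (O Q), k * g * k⁻¹ = g' := by
  obtain ⟨k, hk⟩ := isConj_iff.mp hc
  by_cases hkc : k ∈ commutator (O Q)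
  · exact ⟨k, hkc, hk⟩
  obtain ⟨u, hu, hgu⟩ := exists_fixed hQp g hg hs hne
  have hr := rO_notMem (nondeg_of_std hQp) hgen two_eq_zero' hu
  refine ⟨k * rO Q u, mul_mem_commutator (nondeg_of_std hQp) hgen two_eq_zero' hkc hr, ?_⟩
  rw [mul_assoc k, commute_rO g hgu, ← mul_assoc, mul_inv_rev, ← mul_assoc,
    mul_inv_cancel_right, hk]

theorem sq_of_order {G : Type*} [Monoid G] {g : G} (hg : orderOf g = 2) : g ^ 2 = 1 := by
  rw [← hg]; exact pow_orderOf_eq_one g

/-- the classes of involutions of the orthogonal group -/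
theorem card_classes_O (hQp : HasStdPolar Q) {e₀ f₀ : Fin w → Fin m ⊕ Fin m → F}
    (h₀ : IsFrame Q e₀ f₀) (ha₀ : Aniso Q (kernel Q e₀ f₀)) (hwm : w ≤ m) (hmw : m ≤ w + 1) :
    Nat.card {C : ConjClasses (O Q) // ∃ g, ConjClasses.mk g = C ∧ orderOf g = 2} = m + w / 2 := by
  classical
  let sz : Fin m ⊕ Fin (w / 2) → ℕ := Sum.elim (fun i => i.1 + 1) (fun j => 2 * (j.1 + 1))
  let al : Fin m ⊕ Fin (w / 2) → Bool := Sum.elim (fun _ => false) (fun _ => true)
  have hex : ∀ x, ∃ t : O Q, orderOf t = 2 ∧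
      ((toSp hQp t : Mat m F) - 1).rank = sz x ∧
      ((∀ v, sf v ((toSp hQp t : Mat m F) *ᵥ v) = 0) ↔ al x = true) := by
    intro x
    refine exists_type' hQp h₀ ?_ ?_ _ ?_ ?_ ?_ <;> rcases x with i | j <;> simp [sz, al] <;> omega
  choose rep hord hrk halt using hex
  let φ : Fin m ⊕ Fin (w / 2) → {C : ConjClasses (O Q) // ∃ g, ConjClasses.mk g = C ∧ orderOf g = 2} :=
    fun x => ⟨ConjClasses.mk (rep x), rep x, rfl, hord x⟩
  have hφ : Function.Bijective φ := by
    refine ⟨fun x y hxy => ?_, ?_⟩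
    · obtain ⟨h1, h2⟩ := (isConj_iff' hQp (sq_of_order (hord x)) (sq_of_order (hord y))).mp
        (ConjClasses.mk_eq_mk_iff_isConj.mp (congrArg Subtype.val hxy))
      rw [hrk, hrk] at h1
      rw [halt, halt] at h2
      rcases x with i | i <;> rcases y with j | j <;> simp [sz, al] at h1 h2
      · exact congrArg Sum.inl (Fin.ext (by omega))
      · exact congrArg Sum.inr (Fin.ext (by omega))
    · rintro ⟨C, g, rfl, hg⟩
      obtain ⟨r, hr⟩ : ∃ r, r = ((toSp hQp g : Mat m F) - 1).rank := ⟨_, rfl⟩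
      obtain ⟨a, H, h⟩ := exists_data _ (sq_toSp hQp (sq_of_order hg)) hr.symm
      have hrm : r ≤ m := frame_length_le a
      have hr1 : 1 ≤ r := Nat.pos_of_ne_zero fun h0 => by
        have hg1 : g = 1 := toSp_injective hQp (sp_ext fun v => by
          rw [h.2.2, map_one, Submonoid.coe_one, Matrix.one_mulVec, comb_apply]
          have : IsEmpty (Fin r) := by rw [h0]; infer_instance
          simp)
        rw [hg1, orderOf_one] at hg
        omega
      by_cases hA : (hForm H).IsAlt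
      · have hev := even_finrank_of_alt hA (hForm_nondeg h.1)
        rw [finrank_coord] at hev
        obtain ⟨k, hk⟩ := hev
        have hrw := alt_le_index hQp h₀ ha₀ h hA
        refine ⟨Sum.inr ⟨k - 1, by omega⟩, Subtype.ext (ConjClasses.mk_eq_mk_iff_isConj.mpr ?_)⟩
        refine (isConj_iff' hQp (sq_of_order (hord _)) (sq_of_order hg)).mpr ⟨?_, ?_⟩
        · rw [hrk, ← hr]; simp [sz]; omega
        · rw [halt, alt_iff h]; simp [al, hA]
      · refine ⟨Sum.inl ⟨r - 1, by omega⟩, Subtype.ext (ConjClasses.mk_eq_mk_iff_isConj.mpr ?_)⟩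
        refine (isConj_iff' hQp (sq_of_order (hord _)) (sq_of_order hg)).mpr ⟨?_, ?_⟩
        · rw [hrk, ← hr]; simp [sz]; omega
        · rw [halt, alt_iff h]; simp [al, hA]
  rw [← Nat.card_congr (Equiv.ofBijective φ hφ)]
  simp

/-- the classes of involutions of the commutator subgroup -/
theorem card_classes_comm (hQp : HasStdPolar Q) (hgen : reflGroup Q = ⊤) (hm : 1 ≤ m)
    {e₀ f₀ : Fin w → Fin m ⊕ Fin m → F}
    (h₀ : IsFrame Q e₀ f₀) (ha₀ : Aniso Q (kernel Q e₀ f₀)) (hwm : w ≤ m) (hmw : m ≤ w + 1) :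
    Nat.card {C : ConjClasses (commutator (O Q)) // ∃ g, ConjClasses.mk g = C ∧ orderOf g = 2} =
      m / 2 + w / 2 + (if Even m ∧ w = m then 1 else 0) := by
  classical
  set δ := if Even m ∧ w = m then 1 else 0 with hδ
  have hQ := nondeg_of_std hQp
  have h2 := two_eq_zero' (F := F)
  obtain ⟨v₁, hv₁⟩ := hQ.exists_value (by rw [finrank_V]; omega) 1
  have hv0 : Q v₁ ≠ 0 := by rw [hv₁]; exact one_ne_zero
  set R := rO Q v₁ with hR
  have hRodd := rO_notMem hQ hgen h2 hv0
  let sz : Fin (m / 2) ⊕ Fin (w / 2) → ℕ := Sum.elim (fun i => 2 * (i.1 + 1)) (fun j => 2 * (j.1 + 1))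
  let al : Fin (m / 2) ⊕ Fin (w / 2) → Bool := Sum.elim (fun _ => false) (fun _ => true)
  have hex : ∀ x, ∃ t : O Q, orderOf t = 2 ∧
      ((toSp hQp t : Mat m F) - 1).rank = sz x ∧
      ((∀ v, sf v ((toSp hQp t : Mat m F) *ᵥ v) = 0) ↔ al x = true) := by
    intro x
    refine exists_type' hQp h₀ ?_ ?_ _ ?_ ?_ ?_ <;> rcases x with i | j <;> simp [sz, al] <;> omega
  choose rep hord hrk halt using hex
  have hmem : ∀ x, rep x ∈ commutator (O Q) := fun x => by
    rw [mem_commutator_iff hQp hgen _ (hrk x)]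
    rcases x with i | i <;> exact ⟨i.1 + 1, by simp [sz]; omega⟩
  have hN : ∀ t ∈ commutator (O Q), ∀ k : O Q, k * t * k⁻¹ ∈ commutator (O Q) := fun t ht k =>
    (inferInstance : (commutator (O Q)).Normal).conj_mem t ht k
  have hmkmk : ∀ (x y : O Q) (hx : x ∈ commutator (O Q)) (hy : y ∈ commutator (O Q)),
      ConjClasses.mk (⟨x, hx⟩ : commutator (O Q)) = ConjClasses.mk ⟨y, hy⟩ ↔
        ∃ k ∈ commutator (O Q), k * x * k⁻¹ = y := fun x y hx hy => by
    rw [ConjClasses.mk_eq_mk_iff_isConj, isConj_iff]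
    exact ⟨fun ⟨k, hk⟩ => ⟨k.1, k.2, congrArg Subtype.val hk⟩,
      fun ⟨k, hk, h⟩ => ⟨⟨k, hk⟩, Subtype.ext h⟩⟩
  have htop : ∀ _ : Fin δ, Even m ∧ w = m := fun i => by
    by_contra h
    have := i.2
    simp [hδ, h] at this
  let top : Fin δ → Fin (m / 2) ⊕ Fin (w / 2) := fun i =>
    Sum.inr ⟨m / 2 - 1, by obtain ⟨⟨k, hk⟩, hw⟩ := htop i; omega⟩
  have hsz_top : ∀ i, sz (top i) = m := fun i => by
    obtain ⟨⟨k, hk⟩, hw⟩ := htop i
    simp [top, sz]
    omega
  let el : (Fin (m / 2) ⊕ Fin (w / 2)) ⊕ Fin δ → O Q :=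
    Sum.elim rep (fun i => R * rep (top i) * R⁻¹)
  have hel : ∀ x, el x ∈ commutator (O Q) := by
    rintro (x | i)
    · exact hmem x
    · exact hN _ (hmem _) R
  have helord : ∀ x, orderOf (el x) = 2 := by
    rintro (x | i)
    · exact hord x
    · show orderOf (R * rep (top i) * R⁻¹) = 2
      rw [← MulAut.conj_apply, MulEquiv.orderOf_eq, hord]
  have helconj : ∀ x, IsConj (rep (Sum.elim id top x)) (el x) := by
    rintro (x | i)
    · exact IsConj.refl _
    · exact isConj_iff.mpr ⟨R, rfl⟩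
  let φ : (Fin (m / 2) ⊕ Fin (w / 2)) ⊕ Fin δ →
      {C : ConjClasses (commutator (O Q)) // ∃ g, ConjClasses.mk g = C ∧ orderOf g = 2} :=
    fun x => ⟨ConjClasses.mk ⟨el x, hel x⟩, _, rfl, by rw [← orderOf_submonoid]; exact helord x⟩
  have hφ : Function.Bijective φ := by
    constructor
    · intro x y hxy
      obtain ⟨k, hk, hkxy⟩ := (hmkmk _ _ _ _).mp (congrArg Subtype.val hxy)
      obtain ⟨h1, h2'⟩ := (isConj_iff' hQp (sq_of_order (hord _)) (sq_of_order (hord _))).mp
        (((helconj x).trans (isConj_iff.mpr ⟨k, hkxy⟩)).trans (helconj y).symm)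
      rw [hrk, hrk] at h1
      rw [halt, halt] at h2'
      have hbase : Sum.elim id top x = Sum.elim id top y := by
        generalize Sum.elim id top x = p at h1 h2' ⊢
        generalize Sum.elim id top y = p' at h1 h2' ⊢
        rcases p with i | i <;> rcases p' with j | j <;> simp [sz, al] at h1 h2'
        · exact congrArg Sum.inl (Fin.ext (by omega))
        · exact congrArg Sum.inr (Fin.ext (by omega))
      have key : ∀ (i : Fin δ) (c : O Q), c ∈ commutator (O Q) →
          c * rep (top i) * c⁻¹ ≠ R * rep (top i) * R⁻¹ := by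
        intro i c hc he
        have hcomm : (R⁻¹ * c) * rep (top i) = rep (top i) * (R⁻¹ * c) := by
          calc (R⁻¹ * c) * rep (top i) = R⁻¹ * (c * rep (top i) * c⁻¹) * c := by group
            _ = _ := by rw [he]; group
        have hin := mem_commutator_of_commute hQp hgen hm _ (sq_of_order (hord _))
          ((hrk _).trans (hsz_top i)) ((halt _).mpr rfl) hcomm
        apply hRodd
        have h' := (commutator (O Q)).mul_mem hc ((commutator (O Q)).inv_mem hin)
        simpa [mul_inv_rev] using h'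
      rcases x with x | i <;> rcases y with y | j
      · exact congrArg Sum.inl hbase
      · exfalso
        simp only [Sum.elim_inl, Sum.elim_inr, id] at hbase
        subst hbase
        exact key j k hk hkxy
      · exfalso
        simp only [Sum.elim_inl, Sum.elim_inr, id] at hbase
        subst hbase
        refine key i k⁻¹ ((commutator (O Q)).inv_mem hk) ?_
        have h' : k * (R * rep (top i) * R⁻¹) * k⁻¹ = rep (top i) := hkxy
        calc k⁻¹ * rep (top i) * k⁻¹⁻¹ = k⁻¹ * (k * (R * rep (top i) * R⁻¹) * k⁻¹) * k := by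
              rw [h', inv_inv]
          _ = _ := by group
      · have := i.2
        have := j.2
        have hδ1 : δ ≤ 1 := by rw [hδ]; split_ifs <;> omega
        exact congrArg Sum.inr (Fin.ext (by omega))
    · rintro ⟨C, ⟨g, hgN⟩, rfl, hg⟩
      rw [← orderOf_submonoid] at hg
      obtain ⟨r, hr⟩ : ∃ r, r = ((toSp hQp g : Mat m F) - 1).rank := ⟨_, rfl⟩
      obtain ⟨a, H, h⟩ := exists_data _ (sq_toSp hQp (sq_of_order hg)) hr.symm
      have hrm : r ≤ m := frame_length_le a
      have hr1 : 1 ≤ r := Nat.pos_of_ne_zero fun h0 => by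
        have hg1 : g = 1 := toSp_injective hQp (sp_ext fun v => by
          rw [h.2.2, map_one, Submonoid.coe_one, Matrix.one_mulVec, comb_apply]
          have : IsEmpty (Fin r) := by rw [h0]; infer_instance
          simp)
        have hg' : orderOf g = 2 := hg
        rw [hg1, orderOf_one] at hg'
        omega
      obtain ⟨k', hk'⟩ := (mem_commutator_iff hQp hgen g hr.symm).mp hgN
      obtain ⟨x, hx1, hx2⟩ : ∃ x, sz x = r ∧ (al x = true ↔ (hForm H).IsAlt) := by
        by_cases hA : (hForm H).IsAlt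
        · have hrw := alt_le_index hQp h₀ ha₀ h hA
          exact ⟨Sum.inr ⟨k' - 1, by omega⟩, by simp [sz]; omega, by simp [al, hA]⟩
        · exact ⟨Sum.inl ⟨k' - 1, by omega⟩, by simp [sz]; omega, by simp [al, hA]⟩
      have hconj : IsConj (rep x) g := (isConj_iff' hQp (sq_of_order (hord x)) (sq_of_order hg)).mpr
        ⟨by rw [hrk, hx1, hr], by rw [halt, hx2, alt_iff h]⟩
      by_cases hne : (∀ v, sf v ((toSp hQp (rep x) : Mat m F) *ᵥ v) = 0) ∧ sz x = m
      · obtain ⟨k, hk⟩ := isConj_iff.mp hconj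
        by_cases hkc : k ∈ commutator (O Q)
        · exact ⟨Sum.inl x, Subtype.ext ((hmkmk _ _ _ _).mpr ⟨k, hkc, hk⟩)⟩
        · have hA : (hForm H).IsAlt := hx2.mp ((halt x).mp hne.1)
          have hrw := alt_le_index hQp h₀ ha₀ h hA
          have hd : δ = 1 := by
            rw [hδ, if_pos]
            exact ⟨⟨k', by omega⟩, by omega⟩
          let i : Fin δ := ⟨0, by omega⟩
          have hxi : top i = x := by
            rcases x with y | y
            · exact absurd ((halt _).mp hne.1) (by simp [al])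
            · refine congrArg Sum.inr (Fin.ext ?_)
              have := hne.2
              simp [sz] at this
              simp
              omega
          refine ⟨Sum.inr i, Subtype.ext ((hmkmk _ _ _ _).mpr ⟨k * R⁻¹,
            mul_mem_commutator hQ hgen h2 hkc (fun hh => hRodd (by simpa using inv_mem hh)), ?_⟩)⟩
          show k * R⁻¹ * (R * rep (top i) * R⁻¹) * (k * R⁻¹)⁻¹ = g
          rw [hxi, ← hk]
          group
      · exact ⟨Sum.inl x, Subtype.ext ((hmkmk _ _ _ _).mpr
          (exists_conj_mem hQp hgen (sq_of_order (hord x)) hconj (hrk x) hne))⟩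
  rw [← Nat.card_congr (Equiv.ofBijective φ hφ)]
  simp

end two

end Cfsg.Agent.Symplectic.InvolOrth
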