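import Cfsg.Agent.Symplectic.SymmTwo

/-! Involutions of the symplectic groups in characteristic two: classes and centralisers. -/

set_option autoImplicit false
set_option maxHeartbeats 1000000
set_option linter.unusedSectionVars false

namespace Cfsg.Agent.Symplectic.Invol

open scoped Matrix
open LinearMap (BilinForm)

variable {m s : ℕ} {F : Type*} [Field F]

local notation "𝕍" => (Fin m ⊕ Fin m → F)
local notation "sf" => Cfsg.sympForm m F
local notation "Sp" => Matrix.symplecticGroup (Fin m) F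

/-- the combination of a family -/
noncomputable def comb (a : Fin s → Fin m ⊕ Fin m → F) :
    (Fin s → F) →ₗ[F] (Fin m ⊕ Fin m → F) :=
  Fintype.linearCombination F a

theorem comb_apply (a : Fin s → Fin m ⊕ Fin m → F) (x : Fin s → F) :
    comb a x = ∑ i, x i • a i := Fintype.linearCombination_apply ..

/-- the pairings with a family -/
def cvec (a : Fin s → Fin m ⊕ Fin m → F) : (Fin m ⊕ Fin m → F) →ₗ[F] (Fin s → F) where
  toFun v j := Cfsg.sympForm m F (a j) v
  map_add' u v := funext fun j => sf_add_right _ _ _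
  map_smul' c v := funext fun j => sf_smul_right c _ _

theorem cvec_apply (a : Fin s → Fin m ⊕ Fin m → F) (v : Fin m ⊕ Fin m → F) (j : Fin s) :
    cvec a v j = sf (a j) v := rfl

theorem sf_comb_left (a : Fin s → Fin m ⊕ Fin m → F) (x : Fin s → F) (v : Fin m ⊕ Fin m → F) :
    sf (comb a x) v = x ⬝ᵥ cvec a v := by
  rw [comb_apply, ← spB_apply]
  simp [dotProduct, cvec_apply]

theorem sf_comb_right (a : Fin s → Fin m ⊕ Fin m → F) (x : Fin s → F) (v : Fin m ⊕ Fin m → F) :
    sf v (comb a x) = - (x ⬝ᵥ cvec a v) := by rw [sf_swap, sf_comb_left]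

theorem comb_injective (a : Frame m F s) : Function.Injective (comb a.1) :=
  a.2.1.fintypeLinearCombination_injective

theorem cvec_comb (a : Frame m F s) (x : Fin s → F) : cvec a.1 (comb a.1 x) = 0 := by
  funext j
  rw [cvec_apply, sf_comb_right]
  simp [dotProduct, cvec_apply, a.2.2]

theorem cvec_surjective (a : Frame m F s) : Function.Surjective (cvec a.1) := by
  have hker : LinearMap.ker (cvec a.1) = perp a.1 := by
    ext v
    rw [LinearMap.mem_ker, mem_perp]
    exact ⟨fun h i => congrFun h i, fun h => funext h⟩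
  have h := LinearMap.finrank_range_add_finrank_ker (cvec a.1)
  rw [hker, finrank_perp a.2.1] at h
  refine LinearMap.range_eq_top.mp (Submodule.eq_top_of_finrank_eq ?_)
  have := (Submodule.finrank_mono (span_le_perp a))
  rw [finrank_perp a.2.1, finrank_span_eq_card a.2.1] at this
  simp at h this ⊢
  omega

theorem frame_length_le (a : Frame m F s) : s ≤ m := by
  have := Submodule.finrank_mono (span_le_perp a)
  rw [finrank_perp a.2.1, finrank_span_eq_card a.2.1, Fintype.card_fin] at this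
  omega

/-- `t` is `1` plus the symmetric tensor `H` on the frame `a` -/
def Data (t : Matrix.symplecticGroup (Fin m) F) (a : Frame m F s)
    (H : Matrix (Fin s) (Fin s) F) : Prop :=
  IsUnit H ∧ H.IsSymm ∧ ∀ v, (t : Mat m F) *ᵥ v = v + comb a.1 (H *ᵥ cvec a.1 v)

theorem data_eq {t t' : Matrix.symplecticGroup (Fin m) F} {a : Frame m F s}
    {H : Matrix (Fin s) (Fin s) F} (h : Data t a H) (h' : Data t' a H) : t = t' :=
  sp_ext fun v => by rw [h.2.2, h'.2.2]

theorem data_unique {t : Matrix.symplecticGroup (Fin m) F} {a : Frame m F s}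
    {H H' : Matrix (Fin s) (Fin s) F} (h : Data t a H) (h' : Data t a H') : H = H' := by
  refine Matrix.ext_of_mulVec_single fun i => ?_
  obtain ⟨v, hv⟩ := cvec_surjective a (Pi.single i 1)
  rw [← hv]
  exact comb_injective a (add_left_cancel ((h.2.2 v).symm.trans (h'.2.2 v)))

/-- the image of a frame -/
def imageFrame (g : Matrix.symplecticGroup (Fin m) F) (a : Frame m F s) : Frame m F s :=
  ⟨g • a.1, frame_smul g a⟩

theorem data_conj {t : Matrix.symplecticGroup (Fin m) F} {a : Frame m F s}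
    {H : Matrix (Fin s) (Fin s) F} (h : Data t a H) (g : Matrix.symplecticGroup (Fin m) F) :
    Data (g * t * g⁻¹) (imageFrame g a) H := by
  refine ⟨h.1, h.2.1, fun v => ?_⟩
  set w := ((g⁻¹ : Sp) : Mat m F) *ᵥ v
  have hw : (g : Mat m F) *ᵥ w = v := by
    rw [Matrix.mulVec_mulVec, ← Submonoid.coe_mul, mul_inv_cancel, Submonoid.coe_one,
      Matrix.one_mulVec]
  have hc : cvec (imageFrame g a).1 v = cvec a.1 w := funext fun j => by
    show sf ((g : Mat m F) *ᵥ a.1 j) v = sf (a.1 j) w
    conv_lhs => rw [← hw]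
    rw [sf_invariant]
  have hcomb : ∀ x, comb (imageFrame g a).1 x = (g : Mat m F) *ᵥ comb a.1 x := fun x => by
    rw [comb_apply, comb_apply, Matrix.mulVec_sum]
    exact Finset.sum_congr rfl fun i _ => (Matrix.mulVec_smul (g : Mat m F) (x i) (a.1 i)).symm
  rw [Submonoid.coe_mul, Submonoid.coe_mul, ← Matrix.mulVec_mulVec, ← Matrix.mulVec_mulVec,
    h.2.2, Matrix.mulVec_add, hw, hc, hcomb]

/-- change of frame inside the same subspace -/
theorem data_basis {t : Matrix.symplecticGroup (Fin m) F} {a a' : Frame m F s}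
    {H : Matrix (Fin s) (Fin s) F} (h : Data t a H) (M : Matrix (Fin s) (Fin s) F) (hM : IsUnit M)
    (ha : ∀ x, comb a.1 x = comb a'.1 (M *ᵥ x)) : Data t a' (M * H * Mᵀ) := by
  refine ⟨(hM.mul h.1).mul ?_, ?_, fun v => ?_⟩
  · rw [Matrix.isUnit_transpose]; exact hM
  · rw [Matrix.IsSymm, Matrix.transpose_mul, Matrix.transpose_mul, Matrix.transpose_transpose,
      h.2.1.eq, Matrix.mul_assoc]
  · have hc : cvec a.1 v = Mᵀ *ᵥ cvec a'.1 v := by
      funext j
      have := sf_comb_left a.1 (Pi.single j 1) v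
      rw [ha, sf_comb_left, Matrix.mulVec_single_one] at this
      rw [show cvec a.1 v j = (Pi.single j (1 : F)) ⬝ᵥ cvec a.1 v by simp, ← this]
      rfl
    rw [h.2.2, ha, hc, Matrix.mulVec_mulVec, Matrix.mulVec_mulVec, Matrix.mul_assoc]

/-- the form of a symmetric matrix -/
noncomputable def hForm (H : Matrix (Fin s) (Fin s) F) : BilinForm F (Fin s → F) :=
  Matrix.toBilin' H

theorem hForm_apply (H : Matrix (Fin s) (Fin s) F) (x y : Fin s → F) :
    hForm H x y = x ⬝ᵥ (H *ᵥ y) := Matrix.toBilin'_apply' _ _ _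

theorem hForm_symm {H : Matrix (Fin s) (Fin s) F} (hH : H.IsSymm) (x y : Fin s → F) :
    hForm H x y = hForm H y x := by
  rw [hForm_apply, hForm_apply, Matrix.dotProduct_mulVec, ← Matrix.mulVec_transpose, hH.eq,
    dotProduct_comm]

theorem hForm_nondeg {H : Matrix (Fin s) (Fin s) F} (hH : IsUnit H) : (hForm H).Nondegenerate :=
  LinearMap.BilinForm.nondegenerate_toBilin'_iff_det_ne_zero.mpr
    ((Matrix.isUnit_iff_isUnit_det H).mp hH).ne_zero

theorem sf_t_self {t : Matrix.symplecticGroup (Fin m) F} {a : Frame m F s}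
    {H : Matrix (Fin s) (Fin s) F} (h : Data t a H) (v : Fin m ⊕ Fin m → F) :
    sf v ((t : Mat m F) *ᵥ v) = - hForm H (cvec a.1 v) (cvec a.1 v) := by
  rw [h.2.2, sf_add_right, sf_self, zero_add, sf_comb_right, hForm_apply, dotProduct_comm]

theorem alt_iff {t : Matrix.symplecticGroup (Fin m) F} {a : Frame m F s}
    {H : Matrix (Fin s) (Fin s) F} (h : Data t a H) :
    (∀ v, sf v ((t : Mat m F) *ᵥ v) = 0) ↔ (hForm H).IsAlt := by
  constructor
  · intro hv x
    obtain ⟨v, rfl⟩ := cvec_surjective a x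
    have := hv v
    rwa [sf_t_self h, neg_eq_zero] at this
  · intro hA v
    rw [sf_t_self h, hA _, neg_zero]

theorem rank_eq {t : Matrix.symplecticGroup (Fin m) F} {a : Frame m F s}
    {H : Matrix (Fin s) (Fin s) F} (h : Data t a H) : ((t : Mat m F) - 1).rank = s := by
  have hr : LinearMap.range ((t : Mat m F) - 1).mulVecLin = LinearMap.range (comb a.1) := by
    apply le_antisymm
    · rintro _ ⟨v, rfl⟩
      refine ⟨H *ᵥ cvec a.1 v, ?_⟩
      rw [Matrix.mulVecLin_apply, Matrix.sub_mulVec, Matrix.one_mulVec, h.2.2, add_sub_cancel_left]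
    · rintro _ ⟨x, rfl⟩
      obtain ⟨y, rfl⟩ := Matrix.mulVec_surjective_iff_isUnit.mpr h.1 x
      obtain ⟨v, rfl⟩ := cvec_surjective a y
      exact ⟨v, by
        rw [Matrix.mulVecLin_apply, Matrix.sub_mulVec, Matrix.one_mulVec, h.2.2,
          add_sub_cancel_left]⟩
  rw [Matrix.rank, hr, LinearMap.finrank_range_of_inj (comb_injective a)]
  simp

section two

variable [Fintype F] [CharP F 2]

theorem exists_data (t : Matrix.symplecticGroup (Fin m) F) (ht : t ^ 2 = 1)
    (hs : ((t : Mat m F) - 1).rank = s) : ∃ (a : Frame m F s) (H : Matrix (Fin s) (Fin s) F),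
      Data t a H := by
  classical
  set N : Mat m F := (t : Mat m F) - 1 with hN
  have htt : (t : Mat m F) * (t : Mat m F) = 1 := by
    rw [← Submonoid.coe_mul, ← sq, ht, Submonoid.coe_one]
  have hN2 : N * N = 0 := by
    rw [hN, sub_mul, mul_sub, htt, mul_one, one_mul]
    ext i j
    simp only [Matrix.sub_apply, Matrix.zero_apply]
    linear_combination ((1 : Mat m F) i j - (t : Mat m F) i j) * CharTwo.two_eq_zero (R := F)
  have hself : ∀ u v, sf (N *ᵥ u) v = sf u (N *ᵥ v) := by
    intro u v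
    have h1 : sf ((t : Mat m F) *ᵥ u) v = sf u ((t : Mat m F) *ᵥ v) := by
      conv_lhs => rw [← Matrix.one_mulVec v, ← htt, ← Matrix.mulVec_mulVec, sf_invariant]
    rw [← spB_apply, ← spB_apply] at h1
    rw [← spB_apply, ← spB_apply, hN, Matrix.sub_mulVec, Matrix.sub_mulVec, Matrix.one_mulVec,
      Matrix.one_mulVec, map_sub, map_sub, LinearMap.sub_apply, h1]
  set W := LinearMap.range N.mulVecLin with hW
  have hWfin : Module.finrank F W = s := hs
  let b := Module.finBasisOfFinrankEq F W hWfin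
  let a : Frame m F s := ⟨fun i => (b i : Fin m ⊕ Fin m → F),
    b.linearIndependent.map' W.subtype (Submodule.ker_subtype W), fun i j => by
      obtain ⟨u, hu⟩ := (b i).2
      obtain ⟨v, hv⟩ := (b j).2
      show sf (b i : 𝕍) (b j : 𝕍) = 0
      rw [← hu, ← hv, Matrix.mulVecLin_apply, Matrix.mulVecLin_apply, hself, Matrix.mulVec_mulVec,
        hN2, Matrix.zero_mulVec]
      simp [Cfsg.sympForm]⟩
  have hcoord : ∀ v, ∃ x, N *ᵥ v = comb a.1 x := fun v => by
    refine ⟨b.equivFun ⟨N *ᵥ v, v, rfl⟩, ?_⟩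
    have := congrArg Subtype.val (b.sum_equivFun ⟨N *ᵥ v, v, rfl⟩)
    rw [Submodule.coe_sum] at this
    rw [comb_apply]
    exact this.symm
  choose u hu using fun j => cvec_surjective a (Pi.single j 1)
  choose K hK using fun j => hcoord (u j)
  let H : Matrix (Fin s) (Fin s) F := Matrix.of fun i j => K j i
  have hN' : ∀ v, N *ᵥ v = comb a.1 (H *ᵥ cvec a.1 v) := by
    intro v
    set w := v - ∑ j, cvec a.1 v j • u j with hw
    have hcw : cvec a.1 w = 0 := by
      rw [hw, map_sub, map_sum]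
      simp only [map_smul, hu]
      funext i
      simp [Pi.single_apply]
    have hNw : N *ᵥ w = 0 := by
      by_contra hne
      obtain ⟨x, hx⟩ := sf_exists_one hne
      obtain ⟨y, hy⟩ := hcoord x
      rw [hself, hy, sf_comb_right, hcw, dotProduct_zero, neg_zero] at hx
      exact zero_ne_one hx
    have : v = w + ∑ j, cvec a.1 v j • u j := by rw [hw, sub_add_cancel]
    conv_lhs => rw [this, Matrix.mulVec_add, hNw, zero_add, Matrix.mulVec_sum]
    rw [show (H *ᵥ cvec a.1 v) = ∑ j, cvec a.1 v j • K j by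
      funext i
      simp [Matrix.mulVec, dotProduct, H, Finset.sum_apply, mul_comm], map_sum]
    exact Finset.sum_congr rfl fun j _ => by rw [Matrix.mulVec_smul, hK, map_smul]
  refine ⟨a, H, ?_, ?_, fun v => ?_⟩
  · refine Matrix.mulVec_surjective_iff_isUnit.mp fun y => ?_
    obtain ⟨v, hv⟩ : comb a.1 y ∈ W := by
      rw [comb_apply]; exact Submodule.sum_mem _ fun i _ => Submodule.smul_mem _ _ (b i).2
    exact ⟨cvec a.1 v, comb_injective a ((hN' v).symm.trans hv)⟩
  · refine Matrix.IsSymm.ext fun k l => ?_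
    have h1 : sf (N *ᵥ u k) (u l) = H l k := by
      rw [hK, sf_comb_left, hu]; simp [H]
    have h2 : sf (u k) (N *ᵥ u l) = - H k l := by
      rw [hK, sf_comb_right, hu]; simp [H]
    rw [hself, h2] at h1
    rw [← h1]
    exact CharTwo.neg_eq _
  · rw [← hN', hN, Matrix.sub_mulVec, Matrix.one_mulVec, add_sub_cancel]

/-- isometric forms give conjugate involutions -/
theorem isConj_of_isometry {t t' : Matrix.symplecticGroup (Fin m) F} {a a' : Frame m F s}
    {H H' : Matrix (Fin s) (Fin s) F} (h : Data t a H) (h' : Data t' a' H')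
    (e : (Fin s → F) ≃ₗ[F] (Fin s → F)) (he : ∀ x y, hForm H (e x) (e y) = hForm H' x y) :
    IsConj t t' := by
  set M : Matrix (Fin s) (Fin s) F := (LinearMap.toMatrix' e.toLinearMap)ᵀ with hMdef
  have hM : IsUnit M := by
    rw [hMdef, Matrix.isUnit_transpose]
    refine Matrix.mulVec_surjective_iff_isUnit.mp fun y => ⟨e.symm y, ?_⟩
    rw [LinearMap.toMatrix'_mulVec]
    exact e.apply_symm_apply y
  have hH' : M * H * Mᵀ = H' := by
    refine Matrix.toBilin'.injective (LinearMap.BilinForm.ext fun x y => ?_)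
    rw [Matrix.toBilin'_apply', Matrix.toBilin'_apply', ← hForm_apply H', ← he, hForm_apply,
      ← Matrix.mulVec_mulVec, ← Matrix.mulVec_mulVec, hMdef, Matrix.transpose_transpose,
      Matrix.dotProduct_mulVec, Matrix.vecMul_transpose, LinearMap.toMatrix'_mulVec,
      LinearMap.toMatrix'_mulVec]
    rfl
  have hli : LinearIndependent F (fun i => comb a'.1 (M *ᵥ Pi.single i 1)) := by
    have := (Pi.basisFun F (Fin s)).linearIndependent.map' ((comb a'.1).comp M.mulVecLin) (by
      rw [LinearMap.ker_eq_bot, LinearMap.coe_comp]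
      exact (comb_injective a').comp (Matrix.mulVec_injective_iff_isUnit.mpr hM))
    simpa [Function.comp_def] using this
  let a'' : Frame m F s := ⟨fun i => comb a'.1 (M *ᵥ Pi.single i 1), hli,
    fun i j => by rw [sf_comb_left, cvec_comb, dotProduct_zero]⟩
  have hcomb : ∀ x, comb a''.1 x = comb a'.1 (M *ᵥ x) := by
    intro x
    conv_rhs => rw [pi_eq_sum_univ' x, Matrix.mulVec_sum, map_sum]
    rw [comb_apply]
    simp only [a'', Matrix.mulVec_smul, map_smul]
  obtain ⟨g, hg⟩ := exists_sp_map a.1 a''.1 a.2.1 a''.2.1 (fun i j => by rw [a.2.2, a''.2.2])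
  have ha : imageFrame g a = a'' := Subtype.ext (funext hg)
  have h1 := data_conj h g
  rw [ha] at h1
  have h2 := data_basis h1 M hM hcomb
  rw [hH'] at h2
  exact isConj_iff.mpr ⟨g, data_eq h2 h'⟩

theorem isConj_of_same {t t' : Matrix.symplecticGroup (Fin m) F} {a a' : Frame m F s}
    {H H' : Matrix (Fin s) (Fin s) F} (h : Data t a H) (h' : Data t' a' H')
    (hiff : (hForm H).IsAlt ↔ (hForm H').IsAlt) : IsConj t t' := by
  by_cases hA : (hForm H).IsAlt
  · obtain ⟨e, he⟩ := exists_alt_equiv (hiff.mp hA) (hForm_nondeg h'.1) hA (hForm_nondeg h.1) rfl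
    exact isConj_of_isometry h h' e he
  · obtain ⟨e, he⟩ := exists_nonalt_equiv (hForm_symm h'.2.1) (hForm_symm h.2.1)
      (hForm_nondeg h'.1) (hForm_nondeg h.1) (fun hh => hA (hiff.mpr hh)) hA rfl
    exact isConj_of_isometry h h' e he

/-- change of frame to match a congruent matrix -/
theorem exists_frame_change {t : Matrix.symplecticGroup (Fin m) F} {a : Frame m F s}
    {H : Matrix (Fin s) (Fin s) F} (h : Data t a H) (M : Matrix (Fin s) (Fin s) F) (hM : IsUnit M)
    {H₀ : Matrix (Fin s) (Fin s) F} (h₀ : IsUnit H₀) (hs₀ : H₀.IsSymm) (he : M * H₀ * Mᵀ = H) :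
    ∃ a' : Frame m F s, Data t a' H₀ ∧ ∀ x, comb a'.1 x = comb a.1 (M *ᵥ x) := by
  have hli : LinearIndependent F (fun i => comb a.1 (M *ᵥ Pi.single i 1)) := by
    have := (Pi.basisFun F (Fin s)).linearIndependent.map' ((comb a.1).comp M.mulVecLin) (by
      rw [LinearMap.ker_eq_bot, LinearMap.coe_comp]
      exact (comb_injective a).comp (Matrix.mulVec_injective_iff_isUnit.mpr hM))
    simpa [Function.comp_def] using this
  let a' : Frame m F s := ⟨fun i => comb a.1 (M *ᵥ Pi.single i 1), hli,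
    fun i j => by rw [sf_comb_left, cvec_comb, dotProduct_zero]⟩
  have hcomb : ∀ x, comb a'.1 x = comb a.1 (M *ᵥ x) := by
    intro x
    conv_rhs => rw [pi_eq_sum_univ' x, Matrix.mulVec_sum, map_sum]
    rw [comb_apply]
    simp only [a', Matrix.mulVec_smul, map_smul]
  refine ⟨a', ⟨h₀, hs₀, fun v => ?_⟩, hcomb⟩
  have hc : cvec a'.1 v = Mᵀ *ᵥ cvec a.1 v := by
    funext j
    have := sf_comb_left a'.1 (Pi.single j 1) v
    rw [hcomb, sf_comb_left, Matrix.mulVec_single_one] at this
    rw [show cvec a'.1 v j = (Pi.single j (1 : F)) ⬝ᵥ cvec a'.1 v by simp, ← this]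
    rfl
  rw [h.2.2, hcomb, hc, Matrix.mulVec_mulVec, Matrix.mulVec_mulVec, ← he]

/-- isometries of the matrix are realised by a subgroup -/
def Realises (G : Subgroup (Matrix.symplecticGroup (Fin m) F)) (a : Frame m F s)
    (H : Matrix (Fin s) (Fin s) F) : Prop :=
  ∀ M : Matrix (Fin s) (Fin s) F, M * H * Mᵀ = H →
    ∃ g ∈ G, ∀ i, (g : Mat m F) *ᵥ a.1 i = comb a.1 (M *ᵥ Pi.single i 1)

/-- the centraliser of an involution in a subgroup -/
theorem card_centralizer_sub {t : Matrix.symplecticGroup (Fin m) F} {a : Frame m F s}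
    {H : Matrix (Fin s) (Fin s) F} (h : Data t a H)
    (G : Subgroup (Matrix.symplecticGroup (Fin m) F)) (hG : Realises G a H) :
    Nat.card (G ⊓ Subgroup.centralizer ({t} : Set (Matrix.symplecticGroup (Fin m) F)) :
        Subgroup (Matrix.symplecticGroup (Fin m) F)) =
      Nat.card (Isom (hForm H)) *
        Nat.card (G ⊓ MulAction.stabilizer (Matrix.symplecticGroup (Fin m) F) a.1 :
          Subgroup (Matrix.symplecticGroup (Fin m) F)) := by
  classical
  have hmem : ∀ g : Sp, g ∈ Subgroup.centralizer ({t} : Set Sp) ↔ g * t * g⁻¹ = t := by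
    intro g
    rw [Subgroup.mem_centralizer_singleton_iff, mul_inv_eq_iff_eq_mul]
  have hspan : ∀ g : (G ⊓ Subgroup.centralizer ({t} : Set Sp) : Subgroup Sp), ∀ i, ∃ x,
      ((g.1 : Sp) : Mat m F) *ᵥ a.1 i = comb a.1 x := by
    intro g i
    have h1 := data_conj h g.1
    rw [(hmem _).mp g.2.2] at h1
    obtain ⟨y, hy⟩ := Matrix.mulVec_surjective_iff_isUnit.mpr h1.1 (Pi.single i 1)
    obtain ⟨v, rfl⟩ := cvec_surjective (imageFrame g.1 a) y
    refine ⟨H *ᵥ cvec a.1 v, ?_⟩
    have e1 := add_left_cancel ((h.2.2 v).symm.trans (h1.2.2 v))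
    rw [hy] at e1
    rw [e1, comb_apply]
    simp [imageFrame, Pi.single_apply]
    rfl
  choose coef hcoef using hspan
  let A : (G ⊓ Subgroup.centralizer ({t} : Set Sp) : Subgroup Sp) → Matrix (Fin s) (Fin s) F :=
    fun g => Matrix.of fun k i => coef g i k
  have hAcomb : ∀ g x, comb (imageFrame g.1 a).1 x = comb a.1 (A g *ᵥ x) := by
    intro g x
    rw [show A g *ᵥ x = ∑ i, x i • coef g i by
      funext k; simp [A, Matrix.mulVec, dotProduct, Finset.sum_apply, mul_comm], map_sum,
      comb_apply]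
    exact Finset.sum_congr rfl fun i _ => by rw [map_smul, ← hcoef]; rfl
  have hAunit : ∀ g, IsUnit (A g) := fun g =>
    Matrix.mulVec_injective_iff_isUnit.mp fun x y hxy =>
      comb_injective (imageFrame g.1 a) (by rw [hAcomb, hAcomb]; exact congrArg _ hxy)
  have hAH : ∀ g, A g * H * (A g)ᵀ = H := by
    intro g
    have h1 := data_conj h g.1
    rw [(hmem _).mp g.2.2] at h1
    exact data_unique (data_basis h1 (A g) (hAunit g) (hAcomb g)) h
  let O := {M : Matrix (Fin s) (Fin s) F // M * H * Mᵀ = H}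
  let π : (G ⊓ Subgroup.centralizer ({t} : Set Sp) : Subgroup Sp) → O := fun g => ⟨A g, hAH g⟩
  have hOunit : ∀ M : O, IsUnit M.1 := fun M => by
    rw [Matrix.isUnit_iff_isUnit_det, isUnit_iff_ne_zero]
    intro h0
    have := congrArg Matrix.det M.2
    rw [Matrix.det_mul, Matrix.det_mul, h0, zero_mul, zero_mul] at this
    exact ((Matrix.isUnit_iff_isUnit_det H).mp h.1).ne_zero this.symm
  have hlift : ∀ M : O, ∃ g : (G ⊓ Subgroup.centralizer ({t} : Set Sp) : Subgroup Sp), π g = M := by
    intro M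
    obtain ⟨g, hgG, hg⟩ := hG M.1 M.2
    have hcomb : ∀ x, comb (imageFrame g a).1 x = comb a.1 (M.1 *ᵥ x) := by
      intro x
      conv_rhs => rw [pi_eq_sum_univ' x, Matrix.mulVec_sum, map_sum]
      rw [comb_apply]
      refine Finset.sum_congr rfl fun i _ => ?_
      rw [Matrix.mulVec_smul, map_smul, show (imageFrame g a).1 i = comb a.1 (M.1 *ᵥ Pi.single i 1) from hg i]
    have h2 := data_basis (data_conj h g) M.1 (hOunit M) hcomb
    rw [M.2] at h2
    refine ⟨⟨g, hgG, (hmem g).mpr (data_eq h2 h)⟩, Subtype.ext (Matrix.ext_of_mulVec_single fun i => ?_)⟩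
    refine comb_injective a ?_
    exact (hAcomb _ _).symm.trans (hcomb _)
  choose L hL using hlift
  have hA_eq : ∀ g g' : (G ⊓ Subgroup.centralizer ({t} : Set Sp) : Subgroup Sp),
      A g = A g' ↔ ∀ i, (g.1 : Mat m F) *ᵥ a.1 i = (g'.1 : Mat m F) *ᵥ a.1 i := by
    intro g g'
    constructor
    · intro hh i
      rw [hcoef g i, hcoef g' i]
      exact congrArg _ (funext fun k => congrFun (congrFun hh k) i)
    · intro hh
      refine Matrix.ext fun k i => ?_
      exact congrFun (comb_injective a (by rw [← hcoef, ← hcoef, hh])) k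
  let S : Subgroup Sp := G ⊓ MulAction.stabilizer Sp a.1
  have hS : ∀ g : S, g.1 ∈ G ⊓ Subgroup.centralizer ({t} : Set Sp) := fun g => by
    refine ⟨g.2.1, (hmem _).mpr ?_⟩
    have h1 := data_conj h g.1
    rw [show imageFrame g.1 a = a from Subtype.ext g.2.2] at h1
    exact data_eq h1 h
  have hfibre : ∀ M, Nat.card {g // π g = M} = Nat.card S := by
    intro M
    refine Nat.card_congr ?_
    refine
      { toFun := fun g => ⟨((L M)⁻¹ * g.1).1, ((L M)⁻¹ * g.1).2.1, funext fun i => ?_⟩
        invFun := fun x => ⟨L M * ⟨x.1, hS x⟩, ?_⟩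
        left_inv := fun g => Subtype.ext (mul_inv_cancel_left _ _)
        right_inv := fun x => Subtype.ext (by simp) }
    · show ((((L M)⁻¹ * g.1 : (G ⊓ Subgroup.centralizer ({t} : Set Sp) : Subgroup Sp)) : Sp) : Mat m F) *ᵥ a.1 i = a.1 i
      have hgM := (hA_eq g.1 (L M)).mp (congrArg Subtype.val (g.2.trans (hL M).symm)) i
      rw [Subgroup.coe_mul, Submonoid.coe_mul, ← Matrix.mulVec_mulVec, hgM, Matrix.mulVec_mulVec,
        ← Submonoid.coe_mul, ← Subgroup.coe_mul, inv_mul_cancel]
      simp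
    · refine (Subtype.ext ((hA_eq _ (L M)).mpr fun i => ?_) : π _ = π (L M)).trans (hL M)
      rw [Subgroup.coe_mul, Submonoid.coe_mul, ← Matrix.mulVec_mulVec,
        show ((x.1 : Sp) : Mat m F) *ᵥ a.1 i = a.1 i from congrFun x.2.2 i]
  let ψ : O → Isom (hForm H) := fun M =>
    ⟨LinearEquiv.ofBijective M.1ᵀ.mulVecLin
      ⟨Matrix.mulVec_injective_iff_isUnit.mpr ((Matrix.isUnit_transpose _).mpr (hOunit M)),
        Matrix.mulVec_surjective_iff_isUnit.mpr ((Matrix.isUnit_transpose _).mpr (hOunit M))⟩,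
      fun x y => by
        show hForm H (M.1ᵀ *ᵥ x) (M.1ᵀ *ᵥ y) = hForm H x y
        rw [hForm_apply, hForm_apply, Matrix.mulVec_transpose M.1 x, ← Matrix.dotProduct_mulVec,
          Matrix.mulVec_mulVec, Matrix.mulVec_mulVec, M.2]⟩
  have hψ : Function.Bijective ψ := by
    refine ⟨fun M M' hh => Subtype.ext (Matrix.transpose_injective
      (Matrix.ext_of_mulVec_single fun i =>
        LinearEquiv.congr_fun (congrArg Subtype.val hh) (Pi.single i 1))), fun g => ?_⟩
    refine ⟨⟨(LinearMap.toMatrix' g.1.toLinearMap)ᵀ, ?_⟩,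
      Subtype.ext (LinearEquiv.ext fun x => ?_)⟩
    · refine Matrix.toBilin'.injective (LinearMap.BilinForm.ext fun x y => ?_)
      rw [Matrix.toBilin'_apply', Matrix.toBilin'_apply', ← hForm_apply H, ← g.2 x y, hForm_apply,
        ← Matrix.mulVec_mulVec, ← Matrix.mulVec_mulVec, Matrix.transpose_transpose,
        Matrix.dotProduct_mulVec, Matrix.vecMul_transpose, LinearMap.toMatrix'_mulVec,
        LinearMap.toMatrix'_mulVec]
      rfl
    · show (LinearMap.toMatrix' g.1.toLinearMap)ᵀᵀ *ᵥ x = g.1 x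
      rw [Matrix.transpose_transpose, LinearMap.toMatrix'_mulVec]
      rfl
  haveI : Fintype O := Fintype.ofFinite O
  rw [← Nat.card_congr (Equiv.sigmaFiberEquiv π), Nat.card_sigma,
    Finset.sum_congr rfl (fun M _ => hfibre M), Finset.sum_const, Finset.card_univ, smul_eq_mul,
    ← Nat.card_eq_fintype_card, Nat.card_congr (Equiv.ofBijective ψ hψ)]

/-- the centraliser of an involution -/
theorem card_centralizer {t : Matrix.symplecticGroup (Fin m) F} {a : Frame m F s}
    {H : Matrix (Fin s) (Fin s) F} (h : Data t a H) :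
    Nat.card (Subgroup.centralizer ({t} : Set (Matrix.symplecticGroup (Fin m) F))) =
      Nat.card (Isom (hForm H)) *
        (Fintype.card F ^ (m ^ 2 - s.choose 2) *
          ∏ i ∈ Finset.range (m - s), (Fintype.card F ^ (2 * (i + 1)) - 1)) := by
  rw [← card_pointwise_stab (frame_length_le a) a]
  have hG : Realises (⊤ : Subgroup Sp) a H := fun M hM => by
    have hu : IsUnit M := by
      rw [Matrix.isUnit_iff_isUnit_det, isUnit_iff_ne_zero]
      intro h0
      have := congrArg Matrix.det hM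
      rw [Matrix.det_mul, Matrix.det_mul, h0, zero_mul, zero_mul] at this
      exact ((Matrix.isUnit_iff_isUnit_det H).mp h.1).ne_zero this.symm
    obtain ⟨a', -, ha'⟩ := exists_frame_change h M hu h.1 h.2.1 hM
    obtain ⟨g, hg⟩ := exists_sp_map a.1 a'.1 a.2.1 a'.2.1 fun i j => by rw [a.2.2, a'.2.2]
    refine ⟨g, trivial, fun i => ?_⟩
    rw [hg, ← ha', comb_apply]
    simp [Pi.single_apply]
  have h' := card_centralizer_sub h ⊤ hG
  simpa using h'

/-- every symmetric invertible matrix on a frame gives an involution -/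
theorem exists_of_data (a : Frame m F s) {H : Matrix (Fin s) (Fin s) F} (hH : IsUnit H)
    (hsym : H.IsSymm) :
    ∃ t : Matrix.symplecticGroup (Fin m) F, t ^ 2 = 1 ∧ Data t a H := by
  let L : 𝕍 →ₗ[F] 𝕍 := LinearMap.id + (comb a.1).comp (H.mulVecLin.comp (cvec a.1))
  have hL : ∀ v, LinearMap.toMatrix' L *ᵥ v = v + comb a.1 (H *ᵥ cvec a.1 v) := fun v => by
    rw [LinearMap.toMatrix'_mulVec]; rfl
  have hmem : LinearMap.toMatrix' L ∈ Matrix.symplecticGroup (Fin m) F := by
    rw [mem_symplectic_iff_form]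
    intro u v
    rw [hL, hL]
    simp only [sf_add_left, sf_add_right, sf_comb_left, sf_comb_right, map_add, cvec_comb,
      dotProduct_zero, neg_zero, add_zero]
    rw [dotProduct_comm (H *ᵥ cvec a.1 v), ← hForm_apply, dotProduct_comm (H *ᵥ cvec a.1 u),
      ← hForm_apply, hForm_symm hsym (cvec a.1 v)]
    ring
  refine ⟨⟨_, hmem⟩, sp_ext fun v => ?_, hH, hsym, hL⟩
  rw [sq, Submonoid.coe_mul, ← Matrix.mulVec_mulVec, hL, hL, map_add, cvec_comb, add_zero,
    add_assoc, Submonoid.coe_one, Matrix.one_mulVec]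
  funext i
  simp only [Pi.add_apply]
  rw [CharTwo.add_self_eq_zero, add_zero]

end two

end Cfsg.Agent.Symplectic.Invol
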