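import Mathlib

/-! Numerical estimates for the minimal index of `Sp_2m(q)`. -/

set_option autoImplicit false

namespace Cfsg.Agent.Symplectic.MinGen

section

variable {q Q N n : ℕ}

theorem N_le (hq : 3 ≤ q) (hN : N * (q - 1) + 1 = q ^ 2 * Q) : N ≤ 2 * q * Q := by
  obtain ⟨r, rfl⟩ : ∃ r, q = r + 1 := ⟨q - 1, by omega⟩
  simp only [Nat.add_sub_cancel] at hN
  nlinarith

theorem est_scalar (hq : 3 ≤ q) (hN : N * (q - 1) + 1 = q ^ 2 * Q) (hQ : q ^ 2 ≤ Q)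
    (hq4 : 4 ≤ q) (h : (q + 2) * (q * (Q - 1)) ≤ q * n) : N ≤ n := by
  have h1 : (q + 2) * (Q - 1) ≤ n := by
    refine Nat.le_of_mul_le_mul_left ?_ (by omega : 0 < q)
    calc q * ((q + 2) * (Q - 1)) = (q + 2) * (q * (Q - 1)) := by ring
      _ ≤ _ := h
  have hQ1 : 1 ≤ Q := le_trans (Nat.one_le_pow _ _ (by omega)) hQ
  zify [hQ1, (by omega : 1 ≤ q)] at h1 hN hQ hq4 hq ⊢
  nlinarith

theorem est_small_dual (hq : 3 ≤ q) (hN : N * (q - 1) + 1 = q ^ 2 * Q) (hQ : q ^ 2 ≤ Q)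
    (h : q * (q * (Q - 1)) ≤ (q - 2) * n) : N ≤ n := by
  have hQ1 : 1 ≤ Q := le_trans (Nat.one_le_pow _ _ (by omega)) hQ
  refine Nat.le_of_mul_le_mul_left ?_ (by omega : 0 < q - 2)
  refine le_trans ?_ h
  refine Nat.le_of_mul_le_mul_right ?_ (by omega : 0 < q - 1)
  zify [hQ1, (by omega : 2 ≤ q), (by omega : 1 ≤ q)] at hN hQ hq ⊢
  have : (N : ℤ) * (q - 1) = q ^ 2 * Q - 1 := by linarith
  have h1 : (q : ℤ) ^ 2 * q ^ 2 ≤ q ^ 2 * Q := mul_le_mul_of_nonneg_left hQ (by positivity)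
  have h2 : (q : ℤ) ^ 3 ≤ q ^ 2 * q ^ 2 := by
    rw [← pow_add]; exact pow_le_pow_right₀ (by linarith) (by norm_num)
  have h3 : (0 : ℤ) ≤ (q : ℤ) ^ 2 := by positivity
  calc ((q : ℤ) - 2) * N * (q - 1) = (q - 2) * (q ^ 2 * Q - 1) := by rw [mul_assoc, this]
    _ ≤ _ := by nlinarith

theorem est_small_side (hq : 3 ≤ q) (hN : N * (q - 1) + 1 = q ^ 2 * Q) (hQ : q ^ 2 ≤ Q)
    (h : 4 * (Q * (Q - 1)) ≤ q * n) : N ≤ n := by
  have h1 := N_le hq hN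
  refine Nat.le_of_mul_le_mul_left ?_ (by omega : 0 < q)
  refine le_trans (Nat.mul_le_mul_left q h1) (le_trans ?_ h)
  have hQ1 : 1 ≤ Q := le_trans (Nat.one_le_pow _ _ (by omega)) hQ
  zify [hQ1] at hQ hq ⊢
  nlinarith

theorem est_small_even (hq : 3 ≤ q) (hN : N * (q - 1) + 1 = q ^ 2 * Q) (hQ : q ^ 4 ≤ Q)
    (h : Q * (Q - 1) ≤ q * n) : N ≤ n := by
  have h1 := N_le hq hN
  refine Nat.le_of_mul_le_mul_left ?_ (by omega : 0 < q)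
  refine le_trans (Nat.mul_le_mul_left q h1) (le_trans ?_ h)
  have hQ1 : 1 ≤ Q := le_trans (Nat.one_le_pow _ _ (by omega)) hQ
  zify [hQ1] at hQ hq ⊢
  have h9 : (9 : ℤ) ≤ q ^ 2 := by nlinarith
  have h10 : 2 * (q : ℤ) ^ 2 + 1 ≤ Q := by nlinarith
  nlinarith [mul_le_mul_of_nonneg_left h10 (show (0 : ℤ) ≤ Q by positivity)]

theorem est_small_odd (hq : 3 ≤ q) (hN : N * (q - 1) + 1 = q ^ 2 * Q) (hQ : q ^ 4 ≤ Q)
    (h : (q + 1) * (Q * (Q - 1)) ≤ 2 * q ^ 2 * n) : N ≤ n := by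
  have h1 := N_le hq hN
  refine Nat.le_of_mul_le_mul_left ?_ (by positivity : 0 < 2 * q ^ 2)
  refine le_trans (Nat.mul_le_mul_left _ h1) (le_trans ?_ h)
  have hQ1 : 1 ≤ Q := le_trans (Nat.one_le_pow _ _ (by omega)) hQ
  zify [hQ1] at hQ hq ⊢
  have h9 : (9 : ℤ) ≤ q ^ 2 := by nlinarith
  have key : 4 * (q : ℤ) ^ 3 ≤ (q + 1) * (Q - 1) := by
    nlinarith [mul_le_mul_of_nonneg_left h9 (pow_nonneg (by omega : (0 : ℤ) ≤ q) 2)]
  nlinarith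

theorem key_pairs {E : ℕ} (hq : 3 ≤ q) (hE : q ^ 2 ≤ E) :
    2 * q ^ 3 * E ^ 3 ≤ (q ^ 2 - 1) * ((E ^ 2 - 1) * (E ^ 2 - q ^ 2)) := by
  have h1 : 1 ≤ q ^ 2 := Nat.one_le_pow _ _ (by omega)
  have h9 : 9 ≤ q ^ 2 := by nlinarith
  have hE2 : q ^ 4 ≤ E ^ 2 := by calc q ^ 4 = (q ^ 2) ^ 2 := by ring
                                   _ ≤ E ^ 2 := Nat.pow_le_pow_left hE 2
  have h81 : 81 ≤ q ^ 4 := by nlinarith
  have h2 : q ^ 2 ≤ E ^ 2 := by nlinarith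
  have h3 : 1 ≤ E ^ 2 := by omega
  zify [h1, h2, h3] at hq hE h9 hE2 h81 ⊢
  have e0 : (0 : ℤ) ≤ E := by positivity
  generalize (q : ℤ) = a at *
  generalize (E : ℤ) = e at *
  have a1 : 80 * e ^ 2 ≤ 81 * (e ^ 2 - 1) := by linarith
  have a2 : (a ^ 2 - 1) * e ^ 2 ≤ a ^ 2 * (e ^ 2 - a ^ 2) := by nlinarith
  have a3 : 162 * a ^ 3 ≤ 80 * (a ^ 2 - 1) ^ 2 := by nlinarith
  have p1 : 0 ≤ a ^ 2 - 1 := by linarith
  have a0 : 0 ≤ a := by linarith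
  have main : 162 * a ^ 5 * e ^ 3 ≤
      81 * a ^ 2 * ((a ^ 2 - 1) * ((e ^ 2 - 1) * (e ^ 2 - a ^ 2))) := by
    calc 162 * a ^ 5 * e ^ 3 = 162 * a ^ 3 * (a ^ 2 * e ^ 3) := by ring
      _ ≤ 80 * (a ^ 2 - 1) ^ 2 * (e * e ^ 3) := by
          refine mul_le_mul a3 (mul_le_mul_of_nonneg_right hE (by positivity)) (by positivity)
            (by positivity)
      _ = (a ^ 2 - 1) * ((80 * e ^ 2) * ((a ^ 2 - 1) * e ^ 2)) := by ring
      _ ≤ (a ^ 2 - 1) * ((81 * (e ^ 2 - 1)) * (a ^ 2 * (e ^ 2 - a ^ 2))) :=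
          mul_le_mul_of_nonneg_left
            (mul_le_mul a1 a2 (by positivity) (by linarith)) p1
      _ = _ := by ring
  refine le_of_mul_le_mul_left (a := 81 * a ^ 2) ?_ (by positivity)
  calc 81 * a ^ 2 * (2 * a ^ 3 * e ^ 3) = 162 * a ^ 5 * e ^ 3 := by ring
    _ ≤ _ := main

theorem est_pairs_even {E : ℕ} (hq : 3 ≤ q) (hN : N * (q - 1) + 1 = q ^ 2 * E ^ 2) (hE : q ^ 2 ≤ E)
    (h : q * (E ^ 2 - 1) * (E ^ 2 - q ^ 2) ≤ q * E * n) : N ≤ n := by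
  have hk := key_pairs hq hE
  have hE0 : 0 < E := lt_of_lt_of_le (by positivity) hE
  refine Nat.le_of_mul_le_mul_left ?_ (by positivity : 0 < q * E)
  refine le_trans ?_ h
  refine Nat.le_of_mul_le_mul_right ?_ (by omega : 0 < q - 1)
  have hX : N * (q - 1) ≤ q ^ 2 * E ^ 2 := by omega
  have e1 : q ^ 2 - 1 = (q + 1) * (q - 1) := by
    have := Nat.sq_sub_sq q 1
    simpa using this
  calc q * E * N * (q - 1) = q * E * (N * (q - 1)) := by ring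
    _ ≤ q * E * (q ^ 2 * E ^ 2) := Nat.mul_le_mul_left _ hX
    _ ≤ _ := by
      refine Nat.le_of_mul_le_mul_left ?_ (by omega : 0 < q + 1)
      calc (q + 1) * (q * E * (q ^ 2 * E ^ 2)) = (q + 1) * (q ^ 3 * E ^ 3) := by ring
        _ ≤ 2 * q * (q ^ 3 * E ^ 3) := Nat.mul_le_mul_right _ (by omega)
        _ = q * (2 * q ^ 3 * E ^ 3) := by ring
        _ ≤ q * ((q ^ 2 - 1) * ((E ^ 2 - 1) * (E ^ 2 - q ^ 2))) := Nat.mul_le_mul_left _ hk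
        _ = _ := by rw [e1]; ring

theorem est_pairs_odd {E : ℕ} (hq : 3 ≤ q) (hN : N * (q - 1) + 1 = q ^ 2 * E ^ 2) (hE : q ^ 2 ≤ E)
    (h : (q + 1) * (q * (E ^ 2 - 1) * (E ^ 2 - q ^ 2)) ≤ 2 * q * (q * E) * n) : N ≤ n := by
  have hk := key_pairs hq hE
  have hE0 : 0 < E := lt_of_lt_of_le (by positivity) hE
  refine Nat.le_of_mul_le_mul_left ?_ (by positivity : 0 < 2 * q * (q * E))
  refine le_trans ?_ h
  refine Nat.le_of_mul_le_mul_right ?_ (by omega : 0 < q - 1)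
  have hX : N * (q - 1) ≤ q ^ 2 * E ^ 2 := by omega
  have e1 : q ^ 2 - 1 = (q + 1) * (q - 1) := by
    have := Nat.sq_sub_sq q 1
    simpa using this
  calc 2 * q * (q * E) * N * (q - 1) = 2 * q * (q * E) * (N * (q - 1)) := by ring
    _ ≤ 2 * q * (q * E) * (q ^ 2 * E ^ 2) := Nat.mul_le_mul_left _ hX
    _ = q * (2 * q ^ 3 * E ^ 3) := by ring
    _ ≤ q * ((q ^ 2 - 1) * ((E ^ 2 - 1) * (E ^ 2 - q ^ 2))) := Nat.mul_le_mul_left _ hk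
    _ = _ := by rw [e1]; ring

theorem est_plane_even (hq : 4 ≤ q) (hN : N * (q - 1) + 1 = q ^ 2 * q ^ 2)
    (h : 2 * (q * (q ^ 2 - 1)) ≤ n) : N ≤ n := by
  refine le_trans ?_ h
  refine Nat.le_of_mul_le_mul_right ?_ (by omega : 0 < q - 1)
  zify [(by omega : 1 ≤ q), (Nat.one_le_pow _ _ (by omega) : 1 ≤ q ^ 2)] at hN hq ⊢
  nlinarith

theorem est_plane_odd (hq : 4 ≤ q) (hN : N * (q - 1) + 1 = q ^ 2 * q ^ 2)
    (h : 3 * ((q + 1) * (q * (q ^ 2 - 1))) ≤ 2 * q * n) : N ≤ n := by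
  refine Nat.le_of_mul_le_mul_left ?_ (by positivity : 0 < 2 * q)
  refine le_trans ?_ h
  refine Nat.le_of_mul_le_mul_right ?_ (by omega : 0 < q - 1)
  zify [(by omega : 1 ≤ q), (Nat.one_le_pow _ _ (by omega) : 1 ≤ q ^ 2)] at hN hq ⊢
  have : (N : ℤ) * (q - 1) = q ^ 4 - 1 := by linarith
  have h5 : (0 : ℤ) ≤ (q : ℤ) * (q ^ 2 - 1) * (q ^ 2 - 5) := by
    refine mul_nonneg (mul_nonneg (by positivity) ?_) ?_ <;> nlinarith
  calc 2 * (q : ℤ) * N * (q - 1) = 2 * q * (q ^ 4 - 1) := by rw [mul_assoc, this]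
    _ ≤ _ := by nlinarith

end

end Cfsg.Agent.Symplectic.MinGen
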