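import Cfsg.Agent.Symplectic.MinIndexTwo

/-! Subgroups of small index in `Sp_2m(q)`: orbits on points and radical invariants. -/

set_option autoImplicit false
set_option maxHeartbeats 1000000
set_option linter.unusedSectionVars false

namespace Cfsg.Agent.Symplectic.MinGen

open scoped Matrix LinearAlgebra.Projectivization
open Cfsg.Agent.Symplectic
open Cfsg.Agent.Symplectic.MinTwo (El El_mulVec El_mul El_zero El_conj inv_fix transitive_perp T_comm)

variable {m : ℕ} {F : Type*} [Field F] [Fintype F]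

local notation "𝕍" => (Fin m ⊕ Fin m → F)
local notation "sf" => Cfsg.sympForm m F
local notation "Sp" => Matrix.symplecticGroup (Fin m) F

theorem sf_zero (v : 𝕍) : sf v (0 : 𝕍) = 0 := by simpa using sf_smul_right (0 : F) v v

theorem sf_neg_right (u v : 𝕍) : sf u (-v) = -sf u v := by
  simpa using sf_smul_right (-1 : F) u v

theorem inv_mulVec_cancel (g : Sp) (u : 𝕍) :
    ((g⁻¹ : Sp) : Mat m F) *ᵥ ((g : Mat m F) *ᵥ u) = u := by
  rw [Matrix.mulVec_mulVec, ← Submonoid.coe_mul, inv_mul_cancel, Submonoid.coe_one,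
    Matrix.one_mulVec]

theorem mulVec_inv_cancel (g : Sp) (u : 𝕍) :
    (g : Mat m F) *ᵥ (((g⁻¹ : Sp) : Mat m F) *ᵥ u) = u := by
  rw [Matrix.mulVec_mulVec, ← Submonoid.coe_mul, mul_inv_cancel, Submonoid.coe_one,
    Matrix.one_mulVec]

theorem El_smul_center (v x : 𝕍) (t c : F) (h : sf v x = 0) :
    El (t • v) x c = El v (t • x) (t ^ 2 * c) := by
  refine sp_ext fun y => ?_
  rw [El_mulVec (by rw [sf_smul_left, h, mul_zero]), El_mulVec (by rw [sf_smul_right, h, mul_zero]),
    sf_smul_right, sf_smul_right]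
  module

theorem El_smul_self (v : 𝕍) (a c : F) : El v (a • v) c = T v (c + 2 * a) := by
  refine sp_ext fun y => ?_
  rw [El_mulVec (by rw [sf_smul_right, sf_self, mul_zero]), T_mulVec, sf_smul_right]
  module

theorem El_inv {v x : 𝕍} (h : sf v x = 0) (c : F) : (El v x c)⁻¹ = El v (-x) (-c) := by
  refine inv_eq_of_mul_eq_one_right ?_
  have e : sf (-x) x = 0 := by rw [sf_swap, sf_neg_right, sf_self, neg_zero, neg_zero]
  rw [El_mul h (by rw [sf_neg_right, h, neg_zero]), add_neg_cancel, El_zero, add_neg_cancel,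
    zero_add, e, T_zero]

theorem El_mul_T {v x : 𝕍} (h : sf v x = 0) (c d : F) : El v x c * T v d = El v x (c + d) := by
  rw [← El_zero, El_mul h (sf_zero v), add_zero, sf_swap, sf_zero, neg_zero, add_zero]

theorem El_fix {v x : 𝕍} (h : sf v x = 0) (c : F) : (El v x c : Mat m F) *ᵥ v = v := by
  rw [El_mulVec h, h, sf_self]
  simp

/-! ### Points and orbits -/

/-- the stabiliser of the point of `v` -/
def stabP {v : Fin m ⊕ Fin m → F} (hv : v ≠ 0) : Subgroup (Matrix.symplecticGroup (Fin m) F) :=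
  MulAction.stabilizer (Matrix.symplecticGroup (Fin m) F) (Projectivization.mk F v hv)

theorem mem_stabP {v : 𝕍} (hv : v ≠ 0) (g : Sp) :
    g ∈ stabP hv ↔ ∃ t : F, t ≠ 0 ∧ (g : Mat m F) *ᵥ v = t • v := by
  rw [stabP, MulAction.mem_stabilizer_iff, smul_mk_eq, Projectivization.mk_eq_mk_iff']
  constructor
  · rintro ⟨t, ht⟩
    refine ⟨t, fun h => sp_mulVec_ne_zero g hv (by rw [← ht, h, zero_smul]), ht.symm⟩
  · rintro ⟨t, -, ht⟩
    exact ⟨t, ht.symm⟩

theorem El_mem_stabP {v x : 𝕍} (hv : v ≠ 0) (h : sf v x = 0) (c : F) : El v x c ∈ stabP hv :=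
  (mem_stabP hv _).2 ⟨1, one_ne_zero, by rw [El_fix h, one_smul]⟩

/-- the size of the orbit of the point stabiliser on the cosets of `H` -/
noncomputable def osz (H : Subgroup (Matrix.symplecticGroup (Fin m) F)) {v : Fin m ⊕ Fin m → F}
    (hv : v ≠ 0) : ℕ :=
  H.relIndex (stabP hv)

theorem osz_pos (H : Subgroup Sp) {v : 𝕍} (hv : v ≠ 0) : 0 < osz H hv :=
  Nat.pos_of_ne_zero Subgroup.FiniteIndex.index_ne_zero

theorem pretransitive : MulAction.IsPretransitive Sp (ℙ F 𝕍) :=
  ⟨fun P R => by rw [← P.mk_rep, ← R.mk_rep]; exact exists_smul_eq_one _ _ _⟩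

theorem index_stabP {v : 𝕍} (hv : v ≠ 0) : (stabP hv).index = Nat.card (ℙ F 𝕍) := by
  haveI := pretransitive (m := m) (F := F)
  exact MulAction.index_stabilizer_of_transitive Sp _

theorem card_points_mul :
    Nat.card (ℙ F 𝕍) * (Fintype.card F - 1) = Fintype.card F ^ (2 * m) - 1 := by
  have h := Projectivization.card F 𝕍
  rw [Nat.card_eq_fintype_card (α := F)] at h
  rw [← h, Nat.card_eq_fintype_card, Fintype.card_fun, Fintype.card_sum, Fintype.card_fin, two_mul]

/-- the double counting identity -/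
theorem osz_mul (H : Subgroup Sp) {v : 𝕍} (hv : v ≠ 0) :
    osz H hv * Nat.card (ℙ F 𝕍) =
      H.index * Nat.card (MulAction.orbit H (Projectivization.mk F v hv)) := by
  have hs : Nat.card (MulAction.orbit H (Projectivization.mk F v hv)) =
      (stabP hv).relIndex H := by
    rw [Nat.card_coe_set_eq, ← MulAction.index_stabilizer]
    rfl
  rw [hs, osz, ← index_stabP hv, ← Subgroup.inf_relIndex_right H (stabP hv),
    Subgroup.relIndex_mul_index inf_le_right, ← Subgroup.inf_relIndex_left H (stabP hv),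
    mul_comm, Subgroup.relIndex_mul_index inf_le_left]

theorem osz_le (H : Subgroup Sp) {v : 𝕍} (hv : v ≠ 0) : osz H hv ≤ H.index := by
  have h := osz_mul H hv
  have hN : 0 < Nat.card (ℙ F 𝕍) := Nat.card_pos_iff.2 ⟨⟨Projectivization.mk F v hv⟩, inferInstance⟩
  have hs : Nat.card (MulAction.orbit H (Projectivization.mk F v hv)) ≤ Nat.card (ℙ F 𝕍) :=
    Finite.card_subtype_le _
  refine Nat.le_of_mul_le_mul_right ?_ hN
  rw [h]
  exact Nat.mul_le_mul_left _ hs

/-- a dominating orbit forces transitivity -/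
theorem transitive_of_big (H : Subgroup Sp) {v : 𝕍} (hv : v ≠ 0)
    (hn : H.index < Nat.card (ℙ F 𝕍)) {B : ℕ} (hB : Nat.card (ℙ F 𝕍) ≤ osz H hv + B)
    (hB2 : B * B < osz H hv) {u : 𝕍} (hu : u ≠ 0) :
    ∃ h ∈ H, h • Projectivization.mk F v hv = Projectivization.mk F u hu := by
  by_contra hcon
  push Not at hcon
  set N := Nat.card (ℙ F 𝕍)
  set n := H.index
  set p := Projectivization.mk F v hv
  set r := Projectivization.mk F u hu
  have hd : Disjoint (MulAction.orbit H p) (MulAction.orbit H r) := by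
    refine Set.disjoint_left.2 fun x hx hx' => ?_
    have hrp : r ∈ MulAction.orbit H p := by
      rw [← MulAction.orbit_eq_iff.2 hx, MulAction.orbit_eq_iff.2 hx']
      exact MulAction.mem_orbit_self r
    obtain ⟨h, hh⟩ := hrp
    exact hcon h.1 h.2 hh
  have hsum : Nat.card (MulAction.orbit H p) + Nat.card (MulAction.orbit H r) ≤ N := by
    rw [Nat.card_coe_set_eq, Nat.card_coe_set_eq, ← Set.ncard_union_eq hd]
    exact Set.ncard_le_card _
  have h1 : osz H hv * N = n * Nat.card (MulAction.orbit H p) := osz_mul H hv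
  have h2 : osz H hu * N = n * Nat.card (MulAction.orbit H r) := osz_mul H hu
  set a := osz H hv
  set b := osz H hu
  set s := Nat.card (MulAction.orbit H r)
  have hab : a + b ≤ n := by
    refine Nat.le_of_mul_le_mul_right ?_ (by omega : 0 < N)
    rw [add_mul, h1, h2, ← mul_add]
    exact Nat.mul_le_mul_left _ hsum
  have hb0 : 0 < b := osz_pos H hu
  have hn0 : 0 < n := by omega
  have hbs : b + 1 ≤ s := by
    by_contra hle
    have h3 : n * s < N * b := by
      calc n * s ≤ n * b := Nat.mul_le_mul_left _ (by omega)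
        _ < N * b := Nat.mul_lt_mul_of_pos_right hn hb0
    rw [mul_comm b N] at h2
    omega
  have h4 : n * (b + 1) ≤ b * N := h2 ▸ Nat.mul_le_mul_left n hbs
  have h5 : b * N = b * n + b * (N - n) := by rw [← mul_add, Nat.add_sub_cancel' hn.le]
  have h6 : b * (N - n) ≤ B * B := Nat.mul_le_mul (by omega) (by omega)
  rw [mul_add, mul_one, mul_comm n b] at h4
  omega

/-! ### Full root groups -/

/-- the whole root group at `v` lies in `H` -/
def Full (H : Subgroup (Matrix.symplecticGroup (Fin m) F)) (v : Fin m ⊕ Fin m → F) : Prop :=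
  ∀ c, T v c ∈ H

theorem full_smul {H : Subgroup Sp} {v : 𝕍} (h : Full H v) (a : F) : Full H (a • v) := fun c => by
  rw [T_smul]; exact h _

theorem full_of_mem {H : Subgroup Sp} {v : 𝕍} (h : Full H v) {g : Sp} (hg : g ∈ H) :
    Full H ((g : Mat m F) *ᵥ v) := fun c => by
  rw [← T_conj]; exact H.mul_mem (H.mul_mem hg (h c)) (H.inv_mem hg)

theorem full_smul_iff {H : Subgroup Sp} {v : 𝕍} {a : F} (ha : a ≠ 0) :
    Full H (a • v) ↔ Full H v :=
  ⟨fun h => by have := full_smul h a⁻¹; rwa [smul_smul, inv_mul_cancel₀ ha, one_smul] at this,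
    fun h => full_smul h a⟩

/-- two full non-orthogonal vectors make their plane full -/
theorem full_plane {H : Subgroup Sp} {u w : 𝕍} (hu : Full H u) (hw : Full H w) (huw : sf u w ≠ 0)
    (a b : F) : Full H (a • u + b • w) := by
  by_cases ha : a = 0
  · rw [ha, zero_smul, zero_add]; exact full_smul hw b
  · have key := full_of_mem hu (hw (b * a⁻¹ * (sf u w)⁻¹))
    rw [T_mulVec, mul_assoc, inv_mul_cancel₀ huw, mul_one] at key
    have := full_smul key a
    rwa [smul_add, smul_smul, mul_comm b, ← mul_assoc, mul_inv_cancel₀ ha, one_mul] at this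

theorem eq_top_of_full {H : Subgroup Sp} (h : ∀ v : 𝕍, Full H v) : H = ⊤ := by
  refine eq_top_iff.2 ?_
  rw [← closure_TSet m F, Subgroup.closure_le]
  rintro _ ⟨w, c, rfl⟩
  exact h w c

/-! ### Radical invariants -/

/-- the conjugate of `H` -/
def cj (g : Matrix.symplecticGroup (Fin m) F) (H : Subgroup (Matrix.symplecticGroup (Fin m) F)) :
    Subgroup (Matrix.symplecticGroup (Fin m) F) :=
  H.map (MulAut.conj g).toMonoidHom

theorem mem_cj {g a : Sp} {H : Subgroup Sp} : a ∈ cj g H ↔ g⁻¹ * a * g ∈ H := by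
  rw [cj, Subgroup.mem_map]
  constructor
  · rintro ⟨b, hb, rfl⟩
    simpa [mul_assoc] using hb
  · intro h
    exact ⟨_, h, by simp [mul_assoc]⟩

theorem index_cj (g : Sp) (H : Subgroup Sp) : (cj g H).index = H.index :=
  Subgroup.index_map_equiv H (MulAut.conj g)

/-- the root part of `H` at `v` -/
def Zs (H : Subgroup (Matrix.symplecticGroup (Fin m) F)) (v : Fin m ⊕ Fin m → F) : AddSubgroup F where
  carrier := {c | T v c ∈ H}
  zero_mem' := by show T v (0 : F) ∈ H; rw [T_zero]; exact H.one_mem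
  add_mem' := fun {a b} ha hb => by show T v (a + b) ∈ H; rw [← T_mul]; exact H.mul_mem ha hb
  neg_mem' := fun {a} ha => by show T v (-a) ∈ H; rw [← T_inv]; exact H.inv_mem ha

theorem mem_Zs {H : Subgroup Sp} {v : 𝕍} {c : F} : c ∈ Zs H v ↔ T v c ∈ H := Iff.rfl

/-- the image of `H ∩ Q_v` in `v⊥` -/
def Xs (H : Subgroup (Matrix.symplecticGroup (Fin m) F)) (v : Fin m ⊕ Fin m → F) :
    AddSubgroup (Fin m ⊕ Fin m → F) where
  carrier := {x | Cfsg.sympForm m F v x = 0 ∧ ∃ c, El v x c ∈ H}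
  zero_mem' := ⟨by simpa using sf_smul_right (0 : F) v v, 0,
    by rw [El_zero, T_zero]; exact H.one_mem⟩
  add_mem' := fun {x y} ⟨hx, c, hc⟩ ⟨hy, d, hd⟩ =>
    ⟨by rw [sf_add_right, hx, hy, add_zero], _, by
      have := H.mul_mem hc hd; rwa [El_mul hx hy] at this⟩
  neg_mem' := fun {x} ⟨hx, c, hc⟩ =>
    ⟨by simpa [hx] using sf_smul_right (-1 : F) v x, -c, by rw [← El_inv hx]; exact H.inv_mem hc⟩

theorem mem_Xs {H : Subgroup Sp} {v x : 𝕍} : x ∈ Xs H v ↔ sf v x = 0 ∧ ∃ c, El v x c ∈ H :=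
  Iff.rfl

theorem smul_self_mem_Xs (H : Subgroup Sp) (v : 𝕍) (a : F) : a • v ∈ Xs H v :=
  ⟨by rw [sf_smul_right, sf_self, mul_zero], -(2 * a), by
    rw [El_smul_self, neg_add_cancel, T_zero]; exact H.one_mem⟩

theorem Zs_cj_El {H : Subgroup Sp} {v x : 𝕍} (h : sf v x = 0) (c : F) :
    Zs (cj (El v x c) H) v = Zs H v := by
  ext d
  have e : (El v x c)⁻¹ * T v d * El v x c = T v d := by
    have h' := T_conj ((El v x c)⁻¹) v d
    rw [inv_inv, inv_fix (El_fix h c)] at h'
    exact h'
  rw [mem_Zs, mem_Zs, mem_cj, e]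

theorem Xs_cj_El {H : Subgroup Sp} {v x : 𝕍} (h : sf v x = 0) (c : F) :
    Xs (cj (El v x c) H) v = Xs H v := by
  ext y
  rw [mem_Xs, mem_Xs]
  refine and_congr_right fun hy => ?_
  have hn : sf v (-x) = 0 := by rw [sf_neg_right, h, neg_zero]
  have key : ∀ d, (El v x c)⁻¹ * El v y d * El v x c = El v y (d + 2 * sf x y) := fun d => by
    rw [El_inv h, El_mul hn hy, El_mul (by rw [sf_add_right, hn, hy, add_zero]) h,
      neg_add_cancel_comm]
    refine congrArg (El v y) ?_
    rw [sf_add_right, sf_neg_right x x, sf_neg_right y x, sf_self, neg_zero, zero_add, sf_swap y x]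
    ring
  constructor
  · rintro ⟨d, hd⟩
    rw [mem_cj, key] at hd
    exact ⟨_, hd⟩
  · rintro ⟨d, hd⟩
    refine ⟨d - 2 * sf x y, ?_⟩
    rw [mem_cj, key, sub_add_cancel]
    exact hd

/-- the same coset after moving by the radical -/
def Rel (H : Subgroup (Matrix.symplecticGroup (Fin m) F)) (v : Fin m ⊕ Fin m → F)
    (r r' : Matrix.symplecticGroup (Fin m) F) : Prop :=
  ∃ x, Cfsg.sympForm m F v x = 0 ∧ ∃ c, El v x c * (r⁻¹ * r') ∈ H

theorem invariants_of_rel {H : Subgroup Sp} {v : 𝕍} {r r' : Sp} (hr : (r' : Sp) ∈ (⊤ : Subgroup Sp))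
    (hrv : ∃ t : F, t ≠ 0 ∧ (r : Mat m F) *ᵥ v = t • v) (h : Rel H v r r') :
    Zs (cj r H) v = Zs (cj r' H) v ∧ Xs (cj r H) v = Xs (cj r' H) v := by
  obtain ⟨x, hx, c, hc⟩ := h
  obtain ⟨t, ht, htv⟩ := hrv
  set e := r * El v x c * r⁻¹ with he
  have hx' : sf v ((r : Mat m F) *ᵥ x) = 0 := by
    have := sf_invariant r v x
    rw [htv, sf_smul_left, hx] at this
    exact (mul_eq_zero.1 this).resolve_left ht
  have heq : e = El v (t • ((r : Mat m F) *ᵥ x)) (t ^ 2 * c) := by
    rw [he, El_conj, htv, El_smul_center _ _ _ _ hx']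
  have hey : sf v (t • ((r : Mat m F) *ᵥ x)) = 0 := by rw [sf_smul_right, hx', mul_zero]
  have hcj : cj r H = cj (e * r') H := by
    ext a
    have hmem : (r⁻¹ * (e * r')) ∈ H := by
      rw [he]; simpa [mul_assoc] using hc
    rw [mem_cj, mem_cj]
    constructor
    · intro ha
      have := H.mul_mem (H.mul_mem (H.inv_mem hmem) ha) hmem
      simpa [mul_assoc] using this
    · intro ha
      have := H.mul_mem (H.mul_mem hmem ha) (H.inv_mem hmem)
      simpa [mul_assoc] using this
  have hcomp : cj (e * r') H = cj e (cj r' H) := by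
    ext a
    simp [mem_cj, mul_assoc]
  rw [hcj, hcomp, heq, Zs_cj_El hey, Xs_cj_El hey]
  exact ⟨rfl, rfl⟩

/-- the main lower bound for the orbit of a point stabiliser -/
theorem osz_ge (H : Subgroup Sp) {v : 𝕍} (hv : v ≠ 0) {ι : Type*} [Finite ι] (rep : ι → Sp)
    (hrep : ∀ i, rep i ∈ stabP hv) (hinj : ∀ i j, Rel H v (rep i) (rep j) → i = j) :
    Nat.card ι * (Zs H v).index *
      ((Xs H v).addSubgroupOf (LinearMap.ker (spB m F v)).toAddSubgroup).index ≤ osz H hv := by
  classical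
  set P := (LinearMap.ker (spB m F v)).toAddSubgroup
  set K := (Xs H v).addSubgroupOf P
  have hP : ∀ x, x ∈ P ↔ sf v x = 0 := fun x => by
    show x ∈ LinearMap.ker (spB m F v) ↔ _
    rw [LinearMap.mem_ker, spB_apply]
  let φ : ι × (P ⧸ K) × (F ⧸ Zs H v) → stabP hv ⧸ H.subgroupOf (stabP hv) := fun p =>
    QuotientGroup.mk ⟨rep p.1 * El v (p.2.1.out : P).1 p.2.2.out,
      (stabP hv).mul_mem (hrep _) (El_mem_stabP hv ((hP _).1 p.2.1.out.2) _)⟩
  have hφ : Function.Injective φ := by
    rintro ⟨i, a, c⟩ ⟨j, a', c'⟩ h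
    have hh := QuotientGroup.eq.1 h
    rw [Subgroup.mem_subgroupOf] at hh
    simp only [Subgroup.coe_mul, Subgroup.coe_inv] at hh
    set x := (a.out : P).1
    set x' := (a'.out : P).1
    have hx : sf v x = 0 := (hP _).1 a.out.2
    have hx' : sf v x' = 0 := (hP _).1 a'.out.2
    have hnx : sf v (-x) = 0 := by rw [sf_neg_right, hx, neg_zero]
    set k := (rep i * El v x c.out)⁻¹ * (rep j * El v x' c'.out) with hk
    obtain ⟨t, ht, htv⟩ := (mem_stabP hv _).1 ((stabP hv).mul_mem ((stabP hv).inv_mem (hrep i)) (hrep j))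
    have hij : i = j := by
      refine hinj i j ?_
      set g := (rep i)⁻¹ * rep j
      -- move the right factor to the left
      have hgx : sf v ((g : Mat m F) *ᵥ x') = 0 := by
        have := sf_invariant g v x'
        rw [htv, sf_smul_left, hx'] at this
        exact (mul_eq_zero.1 this).resolve_left ht
      have hmove : g * El v x' c'.out =
          El v (t • ((g : Mat m F) *ᵥ x')) (t ^ 2 * c'.out) * g := by
        rw [← El_smul_center _ _ _ _ hgx, ← htv, ← El_conj, inv_mul_cancel_right]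
      have hgx' : sf v (t • ((g : Mat m F) *ᵥ x')) = 0 := by rw [sf_smul_right, hgx, mul_zero]
      refine ⟨-x + t • ((g : Mat m F) *ᵥ x'), by rw [sf_add_right, hnx, hgx', add_zero],
        -c.out + t ^ 2 * c'.out + sf (t • ((g : Mat m F) *ᵥ x')) (-x), ?_⟩
      have e : k = (El v x c.out)⁻¹ * (g * El v x' c'.out) := by rw [hk]; simp [g, mul_assoc]
      have hh' : k ∈ H := hh
      rw [e, hmove, ← mul_assoc, El_inv hx, El_mul hnx hgx'] at hh'
      exact hh'
    subst hij
    have hmem : (El v x c.out)⁻¹ * El v x' c'.out ∈ H := by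
      have e : k = (El v x c.out)⁻¹ * El v x' c'.out := by rw [hk]; group
      rw [← e]; exact hh
    rw [El_inv hx, El_mul hnx hx'] at hmem
    have haa : a = a' := by
      rw [← QuotientAddGroup.out_eq' a, ← QuotientAddGroup.out_eq' a', QuotientAddGroup.eq,
        AddSubgroup.mem_addSubgroupOf]
      exact ⟨by rw [AddSubgroup.coe_add, AddSubgroup.coe_neg, sf_add_right, hnx, hx', add_zero],
        _, hmem⟩
    subst haa
    rw [show x' = x from rfl, neg_add_cancel, El_zero, sf_neg_right, sf_self, neg_zero,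
      add_zero] at hmem
    have hcc : c = c' := by
      rw [← QuotientAddGroup.out_eq' c, ← QuotientAddGroup.out_eq' c', QuotientAddGroup.eq]
      exact hmem
    rw [hcc]
  have := Nat.card_le_card_of_injective φ hφ
  rw [Nat.card_prod, Nat.card_prod] at this
  calc Nat.card ι * (Zs H v).index * K.index
      = Nat.card ι * (Nat.card (P ⧸ K) * Nat.card (F ⧸ Zs H v)) := by
        rw [AddSubgroup.index_eq_card, AddSubgroup.index_eq_card]; ring
    _ ≤ _ := this.trans_eq (by rw [osz, Subgroup.relIndex, Subgroup.index_eq_card])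

end Cfsg.Agent.Symplectic.MinGen
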