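import Cfsg.Agent.Symplectic.MinIndexScalar
import Cfsg.Agent.Symplectic.MinIndexArith

/-! The possible shapes of the radical part of a subgroup of small index in `Sp_2m(q)`. -/

set_option autoImplicit false
set_option maxHeartbeats 1000000
set_option linter.unusedSectionVars false

namespace Cfsg.Agent.Symplectic.MinGen

open scoped Matrix LinearAlgebra.Projectivization Pointwise
open Cfsg.Agent.Symplectic
open Cfsg.Agent.Symplectic.MinTwo (El El_mulVec El_mul El_zero El_conj inv_fix transitive_perp T_comm)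

variable {m : ℕ} {F : Type*} [Field F] [Fintype F]

local notation "𝕍" => (Fin m ⊕ Fin m → F)
local notation "sf" => Cfsg.sympForm m F
local notation "Sp" => Matrix.symplecticGroup (Fin m) F
local notation "qq" => Fintype.card F

theorem Xs_le_vperp (H : Subgroup Sp) (v : 𝕍) : Xs H v ≤ vperp v := fun _ hx => mem_vperp.2 hx.1

theorem lineG_le_Xs (H : Subgroup Sp) (v : 𝕍) : lineG v ≤ Xs H v := fun _ hy => by
  obtain ⟨a, rfl⟩ := mem_lineG.1 hy
  exact smul_self_mem_Xs H v a

/-- the basic inequality -/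
theorem base_le {H : Subgroup Sp} {v : 𝕍} (hv : v ≠ 0) {μ : F} (hμ : μ ≠ 0) {c : ℕ}
    (hc : c ≤ cz H v) :
    c * Nat.card (Ann μ v (Xs H v)) * orbN v (Xs H v : Set 𝕍) ≤ qq * H.index := by
  have h := (osz_ge_one H hv).trans (osz_le H hv)
  have hi := index_mul_line hμ hv (Xs_le_vperp H v) (lineG_le_Xs H v)
  calc c * Nat.card (Ann μ v (Xs H v)) * orbN v (Xs H v : Set 𝕍)
      ≤ cz H v * Nat.card (Ann μ v (Xs H v)) * orbN v (Xs H v : Set 𝕍) :=
        Nat.mul_le_mul_right _ (Nat.mul_le_mul_right _ hc)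
    _ = qq * (cz H v * dx H v * orbN v (Xs H v : Set 𝕍)) := by rw [dx, ← hi]; ring
    _ ≤ _ := Nat.mul_le_mul_left _ h

theorem points_eq (k : ℕ) (hk : m = k + 1) :
    Nat.card (ℙ F 𝕍) * (qq - 1) + 1 = qq ^ 2 * qq ^ (2 * k) := by
  subst hk
  rw [card_points_mul, ← pow_add, show 2 + 2 * k = 2 * (k + 1) by ring, Nat.sub_add_cancel]
  exact Nat.one_le_pow _ _ Fintype.card_pos

theorem card_span_pair {v u : 𝕍} (hv : v ≠ 0) (hu : u ∉ lineG v) :
    Nat.card (Submodule.span F (Set.range ![v, u])) = qq ^ 2 := by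
  have hli : LinearIndependent F ![v, u] :=
    (LinearIndependent.pair_iff' hv).2 fun a ha => hu (mem_lineG.2 ⟨a, ha⟩)
  rw [Module.natCard_eq_pow_finrank (K := F), finrank_span_eq_card hli, Fintype.card_fin,
    Nat.card_eq_fintype_card]

theorem card_perp_pair {v u : 𝕍} (hv : v ≠ 0) (hu : u ∉ lineG v) :
    Nat.card (perp ![v, u]) = qq ^ (2 * m - 2) := by
  have hli : LinearIndependent F ![v, u] :=
    (LinearIndependent.pair_iff' hv).2 fun a ha => hu (mem_lineG.2 ⟨a, ha⟩)
  rw [Module.natCard_eq_pow_finrank (K := F), finrank_perp hli, Nat.card_eq_fintype_card]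

theorem mem_perp_pair {v u x : 𝕍} : x ∈ perp ![v, u] ↔ sf v x = 0 ∧ sf u x = 0 := by
  rw [mem_perp]
  exact ⟨fun h => ⟨h 0, h 1⟩, fun h i => by fin_cases i <;> simp [h.1, h.2]⟩

theorem pairs_or_plane {v : 𝕍} (hv : v ≠ 0) {Y : AddSubgroup 𝕍} (hne : ¬ Y ≤ lineG v) :
    (∃ y₁ ∈ Y, ∃ y₂ ∈ Y, LinearIndependent F ![v, y₁, y₂]) ∨
      ∃ u ∈ Y, u ∉ lineG v ∧ ∀ z ∈ Y, z ∈ Submodule.span F (Set.range ![v, u]) := by
  obtain ⟨u, hu, hu'⟩ := SetLike.not_le_iff_exists.1 hne
  by_cases h : ∀ z ∈ Y, z ∈ Submodule.span F (Set.range ![v, u])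
  · exact Or.inr ⟨u, hu, hu', h⟩
  · push Not at h
    obtain ⟨z, hz, hz'⟩ := h
    refine Or.inl ⟨u, hu, z, hz, ?_⟩
    have hsn := linearIndependent_finSnoc.2
      ⟨(LinearIndependent.pair_iff' hv).2 fun a ha => hu' (mem_lineG.2 ⟨a, ha⟩), hz'⟩
    have e : ![v, u, z] = Fin.snoc ![v, u] z := by
      funext i
      fin_cases i <;> rfl
    rw [e]
    exact hsn

/-- the exceptional shape -/
def EShape (H : Subgroup (Matrix.symplecticGroup (Fin m) F)) (v : Fin m ⊕ Fin m → F) : Prop :=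
  ∃ u, u ∉ lineG v ∧ Cfsg.sympForm m F v u = 0 ∧
    ∀ x, x ∈ Xs H v ↔ Cfsg.sympForm m F v x = 0 ∧ Cfsg.sympForm m F u x = 0

/-- the annihilator in a plane of full size gives the exceptional shape -/
theorem eShape_of_Ann {H : Subgroup Sp} {v : 𝕍} (hv : v ≠ 0) {μ : F} (hμ : μ ≠ 0) {u : 𝕍}
    (hu : u ∈ Ann μ v (Xs H v)) (hu' : u ∉ lineG v)
    (hsub : ∀ z ∈ Ann μ v (Xs H v), z ∈ Submodule.span F (Set.range ![v, u]))
    (hbig : qq ^ 2 ≤ Nat.card (Ann μ v (Xs H v))) : EShape H v := by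
  set S := (Submodule.span F (Set.range ![v, u])).toAddSubgroup
  have hS : Nat.card S = qq ^ 2 := card_span_pair hv hu'
  have heq : Ann μ v (Xs H v) = S :=
    AddSubgroup.eq_of_le_of_card_ge hsub (hS.le.trans hbig)
  have hvu : sf v u = 0 := mem_vperp.1 hu.1
  have hsub' : Xs H v ≤ (perp ![v, u]).toAddSubgroup := fun x hx => by
    refine mem_perp_pair.2 ⟨hx.1, ?_⟩
    by_contra hne
    have hne' : sf x u ≠ 0 := by rw [sf_swap]; exact neg_ne_zero.2 hne
    obtain ⟨a, ha⟩ := eChar_exists_ne (mul_ne_zero hμ hne')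
    have hau : a • u ∈ Ann μ v (Xs H v) := by
      rw [heq]
      exact (Submodule.span F (Set.range ![v, u])).smul_mem a (Submodule.subset_span ⟨1, rfl⟩)
    refine ha ?_
    rw [← hau.2 x hx, sf_smul_right]
    congr 1
    ring
  have hm : 1 ≤ m := by
    rcases Nat.eq_zero_or_pos m with rfl | h
    · exact absurd (Subsingleton.elim v 0) hv
    · exact h
  have hc := card_Ann hμ hv (Xs_le_vperp H v) (lineG_le_Xs H v)
  rw [heq, hS] at hc
  have hX : Nat.card (perp ![v, u]).toAddSubgroup ≤ Nat.card (Xs H v) := by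
    refine le_of_eq ((card_perp_pair hv hu').trans ?_)
    refine Nat.eq_of_mul_eq_mul_left (pow_pos (Fintype.card_pos (α := F)) 2) ?_
    rw [hc, ← pow_add, ← pow_succ]
    congr 1
    omega
  have := AddSubgroup.eq_of_le_of_card_ge hsub' hX
  exact ⟨u, hu', hvu, fun x => by rw [this]; exact mem_perp_pair⟩

/-- `f(X, X)` lies in the root part, in odd characteristic -/
theorem sf_mem_Zs (h2 : (2 : F) ≠ 0) {H : Subgroup Sp} {v x y : 𝕍} (hx : x ∈ Xs H v)
    (hy : y ∈ Xs H v) : sf x y ∈ Zs H v := by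
  obtain ⟨hx0, c, hc⟩ := hx
  obtain ⟨hy0, d, hd⟩ := hy
  have h1 := H.mul_mem hc hd
  have h2' := H.mul_mem hd hc
  rw [El_mul hx0 hy0] at h1
  rw [El_mul hy0 hx0] at h2'
  have h12 := H.mul_mem h1 (H.inv_mem h2')
  have hxy0 : sf v (x + y) = 0 := by rw [sf_add_right, hx0, hy0, add_zero]
  rw [add_comm y x, El_inv hxy0, El_mul hxy0 (by rw [sf_neg_right, hxy0, neg_zero]), add_neg_cancel,
    El_zero, show sf (-(x + y)) (x + y) = 0 by rw [sf_swap, sf_neg_right, sf_self, neg_zero,
      neg_zero], add_zero, sf_swap y x] at h12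
  have h3 : 2 * sf x y ∈ Zs H v := by
    rw [← neg_mem_iff]
    have : c + d + -sf x y + -(d + c + sf x y) = -(2 * sf x y) := by ring
    rw [← this]
    exact h12
  obtain ⟨p, hp⟩ := CharP.exists F
  haveI := hp
  haveI : Fact p.Prime := ⟨CharP.char_is_prime F p⟩
  have hp2 : p ≠ 2 := fun h => h2 (by subst h; exact CharTwo.two_eq_zero)
  obtain ⟨j, hj⟩ := (Nat.Prime.odd_of_ne_two (Fact.out : p.Prime) hp2)
  have h4 : (j + 1) • (2 * sf x y) ∈ Zs H v := (Zs H v).nsmul_mem h3 _
  have hp0 : (p : F) = 0 := CharP.cast_eq_zero F p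
  rw [hj] at hp0
  push_cast at hp0
  rw [nsmul_eq_mul] at h4
  push_cast at h4
  rwa [show ((j : F) + 1) * (2 * sf x y) = sf x y by linear_combination (sf x y) * hp0] at h4

theorem exists_AnnF {H : Subgroup Sp} {v : 𝕍} (hF : ¬ Full H v) :
    ∃ μ : F, μ ≠ 0 ∧ ∀ c ∈ Zs H v, eChar F (μ * c) = 1 := by
  by_contra hc
  push Not at hc
  have hsub : AnnF (Zs H v : Set F) ⊆ {0} := fun μ hμ => by
    by_contra h
    obtain ⟨c, hc1, hc2⟩ := hc μ h
    exact hc2 (hμ c hc1)
  have h1 := Set.ncard_le_ncard hsub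
  rw [Set.ncard_singleton, ← Nat.card_coe_set_eq] at h1
  have h2 := card_AnnF (Zs H v)
  have h3 := AddSubgroup.card_mul_index (Zs H v)
  rw [Nat.card_eq_fintype_card (α := F)] at h3
  have h4 := Zs_index_ge hF
  have h5 : Nat.card (AnnF (Zs H v : Set F)) * Nat.card (Zs H v) < (Zs H v).index * Nat.card (Zs H v) :=
    Nat.mul_lt_mul_of_pos_right (by omega) Nat.card_pos
  rw [h2, mul_comm, h3] at h5
  omega

theorem Xs_le_Ann (h2 : (2 : F) ≠ 0) {H : Subgroup Sp} {v : 𝕍} {μ : F}
    (hμ : ∀ c ∈ Zs H v, eChar F (μ * c) = 1) : Xs H v ≤ Ann μ v (Xs H v) :=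
  fun _ hy => ⟨Xs_le_vperp H v hy, fun _ hx => hμ _ (sf_mem_Zs h2 hx hy)⟩

/-- the radical part is small in odd characteristic -/
theorem card_Xs_sq_le (h2 : (2 : F) ≠ 0) {H : Subgroup Sp} {v : 𝕍} (hv : v ≠ 0)
    (hF : ¬ Full H v) : Nat.card (Xs H v) * Nat.card (Xs H v) ≤ qq ^ (2 * m - 1) * qq := by
  obtain ⟨μ, hμ, hμ'⟩ := exists_AnnF hF
  rw [← card_Ann hμ hv (Xs_le_vperp H v) (lineG_le_Xs H v)]
  exact Nat.mul_le_mul_right _ (AddSubgroup.card_le_of_le (Xs_le_Ann h2 hμ'))

theorem Xs_ne_vperp (h2 : (2 : F) ≠ 0) (hm : 2 ≤ m) {H : Subgroup Sp} {v : 𝕍} (hv : v ≠ 0)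
    (hF : ¬ Full H v) : Xs H v ≠ vperp v := fun h => by
  have hc := card_Xs_sq_le h2 hv hF
  rw [h, card_vperp hv] at hc
  have hlt : qq ^ 1 < qq ^ (2 * m - 1) :=
    Nat.pow_lt_pow_right Fintype.one_lt_card (by omega)
  rw [pow_one] at hlt
  have := Nat.le_of_mul_le_mul_left hc (pow_pos Fintype.card_pos _)
  omega

/-- in a group of exponent `p`, a proper fibre is small -/
theorem fibre_le {p : ℕ} [Fact p.Prime] [CharP F p] {X : AddSubgroup 𝕍} (x : 𝕍) {b : F}
    (hb : b ≠ 0) : p * ((X : Set 𝕍) ∩ {y | sf x y = b}).ncard ≤ Nat.card X := by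
  classical
  rcases Set.eq_empty_or_nonempty ((X : Set 𝕍) ∩ {y | sf x y = b}) with h | ⟨y₀, hy₀, hy₀'⟩
  · simp [h]
  have hk : ∀ j ∈ Finset.range p, ((fun y => (j : F) • y₀ + (y - y₀)) ''
      ((X : Set 𝕍) ∩ {y | sf x y = b})) ⊆ (X : Set 𝕍) ∩ {y | sf x y = (j : F) * b} := by
    rintro j - _ ⟨y, ⟨hy, hy'⟩, rfl⟩
    refine ⟨X.add_mem ?_ (X.sub_mem hy hy₀), ?_⟩
    · rw [Nat.cast_smul_eq_nsmul]; exact X.nsmul_mem hy₀ j
    · show sf x ((j : F) • y₀ + (y - y₀)) = _
      rw [sub_eq_add_neg, sf_add_right, sf_add_right, sf_smul_right, sf_neg_right,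
        show sf x y = b from hy', show sf x y₀ = b from hy₀', add_neg_cancel, add_zero]
  have hcard : ∀ j ∈ Finset.range p, ((X : Set 𝕍) ∩ {y | sf x y = b}).ncard ≤
      (Finset.univ.filter fun y : 𝕍 => y ∈ X ∧ sf x y = (j : F) * b).card := fun j hj => by
    rw [← Set.ncard_coe_finset,
      ← Set.ncard_image_of_injective ((X : Set 𝕍) ∩ {y | sf x y = b})
        (f := fun y => (j : F) • y₀ + (y - y₀)) (fun a b h => by simpa using h)]
    refine Set.ncard_le_ncard ((hk j hj).trans fun y hy => ?_)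
    simpa using hy
  have hdisj : (Finset.range p : Set ℕ).PairwiseDisjoint
      (fun j => Finset.univ.filter fun y : 𝕍 => y ∈ X ∧ sf x y = (j : F) * b) := by
    intro i hi j hj hij
    refine Finset.disjoint_left.2 fun y h1 h2 => hij ?_
    simp only [Finset.mem_filter, Finset.mem_univ, true_and] at h1 h2
    have h := mul_right_cancel₀ hb (h1.2.symm.trans h2.2)
    exact CharP.natCast_injOn_Iio F p (Finset.mem_range.1 hi) (Finset.mem_range.1 hj) h
  have h := Finset.card_nsmul_le_sum (Finset.range p)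
    (fun j => (Finset.univ.filter fun y : 𝕍 => y ∈ X ∧ sf x y = (j : F) * b).card) _ hcard
  rw [← Finset.card_biUnion hdisj, Finset.card_range, smul_eq_mul] at h
  refine h.trans (le_trans (Finset.card_le_card (t := Finset.univ.filter fun y : 𝕍 => y ∈ X) ?_)
    (le_of_eq ?_))
  · intro y hy
    simp only [Finset.mem_biUnion, Finset.mem_filter, Finset.mem_univ, true_and] at hy ⊢
    exact hy.choose_spec.2.1
  · rw [← Fintype.card_subtype, ← Nat.card_eq_fintype_card]

/-- the pairs with non-zero product inside `X` -/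
theorem pairs_in_le {p : ℕ} [Fact p.Prime] [CharP F p] {X : AddSubgroup 𝕍} (v : 𝕍) {b : F}
    (hb : b ≠ 0) :
    p * (((X : Set 𝕍) ×ˢ (X : Set 𝕍)) ∩ PairSet v b).ncard ≤ Nat.card X * Nat.card X := by
  classical
  haveI : Fintype X := Fintype.ofFinite _
  have hsub : ((X : Set 𝕍) ×ˢ (X : Set 𝕍)) ∩ PairSet v b ⊆
      ⋃ x : X, ({(x : 𝕍)} ×ˢ ((X : Set 𝕍) ∩ {y | sf (x : 𝕍) y = b})) := by
    rintro ⟨x, y⟩ ⟨⟨hx, hy⟩, h⟩
    exact Set.mem_iUnion.2 ⟨⟨x, hx⟩, rfl, hy, h.2.2.2⟩
  refine (Nat.mul_le_mul_left p ((Set.ncard_le_ncard hsub (Set.toFinite _)).trans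
    (Set.ncard_iUnion_le_of_fintype _))).trans ?_
  rw [Finset.mul_sum]
  refine (Finset.sum_le_card_nsmul _ _ (Nat.card X) fun x _ => ?_).trans
    (by rw [Finset.card_univ, smul_eq_mul, ← Nat.card_eq_fintype_card])
  rw [Set.ncard_prod, Set.ncard_singleton, one_mul]
  exact fibre_le (x : 𝕍) hb

/-- pairs bound with trivial fibre estimate -/
theorem pairs_in_le_sq {X : AddSubgroup 𝕍} (v : 𝕍) (b : F) :
    (((X : Set 𝕍) ×ˢ (X : Set 𝕍)) ∩ PairSet v b).ncard ≤ Nat.card X * Nat.card X := by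
  refine (Set.ncard_le_ncard Set.inter_subset_left (Set.toFinite _)).trans ?_
  rw [Set.ncard_prod, ← Nat.card_coe_set_eq]
  simp only [SetLike.coe_sort_coe, le_refl]

theorem le_card_PairSet' {k : ℕ} (hk : m = k + 1) (hk1 : 1 ≤ k) {v : 𝕍} (hv : v ≠ 0) (b : F) :
    qq * (qq ^ (2 * k) - 1) * (qq ^ (2 * k) - qq ^ 2) ≤ (PairSet v b).ncard := by
  classical
  refine le_trans (Nat.mul_le_mul (le_of_eq ?_) ?_) (le_card_PairSet (by omega) hv b)
  · subst hk
    rw [Nat.mul_sub, mul_one, show 2 * (k + 1) - 1 = 2 * k + 1 by omega, pow_succ]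
    congr 1
    ring
  · subst hk
    rw [show 2 * (k + 1) - 2 = 2 * k by omega]
    split_ifs <;> omega

/-- in dimension four, pairs have non-zero product -/
theorem pair_ne_zero (hm : m = 2) {v y₁ y₂ : 𝕍} (hv : v ≠ 0) (h1 : sf v y₁ = 0) (h2 : sf v y₂ = 0)
    (hli : LinearIndependent F ![v, y₁, y₂]) : sf y₁ y₂ ≠ 0 := by
  intro hb
  have hy : y₁ ∉ lineG v := fun h => by
    obtain ⟨a, ha⟩ := mem_lineG.1 h
    have h' : LinearIndependent F ![v, y₁] := by
      have := hli.comp ![0, 1] (by decide)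
      have e : ![v, y₁] = ![v, y₁, y₂] ∘ ![0, 1] := by funext i; fin_cases i <;> rfl
      rw [e]; exact this
    exact (LinearIndependent.pair_iff' hv).1 h' a ha
  have hv1 : sf y₁ v = 0 := by rw [sf_swap, h1, neg_zero]
  have hle : Submodule.span F (Set.range ![v, y₁, y₂]) ≤ perp ![v, y₁] := by
    rw [Submodule.span_le]
    rintro _ ⟨i, rfl⟩
    refine mem_perp_pair.2 ?_
    fin_cases i
    · exact ⟨sf_self v, hv1⟩
    · exact ⟨h1, sf_self y₁⟩
    · exact ⟨h2, hb⟩
  have h3 := Submodule.finrank_mono hle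
  rw [finrank_span_eq_card hli, Fintype.card_fin, finrank_perp
    ((LinearIndependent.pair_iff' hv).2 fun a ha => hy (mem_lineG.2 ⟨a, ha⟩))] at h3
  omega

theorem prime_pow_cases {x : ℕ} {p e j : ℕ} (hp : p.Prime) (h : x ∣ (p ^ e) ^ j) :
    p * x ≤ (p ^ e) ^ 2 ∨ (p ^ e) ^ 2 ≤ x := by
  rw [← pow_mul] at h
  obtain ⟨a, -, rfl⟩ := (Nat.dvd_prime_pow hp).1 h
  rw [← pow_mul]
  rcases Nat.lt_or_ge a (e * 2) with hlt | hge
  · left
    rw [← pow_succ']
    exact Nat.pow_le_pow_right hp.pos hlt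
  · right
    exact Nat.pow_le_pow_right hp.pos hge

theorem card_dvd {p e : ℕ} (hq : qq = p ^ e) (X : AddSubgroup 𝕍) :
    Nat.card X ∣ (p ^ e) ^ (2 * m) := by
  have h := AddSubgroup.card_addSubgroup_dvd_card X
  rw [Nat.card_eq_fintype_card (α := 𝕍), Fintype.card_fun, hq, Fintype.card_sum,
    Fintype.card_fin, ← two_mul] at h
  exact h

/-- the shape of the radical part -/
theorem eShape_of_small {k : ℕ} (hk : m = k + 1) (hk1 : 1 ≤ k) (hq : 3 ≤ qq)
    (hex : k = 1 → qq ≠ 3) {H : Subgroup Sp} (hn : H.index < Nat.card (ℙ F 𝕍)) {v : 𝕍}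
    (hv : v ≠ 0) (hF : ¬ Full H v) (hl : Xs H v ≠ lineG v) (hp : Xs H v ≠ vperp v) :
    EShape H v := by
  classical
  by_contra hE
  apply hn.not_ge
  obtain ⟨p, hpc⟩ := CharP.exists F
  haveI := hpc
  obtain ⟨e', hpr, hcard⟩ := FiniteField.card F p
  haveI : Fact p.Prime := ⟨hpr⟩
  have hN := points_eq (m := m) (F := F) k hk
  set N := Nat.card (ℙ F 𝕍)
  set q := Fintype.card F with hqdef
  set n := H.index
  set X := Xs H v with hXdef
  have hXv := Xs_le_vperp H v
  have hvX := lineG_le_Xs H v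
  have hXl : ¬ X ≤ lineG v := fun h => hl (le_antisymm h hvX)
  set Q := q ^ (2 * k) with hQdef
  have hQ2 : q ^ 2 ≤ Q := Nat.pow_le_pow_right (by omega) (by omega)
  have hQ1 : 1 ≤ Q := Nat.one_le_pow _ _ (by omega)
  have hm1 : q ^ (2 * m - 1) = q * Q := by
    rw [hQdef, hk, ← pow_succ']; congr 1
  have hline : q * (Q - 1) = q ^ (2 * m - 1) - q := by rw [hm1, Nat.mul_sub, mul_one]
  have hxq : q < Nat.card X := by
    have h1 : lineG v < X := lt_of_le_of_ne hvX (Ne.symm hl)
    have h2 := AddSubgroup.card_le_of_le hvX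
    rw [card_lineG hv] at h2
    refine lt_of_le_of_ne h2 fun h3 => hl (AddSubgroup.eq_of_le_of_card_ge hvX
      (by rw [card_lineG hv]; exact h3.ge)).symm
  have hcX := orbN_line_cover hv hXv hvX hl
  rw [← hline] at hcX
  by_cases h2 : (2 : F) = 0
  · -- even characteristic
    haveI : CharP F 2 := CharTwo.of_one_ne_zero_of_two_eq_zero one_ne_zero h2
    have hp2 : p = 2 := CharP.eq F hpc inferInstance
    have hq4 : 4 ≤ q := by
      by_contra hlt
      have hq3 : q = 3 := by omega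
      rw [hq3] at hcard
      have : p ∣ 3 := hcard ▸ dvd_pow_self p (PNat.ne_zero e')
      rw [hp2] at this
      omega
    set Y := Ann (1 : F) v X with hYdef
    set x := Nat.card X
    set y := Nat.card Y
    set N' := orbN v (X : Set 𝕍)
    have hxy : y * x = q ^ 2 * Q := by
      show Nat.card (Ann (1 : F) v X) * Nat.card X = _
      rw [card_Ann one_ne_zero hv hXv hvX, hm1]
      ring
    have hbase : q * y * N' ≤ q * n := base_le hv one_ne_zero (cz_even hF)
    have hYv : Y ≤ vperp v := fun _ h => h.1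
    have hvY : lineG v ≤ Y := lineG_le_Ann hXv
    have hYne : Y ≠ lineG v := fun h => by
      refine hp (AddSubgroup.eq_of_le_of_card_ge hXv ?_)
      rw [card_vperp hv, hm1]
      refine Nat.le_of_mul_le_mul_left (le_of_eq ?_) (by omega : 0 < q)
      have hy : y = q := by show Nat.card Y = q; rw [h, card_lineG hv]
      rw [hy] at hxy
      calc q * (q * Q) = q ^ 2 * Q := by ring
        _ = _ := hxy.symm
    have hcY : q * (Q - 1) ≤ N' * (y - q) := by
      rw [hline]
      exact (orbN_line_cover hv hYv hvY hYne).trans (Nat.mul_le_mul_right _ (orbN_Ann_le X))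
    by_cases hZ : Zs H v ≠ ⊥
    · refine est_scalar hq hN hQ2 hq4 ?_
      refine le_trans ?_ (base_le hv one_ne_zero (cz_even_ne_bot hF hZ))
      rw [mul_assoc]
      exact Nat.mul_le_mul_left _
        (hcY.trans ((Nat.mul_le_mul_left _ (Nat.sub_le _ _)).trans (le_of_eq (mul_comm _ _))))
    rcases prime_pow_cases hpr (card_dvd hcard Y) with hy2 | hy2 <;> rw [← hcard] at hy2
    · rw [hp2] at hy2
      refine est_small_dual hq hN hQ2 ?_
      have hy0 : 0 < y := Nat.card_pos
      have h1 : (y - q) * q ≤ (q - 2) * y := by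
        rw [Nat.sub_mul, Nat.sub_mul]
        have : 2 * y ≤ q * q := by rw [← sq]; exact hy2
        have : y * q = q * y := mul_comm _ _
        omega
      refine Nat.le_of_mul_le_mul_left ?_ hy0
      calc y * (q * (q * (Q - 1))) ≤ y * (q * (N' * (y - q))) :=
            Nat.mul_le_mul_left _ (Nat.mul_le_mul_left _ hcY)
        _ = (q * y * N') * (y - q) := by ring
        _ ≤ (q * n) * (y - q) := Nat.mul_le_mul_right _ hbase
        _ = n * ((y - q) * q) := by ring
        _ ≤ n * ((q - 2) * y) := Nat.mul_le_mul_left _ h1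
        _ = _ := by ring
    rcases prime_pow_cases hpr (card_dvd hcard X) with hx2 | hx2 <;> rw [← hcard] at hx2
    · rw [hp2] at hx2
      refine est_small_side hq hN hQ2 ?_
      refine Nat.le_of_mul_le_mul_left ?_ (by positivity : 0 < q ^ 4)
      have hsq : 4 * (x * (x - q)) ≤ q ^ 4 := by
        calc 4 * (x * (x - q)) ≤ (2 * x) * (2 * x) := by
              rw [show (2 * x) * (2 * x) = 4 * (x * x) by ring]
              exact Nat.mul_le_mul_left _ (Nat.mul_le_mul_left _ (Nat.sub_le _ _))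
          _ ≤ q ^ 2 * q ^ 2 := Nat.mul_le_mul hx2 hx2
          _ = _ := by ring
      calc q ^ 4 * (4 * (Q * (Q - 1))) = 4 * (q * ((q ^ 2 * Q) * (q * (Q - 1)))) := by ring
        _ ≤ 4 * (q * ((y * x) * (N' * (x - q)))) := by rw [hxy]; gcongr
        _ = (q * y * N') * (4 * (x * (x - q))) := by ring
        _ ≤ (q * n) * q ^ 4 := Nat.mul_le_mul hbase hsq
        _ = _ := by ring
    rcases Nat.lt_or_ge k 2 with hk2 | hk2
    · -- dimension four
      obtain rfl : k = 1 := by omega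
      have hQe : Q = q ^ 2 := by rw [hQdef]
      have hm2 : m = 2 := by omega
      have hxe : x = q ^ 2 ∧ y = q ^ 2 := by
        rw [hQe] at hxy
        constructor
        · refine le_antisymm ?_ hx2
          exact Nat.le_of_mul_le_mul_left ((Nat.mul_le_mul_right x hy2).trans hxy.le)
            (by positivity : 0 < q ^ 2)
        · refine le_antisymm ?_ hy2
          exact Nat.le_of_mul_le_mul_right ((Nat.mul_le_mul_left y hx2).trans hxy.le)
            (by positivity : 0 < q ^ 2)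
      rcases pairs_or_plane hv hXl with ⟨y₁, h₁, y₂, h₂, hli⟩ | ⟨u, hu, hu', hsub⟩
      · have hb := pair_ne_zero hm2 hv h₁.1 h₂.1 hli
        have hP := le_card_PairSet (by omega) hv (sf y₁ y₂)
        rw [if_neg hb, Nat.sub_zero, ← hline, show 2 * m - 2 = 2 * 1 by omega] at hP
        have hcov := orbN_pair_cover h₁ h₂ (v := v) (b := sf y₁ y₂) ⟨h₁.1, h₂.1, hli, rfl⟩
        haveI : CharP F p := by subst hp2; infer_instance
        have hin := pairs_in_le (p := p) (X := X) v hb
        rw [hp2] at hin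
        refine est_plane_even hq4 (by rw [← hQe]; exact hN) ?_
        refine Nat.le_of_mul_le_mul_left ?_ (by positivity : 0 < q * q ^ 4)
        rw [hQe] at hP
        calc q * q ^ 4 * (2 * (q * (q ^ 2 - 1)))
            = 2 * (q * q ^ 2 * (q * (q ^ 2 - 1) * q ^ (2 * 1))) := by ring
          _ ≤ 2 * (q * q ^ 2 * (N' * (((X : Set 𝕍) ×ˢ (X : Set 𝕍)) ∩ PairSet v (sf y₁ y₂)).ncard)) := by
              exact Nat.mul_le_mul_left _ (Nat.mul_le_mul_left _ (hP.trans hcov))
          _ = (q * q ^ 2 * N') * (2 * (((X : Set 𝕍) ×ˢ (X : Set 𝕍)) ∩ PairSet v (sf y₁ y₂)).ncard) := by ring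
          _ ≤ (q * n) * (x * x) := Nat.mul_le_mul (by rw [← hxe.2]; exact hbase) hin
          _ = _ := by rw [hxe.1]; ring
      · refine (hE ⟨u, hu', mem_vperp.1 (hXv hu), ?_⟩).elim
        -- `X` is a totally isotropic plane
        have h1 : X = (Submodule.span F (Set.range ![v, u])).toAddSubgroup :=
          AddSubgroup.eq_of_le_of_card_ge hsub
            ((card_span_pair hv hu').le.trans hxe.1.ge)
        have hvu : sf v u = 0 := mem_vperp.1 (hXv hu)
        have h3 : Submodule.span F (Set.range ![v, u]) = perp ![v, u] := by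
          have hli : LinearIndependent F ![v, u] :=
            (LinearIndependent.pair_iff' hv).2 fun a ha => hu' (mem_lineG.2 ⟨a, ha⟩)
          refine Submodule.eq_of_le_of_finrank_le ?_ ?_
          · rw [Submodule.span_le]
            rintro _ ⟨i, rfl⟩
            refine mem_perp_pair.2 ?_
            fin_cases i
            · exact ⟨sf_self v, by show sf u v = 0; rw [sf_swap, hvu, neg_zero]⟩
            · exact ⟨hvu, sf_self u⟩
          · rw [finrank_perp hli, finrank_span_eq_card hli, Fintype.card_fin]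
            omega
        intro z
        rw [← hXdef, h1, h3]
        exact mem_perp_pair
    · -- higher dimension
      have hQ4 : q ^ 4 ≤ Q := Nat.pow_le_pow_right (by omega) (by omega)
      have hQE : Q = (q ^ k) ^ 2 := by rw [hQdef, mul_comm, pow_mul]
      have hE2 : q ^ 2 ≤ q ^ k := Nat.pow_le_pow_right (by omega) hk2
      rcases Nat.lt_or_ge (q ^ 2) x with hxb | hxs
      swap
      · refine est_small_even hq hN hQ4 ?_
        refine Nat.le_of_mul_le_mul_left ?_ (by positivity : 0 < q ^ 4)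
        calc q ^ 4 * (Q * (Q - 1)) = q * ((q ^ 2 * Q) * (q * (Q - 1))) := by ring
          _ ≤ q * ((y * x) * (N' * (x - q))) := by rw [hxy]; gcongr
          _ = (q * y * N') * (x * (x - q)) := by ring
          _ ≤ (q * n) * (q ^ 2 * q ^ 2) := Nat.mul_le_mul hbase
              (Nat.mul_le_mul hxs ((Nat.sub_le _ _).trans hxs))
          _ = _ := by ring
      refine est_pairs_even hq (by rw [← hQE]; exact hN) hE2 ?_
      refine Nat.le_of_mul_le_mul_left ?_ (by omega : 0 < q)
      rw [← hQE]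
      have hle : x ≤ q * q ^ k ∨ y ≤ q * q ^ k := by
        by_contra hc
        push Not at hc
        have h := Nat.mul_lt_mul_of_lt_of_lt hc.2 hc.1
        rw [hxy, hQE, show q * q ^ k * (q * q ^ k) = q ^ 2 * (q ^ k) ^ 2 by ring] at h
        omega
      rcases hle with hx3 | hy3
      · rcases pairs_or_plane hv hXl with ⟨y₁, h₁, y₂, h₂, hli⟩ | ⟨u, hu, hu', hsub⟩
        · have hP := le_card_PairSet' hk hk1 hv (sf y₁ y₂)
          have hcov := (hP.trans (orbN_pair_cover h₁ h₂ (v := v) (b := sf y₁ y₂)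
            ⟨h₁.1, h₂.1, hli, rfl⟩)).trans (Nat.mul_le_mul_left _ (pairs_in_le_sq v _))
          refine Nat.le_of_mul_le_mul_left ?_ (by positivity : 0 < q ^ 2 * Q)
          calc q ^ 2 * Q * (q * (q * (Q - 1) * (Q - q ^ 2)))
              ≤ q ^ 2 * Q * (q * (N' * (x * x))) := by gcongr
            _ = (y * x) * (q * (N' * (x * x))) := by rw [hxy]
            _ = (q * y * N') * (x * x * x) := by ring
            _ ≤ (q * n) * ((q * q ^ k) * (q * q ^ k) * (q * q ^ k)) :=
                Nat.mul_le_mul hbase (Nat.mul_le_mul (Nat.mul_le_mul hx3 hx3) hx3)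
            _ = _ := by rw [hQE]; ring
        · exfalso
          have h1 := AddSubgroup.card_le_of_le
            (show X ≤ (Submodule.span F (Set.range ![v, u])).toAddSubgroup from hsub)
          rw [show Nat.card (Submodule.span F (Set.range ![v, u])).toAddSubgroup = q ^ 2 from
            card_span_pair hv hu'] at h1
          omega
      · rcases pairs_or_plane hv (fun h => hYne (le_antisymm h hvY)) with
          ⟨y₁, h₁, y₂, h₂, hli⟩ | ⟨u, hu, hu', hsub⟩
        · have hP := le_card_PairSet' hk hk1 hv (sf y₁ y₂)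
          have hcov := ((hP.trans (orbN_pair_cover h₁ h₂ (v := v) (b := sf y₁ y₂)
            ⟨mem_vperp.1 (hYv h₁), mem_vperp.1 (hYv h₂), hli, rfl⟩)).trans
              (Nat.mul_le_mul_left _ (pairs_in_le_sq v _))).trans
              (Nat.mul_le_mul_right _ (orbN_Ann_le X))
          calc q * (q * (Q - 1) * (Q - q ^ 2)) ≤ q * (N' * (y * y)) := by gcongr
            _ = (q * y * N') * y := by ring
            _ ≤ (q * n) * (q * q ^ k) := Nat.mul_le_mul hbase hy3
            _ = _ := by ring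
        · exact (hE (eShape_of_Ann hv one_ne_zero hu hu' hsub hy2)).elim
  · -- odd characteristic
    obtain ⟨μ, hμ, hμ'⟩ := exists_AnnF hF
    have hp3 : 3 ≤ p := by
      have := hpr.two_le
      rcases this.eq_or_lt with h | h
      · exact absurd (by subst h; exact CharTwo.two_eq_zero) h2
      · omega
    set x := Nat.card X
    set y := Nat.card (Ann μ v X)
    set N' := orbN v (X : Set 𝕍)
    have hxy : y * x = q ^ 2 * Q := by
      show Nat.card (Ann μ v X) * Nat.card X = _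
      rw [card_Ann hμ hv hXv hvX, hm1]
      ring
    have hbase : (q + 1) * y * N' ≤ 2 * q * n := by
      have h := base_le (H := H) hv hμ (le_refl (cz H v))
      calc (q + 1) * y * N' ≤ 2 * cz H v * y * N' :=
            Nat.mul_le_mul_right _ (Nat.mul_le_mul_right _ (two_mul_cz hF))
        _ = 2 * (cz H v * y * N') := by ring
        _ ≤ 2 * (q * n) := Nat.mul_le_mul_left _ h
        _ = _ := by ring
    have hxy' : x ≤ y := AddSubgroup.card_le_of_le (Xs_le_Ann h2 hμ')
    rcases Nat.lt_or_ge k 2 with hk2 | hk2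
    · obtain rfl : k = 1 := by omega
      have hQe : Q = q ^ 2 := by rw [hQdef]
      have hm2 : m = 2 := by omega
      have hq4 : 4 ≤ q := by have := hex rfl; omega
      refine est_plane_odd hq4 (by rw [← hQe]; exact hN) ?_
      refine Nat.le_of_mul_le_mul_left ?_ (by positivity : 0 < q ^ 4)
      rw [hQe] at hxy hcX
      rcases prime_pow_cases hpr (card_dvd hcard X) with hx2 | hx2 <;> rw [← hcard] at hx2
      · calc q ^ 4 * (3 * ((q + 1) * (q * (q ^ 2 - 1))))
            = 3 * ((q + 1) * ((q ^ 2 * q ^ 2) * (q * (q ^ 2 - 1)))) := by ring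
          _ ≤ 3 * ((q + 1) * ((y * x) * (N' * (x - q)))) := by rw [hxy]; gcongr
          _ = ((q + 1) * y * N') * ((3 * x) * (x - q)) := by ring
          _ ≤ (2 * q * n) * (q ^ 2 * q ^ 2) := by
              refine Nat.mul_le_mul hbase (Nat.mul_le_mul ?_ ?_)
              · exact le_trans (Nat.mul_le_mul_right _ hp3) hx2
              · exact (Nat.sub_le _ _).trans (le_trans (Nat.le_mul_of_pos_left x hpr.pos) hx2)
          _ = _ := by ring
      · have hye : y ≤ q ^ 2 :=
          Nat.le_of_mul_le_mul_right ((Nat.mul_le_mul_left y hx2).trans hxy.le)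
            (by positivity : 0 < q ^ 2)
        have hxe : x = q ^ 2 := le_antisymm (hxy'.trans hye) hx2
        rcases pairs_or_plane hv hXl with ⟨y₁, h₁, y₂, h₂, hli⟩ | ⟨u, hu, hu', hsub⟩
        · have hb := pair_ne_zero hm2 hv h₁.1 h₂.1 hli
          have hP := le_card_PairSet (by omega) hv (sf y₁ y₂)
          rw [if_neg hb, Nat.sub_zero, ← hline, show 2 * m - 2 = 2 * 1 by omega, hQe] at hP
          have hcov := orbN_pair_cover h₁ h₂ (v := v) (b := sf y₁ y₂) ⟨h₁.1, h₂.1, hli, rfl⟩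
          have hin := le_trans (Nat.mul_le_mul_right _ hp3) (pairs_in_le (p := p) (X := X) v hb)
          have hye' : y = q ^ 2 := le_antisymm hye (hxe ▸ hxy')
          refine Nat.le_of_mul_le_mul_left ?_ (by omega : 0 < q)
          calc q * (q ^ 4 * (3 * ((q + 1) * (q * (q ^ 2 - 1)))))
              = 3 * (q * ((q + 1) * q ^ 2 * (q * (q ^ 2 - 1) * q ^ (2 * 1)))) := by ring
            _ ≤ 3 * (q * ((q + 1) * q ^ 2 * (N' * (((X : Set 𝕍) ×ˢ (X : Set 𝕍)) ∩ PairSet v (sf y₁ y₂)).ncard))) := by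
                exact Nat.mul_le_mul_left _ (Nat.mul_le_mul_left _
                  (Nat.mul_le_mul_left _ (hP.trans hcov)))
            _ = q * (((q + 1) * q ^ 2 * N') * (3 * (((X : Set 𝕍) ×ˢ (X : Set 𝕍)) ∩ PairSet v (sf y₁ y₂)).ncard)) := by ring
            _ ≤ q * ((2 * q * n) * (x * x)) :=
                Nat.mul_le_mul_left _ (Nat.mul_le_mul (by rw [← hye']; exact hbase) hin)
            _ = _ := by rw [hxe]; ring
        · refine (hE ?_).elim
          have hXA : X = Ann μ v X :=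
            AddSubgroup.eq_of_le_of_card_ge (Xs_le_Ann h2 hμ') (le_of_le_of_eq hye hxe.symm)
          have hu2 : u ∈ Ann μ v X := hXA ▸ hu
          refine eShape_of_Ann hv hμ hu2 hu' (fun z hz => hsub z ?_) (le_trans hxe.ge hxy')
          exact (SetLike.ext_iff.1 hXA z).2 hz
    · have hQ4 : q ^ 4 ≤ Q := Nat.pow_le_pow_right (by omega) (by omega)
      have hQE : Q = (q ^ k) ^ 2 := by rw [hQdef, mul_comm, pow_mul]
      have hE2 : q ^ 2 ≤ q ^ k := Nat.pow_le_pow_right (by omega) hk2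
      rcases Nat.lt_or_ge (q ^ 2) x with hxb | hxs
      swap
      · refine est_small_odd hq hN hQ4 ?_
        refine Nat.le_of_mul_le_mul_left ?_ (by positivity : 0 < q ^ 3)
        calc q ^ 3 * ((q + 1) * (Q * (Q - 1))) = (q + 1) * ((q ^ 2 * Q) * (q * (Q - 1))) := by ring
          _ ≤ (q + 1) * ((y * x) * (N' * (x - q))) := by rw [hxy]; gcongr
          _ = ((q + 1) * y * N') * (x * (x - q)) := by ring
          _ ≤ (2 * q * n) * (q ^ 2 * q ^ 2) := Nat.mul_le_mul hbase
              (Nat.mul_le_mul hxs ((Nat.sub_le _ _).trans hxs))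
          _ = _ := by ring
      refine est_pairs_odd hq (by rw [← hQE]; exact hN) hE2 ?_
      rw [← hQE]
      have hx3 : x ≤ q * q ^ k := by
        by_contra hc
        push Not at hc
        have h := Nat.mul_lt_mul_of_lt_of_lt (hc.trans_le hxy') hc
        rw [hxy, hQE, show q * q ^ k * (q * q ^ k) = q ^ 2 * (q ^ k) ^ 2 by ring] at h
        omega
      rcases pairs_or_plane hv hXl with ⟨y₁, h₁, y₂, h₂, hli⟩ | ⟨u, hu, hu', hsub⟩
      · have hP := le_card_PairSet' hk hk1 hv (sf y₁ y₂)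
        have hcov := (hP.trans (orbN_pair_cover h₁ h₂ (v := v) (b := sf y₁ y₂)
          ⟨h₁.1, h₂.1, hli, rfl⟩)).trans (Nat.mul_le_mul_left _ (pairs_in_le_sq v _))
        refine Nat.le_of_mul_le_mul_left ?_ (by positivity : 0 < q ^ 2 * Q)
        calc q ^ 2 * Q * ((q + 1) * (q * (Q - 1) * (Q - q ^ 2)))
            ≤ q ^ 2 * Q * ((q + 1) * (N' * (x * x))) := by gcongr
          _ = (y * x) * ((q + 1) * (N' * (x * x))) := by rw [hxy]
          _ = ((q + 1) * y * N') * (x * x * x) := by ring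
          _ ≤ (2 * q * n) * ((q * q ^ k) * (q * q ^ k) * (q * q ^ k)) :=
              Nat.mul_le_mul hbase (Nat.mul_le_mul (Nat.mul_le_mul hx3 hx3) hx3)
          _ = _ := by rw [hQE]; ring
      · exfalso
        have h1 := AddSubgroup.card_le_of_le
          (show X ≤ (Submodule.span F (Set.range ![v, u])).toAddSubgroup from hsub)
        rw [show Nat.card (Submodule.span F (Set.range ![v, u])).toAddSubgroup = q ^ 2 from
          card_span_pair hv hu'] at h1
        omega

end Cfsg.Agent.Symplectic.MinGen
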