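import Cfsg.Agent.Symplectic.MinIndexBasic
import Cfsg.Agent.Symplectic.AddChar

/-! Counting in the quotient of the radical of a point stabiliser. -/

set_option autoImplicit false
set_option maxHeartbeats 1000000
set_option linter.unusedSectionVars false

namespace Cfsg.Agent.Symplectic.MinGen

open scoped Matrix LinearAlgebra.Projectivization Pointwise
open Cfsg.Agent.Symplectic
open Cfsg.Agent.Symplectic.MinTwo (El El_mulVec El_mul El_zero El_conj inv_fix transitive_perp T_comm)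

variable {m : ℕ} {F : Type*} [Field F] [Fintype F]

local notation "𝕍" => (Fin m ⊕ Fin m → F)
local notation "sf" => Cfsg.sympForm m F
local notation "Sp" => Matrix.symplecticGroup (Fin m) F

/-- `v⊥` as an additive group -/
noncomputable abbrev vperp (v : Fin m ⊕ Fin m → F) : AddSubgroup (Fin m ⊕ Fin m → F) :=
  (LinearMap.ker (spB m F v)).toAddSubgroup

theorem mem_vperp {v x : 𝕍} : x ∈ vperp v ↔ sf v x = 0 := by
  show x ∈ LinearMap.ker (spB m F v) ↔ _
  rw [LinearMap.mem_ker, spB_apply]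

/-- the line of `v` as an additive group -/
abbrev lineG (v : Fin m ⊕ Fin m → F) : AddSubgroup (Fin m ⊕ Fin m → F) :=
  (Submodule.span F {v}).toAddSubgroup

theorem mem_lineG {v x : 𝕍} : x ∈ lineG v ↔ ∃ a : F, a • v = x := by
  show x ∈ Submodule.span F {v} ↔ _
  exact Submodule.mem_span_singleton

theorem card_lineG {v : 𝕍} (hv : v ≠ 0) : Nat.card (lineG v) = Fintype.card F := by
  show Nat.card (Submodule.span F {v}) = _
  rw [Module.natCard_eq_pow_finrank (K := F), finrank_span_singleton hv, pow_one,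
    Nat.card_eq_fintype_card]

theorem card_vperp {v : 𝕍} (hv : v ≠ 0) :
    Nat.card (vperp v) = Fintype.card F ^ (2 * m - 1) := by
  have h : vperp v = (perp (fun _ : Fin 1 => v)).toAddSubgroup := by
    ext x
    rw [mem_vperp]
    show _ ↔ x ∈ perp (fun _ : Fin 1 => v)
    rw [mem_perp]
    exact ⟨fun h _ => h, fun h => h 0⟩
  rw [h]
  show Nat.card (perp (fun _ : Fin 1 => v)) = _
  rw [Module.natCard_eq_pow_finrank (K := F),
    finrank_perp (LinearIndependent.of_subsingleton (v := fun _ : Fin 1 => v) 0 hv), Nat.card_eq_fintype_card]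

theorem exists_perp_ne {v x : 𝕍} (hv : v ≠ 0) (hx : x ∉ lineG v) :
    ∃ y, sf v y = 0 ∧ sf x y ≠ 0 := by
  by_contra hcon
  push Not at hcon
  have hli : LinearIndependent F ![v, x] :=
    (LinearIndependent.pair_iff' hv).2 fun a ha => hx (mem_lineG.2 ⟨a, ha⟩)
  have hle : perp (fun _ : Fin 1 => v) ≤ perp ![v, x] := fun y hy => mem_perp.2 fun i => by
    fin_cases i
    · exact mem_perp.1 hy 0
    · exact hcon y (mem_perp.1 hy 0)
  have := Submodule.finrank_mono hle
  rw [finrank_perp hli, finrank_perp (LinearIndependent.of_subsingleton (v := fun _ : Fin 1 => v) 0 hv)] at this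
  have hm : 0 < m := by
    rcases Nat.eq_zero_or_pos m with rfl | h
    · exact absurd (Subsingleton.elim v 0) hv
    · exact h
  omega

/-- annihilator with respect to a character of the form -/
noncomputable def Ann (μ : F) (v : Fin m ⊕ Fin m → F) (X : AddSubgroup (Fin m ⊕ Fin m → F)) :
    AddSubgroup (Fin m ⊕ Fin m → F) where
  carrier := {y | y ∈ vperp v ∧ ∀ x ∈ X, eChar F (μ * Cfsg.sympForm m F x y) = 1}
  zero_mem' := ⟨(vperp v).zero_mem, fun x _ => by
    rw [sf_zero, mul_zero, AddChar.map_zero_eq_one]⟩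
  add_mem' := fun {a b} ⟨ha, ha'⟩ ⟨hb, hb'⟩ => ⟨(vperp v).add_mem ha hb, fun x hx => by
    rw [sf_add_right, mul_add, AddChar.map_add_eq_mul, ha' x hx, hb' x hx, one_mul]⟩
  neg_mem' := fun {a} ⟨ha, ha'⟩ => ⟨(vperp v).neg_mem ha, fun x hx => by
    rw [sf_neg_right, mul_neg, AddChar.map_neg_eq_inv, ha' x hx, inv_one]⟩

theorem mem_Ann {μ : F} {v : 𝕍} {X : AddSubgroup 𝕍} {y : 𝕍} :
    y ∈ Ann μ v X ↔ y ∈ vperp v ∧ ∀ x ∈ X, eChar F (μ * sf x y) = 1 := Iff.rfl

theorem lineG_le_Ann {μ : F} {v : 𝕍} {X : AddSubgroup 𝕍} (hX : X ≤ vperp v) :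
    lineG v ≤ Ann μ v X := fun y hy => by
  obtain ⟨a, rfl⟩ := mem_lineG.1 hy
  refine ⟨mem_vperp.2 (by rw [sf_smul_right, sf_self, mul_zero]), fun x hx => ?_⟩
  rw [sf_smul_right, sf_swap, mem_vperp.1 (hX hx), neg_zero, mul_zero, mul_zero,
    AddChar.map_zero_eq_one]

/-- orthogonality relation -/
theorem card_Ann {μ : F} (hμ : μ ≠ 0) {v : 𝕍} (hv : v ≠ 0) {X : AddSubgroup 𝕍}
    (hX : X ≤ vperp v) (hvX : lineG v ≤ X) :
    Nat.card (Ann μ v X) * Nat.card X = Fintype.card F ^ (2 * m - 1) * Fintype.card F := by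
  classical
  haveI : Fintype X := Fintype.ofFinite _
  haveI : Fintype (vperp v) := Fintype.ofFinite _
  let ψ : 𝕍 → 𝕍 → ℂ := fun x y => eChar F (μ * sf x y)
  have hrow : ∀ y : vperp v, ∑ x : X, ψ x y =
      if (y : 𝕍) ∈ Ann μ v X then (Nat.card X : ℂ) else 0 := by
    intro y
    split_ifs with h
    · rw [Finset.sum_congr rfl (fun (x : X) _ => h.2 x x.2)]
      simp [Nat.card_eq_fintype_card]
    · let f : X →+ F :=
        { toFun := fun x => μ * sf x y
          map_zero' := by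
            show μ * sf (0 : 𝕍) y = 0
            rw [sf_swap, sf_zero, neg_zero, mul_zero]
          map_add' := fun a b => by
            show μ * sf ((a : 𝕍) + b) y = _
            rw [sf_add_left, mul_add] }
      refine sum_comp_eq_zero f ?_
      by_contra hc
      push Not at hc
      exact h ⟨y.2, fun x hx => hc ⟨x, hx⟩⟩
  have hcol : ∀ x : X, ∑ y : vperp v, ψ x y =
      if (x : 𝕍) ∈ lineG v then (Nat.card (vperp v) : ℂ) else 0 := by
    intro x
    split_ifs with h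
    · obtain ⟨a, ha⟩ := mem_lineG.1 h
      rw [Finset.sum_congr rfl (fun (y : vperp v) _ => by
        show eChar F (μ * sf (x : 𝕍) (y : 𝕍)) = 1
        rw [← ha, sf_smul_left, mem_vperp.1 y.2, mul_zero, mul_zero, AddChar.map_zero_eq_one])]
      simp [Nat.card_eq_fintype_card]
    · let f : vperp v →+ F :=
        { toFun := fun y => μ * sf x y
          map_zero' := by
            show μ * sf (x : 𝕍) 0 = 0
            rw [sf_zero, mul_zero]
          map_add' := fun a b => by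
            show μ * sf (x : 𝕍) ((a : 𝕍) + b) = _
            rw [sf_add_right, mul_add] }
      refine sum_comp_eq_zero f ?_
      obtain ⟨y, hy, hxy⟩ := exists_perp_ne hv h
      obtain ⟨c, hc⟩ := eChar_exists_ne (mul_ne_zero hμ hxy)
      refine ⟨⟨c • y, mem_vperp.2 (by rw [sf_smul_right, hy, mul_zero])⟩, ?_⟩
      show eChar F (μ * sf (x : 𝕍) (c • y)) ≠ 1
      rw [sf_smul_right, mul_left_comm, mul_comm]
      exact hc
  have hsum : ∑ y : vperp v, ∑ x : X, ψ x y = ∑ x : X, ∑ y : vperp v, ψ x y := Finset.sum_comm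
  rw [Finset.sum_congr rfl (fun y _ => hrow y), Finset.sum_congr rfl (fun x _ => hcol x),
    Finset.sum_ite, Finset.sum_ite, Finset.sum_const_zero, Finset.sum_const_zero, add_zero,
    add_zero, Finset.sum_const, Finset.sum_const, nsmul_eq_mul, nsmul_eq_mul] at hsum
  have e1 : (Finset.univ.filter fun y : vperp v => (y : 𝕍) ∈ Ann μ v X).card =
      Nat.card (Ann μ v X) := by
    rw [← Fintype.card_subtype, ← Nat.card_eq_fintype_card]
    exact Nat.card_congr (Equiv.subtypeSubtypeEquivSubtype fun h => h.1)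
  have e2 : (Finset.univ.filter fun x : X => (x : 𝕍) ∈ lineG v).card = Nat.card (lineG v) := by
    rw [← Fintype.card_subtype, ← Nat.card_eq_fintype_card]
    exact Nat.card_congr (Equiv.subtypeSubtypeEquivSubtype fun h => hvX h)
  rw [e1, e2, ← Nat.cast_mul, ← Nat.cast_mul] at hsum
  rw [Nat.cast_injective hsum, card_lineG hv, card_vperp hv, mul_comm]

theorem index_mul_line {μ : F} (hμ : μ ≠ 0) {v : 𝕍} (hv : v ≠ 0) {X : AddSubgroup 𝕍}
    (hX : X ≤ vperp v) (hvX : lineG v ≤ X) :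
    (X.addSubgroupOf (vperp v)).index * Fintype.card F = Nat.card (Ann μ v X) := by
  have h := card_Ann hμ hv hX hvX
  have hi := AddSubgroup.card_mul_index (X.addSubgroupOf (vperp v))
  rw [Nat.card_congr (AddSubgroup.addSubgroupOfEquivOfLe hX).toEquiv, card_vperp hv] at hi
  refine Nat.eq_of_mul_eq_mul_right (Nat.card_pos (α := X)) ?_
  rw [h, ← hi]
  ring

/-! ### Orbits of subsets -/

/-- covering a homogeneous set by the translates of a subset -/
theorem cover {G α : Type*} [Group G] [MulAction G α] [Finite G] [Finite α] (R : Set α)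
    (hR : ∀ (g : G), ∀ x ∈ R, g • x ∈ R) (Y : Set α) {y₀ : α} (hy₀ : y₀ ∈ Y)
    (htr : ∀ x ∈ R, ∃ g : G, g • y₀ = x) :
    R.ncard ≤ Nat.card (MulAction.orbit G Y) * (Y ∩ R).ncard := by
  classical
  haveI : Fintype (MulAction.orbit G Y) := Fintype.ofFinite _
  have hsub : R ⊆ ⋃ Z : MulAction.orbit G Y, ((Z : Set α) ∩ R) := by
    intro x hx
    obtain ⟨g, rfl⟩ := htr x hx
    exact Set.mem_iUnion.2 ⟨⟨g • Y, g, rfl⟩, Set.smul_mem_smul_set hy₀, hx⟩
  refine (Set.ncard_le_ncard hsub (Set.toFinite _)).trans ((Set.ncard_iUnion_le_of_fintype _).trans ?_)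
  refine (Finset.sum_le_card_nsmul _ _ (Y ∩ R).ncard fun Z _ => ?_).trans
    (by rw [Finset.card_univ, smul_eq_mul, Nat.card_eq_fintype_card])
  obtain ⟨g, hg⟩ := Z.2
  have hg' : g • Y = (Z : Set α) := hg
  rw [← hg']
  refine le_of_eq ?_
  have e : g • Y ∩ R = g • (Y ∩ R) := by
    rw [Set.smul_set_inter]
    refine congrArg (fun S => g • Y ∩ S) ?_
    ext x
    rw [Set.mem_smul_set_iff_inv_smul_mem]
    exact ⟨hR _ _, fun h => by simpa using hR g _ h⟩
  rw [e, Set.ncard_smul_set]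

/-- the stabiliser of a vector -/
abbrev stabV (v : Fin m ⊕ Fin m → F) : Subgroup (Matrix.symplecticGroup (Fin m) F) :=
  MulAction.stabilizer (Matrix.symplecticGroup (Fin m) F) v

theorem stabV_fix {v : 𝕍} (g : stabV v) : ((g : Sp) : Mat m F) *ᵥ v = v := g.2

theorem stab_sf {v : 𝕍} (g : stabV v) (x : 𝕍) :
    sf v (((g : Sp) : Mat m F) *ᵥ x) = sf v x := by
  have h := sf_invariant (g : Sp) v x
  rwa [stabV_fix g] at h

/-- the number of translates of a set -/
noncomputable def orbN (v : Fin m ⊕ Fin m → F) {α : Type*}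
    [MulAction (Matrix.symplecticGroup (Fin m) F) α] (Y : Set α) : ℕ :=
  Nat.card (MulAction.orbit (stabV v) Y)

theorem orbN_line_cover {v : 𝕍} (hv : v ≠ 0) {Y : AddSubgroup 𝕍} (hY : Y ≤ vperp v)
    (hvY : lineG v ≤ Y) (hne : Y ≠ lineG v) :
    Fintype.card F ^ (2 * m - 1) - Fintype.card F ≤
      orbN v (Y : Set 𝕍) * (Nat.card Y - Fintype.card F) := by
  obtain ⟨y₀, hy₀, hy₀'⟩ : ∃ y ∈ Y, y ∉ lineG v := by
    by_contra hc
    push Not at hc
    exact hne (le_antisymm hc hvY)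
  have hli : ∀ {x : 𝕍}, x ∉ lineG v → LinearIndependent F ![v, x] := fun hx =>
    (LinearIndependent.pair_iff' hv).2 fun a ha => hx (mem_lineG.2 ⟨a, ha⟩)
  let R : Set 𝕍 := (vperp v : Set 𝕍) \ (lineG v : Set 𝕍)
  have h := cover (G := stabV v) R (fun g x hx => by
      constructor
      · exact mem_vperp.2 ((stab_sf g x).trans (mem_vperp.1 hx.1))
      · intro hl
        obtain ⟨a, ha⟩ := mem_lineG.1 hl
        refine hx.2 (mem_lineG.2 ⟨a, ?_⟩)
        have ha' : a • v = ((g : Sp) : Mat m F) *ᵥ x := ha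
        have := congrArg (fun z => (((g : Sp)⁻¹ : Sp) : Mat m F) *ᵥ z) ha'
        simpa only [Matrix.mulVec_smul, inv_fix (stabV_fix g), inv_mulVec_cancel] using this)
    (Y : Set 𝕍) hy₀ (fun x hx => by
      obtain ⟨g, hg, hgx⟩ := transitive_perp (hli hy₀') (hli hx.2) (mem_vperp.1 (hY hy₀))
        (mem_vperp.1 hx.1)
      exact ⟨⟨g, hg⟩, hgx⟩)
  have e1 : R.ncard = Fintype.card F ^ (2 * m - 1) - Fintype.card F := by
    show ((vperp v : Set 𝕍) \ (lineG v : Set 𝕍)).ncard = _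
    rw [Set.ncard_sdiff (SetLike.coe_subset_coe.2 (hvY.trans hY)), ← Nat.card_coe_set_eq,
      ← Nat.card_coe_set_eq]
    simp only [SetLike.coe_sort_coe]
    rw [card_vperp hv, card_lineG hv]
  have e2 : ((Y : Set 𝕍) ∩ R).ncard = Nat.card Y - Fintype.card F := by
    have : (Y : Set 𝕍) ∩ R = (Y : Set 𝕍) \ (lineG v : Set 𝕍) := by
      ext x
      exact ⟨fun h => ⟨h.1, h.2.2⟩, fun h => ⟨h.1, hY h.1, h.2⟩⟩
    rw [this, Set.ncard_sdiff (SetLike.coe_subset_coe.2 hvY), ← Nat.card_coe_set_eq,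
      ← Nat.card_coe_set_eq]
    simp only [SetLike.coe_sort_coe]
    rw [card_lineG hv]
  rw [e1, e2] at h
  exact h

theorem Ann_smul {μ : F} {v : 𝕍} (g : stabV v) (X : AddSubgroup 𝕍) :
    g • (Ann μ v X : Set 𝕍) =
      {y | sf v y = 0 ∧ ∀ x ∈ g • (X : Set 𝕍), eChar F (μ * sf x y) = 1} := by
  have hgv := stabV_fix g
  have hkey : ∀ z : 𝕍, sf v (((g : Sp) : Mat m F) *ᵥ z) = sf v z := stab_sf g
  ext y
  constructor
  · rintro ⟨z, hz, rfl⟩
    refine ⟨(hkey z).trans (mem_vperp.1 hz.1), ?_⟩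
    rintro _ ⟨x, hx, rfl⟩
    show eChar F (μ * sf (((g : Sp) : Mat m F) *ᵥ x) (((g : Sp) : Mat m F) *ᵥ z)) = 1
    rw [sf_invariant]
    exact hz.2 x hx
  · rintro ⟨h1, h2⟩
    have hy : ((g : Sp) : Mat m F) *ᵥ ((((g : Sp)⁻¹ : Sp) : Mat m F) *ᵥ y) = y :=
      mulVec_inv_cancel _ _
    refine ⟨(((g : Sp)⁻¹ : Sp) : Mat m F) *ᵥ y, ⟨mem_vperp.2 ?_, fun x hx => ?_⟩, hy⟩
    · rw [← hkey, hy]; exact h1
    · rw [← sf_invariant (g : Sp), hy]
      exact h2 _ ⟨x, hx, rfl⟩

theorem orbN_Ann_le {μ : F} {v : 𝕍} (X : AddSubgroup 𝕍) :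
    orbN v (Ann μ v X : Set 𝕍) ≤ orbN v (X : Set 𝕍) := by
  classical
  let Φ : MulAction.orbit (stabV v) (X : Set 𝕍) → MulAction.orbit (stabV v) (Ann μ v X : Set 𝕍) :=
    fun Z => ⟨{y | sf v y = 0 ∧ ∀ x ∈ (Z : Set 𝕍), eChar F (μ * sf x y) = 1}, by
      obtain ⟨g, hg⟩ := Z.2
      refine ⟨g, ?_⟩
      show g • (Ann μ v X : Set 𝕍) = _
      rw [Ann_smul, show g • (X : Set 𝕍) = (Z : Set 𝕍) from hg]⟩
  refine Nat.card_le_card_of_surjective Φ ?_
  rintro ⟨_, g, rfl⟩
  exact ⟨⟨g • (X : Set 𝕍), g, rfl⟩, Subtype.ext (Ann_smul g X).symm⟩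

/-- independence modulo the line of `v`, with a given value of the form -/
def PairSet (v : Fin m ⊕ Fin m → F) (b : F) : Set ((Fin m ⊕ Fin m → F) × (Fin m ⊕ Fin m → F)) :=
  {p | Cfsg.sympForm m F v p.1 = 0 ∧ Cfsg.sympForm m F v p.2 = 0 ∧
    LinearIndependent F ![v, p.1, p.2] ∧ Cfsg.sympForm m F p.1 p.2 = b}

theorem orbN_pair_cover {v : 𝕍} {Y : AddSubgroup 𝕍} {y₁ y₂ : 𝕍} (h₁ : y₁ ∈ Y) (h₂ : y₂ ∈ Y)
    {b : F} (h : (y₁, y₂) ∈ PairSet v b) :
    (PairSet v b).ncard ≤ orbN v (Y : Set 𝕍) *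
      (((Y : Set 𝕍) ×ˢ (Y : Set 𝕍)) ∩ PairSet v b).ncard := by
  classical
  have hc := cover (G := stabV v) (PairSet v b) (fun g p hp => by
      have hgv := stabV_fix g
      obtain ⟨h1, h2, h3, h4⟩ := hp
      have hkey : ∀ z : 𝕍, sf v (((g : Sp) : Mat m F) *ᵥ z) = sf v z := stab_sf g
      refine ⟨(hkey _).trans h1, (hkey _).trans h2, ?_, (sf_invariant _ _ _).trans h4⟩
      have hm := h3.map' (spEquiv m F (g : Sp)).1.toLinearMap (LinearEquiv.ker _)
      have e : ![v, (g • p).1, (g • p).2] = ⇑(spEquiv m F (g : Sp)).1.toLinearMap ∘ ![v, p.1, p.2] := by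
        funext i
        fin_cases i
        · exact hgv.symm
        · rfl
        · rfl
      rw [e]
      exact hm)
    ((Y : Set 𝕍) ×ˢ (Y : Set 𝕍)) (y₀ := (y₁, y₂)) ⟨h₁, h₂⟩ (fun p hp => by
      have hfl : ∀ {z : 𝕍}, sf v z = 0 → sf z v = 0 := fun hz => by rw [sf_swap, hz, neg_zero]
      obtain ⟨g, hg⟩ := exists_sp_map ![v, y₁, y₂] ![v, p.1, p.2] h.2.2.1 hp.2.2.1 (fun i j => by
        fin_cases i <;> fin_cases j <;>
          simp [sf_self, show sf v y₁ = 0 from h.1, show sf v y₂ = 0 from h.2.1, hfl h.1, hfl h.2.1,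
            show sf v p.1 = 0 from hp.1, show sf v p.2 = 0 from hp.2.1, hfl hp.1, hfl hp.2.1,
            show sf y₁ y₂ = b from h.2.2.2, show sf p.1 p.2 = b from hp.2.2.2,
            sf_swap y₂ y₁, sf_swap p.2 p.1])
      exact ⟨⟨g, hg 0⟩, Prod.ext (hg 1) (hg 2)⟩)
  refine hc.trans (Nat.mul_le_mul_right _ ?_)
  let Φ : MulAction.orbit (stabV v) (Y : Set 𝕍) →
      MulAction.orbit (stabV v) ((Y : Set 𝕍) ×ˢ (Y : Set 𝕍)) :=
    fun Z => ⟨(Z : Set 𝕍) ×ˢ (Z : Set 𝕍), by
      obtain ⟨g, hg⟩ := Z.2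
      refine ⟨g, ?_⟩
      rw [← show g • (Y : Set 𝕍) = (Z : Set 𝕍) from hg]
      exact Set.smul_set_prod _ _ _⟩
  refine Nat.card_le_card_of_surjective Φ ?_
  rintro ⟨_, g, rfl⟩
  exact ⟨⟨g • (Y : Set 𝕍), g, rfl⟩, Subtype.ext (Set.smul_set_prod _ _ _).symm⟩

open Classical in
/-- the number of pairs of each type -/
theorem le_card_PairSet (hm : 2 ≤ m) {v : 𝕍} (hv : v ≠ 0) (b : F) :
    (Fintype.card F ^ (2 * m - 1) - Fintype.card F) *
        (Fintype.card F ^ (2 * m - 2) - if b = 0 then Fintype.card F ^ 2 else 0) ≤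
      (PairSet v b).ncard := by
  classical
  let R := {x : 𝕍 // sf v x = 0 ∧ x ∉ lineG v}
  haveI : Fintype R := Fintype.ofFinite _
  let S : R → Type _ := fun x => {y : 𝕍 // (x.1, y) ∈ PairSet v b}
  have hR : Nat.card R = Fintype.card F ^ (2 * m - 1) - Fintype.card F := by
    have : Nat.card R = ((vperp v : Set 𝕍) \ (lineG v : Set 𝕍)).ncard := by
      rw [← Nat.card_coe_set_eq]
      exact Nat.card_congr (Equiv.subtypeEquivRight fun x => by simp [mem_vperp])
    rw [this, Set.ncard_sdiff (SetLike.coe_subset_coe.2 fun y hy => by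
      obtain ⟨a, rfl⟩ := mem_lineG.1 hy
      exact mem_vperp.2 (by rw [sf_smul_right, sf_self, mul_zero])), ← Nat.card_coe_set_eq,
      ← Nat.card_coe_set_eq]
    simp only [SetLike.coe_sort_coe]
    rw [card_vperp hv, card_lineG hv]
  have hS : ∀ x : R, Fintype.card F ^ (2 * m - 2) - (if b = 0 then Fintype.card F ^ 2 else 0) ≤
      Nat.card (S x) := by
    intro x
    have hli : LinearIndependent F ![v, x.1] :=
      (LinearIndependent.pair_iff' hv).2 fun a ha => x.2.2 (mem_lineG.2 ⟨a, ha⟩)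
    obtain ⟨y₀, hy₀, hne⟩ := exists_perp_ne hv x.2.2
    set y₁ := (b / sf x.1 y₀) • y₀ with hy₁
    have hvy : sf v y₁ = 0 := by rw [hy₁, sf_smul_right, hy₀, mul_zero]
    have hxy : sf x.1 y₁ = b := by rw [hy₁, sf_smul_right, div_mul_cancel₀ b hne]
    let A : Set 𝕍 := (fun z => y₁ + z) '' (perp ![v, x.1] : Set 𝕍)
    let B : Set 𝕍 := if b = 0 then (Submodule.span F (Set.range ![v, x.1]) : Set 𝕍) else ∅
    have hsub : A \ B ⊆ {y | (x.1, y) ∈ PairSet v b} := by
      rintro _ ⟨⟨z, hz, rfl⟩, hB⟩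
      have hz0 : sf v z = 0 := mem_perp.1 hz 0
      have hz1 : sf x.1 z = 0 := mem_perp.1 hz 1
      refine ⟨x.2.1, by rw [sf_add_right, hvy, hz0, add_zero], ?_,
        by rw [sf_add_right, hxy, hz1, add_zero]⟩
      have hnot : y₁ + z ∉ Submodule.span F (Set.range ![v, x.1]) := by
        intro hmem
        by_cases hb : b = 0
        · exact hB (by simp only [B, if_pos hb]; exact hmem)
        · obtain ⟨c, hc⟩ := (Submodule.mem_span_range_iff_exists_fun F).1 hmem
          have h0 := congrArg (fun w => sf x.1 w) hc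
          simp only [Fin.sum_univ_two, sf_add_right, sf_smul_right, hxy, hz1, add_zero] at h0
          rw [show sf x.1 (![v, x.1] 0) = 0 by
              show sf x.1 v = 0
              rw [sf_swap, x.2.1, neg_zero],
            show sf x.1 (![v, x.1] 1) = 0 from sf_self _] at h0
          exact hb (by simpa using h0.symm)
      have hsn := linearIndependent_finSnoc.2 ⟨hli, hnot⟩
      have e : ![v, x.1, y₁ + z] = Fin.snoc ![v, x.1] (y₁ + z) := by
        funext i
        fin_cases i <;> rfl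
      show LinearIndependent F ![v, x.1, y₁ + z]
      rw [e]
      exact hsn
    have hA : A.ncard = Fintype.card F ^ (2 * m - 2) := by
      rw [Set.ncard_image_of_injective _ (add_right_injective y₁), ← Nat.card_coe_set_eq]
      simp only [SetLike.coe_sort_coe]
      rw [Module.natCard_eq_pow_finrank (K := F), finrank_perp hli, Nat.card_eq_fintype_card]
    have hB : B.ncard = if b = 0 then Fintype.card F ^ 2 else 0 := by
      simp only [B]
      split_ifs
      · rw [← Nat.card_coe_set_eq]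
        simp only [SetLike.coe_sort_coe]
        rw [Module.natCard_eq_pow_finrank (K := F), finrank_span_eq_card hli, Fintype.card_fin,
          Nat.card_eq_fintype_card]
      · exact Set.ncard_empty _
    calc _ = A.ncard - B.ncard := by rw [hA, hB]
      _ ≤ (A \ B).ncard := Set.le_ncard_sdiff _ _
      _ ≤ ({y | (x.1, y) ∈ PairSet v b} : Set 𝕍).ncard := Set.ncard_le_ncard hsub (Set.toFinite _)
      _ = _ := (Nat.card_coe_set_eq _).symm
  calc _ ≤ ∑ x : R, Nat.card (S x) := by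
        rw [← hR, Nat.card_eq_fintype_card, ← Finset.card_univ, ← smul_eq_mul]
        exact Finset.card_nsmul_le_sum _ _ _ fun x _ => hS x
    _ = Nat.card (Σ x : R, S x) := Nat.card_sigma.symm
    _ ≤ Nat.card (PairSet v b : Set (𝕍 × 𝕍)) := by
        refine Nat.card_le_card_of_injective (fun p => ⟨(p.1.1, p.2.1), p.2.2⟩) ?_
        intro p q h
        have h' := congrArg Subtype.val h
        simp only [Prod.mk.injEq] at h'
        exact Sigma.subtype_ext (Subtype.ext h'.1) h'.2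
    _ = _ := Nat.card_coe_set_eq _

end Cfsg.Agent.Symplectic.MinGen
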