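import Cfsg.Agent.Symplectic.MinIndexCases

/-! When the orbit bound is nearly attained, a conjugate contains a torus element. -/

set_option autoImplicit false
set_option maxHeartbeats 1000000
set_option linter.unusedSectionVars false

namespace Cfsg.Agent.Symplectic.MinGen

open scoped Matrix LinearAlgebra.Projectivization Pointwise
open Cfsg.Agent.Symplectic
open Cfsg.Agent.Symplectic.MinTwo (El El_mulVec El_mul El_zero El_conj inv_fix transitive_perp T_comm)

variable {m : ℕ} {F : Type*} [Field F] [Fintype F]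

local notation "𝕍" => (Fin m ⊕ Fin m → F)
local notation "sf" => Cfsg.sympForm m F
local notation "Sp" => Matrix.symplecticGroup (Fin m) F
local notation "qq" => Fintype.card F

theorem half_mem (h2 : (2 : F) ≠ 0) (Z : AddSubgroup F) {c : F} (h : 2 * c ∈ Z) : c ∈ Z := by
  obtain ⟨p, hp⟩ := CharP.exists F
  haveI := hp
  haveI : Fact p.Prime := ⟨CharP.char_is_prime F p⟩
  have hp2 : p ≠ 2 := fun h => h2 (by subst h; exact CharTwo.two_eq_zero)
  obtain ⟨j, hj⟩ := (Nat.Prime.odd_of_ne_two (Fact.out : p.Prime) hp2)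
  have h4 : (j + 1) • (2 * c) ∈ Z := Z.nsmul_mem h _
  have hp0 : (p : F) = 0 := CharP.cast_eq_zero F p
  rw [hj] at hp0
  push_cast at hp0
  rw [nsmul_eq_mul] at h4
  push_cast at h4
  rwa [show ((j : F) + 1) * (2 * c) = c by linear_combination c * hp0] at h4

/-- a better bound on the scalar factor -/
theorem two_mul_cz' (hq : 3 ≤ qq) {H : Subgroup Sp} {v : 𝕍} (hF : ¬ Full H v) :
    qq + 2 ≤ 2 * cz H v := by
  rcases eq_or_ne (2 : F) 0 with h2 | h2
  · haveI : CharP F 2 := CharTwo.of_one_ne_zero_of_two_eq_zero one_ne_zero h2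
    have := cz_even hF
    omega
  · have hge := two_mul_cz hF
    obtain ⟨p, hp⟩ := CharP.exists F
    haveI := hp
    obtain ⟨e, hpr, hcard⟩ := FiniteField.card F p
    have hp2 : p ≠ 2 := fun h => h2 (by subst h; exact CharTwo.two_eq_zero)
    have hoddq : Odd qq := hcard ▸ (hpr.odd_of_ne_two hp2).pow
    have hne : 2 * cz H v ≠ qq + 1 := by
      intro he
      have h1 := (card_sqU_mul (F := F)).trans (Nat.mul_le_mul_left 2 (cz_key H v (Zs_ne_top hF)))
      have hd : (Zs H v).index ∣ qq := by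
        rw [← Nat.card_eq_fintype_card (α := F)]; exact AddSubgroup.index_dvd_card _
      obtain ⟨c, hc⟩ := hd
      have hi := Zs_index_ge hF
      obtain ⟨j, hj⟩ : ∃ j, (Zs H v).index = j + 1 := ⟨_, (Nat.sub_add_cancel (by omega)).symm⟩
      rw [cz, hj] at he
      rw [hj, Nat.add_sub_cancel] at h1
      rw [hj] at hc
      have hdd : (j + 1) ∣ qq + 1 := ⟨2 * Nat.card (OZ H v), by rw [← he]; ring⟩
      have h1' : (j + 1) ∣ 1 := (Nat.dvd_add_right ⟨c, hc⟩).1 hdd
      have := Nat.le_of_dvd (by norm_num) h1'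
      omega
    obtain ⟨r, hr⟩ := hoddq
    omega

/-- exact case of the orbit bound -/
theorem rel_of_exact {H : Subgroup Sp} {v : 𝕍} (hv : v ≠ 0)
    (hn : H.index < Nat.card (ℙ F 𝕍))
    (hb : Nat.card (ℙ F 𝕍) ≤ 2 * (cz H v * dx H v * orbN v (Xs H v : Set 𝕍)))
    {l : Sp} (hl : l ∈ stabP hv) (hz : Zs (cj l H) v = Zs H v) (hx : Xs (cj l H) v = Xs H v) :
    ∃ x, sf v x = 0 ∧ ∃ c, El v x c * l ∈ H := by
  by_contra hc
  have hc' : ¬ Rel H v 1 l := by
    rintro ⟨x, hx', c, hm⟩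
    exact hc ⟨x, hx', c, by simpa using hm⟩
  have h1 : ∀ A : Subgroup Sp, cj 1 A = A := fun A => by ext; simp [mem_cj]
  have h := osz_ge_orbits H hv (fun b : Bool => if b then l else 1)
    (fun b => by cases b <;> simp [h1, hz]) (fun b => by cases b <;> simp [h1, hx])
    (fun b => by cases b <;> simp [hl, (stabP hv).one_mem])
    (fun a b hab => by
      cases a <;> cases b
      · rfl
      · exact absurd hab hc'
      · exfalso
        obtain ⟨x, hx', c, hm⟩ := hab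
        simp only [Bool.false_eq_true, if_false, if_true, mul_one] at hm
        obtain ⟨t, ht, htv⟩ := (mem_stabP hv l).1 hl
        refine hc' ⟨t • ((l : Mat m F) *ᵥ (-x)), ?_, t ^ 2 * -c, ?_⟩
        · rw [sf_smul_right, sf_scal ht htv (by rw [sf_neg_right, hx', neg_zero]), mul_zero]
        · rw [← conj_El_scal ht htv (by rw [sf_neg_right, hx', neg_zero]), ← El_inv hx', inv_one,
            one_mul]
          have := H.inv_mem hm
          simpa [mul_assoc] using this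
      · rfl)
  rw [Nat.card_eq_fintype_card (α := Bool), Fintype.card_bool] at h
  have h' := h.trans (osz_le H hv)
  rw [mul_assoc, mul_assoc] at h'
  rw [mul_assoc] at hb
  omega

/-- an element respecting the invariants -/
theorem same_X {H : Subgroup Sp} {v : 𝕍} {l : Sp} {t : F} (ht : t ≠ 0)
    (h : (l : Mat m F) *ᵥ v = t • v) (hX : ∀ x ∈ Xs H v, t • ((l : Mat m F) *ᵥ x) ∈ Xs H v) :
    Xs (cj l H) v = Xs H v := by
  refine SetLike.coe_injective (Set.eq_of_subset_of_ncard_le ?_ ?_ (Set.toFinite _))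
  · rw [Xs_cj_scal ht h]
    rintro _ ⟨_, ⟨x, hx, rfl⟩, rfl⟩
    exact hX x hx
  · rw [Xs_cj_scal ht h]
    show _ ≤ ((fun x : 𝕍 => t • x) '' (l • (Xs H v : Set 𝕍))).ncard
    rw [Set.ncard_image_of_injective _ (smul_right_injective 𝕍 ht), Set.ncard_smul_set]

theorem same_Z {H : Subgroup Sp} {v : 𝕍} {l : Sp} {t : F} (ht : t ≠ 0)
    (h : (l : Mat m F) *ᵥ v = t • v) (hZ : t ^ 2 = 1 ∨ Zs H v = ⊥) :
    Zs (cj l H) v = Zs H v := by
  refine SetLike.coe_injective ?_
  rw [Zs_cj_scal ht h]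
  rcases hZ with h1 | h1
  · rw [h1, one_smul]
  · rw [h1, AddSubgroup.coe_bot, Set.smul_set_singleton, smul_zero]

/-- the diagonal element on a hyperbolic pair -/
noncomputable def tor (v w : Fin m ⊕ Fin m → F) (t : F) : Matrix.symplecticGroup (Fin m) F :=
  T v (-t) * T w (-t⁻¹) * T v (-t) * (T v 1 * T w 1 * T v 1)

theorem tor_mulVec {v w : 𝕍} (h : sf v w = 1) {t : F} (ht : t ≠ 0) (y : 𝕍) :
    (tor v w t : Mat m F) *ᵥ y =
      y + ((t - 1) * sf y w) • v + ((1 - t⁻¹) * sf y v) • w := by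
  have h' : sf w v = -1 := by rw [sf_swap, h]
  simp only [tor, Submonoid.coe_mul, ← Matrix.mulVec_mulVec, T_mulVec, sf_add_left, sf_smul_left,
    h, h', sf_self]
  match_scalars <;> field_simp <;> ring

theorem tor_left {v w : 𝕍} (h : sf v w = 1) {t : F} (ht : t ≠ 0) :
    (tor v w t : Mat m F) *ᵥ v = t • v := by
  rw [tor_mulVec h ht, sf_self, h]
  module

theorem tor_perp {v w x : 𝕍} (h : sf v w = 1) {t : F} (ht : t ≠ 0) (hx : sf v x = 0) :
    (tor v w t : Mat m F) *ᵥ x = x + ((t - 1) * sf x w) • v := by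
  rw [tor_mulVec h ht, sf_swap x v, hx]
  module

theorem tor_fix {v w x : 𝕍} (h : sf v w = 1) {t : F} (ht : t ≠ 0) (hv : sf v x = 0)
    (hw : sf w x = 0) : (tor v w t : Mat m F) *ᵥ x = x := by
  rw [tor_perp h ht hv, sf_swap, hw]
  module

theorem tor_comm {v w : 𝕍} {l : Sp} (hv : (l : Mat m F) *ᵥ v = v) (hw : (l : Mat m F) *ᵥ w = w)
    (t : F) : l * tor v w t = tor v w t * l := by
  have h1 : ∀ c, l * T v c = T v c * l := fun c => by
    rw [← mul_inv_eq_iff_eq_mul, T_conj, hv]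
  have h2 : ∀ c, l * T w c = T w c * l := fun c => by
    rw [← mul_inv_eq_iff_eq_mul, T_conj, hw]
  have e1 : ∀ c, Commute l (T v c) := h1
  have e2 : ∀ c, Commute l (T w c) := h2
  exact ((((e1 _).mul_right (e2 _)).mul_right (e1 _)).mul_right
    (((e1 _).mul_right (e2 _)).mul_right (e1 _)) : Commute l (tor v w t))

theorem tor_mul_self {v w : 𝕍} (h : sf v w = 1) : tor v w (-1) * tor v w (-1) = 1 := by
  have h0 : (-1 : F) ≠ 0 := neg_ne_zero.2 one_ne_zero
  have h' : sf w v = -1 := by rw [sf_swap, h]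
  refine sp_ext fun y => ?_
  rw [Submonoid.coe_mul, ← Matrix.mulVec_mulVec, tor_mulVec h h0, tor_mulVec h h0,
    Submonoid.coe_one, Matrix.one_mulVec]
  simp only [sf_add_left, sf_smul_left, h, h', sf_self, inv_neg, inv_one]
  module

/-- conjugates with the same invariants at `v` -/
def Alike (v : Fin m ⊕ Fin m → F) (H H' : Subgroup (Matrix.symplecticGroup (Fin m) F)) : Prop :=
  H'.index = H.index ∧ Zs H' v = Zs H v ∧ Xs H' v = Xs H v

theorem Alike.full {v : 𝕍} {H H' : Subgroup Sp} (h : Alike v H H') (hF : ¬ Full H v) :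
    ¬ Full H' v := fun h' => hF fun c => by
  have : c ∈ Zs H' v := h' c
  rwa [h.2.1] at this

theorem Alike.bound {v : 𝕍} {H H' : Subgroup Sp} (h : Alike v H H') :
    cz H' v * dx H' v * orbN v (Xs H' v : Set 𝕍) = cz H v * dx H v * orbN v (Xs H v : Set 𝕍) := by
  simp only [cz, OZ, dx, h.2.1, h.2.2]

theorem Alike.trans {v : 𝕍} {A B C : Subgroup Sp} (h : Alike v A B) (h' : Alike v B C) :
    Alike v A C :=
  ⟨h'.1.trans h.1, h'.2.1.trans h.2.1, h'.2.2.trans h.2.2⟩

theorem Alike.cj_El {v x : 𝕍} (H : Subgroup Sp) (h : sf v x = 0) (c : F) :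
    Alike v H (cj (El v x c) H) :=
  ⟨index_cj _ _, Zs_cj_El h c, Xs_cj_El h c⟩

/-- a torus element in a conjugate -/
theorem exists_tor {H : Subgroup Sp} {v w : 𝕍} (hv : v ≠ 0) (hvw : sf v w = 1)
    (hn : H.index < Nat.card (ℙ F 𝕍))
    (hb : Nat.card (ℙ F 𝕍) ≤ 2 * (cz H v * dx H v * orbN v (Xs H v : Set 𝕍)))
    (hsm : ∀ a : F, ∀ x ∈ Xs H v, a • x ∈ Xs H v)
    {t : F} (ht : t ≠ 0) (ht1 : t ≠ 1) (hZ : t ^ 2 = 1 ∨ Zs H v = ⊥) :
    ∃ H', Alike v H H' ∧ tor v w t ∈ H' := by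
  set g := tor v w t with hg
  have hgv : (g : Mat m F) *ᵥ v = t • v := tor_left hvw ht
  obtain ⟨x, hx, c, hc⟩ := rel_of_exact hv hn hb (l := g) ((mem_stabP hv _).2 ⟨t, ht, hgv⟩)
    (same_Z ht hgv hZ) (same_X ht hgv fun y hy => by
      rw [hg, tor_perp hvw ht hy.1, smul_add, smul_smul]
      exact (Xs H v).add_mem (hsm _ _ hy) (smul_self_mem_Xs H v _))
  have h1t : (1 - t) ≠ 0 := sub_ne_zero.2 (Ne.symm ht1)
  set x₀ := (1 - t)⁻¹ • x with hx₀
  have hx0 : sf v x₀ = 0 := by rw [hx₀, sf_smul_right, hx, mul_zero]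
  have hgx : sf v ((g : Mat m F) *ᵥ x₀) = 0 := sf_scal ht hgv hx0
  set e := El v (-x₀) (0 : F)
  have hn0 : sf v (-x₀) = 0 := by rw [sf_neg_right, hx0, neg_zero]
  have h1 : Alike v H (cj e H) := Alike.cj_El H hn0 0
  obtain ⟨C, hC⟩ : ∃ C, T v C * g ∈ cj e H := by
    have he : e⁻¹ = El v x₀ 0 := by
      show (El v (-x₀) (0 : F))⁻¹ = _
      rw [El_inv hn0, neg_neg, neg_zero]
    have hyv : sf v (t • ((g : Mat m F) *ᵥ x₀)) = 0 := by rw [sf_smul_right, hgx, mul_zero]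
    have hm : e * (El v x c * g) * e⁻¹ ∈ cj e H := conj_mem_cj.2 hc
    have hmove : g * El v x₀ 0 = El v (t • ((g : Mat m F) *ᵥ x₀)) (t ^ 2 * 0) * g := by
      rw [← conj_El_scal ht hgv hx0, inv_mul_cancel_right]
    rw [he, ← mul_assoc, mul_assoc (e * El v x c) g (El v x₀ 0), hmove, ← mul_assoc] at hm
    rw [El_mul hn0 hx, El_mul (by rw [sf_add_right, hn0, hx, add_zero]) hyv] at hm
    have hlin : -x₀ + x + t • ((g : Mat m F) *ᵥ x₀) = (t * ((t - 1) * sf x₀ w)) • v := by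
      have hxe : x = (1 - t) • x₀ := by rw [hx₀, smul_smul, mul_inv_cancel₀ h1t, one_smul]
      have key : ∀ (u : 𝕍) (a : F), -u + (1 - t) • u + (t • u + a • v) = a • v := fun u a => by
        module
      rw [hg, tor_perp hvw ht hx0, smul_add, smul_smul t ((t - 1) * sf x₀ w) v]
      conv_rhs => rw [← key x₀ (t * ((t - 1) * sf x₀ w)), ← hxe]
    rw [hlin, El_smul_self] at hm
    exact ⟨_, hm⟩
  by_cases ht2 : t ^ 2 = 1
  · have htm : t = -1 := (sq_eq_one_iff.1 ht2).resolve_left ht1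
    have h2 : (2 : F) ≠ 0 := fun h => ht1 (by rw [htm]; linear_combination -h)
    refine ⟨cj e H, h1, ?_⟩
    have hcomm : g * T v C = T v C * g := by
      rw [← mul_inv_eq_iff_eq_mul, conj_T_scal hgv, ht2, one_mul]
    have hsq := (cj e H).mul_mem hC hC
    rw [mul_assoc, ← mul_assoc g (T v C) g, hcomm, mul_assoc, hg, htm, tor_mul_self hvw, mul_one,
      T_mul, ← two_mul] at hsq
    have h3 : C ∈ Zs (cj e H) v := half_mem h2 _ hsq
    have := (cj e H).mul_mem ((cj e H).inv_mem h3) hC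
    rwa [inv_mul_cancel_left] at this
  · have h2t : (1 - t ^ 2) ≠ 0 := sub_ne_zero.2 (Ne.symm ht2)
    set d := C / (1 - t ^ 2) with hd
    refine ⟨cj (El v 0 (-d)) (cj e H), h1.trans (Alike.cj_El _ (sf_zero v) _), ?_⟩
    have hm := (conj_mem_cj (g := El v 0 (-d))).2 hC
    have hmove : g * T v d = T v (t ^ 2 * d) * g := by
      rw [← conj_T_scal hgv, inv_mul_cancel_right]
    have heq : El v (0 : 𝕍) (-d) * (T v C * g) * (El v 0 (-d))⁻¹ = g := by
      rw [El_zero, T_inv, neg_neg, ← mul_assoc, T_mul, mul_assoc, hmove, ← mul_assoc, T_mul,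
        show -d + C + t ^ 2 * d = 0 by rw [hd]; field_simp; ring, T_zero, one_mul]
    rwa [heq] at hm

/-- lifting modulo the root group -/
def Lift (H : Subgroup (Matrix.symplecticGroup (Fin m) F)) (v : Fin m ⊕ Fin m → F)
    (l : Matrix.symplecticGroup (Fin m) F) : Prop :=
  ∃ z, T v z * l ∈ H

/-- the key lifting lemma -/
theorem lift_of_tor {H : Subgroup Sp} {v w : 𝕍} (hv : v ≠ 0) (hvw : sf v w = 1)
    (hn : H.index < Nat.card (ℙ F 𝕍))
    (hb : Nat.card (ℙ F 𝕍) ≤ 2 * (cz H v * dx H v * orbN v (Xs H v : Set 𝕍)))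
    (hsm : ∀ a : F, ∀ x ∈ Xs H v, a • x ∈ Xs H v)
    {t : F} (ht : t ≠ 0) (ht1 : t ≠ 1) (hg : tor v w t ∈ H) {l : Sp}
    (hlv : (l : Mat m F) *ᵥ v = v) (hlw : (l : Mat m F) *ᵥ w = w)
    (hlX : ∀ x ∈ Xs H v, (l : Mat m F) *ᵥ x ∈ Xs H v) : Lift H v l := by
  have hlv' : (l : Mat m F) *ᵥ v = (1 : F) • v := by rw [one_smul, hlv]
  obtain ⟨x, hx, c, hc⟩ := rel_of_exact hv hn hb (l := l)
    ((mem_stabP hv _).2 ⟨1, one_ne_zero, hlv'⟩) (same_Z one_ne_zero hlv' (Or.inl (one_pow 2)))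
    (same_X one_ne_zero hlv' fun y hy => by rw [one_smul]; exact hlX y hy)
  set g := tor v w t with hgdef
  have hgv : (g : Mat m F) *ᵥ v = t • v := tor_left hvw ht
  set x₂ := t • ((g : Mat m F) *ᵥ x) with hx₂
  have hx2 : sf v x₂ = 0 := by rw [hx₂, sf_smul_right, sf_scal ht hgv hx, mul_zero]
  have hc2 : El v x₂ (t ^ 2 * c) * l ∈ H := by
    have h := H.mul_mem (H.mul_mem hg hc) (H.inv_mem hg)
    have he : g * (El v x c * l) * g⁻¹ = (g * El v x c * g⁻¹) * l := by
      have hcm : l * g = g * l := tor_comm hlv hlw t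
      have hcm' : l * g⁻¹ = g⁻¹ * l := (Commute.inv_right hcm : Commute l g⁻¹)
      calc g * (El v x c * l) * g⁻¹ = g * El v x c * (l * g⁻¹) := by simp [mul_assoc]
        _ = _ := by rw [hcm']; simp [mul_assoc]
    rwa [he, conj_El_scal ht hgv hx] at h
  have hnx2 : sf v (-x₂) = 0 := by rw [sf_neg_right, hx2, neg_zero]
  have hr := H.mul_mem hc (H.inv_mem hc2)
  rw [mul_inv_rev, mul_assoc, mul_inv_cancel_left, El_inv hx2, El_mul hx hnx2] at hr
  have hmem : x + -x₂ ∈ Xs H v := ⟨by rw [sf_add_right, hx, hnx2, add_zero], _, hr⟩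
  rw [hx₂, hgdef, tor_perp hvw ht hx, smul_add, smul_smul] at hmem
  have hmem' := (Xs H v).add_mem hmem (smul_self_mem_Xs H v (t * ((t - 1) * sf x w)))
  have h1t : (1 - t) ≠ 0 := sub_ne_zero.2 (Ne.symm ht1)
  have hxX : x ∈ Xs H v := by
    have := hsm (1 - t)⁻¹ _ hmem'
    convert this using 1
    have e : x + -(t • x + (t * ((t - 1) * sf x w)) • v) + (t * ((t - 1) * sf x w)) • v =
        (1 - t) • x := by module
    rw [e, smul_smul, inv_mul_cancel₀ h1t, one_smul]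
  obtain ⟨-, d, hd⟩ := hxX
  refine ⟨-d + c, ?_⟩
  have hnx : sf v (-x) = 0 := by rw [sf_neg_right, hx, neg_zero]
  have h := H.mul_mem (H.inv_mem hd) hc
  rw [← mul_assoc, El_inv hx, El_mul hnx hx, neg_add_cancel, El_zero, sf_neg_right, sf_self,
    neg_zero, add_zero] at h
  exact h

theorem T_comm_fix {v : 𝕍} {l : Sp} (hl : (l : Mat m F) *ᵥ v = v) (z : F) :
    l * T v z = T v z * l := by
  rw [← mul_inv_eq_iff_eq_mul, T_conj, hl]

/-- commutators of lifts lie in the subgroup -/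
theorem lift_commutator {H : Subgroup Sp} {v : 𝕍} {l l' : Sp} (hl : Lift H v l)
    (hl' : Lift H v l') (h : (l : Mat m F) *ᵥ v = v) (h' : (l' : Mat m F) *ᵥ v = v) :
    l * l' * l⁻¹ * l'⁻¹ ∈ H := by
  obtain ⟨z, hz⟩ := hl
  obtain ⟨z', hz'⟩ := hl'
  have hm := H.mul_mem (H.mul_mem (H.mul_mem hz hz') (H.inv_mem hz)) (H.inv_mem hz')
  have c1 := T_comm_fix h z'
  have c3 : T v z * T v z' = T v z' * T v z := by rw [T_mul, T_mul, add_comm]
  have e : T v z * l * (T v z' * l') * (T v z * l)⁻¹ * (T v z' * l')⁻¹ = l * l' * l⁻¹ * l'⁻¹ := by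
    have d2 : ∀ y, Commute (l'⁻¹) (T v y) := fun y =>
      (Commute.inv_left (T_comm_fix h' y : Commute l' (T v y)))
    have d1 : ∀ y, Commute (l⁻¹) (T v y) := fun y =>
      (Commute.inv_left (T_comm_fix h y : Commute l (T v y)))
    have f1 : ∀ y, Commute l (T v y) := fun y => T_comm_fix h y
    have f2 : ∀ y, Commute l' (T v y) := fun y => T_comm_fix h' y
    calc T v z * l * (T v z' * l') * (T v z * l)⁻¹ * (T v z' * l')⁻¹
        = T v z * (l * T v z') * l' * l⁻¹ * (T v z)⁻¹ * l'⁻¹ * (T v z')⁻¹ := by group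
      _ = T v z * T v z' * (l * l' * l⁻¹) * (T v z)⁻¹ * l'⁻¹ * (T v z')⁻¹ := by rw [c1]; group
      _ = T v z * T v z' * ((l * l' * l⁻¹) * (T v (-z))) * (l'⁻¹ * T v (-z')) := by
          rw [T_inv, T_inv]; group
      _ = T v z * T v z' * (T v (-z) * (l * l' * l⁻¹)) * (T v (-z') * l'⁻¹) := by
          rw [(d2 _).eq]
          have : Commute (l * l' * l⁻¹) (T v (-z)) :=
            ((f1 _).mul_left (f2 _)).mul_left (d1 _)
          rw [this.eq]
      _ = T v z * T v z' * T v (-z) * ((l * l' * l⁻¹) * T v (-z')) * l'⁻¹ := by group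
      _ = T v z * T v z' * T v (-z) * (T v (-z') * (l * l' * l⁻¹)) * l'⁻¹ := by
          have : Commute (l * l' * l⁻¹) (T v (-z')) :=
            ((f1 _).mul_left (f2 _)).mul_left (d1 _)
          rw [this.eq]
      _ = _ := by
          simp only [← mul_assoc]
          rw [T_mul, T_mul, T_mul, show z + z' + -z + -z' = (0 : F) by ring, T_zero, one_mul]
  rwa [e] at hm

end Cfsg.Agent.Symplectic.MinGen
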