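import Cfsg.Agent.Symplectic.MinIndexExact

/-! A small index subgroup cannot have the point of `v` as the whole radical part. -/

set_option autoImplicit false
set_option maxHeartbeats 1000000
set_option linter.unusedSectionVars false

namespace Cfsg.Agent.Symplectic.MinGen

open scoped Matrix LinearAlgebra.Projectivization Pointwise
open Cfsg.Agent.Symplectic
open Cfsg.Agent.Symplectic.MinTwo (El El_mulVec El_mul El_zero El_conj inv_fix transitive_perp T_comm)

variable {m : ℕ} {F : Type*} [Field F] [Fintype F]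

local notation "𝕍" => (Fin m ⊕ Fin m → F)
local notation "sf" => Cfsg.sympForm m F
local notation "Sp" => Matrix.symplecticGroup (Fin m) F
local notation "qq" => Fintype.card F

theorem sf_sub_right (a b c : 𝕍) : sf a (b - c) = sf a b - sf a c := by
  rw [sub_eq_add_neg, sf_add_right, sf_neg_right, sub_eq_add_neg]

theorem sf_sub_left (a b c : 𝕍) : sf (a - b) c = sf a c - sf b c := by
  rw [sf_swap, sf_sub_right, sf_swap c a, sf_swap c b]
  ring

/-- projection to the plane of a hyperbolic pair -/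
def plPr (v w x : Fin m ⊕ Fin m → F) : Fin m ⊕ Fin m → F :=
  Cfsg.sympForm m F x w • v + Cfsg.sympForm m F v x • w

/-- projection to the orthogonal of a hyperbolic pair -/
def orPr (v w x : Fin m ⊕ Fin m → F) : Fin m ⊕ Fin m → F := x - plPr v w x

/-- membership in the orthogonal of the pair -/
def InW (v w x : Fin m ⊕ Fin m → F) : Prop :=
  Cfsg.sympForm m F v x = 0 ∧ Cfsg.sympForm m F w x = 0

theorem orPr_inW {v w : 𝕍} (h : sf v w = 1) (x : 𝕍) : InW v w (orPr v w x) := by
  have h' : sf w v = -1 := by rw [sf_swap, h]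
  constructor
  · simp only [orPr, plPr, sf_sub_right, sf_add_right, sf_smul_right, sf_self, h]; ring
  · simp only [orPr, plPr, sf_sub_right, sf_add_right, sf_smul_right, sf_self, h', sf_swap w x]
    ring

theorem plPr_add_orPr (v w x : 𝕍) : plPr v w x + orPr v w x = x := add_sub_cancel _ _

theorem sf_plPr_inW {v w : 𝕍} (x : 𝕍) {y : 𝕍} (hy : InW v w y) : sf (plPr v w x) y = 0 := by
  simp only [plPr, sf_add_left, sf_smul_left, hy.1, hy.2, mul_zero, add_zero]

theorem InW.swap {v w y : 𝕍} (hy : InW v w y) : sf y v = 0 ∧ sf y w = 0 :=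
  ⟨by rw [sf_swap, hy.1, neg_zero], by rw [sf_swap, hy.2, neg_zero]⟩

theorem InW.add {v w x y : 𝕍} (hx : InW v w x) (hy : InW v w y) : InW v w (x + y) :=
  ⟨by rw [sf_add_right, hx.1, hy.1, add_zero], by rw [sf_add_right, hx.2, hy.2, add_zero]⟩

theorem InW.smul {v w x : 𝕍} (hx : InW v w x) (a : F) : InW v w (a • x) :=
  ⟨by rw [sf_smul_right, hx.1, mul_zero], by rw [sf_smul_right, hx.2, mul_zero]⟩

theorem InW.sub {v w x y : 𝕍} (hx : InW v w x) (hy : InW v w y) : InW v w (x - y) :=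
  ⟨by rw [sf_sub_right, hx.1, hy.1, sub_zero], by rw [sf_sub_right, hx.2, hy.2, sub_zero]⟩

theorem plPr_inW {v w y : 𝕍} (hy : InW v w y) : plPr v w y = 0 := by
  rw [plPr, hy.1, sf_swap y w, hy.2, neg_zero, zero_smul, zero_smul, add_zero]

theorem plPr_add (v w x y : 𝕍) : plPr v w (x + y) = plPr v w x + plPr v w y := by
  simp only [plPr, sf_add_left, sf_add_right, add_smul]
  abel

theorem plPr_smul (v w x : 𝕍) (a : F) : plPr v w (a • x) = a • plPr v w x := by
  simp only [plPr, sf_smul_left, sf_smul_right, smul_add, smul_smul]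

theorem plPr_self {v w : 𝕍} (h : sf v w = 1) (x : 𝕍) : plPr v w (plPr v w x) = plPr v w x := by
  have h' : sf w v = -1 := by rw [sf_swap, h]
  simp only [plPr, sf_add_left, sf_add_right, sf_smul_left, sf_smul_right, sf_self, h]
  congr 2 <;> ring

theorem T_fix {v y : 𝕍} (h : sf v y = 0) (c : F) : (T y c : Mat m F) *ᵥ v = v := by
  rw [T_mulVec, h, mul_zero, zero_smul, add_zero]

/-- a hyperbolic pair in the orthogonal of a pair -/
theorem exists_pairW (hm : 2 ≤ m) {v w : 𝕍} (h : sf v w = 1) :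
    ∃ y y', InW v w y ∧ InW v w y' ∧ sf y y' = 1 := by
  let L : 𝕍 →ₗ[F] F × F := (spB m F v).prod (spB m F w)
  have hL : L.ker ≠ ⊥ := LinearMap.ker_ne_bot_of_finrank_lt (by
    rw [Module.finrank_prod, Module.finrank_self, Module.finrank_fintype_fun_eq_card,
      Fintype.card_sum, Fintype.card_fin]
    omega)
  obtain ⟨y, hy, hy0⟩ := Submodule.exists_mem_ne_zero_of_ne_bot hL
  rw [LinearMap.mem_ker] at hy
  have hyW : InW v w y :=
    ⟨by simpa [L, spB_apply] using congrArg Prod.fst hy,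
      by simpa [L, spB_apply] using congrArg Prod.snd hy⟩
  obtain ⟨x, hx⟩ := sf_exists_one hy0
  refine ⟨y, orPr v w x, hyW, orPr_inW h x, ?_⟩
  rw [orPr, sf_sub_right, hx, sf_swap y (plPr v w x), sf_plPr_inW x hyW, neg_zero, sub_zero]

/-- two orthogonal hyperbolic pairs in the orthogonal of a pair -/
theorem exists_two_pairsW (hm : 3 ≤ m) {v w y y' : 𝕍} (h : sf v w = 1) (hy : InW v w y)
    (hy' : InW v w y') (hyy : sf y y' = 1) :
    ∃ z z', InW v w z ∧ InW v w z' ∧ InW y y' z ∧ InW y y' z' ∧ sf z z' = 1 := by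
  let L : 𝕍 →ₗ[F] (F × F) × (F × F) :=
    ((spB m F v).prod (spB m F w)).prod ((spB m F y).prod (spB m F y'))
  have hL : L.ker ≠ ⊥ := LinearMap.ker_ne_bot_of_finrank_lt (by
    rw [Module.finrank_prod, Module.finrank_prod, Module.finrank_self,
      Module.finrank_fintype_fun_eq_card, Fintype.card_sum, Fintype.card_fin]
    omega)
  obtain ⟨z, hz, hz0⟩ := Submodule.exists_mem_ne_zero_of_ne_bot hL
  rw [LinearMap.mem_ker] at hz
  have hzW : InW v w z :=
    ⟨by simpa [L, spB_apply] using congrArg (fun p => p.1.1) hz,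
      by simpa [L, spB_apply] using congrArg (fun p => p.1.2) hz⟩
  have hzY : InW y y' z :=
    ⟨by simpa [L, spB_apply] using congrArg (fun p => p.2.1) hz,
      by simpa [L, spB_apply] using congrArg (fun p => p.2.2) hz⟩
  obtain ⟨x, hx⟩ := sf_exists_one hz0
  set x₁ := orPr v w x with hx1
  have h1 : sf z x₁ = 1 := by
    rw [hx1, orPr, sf_sub_right, hx, sf_swap z (plPr v w x), sf_plPr_inW x hzW, neg_zero, sub_zero]
  refine ⟨z, orPr y y' x₁, hzW, ?_, hzY, orPr_inW hyy _, ?_⟩
  · refine InW.sub (orPr_inW h x) ?_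
    exact (hy.smul _).add (hy'.smul _)
  · rw [orPr, sf_sub_right, h1, sf_swap z (plPr y y' x₁), sf_plPr_inW x₁ hzY, neg_zero, sub_zero]

theorem T_add_sub {y z : 𝕍} (h : sf y z = 0) (c : F) :
    T (y + z) c * T (y - z) c = T y (2 * c) * T z (2 * c) := by
  have h' : sf z y = 0 := by rw [sf_swap, h, neg_zero]
  refine sp_ext fun x => ?_
  simp only [Submonoid.coe_mul, ← Matrix.mulVec_mulVec, T_mulVec, sf_add_left, sf_add_right,
    sf_sub_right, sf_sub_left, sf_smul_left, sf_self, h, h']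
  module

theorem T_conj_lift {H : Subgroup Sp} {v : 𝕍} {a b : 𝕍}
    (hlift : ∀ y, sf v y = 0 → (y = a ∨ y = b - a) → ∀ c, Lift H v (T y c))
    (ha : sf v a = 0) (hb : sf v b = 0) (hab : sf a b ≠ 0) (c : F) :
    T b c * T a (-c) ∈ H := by
  have hd : sf v (b - a) = 0 := by rw [sf_sub_right, hb, ha, sub_zero]
  set e := T (b - a) (sf a b)⁻¹
  have he : (e : Mat m F) *ᵥ a = b := by
    rw [T_mulVec, sf_sub_right, sf_self, sub_zero, inv_mul_cancel₀ hab, one_smul, add_sub_cancel]
  have h := lift_commutator (hlift _ hd (Or.inr rfl) (sf a b)⁻¹) (hlift a ha (Or.inl rfl) c)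
    (T_fix hd _) (T_fix ha _)
  rwa [T_conj, he, T_inv] at h

/-- the root groups inside `W` are full -/
theorem fullW_of_lift {H : Subgroup Sp} {v w : 𝕍} (hvw : sf v w = 1) (hq : 3 ≤ qq)
    (hex : qq = 3 → 3 ≤ m)
    (hlift : ∀ l : Sp, (l : Mat m F) *ᵥ v = v → (l : Mat m F) *ᵥ w = w → Lift H v l)
    {y : 𝕍} (hy : InW v w y) : Full H y := by
  intro c
  by_cases hy0 : y = 0
  · have : T y c = 1 := sp_ext fun x => by rw [T_mulVec, hy0]; simp
    rw [this]; exact H.one_mem
  have hT : ∀ y, InW v w y → ∀ c, Lift H v (T y c) := fun y hy c =>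
    hlift _ (T_fix hy.1 c) (T_fix hy.2 c)
  obtain ⟨x, hx⟩ := sf_exists_one hy0
  set y' := orPr v w x with hy'def
  have hy' : InW v w y' := orPr_inW hvw x
  have hyy : sf y y' = 1 := by
    rw [hy'def, orPr, sf_sub_right, hx, sf_swap y (plPr v w x), sf_plPr_inW x hy, neg_zero, sub_zero]
  rcases Nat.lt_or_ge qq 4 with hq4 | hq4
  · -- the field with three elements
    have hm : 3 ≤ m := hex (by omega)
    obtain ⟨z, z', hz, hz', hzy, hzy', hzz⟩ := exists_two_pairsW hm hvw hy hy' hyy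
    have h2 : (2 : F) ≠ 0 := by
      intro h
      haveI : CharP F 2 := CharTwo.of_one_ne_zero_of_two_eq_zero one_ne_zero h
      obtain ⟨n, hn, hcard⟩ := FiniteField.card F 2
      have : 2 ∣ qq := hcard ▸ dvd_pow_self 2 (PNat.ne_zero n)
      omega
    have hyz : sf y z = 0 := hzy.1
    have hzy0 : sf z y = 0 := by rw [sf_swap, hyz, neg_zero]
    have hzy1 : sf z y' = 0 := by rw [sf_swap, hzy.2, neg_zero]
    have hyz' : sf y z' = 0 := hzy'.1
    have step : ∀ a b, InW v w a → InW v w b → sf a b ≠ 0 → ∀ d, T b d * T a (-d) ∈ H :=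
      fun a b ha hb hab d => T_conj_lift (fun u hu hu' e => by
        rcases hu' with rfl | rfl
        · exact hT _ ha e
        · exact hT _ (hb.sub ha) e) ha.1 hb.1 hab d
    have two : ∀ a r b, InW v w a → InW v w r → InW v w b → sf a r ≠ 0 → sf r b ≠ 0 →
        ∀ d, T b d * T a (-d) ∈ H := fun a r b ha hr hb h1 h2' d => by
      have := H.mul_mem (step r b hr hb h2' d) (step a r ha hr h1 d)
      rwa [mul_assoc, ← mul_assoc (T r (-d)), T_mul, neg_add_cancel, T_zero, one_mul] at this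
    have e1 := two y y' (y + z) hy hy' (hy.add hz) (by rw [hyy]; exact one_ne_zero)
      (by rw [sf_swap, sf_add_left, hyy, hzy1, add_zero, neg_ne_zero]; exact one_ne_zero)
    have e2 := two y y' (y - z) hy hy' (hy.sub hz) (by rw [hyy]; exact one_ne_zero)
      (by rw [sf_swap, sf_sub_left, hyy, hzy1, sub_zero, neg_ne_zero]; exact one_ne_zero)
    have e3 := two y (y' + z') z hy (hy'.add hz') hz
      (by rw [sf_add_right, hyy, hyz', add_zero]; exact one_ne_zero)
      (by rw [sf_swap, sf_add_right, hzy1, hzz, zero_add, neg_ne_zero]; exact one_ne_zero)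
    set d := c / 2 with hd
    have h := H.mul_mem (H.inv_mem (e3 (2 * d))) (H.mul_mem (e1 d) (e2 d))
    have c1 : T y (-d) * T (y - z) d = T (y - z) d * T y (-d) :=
      T_comm (by rw [sf_sub_right, sf_self, hyz, sub_zero]) _ _
    have key : (T z (2 * d) * T y (-(2 * d)))⁻¹ * (T (y + z) d * T y (-d) * (T (y - z) d * T y (-d))) =
        T y (2 * d) := by
      calc (T z (2 * d) * T y (-(2 * d)))⁻¹ * (T (y + z) d * T y (-d) * (T (y - z) d * T y (-d)))
          = (T z (2 * d) * T y (-(2 * d)))⁻¹ *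
              (T (y + z) d * (T y (-d) * T (y - z) d) * T y (-d)) := by simp only [mul_assoc]
        _ = (T z (2 * d) * T y (-(2 * d)))⁻¹ *
              ((T (y + z) d * T (y - z) d) * (T y (-d) * T y (-d))) := by
            rw [c1]; simp only [mul_assoc]
        _ = (T z (2 * d) * T y (-(2 * d)))⁻¹ *
              ((T z (2 * d) * T y (2 * d)) * (T y (-d) * T y (-d))) := by
            rw [T_add_sub hyz, T_comm hyz]
        _ = _ := by
            rw [mul_inv_rev, T_inv, T_inv, neg_neg]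
            simp only [mul_assoc, T_mul]
            rw [← mul_assoc (T z (-(2 * d))), T_mul, neg_add_cancel, T_zero, one_mul, T_mul]
            congr 1
            ring
    rw [key, hd, mul_div_cancel₀ c h2] at h
    exact h
  · obtain ⟨s, hs0, hs1⟩ := exists_sq_ne_one (F := F) hq4
    have hlv : (tor y y' s : Mat m F) *ᵥ v = v :=
      tor_fix hyy hs0 hy.swap.1 hy'.swap.1
    have hlw : (tor y y' s : Mat m F) *ᵥ w = w :=
      tor_fix hyy hs0 hy.swap.2 hy'.swap.2
    have h := lift_commutator (hlift _ hlv hlw) (hT y hy (c / (s ^ 2 - 1))) hlv (T_fix hy.1 _)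
    rw [T_conj, tor_left hyy hs0, T_smul, T_inv, T_mul] at h
    have : s ^ 2 - 1 ≠ 0 := sub_ne_zero.2 hs1
    rwa [show s ^ 2 * (c / (s ^ 2 - 1)) + -(c / (s ^ 2 - 1)) = c by field_simp; ring] at h

/-- a common non-orthogonal vector -/
theorem exists_commonW {v w a b : 𝕍} (hvw : sf v w = 1) (ha : InW v w a) (hb : InW v w b)
    (ha0 : a ≠ 0) (hb0 : b ≠ 0) : ∃ r, InW v w r ∧ sf a r ≠ 0 ∧ sf r b ≠ 0 := by
  obtain ⟨x₁, h1⟩ := sf_exists_one ha0
  obtain ⟨x₂, h2⟩ := sf_exists_one hb0
  have key : ∀ x, sf a (orPr v w x) = sf a x ∧ sf b (orPr v w x) = sf b x := fun x => by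
    constructor <;>
      rw [orPr, sf_sub_right, sf_swap _ (plPr v w x), sf_plPr_inW x ‹_›, neg_zero, sub_zero]
  have hs : ∀ x, sf a x ≠ 0 → sf b x ≠ 0 → ∃ r, InW v w r ∧ sf a r ≠ 0 ∧ sf r b ≠ 0 :=
    fun x hax hbx => ⟨orPr v w x, orPr_inW hvw x, by rw [(key x).1]; exact hax,
      by rw [sf_swap, (key x).2, neg_ne_zero]; exact hbx⟩
  by_cases hc1 : sf b x₁ = 0
  · by_cases hc2 : sf a x₂ = 0
    · exact hs (x₁ + x₂) (by rw [sf_add_right, h1, hc2, add_zero]; exact one_ne_zero)
        (by rw [sf_add_right, h2, hc1, zero_add]; exact one_ne_zero)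
    · exact hs x₂ hc2 (by rw [h2]; exact one_ne_zero)
  · exact hs x₁ (by rw [h1]; exact one_ne_zero) hc1

/-- moving the orthogonal component -/
theorem full_shift {H : Subgroup Sp} {v w x b : 𝕍} (hvw : sf v w = 1)
    (hW : ∀ y, InW v w y → Full H y) (hx : Full H x) (ha : orPr v w x ≠ 0) (hb : InW v w b)
    (hb0 : b ≠ 0) : Full H (plPr v w x + b) := by
  have step : ∀ x b, Full H x → InW v w b → sf (orPr v w x) b ≠ 0 →
      Full H (plPr v w x + b) := by
    intro x b hx hb hne
    set a := orPr v w x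
    have ha' : InW v w a := orPr_inW hvw x
    have hd : InW v w (b - a) := hb.sub ha'
    have hf : sf x (b - a) = sf a b := by
      conv_lhs => rw [← plPr_add_orPr v w x]
      rw [sf_add_left, sf_plPr_inW x hd, zero_add, sf_sub_right]
      show sf a b - sf a a = _
      rw [sf_self, sub_zero]
    have h := full_of_mem hx (hW _ hd (sf a b)⁻¹)
    rw [T_mulVec, hf, inv_mul_cancel₀ hne, one_smul] at h
    have e : x + (b - a) = plPr v w x + b := by
      conv_lhs => rw [← plPr_add_orPr v w x]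
      show plPr v w x + a + (b - a) = _
      abel
    rwa [e] at h
  obtain ⟨r, hr, h1, h2⟩ := exists_commonW hvw (orPr_inW hvw x) hb ha hb0
  have h := step x r hx hr h1
  have e : plPr v w (plPr v w x + r) = plPr v w x := by
    rw [plPr_add, plPr_inW hr, plPr_self hvw, add_zero]
  have e' : orPr v w (plPr v w x + r) = r := by rw [orPr, e, add_sub_cancel_left]
  have h' := step _ b h hb (by rw [e']; exact h2)
  rwa [e] at h'

theorem proj_full_two {H : Subgroup Sp} {v w x x' y : 𝕍} (hvw : sf v w = 1)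
    (hW : ∀ y, InW v w y → Full H y) (hy : InW v w y) (hy0 : y ≠ 0) (hx : Full H x)
    (hx' : Full H x') (hxW : orPr v w x ≠ 0) (hxW' : orPr v w x' ≠ 0)
    (hne : sf (plPr v w x) (plPr v w x') ≠ 0) {a b : F} (ha : a ≠ 0) (hb : b ≠ 0) :
    Full H (a • plPr v w x + b • plPr v w x') := by
  have h1 := full_shift hvw hW hx hxW (hy.smul a⁻¹) (smul_ne_zero (inv_ne_zero ha) hy0)
  have h2 := full_shift hvw hW hx' hxW' (hy.smul (-b⁻¹))
    (smul_ne_zero (neg_ne_zero.2 (inv_ne_zero hb)) hy0)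
  have hne' : sf (plPr v w x + a⁻¹ • y) (plPr v w x' + -b⁻¹ • y) ≠ 0 := by
    rw [sf_add_left, sf_add_right, sf_add_right, sf_plPr_inW x (hy.smul _), sf_smul_left,
      sf_smul_left, sf_swap y (plPr v w x'), sf_plPr_inW x' hy, sf_smul_right, sf_self]
    simpa using hne
  have h := full_plane h1 h2 hne' a b
  have e : a • (plPr v w x + a⁻¹ • y) + b • (plPr v w x' + -b⁻¹ • y) =
      a • plPr v w x + b • plPr v w x' := by
    rw [smul_add, smul_add, smul_smul, smul_smul, mul_inv_cancel₀ ha, mul_neg, mul_inv_cancel₀ hb]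
    module
  rwa [e] at h

theorem proj_full_one {H : Subgroup Sp} {v w x x' y : 𝕍} (hq : 3 ≤ qq) (hvw : sf v w = 1)
    (hW : ∀ y, InW v w y → Full H y) (hy : InW v w y) (hy0 : y ≠ 0) (hx : Full H x)
    (hx' : Full H x') (hxW : orPr v w x ≠ 0) (hxW' : orPr v w x' ≠ 0)
    (hne : sf (plPr v w x) (plPr v w x') ≠ 0) {a : F} (ha : a ≠ 0) :
    Full H (a • plPr v w x) := by
  classical
  obtain ⟨s, hs⟩ : ∃ s : F, s ∉ ({0, -1} : Finset F) := by
    by_contra hc
    push Not at hc
    have h1 : (Finset.univ : Finset F) ⊆ {0, -1} := fun s _ => hc s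
    have := (Finset.card_le_card h1).trans Finset.card_le_two
    simp at this
    omega
  simp only [Finset.mem_insert, Finset.mem_singleton, not_or] at hs
  have h1s : 1 + s ≠ 0 := fun h => hs.2 (by linear_combination h)
  have h1 := full_shift hvw hW hx hxW hy hy0
  have h2 := full_shift hvw hW hx' hxW' (hy.smul s) (smul_ne_zero hs.1 hy0)
  have hne' : sf (plPr v w x + y) (plPr v w x' + s • y) ≠ 0 := by
    rw [sf_add_left, sf_add_right, sf_add_right, sf_plPr_inW x (hy.smul _),
      sf_swap y (plPr v w x'), sf_plPr_inW x' hy, sf_smul_right, sf_self]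
    simpa using hne
  have hz := full_plane h1 h2 hne' 1 1
  rw [one_smul, one_smul] at hz
  set z := plPr v w x + y + (plPr v w x' + s • y)
  have hzp : plPr v w z = plPr v w x + plPr v w x' := by
    simp only [z, plPr_add, plPr_self hvw, plPr_inW hy, plPr_inW (hy.smul s), add_zero]
  have hzW : orPr v w z ≠ 0 := by
    have : orPr v w z = (1 + s) • y := by
      rw [orPr, hzp]
      simp only [z, add_smul, one_smul]
      abel
    rw [this]
    exact smul_ne_zero h1s hy0
  have h := proj_full_two hvw hW hy hy0 hz hx' hzW hxW'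
    (by rw [hzp, sf_add_left, sf_self, add_zero]; exact hne) ha (neg_ne_zero.2 ha)
  rw [hzp] at h
  have e : a • (plPr v w x + plPr v w x') + -a • plPr v w x' = a • plPr v w x := by module
  rwa [e] at h

theorem plane_coord {v w x x' : 𝕍} (hvw : sf v w = 1)
    (hne : sf (plPr v w x) (plPr v w x') ≠ 0) :
    ∃ a b : F, v = a • plPr v w x + b • plPr v w x' := by
  have h' : sf w v = -1 := by rw [sf_swap, hvw]
  have hne' : sf x w * sf v x' - sf v x * sf x' w ≠ 0 := fun h0 => hne (by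
    simp only [plPr, sf_add_left, sf_add_right, sf_smul_left, sf_smul_right, sf_self, hvw, h']
    linear_combination h0)
  set δ := sf x w * sf v x' - sf v x * sf x' w with hδ
  have key : δ • v = sf v x' • plPr v w x + (-sf v x) • plPr v w x' := by
    rw [hδ]; simp only [plPr]; module
  refine ⟨δ⁻¹ * sf v x', δ⁻¹ * -sf v x, ?_⟩
  rw [mul_smul, mul_smul, ← smul_add, ← key, smul_smul, inv_mul_cancel₀ hne', one_smul]

/-- two full vectors with non-orthogonal projections fill the plane -/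
theorem full_of_proj {H : Subgroup Sp} {v w x x' : 𝕍} (hq : 3 ≤ qq) (hm : 2 ≤ m)
    (hvw : sf v w = 1) (hW : ∀ y, InW v w y → Full H y) (hx : Full H x) (hx' : Full H x')
    (hne : sf (plPr v w x) (plPr v w x') ≠ 0) : Full H v := by
  have hfull : ∀ {z z' : 𝕍}, orPr v w z = 0 → sf (plPr v w z) (plPr v w z') ≠ 0 →
      sf z z' ≠ 0 := by
    intro z z' hz h
    rw [orPr, sub_eq_zero] at hz
    conv_lhs => rw [hz, ← plPr_add_orPr v w z']
    rw [sf_add_right, sf_plPr_inW z (orPr_inW hvw z'), add_zero]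
    exact h
  by_cases hboth : orPr v w x = 0 ∧ orPr v w x' = 0
  · obtain ⟨a, b, hab⟩ := plane_coord hvw hne
    have h := full_plane hx hx' (hfull hboth.1 hne) a b
    have e1 : plPr v w x = x := by conv_rhs => rw [← plPr_add_orPr v w x, hboth.1, add_zero]
    have e2 : plPr v w x' = x' := by conv_rhs => rw [← plPr_add_orPr v w x', hboth.2, add_zero]
    rw [e1, e2] at hab
    rwa [← hab] at h
  -- both orthogonal parts may be assumed non-zero
  obtain ⟨z, z', hz, hz', hzW, hzW', hne2⟩ : ∃ z z', Full H z ∧ Full H z' ∧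
      orPr v w z ≠ 0 ∧ orPr v w z' ≠ 0 ∧ sf (plPr v w z) (plPr v w z') ≠ 0 := by
    have hgen : ∀ {z z' : 𝕍}, Full H z → Full H z' → orPr v w z = 0 → orPr v w z' ≠ 0 →
        sf (plPr v w z) (plPr v w z') ≠ 0 → ∃ z z', Full H z ∧ Full H z' ∧
          orPr v w z ≠ 0 ∧ orPr v w z' ≠ 0 ∧ sf (plPr v w z) (plPr v w z') ≠ 0 := by
      intro z z' hz hz' hz0 hz0' h
      have hs := full_plane hz hz' (hfull hz0 h) 1 1
      rw [one_smul, one_smul] at hs
      refine ⟨z + z', z', hs, hz', ?_, hz0', ?_⟩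
      · have : orPr v w (z + z') = orPr v w z + orPr v w z' := by
          simp only [orPr, plPr_add]; abel
        rw [this, hz0, zero_add]
        exact hz0'
      · rw [plPr_add, sf_add_left, sf_self, add_zero]; exact h
    by_cases h1 : orPr v w x = 0
    · exact hgen hx hx' h1 (fun h2 => hboth ⟨h1, h2⟩) hne
    · by_cases h2 : orPr v w x' = 0
      · exact hgen hx' hx h2 h1 (by rw [sf_swap, neg_ne_zero]; exact hne)
      · exact ⟨x, x', hx, hx', h1, h2, hne⟩
  obtain ⟨a, b, hab⟩ := plane_coord hvw hne2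
  obtain ⟨y, y', hy, hy', hyy⟩ := exists_pairW hm hvw
  have hy0 : y ≠ 0 := fun h => by
    rw [h, sf_swap, sf_zero, neg_zero] at hyy
    exact zero_ne_one hyy
  rw [hab]
  by_cases hb : b = 0
  · have ha : a ≠ 0 := fun ha => by
      rw [ha, hb, zero_smul, zero_smul, add_zero] at hab
      rw [hab, sf_swap, sf_zero, neg_zero] at hvw
      exact zero_ne_one hvw
    rw [hb, zero_smul, add_zero]
    exact proj_full_one hq hvw hW hy hy0 hz hz' hzW hzW' hne2 ha
  by_cases ha : a = 0
  · rw [ha, zero_smul, zero_add]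
    exact proj_full_one hq hvw hW hy hy0 hz' hz hzW' hzW (by rw [sf_swap, neg_ne_zero]; exact hne2) hb
  exact proj_full_two hvw hW hy hy0 hz hz' hzW hzW' hne2 ha hb

/-- the index of the stabiliser of a hyperbolic plane -/
theorem index_ge_of_plane (hm : 2 ≤ m) (hq : 3 ≤ qq) {H : Subgroup Sp} {v w : 𝕍}
    (hvw : sf v w = 1)
    (hH : ∀ h ∈ H, ∀ x, orPr v w x = 0 → orPr v w ((h : Mat m F) *ᵥ x) = 0) :
    Nat.card (ℙ F 𝕍) ≤ H.index := by
  classical
  have hv0 : v ≠ 0 := fun h => by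
    rw [h, sf_swap, sf_zero, neg_zero] at hvw
    exact zero_ne_one hvw
  let U : Set 𝕍 := {x | orPr v w x = 0}
  let R : Set (𝕍 × 𝕍) := {p | sf p.1 p.2 = 1}
  have hUm : ∀ x, x ∈ U ↔ x = plPr v w x := fun x => sub_eq_zero
  have hmemU : v ∈ U ∧ w ∈ U := by
    have h' : sf w v = -1 := by rw [sf_swap, hvw]
    constructor
    · show v - plPr v w v = 0
      rw [plPr, hvw, sf_self]; module
    · show w - plPr v w w = 0
      rw [plPr, sf_self, hvw]; module
  have hc := cover (G := Sp) R (fun g p hp => by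
      show sf ((g : Mat m F) *ᵥ p.1) ((g : Mat m F) *ᵥ p.2) = 1
      rw [sf_invariant]; exact hp)
    (U ×ˢ U) (y₀ := (v, w)) ⟨hmemU.1, hmemU.2⟩ (fun p hp => by
      obtain ⟨g, hg1, hg2⟩ := sp_transitive_hyp hvw (show sf p.1 p.2 = 1 from hp)
      exact ⟨g, Prod.ext hg1 hg2⟩)
  -- the orbit is not larger than the index
  have hle : H ≤ MulAction.stabilizer Sp (U ×ˢ U) := fun h hh => by
    rw [MulAction.mem_stabilizer_iff]
    refine Set.eq_of_subset_of_ncard_le ?_ (Set.ncard_smul_set _ _).ge (Set.toFinite _)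
    rintro _ ⟨⟨a, b⟩, ⟨ha, hb⟩, rfl⟩
    exact ⟨hH h hh a ha, hH h hh b hb⟩
  have horb : Nat.card (MulAction.orbit Sp (U ×ˢ U)) ≤ H.index := by
    rw [Nat.card_coe_set_eq, ← MulAction.index_stabilizer]
    exact Nat.le_of_dvd (Nat.pos_of_ne_zero Subgroup.FiniteIndex.index_ne_zero)
      (Subgroup.index_dvd_of_le hle)
  have hin : ((U ×ˢ U) ∩ R).ncard ≤ qq ^ 3 := by
    have hinj : Set.InjOn (fun p : 𝕍 × 𝕍 => ((sf p.1 w, sf v p.1),
        if sf p.1 w = 0 then sf v p.2 else sf p.2 w)) ((U ×ˢ U) ∩ R) := by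
      rintro ⟨a, b⟩ ⟨⟨ha, hb⟩, hab⟩ ⟨a', b'⟩ ⟨⟨ha', hb'⟩, hab'⟩ he
      simp only [Prod.mk.injEq] at he
      obtain ⟨⟨e1, e2⟩, e3⟩ := he
      have hae : a = a' := by
        rw [(hUm a).1 ha, (hUm a').1 ha', plPr, plPr, e1, e2]
      subst hae
      have hab1 : sf a b = 1 := hab
      have hab2 : sf a b' = 1 := hab'
      have h' : sf w v = -1 := by rw [sf_swap, hvw]
      rw [(hUm a).1 ha, (hUm b).1 hb] at hab1
      rw [(hUm a).1 ha, (hUm b').1 hb'] at hab2
      simp only [plPr, sf_add_left, sf_add_right, sf_smul_left, sf_smul_right, sf_self, hvw, h'] at hab1 hab2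
      have : sf b w = sf b' w ∧ sf v b = sf v b' := by
        split_ifs at e3 with h0
        · refine ⟨mul_left_cancel₀ (a := sf v a) (fun h => ?_) ?_, e3⟩
          · rw [h0, h] at hab1; simp at hab1
          · rw [h0] at hab1 hab2
            linear_combination hab2 - hab1
        · refine ⟨e3, mul_left_cancel₀ h0 ?_⟩
          rw [e3] at hab1
          linear_combination hab1 - hab2
      refine Prod.ext rfl ?_
      show b = b'
      rw [(hUm b).1 hb, (hUm b').1 hb', plPr, plPr, this.1, this.2]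
    rw [← Set.ncard_image_of_injOn hinj]
    refine (Set.ncard_le_card _).trans (le_of_eq ?_)
    rw [Nat.card_prod, Nat.card_prod, Nat.card_eq_fintype_card]
    ring
  have hR : (qq ^ (2 * m) - 1) * qq ^ (2 * m - 1) ≤ R.ncard := by
    let N0 := {x : 𝕍 // x ≠ 0}
    haveI : Fintype N0 := Fintype.ofFinite _
    have hN0 : Nat.card N0 = qq ^ (2 * m) - 1 := by
      rw [Nat.card_eq_fintype_card, Fintype.card_subtype_compl, Fintype.card_subtype_eq,
        Fintype.card_fun, Fintype.card_sum, Fintype.card_fin, ← two_mul]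
    have hS : ∀ x : N0, qq ^ (2 * m - 1) ≤ Nat.card {y : 𝕍 // sf x.1 y = 1} := by
      intro x
      obtain ⟨y₀, hy₀⟩ := sf_exists_one x.2
      rw [← card_vperp x.2]
      refine Nat.card_le_card_of_injective (fun z : vperp x.1 => ⟨y₀ + z.1, by
        rw [sf_add_right, hy₀, mem_vperp.1 z.2, add_zero]⟩) fun z z' h => ?_
      exact Subtype.ext (add_left_cancel (congrArg Subtype.val h))
    calc _ ≤ ∑ x : N0, Nat.card {y : 𝕍 // sf x.1 y = 1} := by
          rw [← hN0, Nat.card_eq_fintype_card, ← Finset.card_univ, ← smul_eq_mul]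
          exact Finset.card_nsmul_le_sum _ _ _ fun x _ => hS x
      _ = Nat.card (Σ x : N0, {y : 𝕍 // sf x.1 y = 1}) := Nat.card_sigma.symm
      _ ≤ Nat.card R := by
          refine Nat.card_le_card_of_injective (fun p => ⟨(p.1.1, p.2.1), p.2.2⟩) ?_
          intro p q h
          have h' := congrArg Subtype.val h
          simp only [Prod.mk.injEq] at h'
          exact Sigma.subtype_ext (Subtype.ext h'.1) h'.2
      _ = _ := Nat.card_coe_set_eq _
  have h3 : qq ^ 3 ≤ qq ^ (2 * m - 1) := Nat.pow_le_pow_right (by omega) (by omega)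
  have hmain : (qq ^ (2 * m) - 1) * qq ^ 3 ≤ H.index * qq ^ 3 :=
    (Nat.mul_le_mul_left _ h3).trans (hR.trans (hc.trans (Nat.mul_le_mul horb hin)))
  refine le_trans ?_ (Nat.le_of_mul_le_mul_right hmain (pow_pos (by omega) _))
  rw [← card_points_mul (m := m) (F := F)]
  exact Nat.le_mul_of_pos_right _ (by omega)

theorem index_ge_of_point {H : Subgroup Sp} {u : 𝕍} (hu : u ≠ 0)
    (hH : ∀ h ∈ H, ∃ t : F, (h : Mat m F) *ᵥ u = t • u) :
    Nat.card (ℙ F 𝕍) ≤ H.index := by
  have hle : H ≤ stabP hu := fun h hh => by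
    obtain ⟨t, ht⟩ := hH h hh
    exact (mem_stabP hu h).2 ⟨t, fun h0 => sp_mulVec_ne_zero h hu (by rw [ht, h0, zero_smul]), ht⟩
  rw [← index_stabP hu]
  exact Nat.le_of_dvd (Nat.pos_of_ne_zero Subgroup.FiniteIndex.index_ne_zero)
    (Subgroup.index_dvd_of_le hle)

/-- the subgroup containing `Sp(W)` and not the root group of `v` -/
theorem false_of_fullW (hm : 2 ≤ m) (hq : 3 ≤ qq) {H : Subgroup Sp} {v w : 𝕍}
    (hvw : sf v w = 1) (hn : H.index < Nat.card (ℙ F 𝕍)) (hF : ¬ Full H v)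
    (hW : ∀ y, InW v w y → Full H y) : False := by
  have horth : ∀ x x', Full H x → Full H x' → sf (plPr v w x) (plPr v w x') = 0 := by
    intro x x' hx hx'
    by_contra h
    exact hF (full_of_proj hq hm hvw hW hx hx' h)
  apply hn.not_ge
  by_cases hall : ∀ x, Full H x → plPr v w x = 0
  · refine index_ge_of_plane hm hq hvw fun h hh x hx => ?_
    rw [orPr, sub_eq_zero] at hx
    rw [orPr, sub_eq_zero]
    conv_lhs => rw [← plPr_add_orPr v w ((h : Mat m F) *ᵥ x)]
    rw [add_eq_left]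
    set a := orPr v w ((h : Mat m F) *ᵥ x) with ha
    have haW : InW v w a := orPr_inW hvw _
    by_contra ha0
    obtain ⟨r, hr, hra, -⟩ := exists_commonW hvw haW haW ha0 ha0
    -- move `r` back
    have hr' := full_of_mem (hW r hr) (H.inv_mem hh)
    have hz := hall _ hr'
    apply hra
    have h1 : sf ((h : Mat m F) *ᵥ x) r = 0 := by
      rw [← mulVec_inv_cancel h r, sf_invariant, hx]
      generalize ((h⁻¹ : Sp) : Mat m F) *ᵥ r = z at hz ⊢
      conv_lhs => rw [← plPr_add_orPr v w z, hz, zero_add]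
      exact sf_plPr_inW x (orPr_inW hvw z)
    rw [← plPr_add_orPr v w ((h : Mat m F) *ᵥ x), sf_add_left, sf_plPr_inW _ hr, zero_add] at h1
    exact h1
  push Not at hall
  obtain ⟨x₀, hx₀, hp0⟩ := hall
  set p := plPr v w x₀ with hp
  refine index_ge_of_point hp0 fun h hh => ?_
  have hperp : ∀ z, Full H z → sf p z = 0 := fun z hz => by
    conv_lhs => rw [← plPr_add_orPr v w z]
    rw [sf_add_right, horth x₀ z hx₀ hz, hp, sf_plPr_inW _ (orPr_inW hvw z), add_zero]
  set u := (h : Mat m F) *ᵥ p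
  have huperp : ∀ z, Full H z → sf u z = 0 := fun z hz => by
    rw [← mulVec_inv_cancel h z, sf_invariant]
    exact hperp _ (full_of_mem hz (H.inv_mem hh))
  have huW : orPr v w u = 0 := by
    by_contra ha0
    obtain ⟨r, hr, hra, -⟩ := exists_commonW hvw (orPr_inW hvw u) (orPr_inW hvw u) ha0 ha0
    have := huperp r (hW r hr)
    rw [← plPr_add_orPr v w u, sf_add_left, sf_plPr_inW _ hr, zero_add] at this
    exact hra this
  rw [orPr, sub_eq_zero] at huW
  have hux : sf u p = 0 := by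
    have := huperp x₀ hx₀
    rw [huW] at this ⊢
    rwa [← plPr_add_orPr v w x₀, sf_add_right, sf_plPr_inW _ (orPr_inW hvw x₀), add_zero] at this
  have h' : sf w v = -1 := by rw [sf_swap, hvw]
  set A := sf x₀ w
  set B := sf v x₀
  have hpe : p = A • v + B • w := rfl
  set A' := sf u w
  set B' := sf v u
  have hue : u = A' • v + B' • w := huW
  rw [hue, hpe] at hux
  simp only [sf_add_left, sf_add_right, sf_smul_left, sf_smul_right, sf_self, hvw, h'] at hux
  rw [hue, hpe]
  by_cases hA : A = 0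
  · have hB : B ≠ 0 := fun hB => hp0 (by rw [hpe, hA, hB, zero_smul, zero_smul, add_zero])
    refine ⟨B' / B, ?_⟩
    rw [hA] at hux ⊢
    have hA' : A' = 0 := by
      refine (mul_eq_zero.1 ?_).resolve_left hB
      linear_combination hux
    rw [hA', zero_smul, zero_add, zero_add, smul_smul, div_mul_cancel₀ _ hB]
  · refine ⟨A' / A, ?_⟩
    rw [smul_add, smul_smul, smul_smul, div_mul_cancel₀ _ hA]
    congr 2
    field_simp
    linear_combination -hux

/-- the radical part is not the point itself -/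
theorem false_of_line {k : ℕ} (hk : m = k + 1) (hk1 : 1 ≤ k) (hq : 3 ≤ qq)
    (hex : k = 1 → qq ≠ 3) {H : Subgroup Sp} (hn : H.index < Nat.card (ℙ F 𝕍)) {v : 𝕍}
    (hv : v ≠ 0) (hF : ¬ Full H v) (hl : Xs H v = lineG v) : False := by
  have hN := points_eq (m := m) (F := F) k hk
  set N := Nat.card (ℙ F 𝕍)
  set Q := qq ^ (2 * k) with hQ
  have hQ1 : 1 ≤ Q := Nat.one_le_pow _ _ (by omega)
  -- the bound
  have horb : 1 ≤ orbN v (Xs H v : Set 𝕍) := by
    haveI : Nonempty (MulAction.orbit (stabV v) (Xs H v : Set 𝕍)) :=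
      ⟨⟨_, MulAction.mem_orbit_self _⟩⟩
    exact Nat.card_pos
  have hdx : dx H v = Q := by
    have hXv := Xs_le_vperp H v
    have hi := index_mul_line (μ := (1 : F)) one_ne_zero hv hXv (lineG_le_Xs H v)
    have hc := card_Ann (μ := (1 : F)) one_ne_zero hv hXv (lineG_le_Xs H v)
    rw [← hi] at hc
    have hcl : Nat.card (Xs H v) = qq := by rw [hl, card_lineG hv]
    rw [hcl] at hc
    have h1 := Nat.eq_of_mul_eq_mul_right (by omega) hc
    rw [show 2 * m - 1 = 2 * k + 1 by omega, pow_succ, ← hQ] at h1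
    exact Nat.eq_of_mul_eq_mul_right (by omega) h1
  have hlow : ∀ c, c ≤ cz H v → c * Q ≤ cz H v * dx H v * orbN v (Xs H v : Set 𝕍) := fun c hc => by
    rw [hdx]
    calc c * Q = c * Q * 1 := (mul_one _).symm
      _ ≤ _ := Nat.mul_le_mul (Nat.mul_le_mul_right _ hc) horb
  have hNQ : N ≤ (qq + 2) * Q := by
    refine Nat.le_of_mul_le_mul_right ?_ (by omega : 0 < qq - 1)
    refine le_trans (by omega : N * (qq - 1) ≤ qq ^ 2 * Q) ?_
    obtain ⟨r, hr⟩ : ∃ r, qq = r + 3 := ⟨qq - 3, by omega⟩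
    rw [hr, show r + 3 - 1 = r + 2 by omega]
    nlinarith
  have hb : N ≤ 2 * (cz H v * dx H v * orbN v (Xs H v : Set 𝕍)) := by
    refine hNQ.trans ((Nat.mul_le_mul_right _ (two_mul_cz' hq hF)).trans ?_)
    rw [mul_assoc]
    exact Nat.mul_le_mul_left _ (hlow _ le_rfl)
  -- choose the torus parameter
  obtain ⟨t, ht, ht1, hZ⟩ : ∃ t : F, t ≠ 0 ∧ t ≠ 1 ∧ (t ^ 2 = 1 ∨ Zs H v = ⊥) := by
    by_cases h2 : (2 : F) = 0
    · haveI : CharP F 2 := CharTwo.of_one_ne_zero_of_two_eq_zero one_ne_zero h2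
      have hZ : Zs H v = ⊥ := by
        by_contra hne
        have := (hlow _ (cz_even_ne_bot hF hne)).trans ((osz_ge_one H hv).trans (osz_le H hv))
        omega
      obtain ⟨n, hn2, hcard⟩ := FiniteField.card F 2
      have hq2 : 2 ∣ qq := hcard ▸ dvd_pow_self 2 (PNat.ne_zero n)
      obtain ⟨t, ht, ht2⟩ := exists_sq_ne_one (F := F) (by omega)
      exact ⟨t, ht, fun h => ht2 (by rw [h, one_pow]), Or.inr hZ⟩
    · refine ⟨-1, neg_ne_zero.2 one_ne_zero, fun h => h2 ?_, Or.inl (by ring)⟩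
      linear_combination -h
  obtain ⟨w, hw⟩ := sf_exists_one hv
  have hsm : ∀ a : F, ∀ x ∈ Xs H v, a • x ∈ Xs H v := fun a x hx => by
    rw [hl, mem_lineG] at hx
    obtain ⟨b, rfl⟩ := hx
    rw [smul_smul]
    exact smul_self_mem_Xs H v _
  obtain ⟨H', hA, hg⟩ := exists_tor hv hw hn hb hsm ht ht1 hZ
  have hn' : H'.index < N := by rw [hA.1]; exact hn
  have hb' : N ≤ 2 * (cz H' v * dx H' v * orbN v (Xs H' v : Set 𝕍)) := by rw [hA.bound]; exact hb
  have hlift : ∀ l : Sp, (l : Mat m F) *ᵥ v = v → (l : Mat m F) *ᵥ w = w → Lift H' v l := by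
    intro l h1 h2
    refine lift_of_tor hv hw hn' hb' (fun a x hx => ?_) ht ht1 hg h1 h2 (fun x hx => ?_)
    · rw [hA.2.2] at hx ⊢; exact hsm a x hx
    · rw [hA.2.2, hl, mem_lineG] at hx
      obtain ⟨b, rfl⟩ := hx
      rw [Matrix.mulVec_smul, h1]
      exact smul_self_mem_Xs H' v b
  refine false_of_fullW (by omega) hq hw hn' (hA.full hF) fun y hy =>
    fullW_of_lift hw hq (fun h3 => ?_) hlift hy
  rcases eq_or_ne k 1 with h | h
  · exact absurd h3 (hex h)
  · omega

end Cfsg.Agent.Symplectic.MinGen
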