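import Cfsg.Agent.Symplectic.MinIndexCount

/-! The scalar part of the orbit bound. -/

set_option autoImplicit false
set_option maxHeartbeats 1000000
set_option linter.unusedSectionVars false

namespace Cfsg.Agent.Symplectic.MinGen

open scoped Matrix LinearAlgebra.Projectivization Pointwise
open Cfsg.Agent.Symplectic
open Cfsg.Agent.Symplectic.MinTwo (El El_mulVec El_mul El_zero El_conj inv_fix transitive_perp T_comm)

variable {m : ℕ} {F : Type*} [Field F] [Fintype F]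

local notation "𝕍" => (Fin m ⊕ Fin m → F)
local notation "sf" => Cfsg.sympForm m F
local notation "Sp" => Matrix.symplecticGroup (Fin m) F

theorem cj_mul (a b : Sp) (H : Subgroup Sp) : cj (a * b) H = cj a (cj b H) := by
  ext x
  simp [mem_cj, mul_assoc]

theorem inv_smul_fix {g : Sp} {v : 𝕍} {t : F} (ht : t ≠ 0) (h : (g : Mat m F) *ᵥ v = t • v) :
    ((g⁻¹ : Sp) : Mat m F) *ᵥ v = t⁻¹ • v := by
  have h' := congrArg (fun z => ((g⁻¹ : Sp) : Mat m F) *ᵥ z) h
  simp only [inv_mulVec_cancel, Matrix.mulVec_smul] at h'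
  calc ((g⁻¹ : Sp) : Mat m F) *ᵥ v = t⁻¹ • (t • (((g⁻¹ : Sp) : Mat m F) *ᵥ v)) := by
        rw [smul_smul, inv_mul_cancel₀ ht, one_smul]
    _ = t⁻¹ • v := by rw [← h']

theorem conj_T_scal {g : Sp} {v : 𝕍} {t : F} (h : (g : Mat m F) *ᵥ v = t • v) (c : F) :
    g * T v c * g⁻¹ = T v (t ^ 2 * c) := by rw [T_conj, h, T_smul]

theorem sf_scal {g : Sp} {v x : 𝕍} {t : F} (ht : t ≠ 0) (h : (g : Mat m F) *ᵥ v = t • v)
    (hx : sf v x = 0) : sf v ((g : Mat m F) *ᵥ x) = 0 := by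
  have := sf_invariant g v x
  rw [h, sf_smul_left, hx] at this
  exact (mul_eq_zero.1 this).resolve_left ht

theorem conj_El_scal {g : Sp} {v x : 𝕍} {t : F} (ht : t ≠ 0) (h : (g : Mat m F) *ᵥ v = t • v)
    (hx : sf v x = 0) (c : F) :
    g * El v x c * g⁻¹ = El v (t • ((g : Mat m F) *ᵥ x)) (t ^ 2 * c) := by
  rw [El_conj, h, El_smul_center _ _ _ _ (sf_scal ht h hx)]

theorem conj_mem_cj {g a : Sp} {H : Subgroup Sp} : g * a * g⁻¹ ∈ cj g H ↔ a ∈ H := by
  simp [mem_cj, mul_assoc]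

theorem Zs_cj_scal {H : Subgroup Sp} {v : 𝕍} {g : Sp} {t : F} (ht : t ≠ 0)
    (h : (g : Mat m F) *ᵥ v = t • v) : (Zs (cj g H) v : Set F) = (t ^ 2) • (Zs H v : Set F) := by
  ext d
  rw [Set.mem_smul_set]
  constructor
  · intro hd
    refine ⟨(t ^ 2)⁻¹ * d, ?_, by rw [smul_eq_mul, ← mul_assoc, mul_inv_cancel₀ (pow_ne_zero 2 ht), one_mul]⟩
    show T v _ ∈ H
    rw [← conj_mem_cj (g := g), conj_T_scal h, ← mul_assoc, mul_inv_cancel₀ (pow_ne_zero 2 ht), one_mul]
    exact hd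
  · rintro ⟨c, hc, rfl⟩
    show T v (t ^ 2 * c) ∈ cj g H
    rw [← conj_T_scal h, conj_mem_cj]
    exact hc

theorem Xs_cj_scal {H : Subgroup Sp} {v : 𝕍} {g : Sp} {t : F} (ht : t ≠ 0)
    (h : (g : Mat m F) *ᵥ v = t • v) :
    (Xs (cj g H) v : Set 𝕍) = t • (g • (Xs H v : Set 𝕍)) := by
  ext y
  rw [Set.mem_smul_set]
  constructor
  · rintro ⟨hy, c, hc⟩
    set x := t⁻¹ • (((g⁻¹ : Sp) : Mat m F) *ᵥ y)
    have hx : sf v x = 0 := by
      rw [sf_smul_right, sf_scal (inv_ne_zero ht) (inv_smul_fix ht h) hy, mul_zero]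
    have hgx : t • ((g : Mat m F) *ᵥ x) = y := by
      rw [Matrix.mulVec_smul, mulVec_inv_cancel, smul_smul, mul_inv_cancel₀ ht, one_smul]
    refine ⟨(g : Mat m F) *ᵥ x, ⟨x, ⟨hx, (t ^ 2)⁻¹ * c, ?_⟩, rfl⟩, hgx⟩
    rw [← conj_mem_cj (g := g), conj_El_scal ht h hx, hgx, ← mul_assoc,
      mul_inv_cancel₀ (pow_ne_zero 2 ht), one_mul]
    exact hc
  · rintro ⟨_, ⟨x, ⟨hx, c, hc⟩, rfl⟩, rfl⟩
    refine ⟨by
      show sf v (t • ((g : Mat m F) *ᵥ x)) = 0
      rw [sf_smul_right, sf_scal ht h hx, mul_zero], t ^ 2 * c, ?_⟩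
    show El v (t • ((g : Mat m F) *ᵥ x)) _ ∈ cj g H
    rw [← conj_El_scal ht h hx, conj_mem_cj]
    exact hc

/-- the scalar translates of the root part -/
noncomputable def OZ (H : Subgroup (Matrix.symplecticGroup (Fin m) F)) (v : Fin m ⊕ Fin m → F) :
    Set (Set F) :=
  Set.range fun t : Fˣ => ((t : F) ^ 2) • (Zs H v : Set F)

/-- the scalar factor of the orbit bound -/
noncomputable def cz (H : Subgroup (Matrix.symplecticGroup (Fin m) F)) (v : Fin m ⊕ Fin m → F) : ℕ :=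
  Nat.card (OZ H v) * (Zs H v).index

/-- the index of the image of the radical part -/
noncomputable def dx (H : Subgroup (Matrix.symplecticGroup (Fin m) F)) (v : Fin m ⊕ Fin m → F) : ℕ :=
  ((Xs H v).addSubgroupOf (vperp v)).index

theorem osz_ge_orbits (H : Subgroup Sp) {v : 𝕍} (hv : v ≠ 0) {κ : Type*} [Finite κ] (e : κ → Sp)
    (hz : ∀ a, Zs (cj (e a) H) v = Zs H v) (hx : ∀ a, Xs (cj (e a) H) v = Xs H v)
    (he : ∀ a, e a ∈ stabP hv) (hinj : ∀ a b, Rel H v (e a) (e b) → a = b) :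
    Nat.card κ * cz H v * dx H v * orbN v (Xs H v : Set 𝕍) ≤ osz H hv := by
  classical
  choose tf htf using fun Z : OZ H v => Z.2
  choose hf hhf using fun X : MulAction.orbit (stabV v) (Xs H v : Set 𝕍) => X.2
  choose gf hgf using fun t : Fˣ => sp_transitive hv (smul_ne_zero t.ne_zero hv : (t : F) • v ≠ 0)
  let gg : OZ H v × MulAction.orbit (stabV v) (Xs H v : Set 𝕍) → Sp :=
    fun p => gf (tf p.1) * (hf p.2 : Sp)
  have hgg : ∀ p, (gg p : Mat m F) *ᵥ v = (tf p.1 : F) • v := fun p => by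
    rw [Submonoid.coe_mul, ← Matrix.mulVec_mulVec, stabV_fix (hf p.2), hgf]
  let rep : (OZ H v × MulAction.orbit (stabV v) (Xs H v : Set 𝕍)) × κ → Sp :=
    fun i => gg i.1 * e i.2
  have hgmem : ∀ p, gg p ∈ stabP hv := fun p =>
    (mem_stabP hv _).2 ⟨_, (tf p.1).ne_zero, hgg p⟩
  have hrep : ∀ i, rep i ∈ stabP hv := fun i => (stabP hv).mul_mem (hgmem _) (he _)
  have hZr : ∀ i, (Zs (cj (rep i) H) v : Set F) = (i.1.1 : Set F) := fun i => by
    rw [cj_mul, Zs_cj_scal (tf i.1.1).ne_zero (hgg i.1), hz]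
    exact htf i.1.1
  have hXr : ∀ i, (Xs (cj (rep i) H) v : Set 𝕍) =
      (tf i.1.1 : F) • (gf (tf i.1.1) • (i.1.2 : Set 𝕍)) := fun i => by
    rw [cj_mul, Xs_cj_scal (tf i.1.1).ne_zero (hgg i.1), hx, mul_smul]
    rw [show (hf i.1.2 : Sp) • (Xs H v : Set 𝕍) = (i.1.2 : Set 𝕍) from hhf i.1.2]
  have hfin := osz_ge H hv rep hrep fun i j hij => by
    obtain ⟨hZ, hX⟩ := invariants_of_rel (Subgroup.mem_top _) ((mem_stabP hv _).1 (hrep i)) hij
    have h1 : i.1.1 = j.1.1 := Subtype.ext (by rw [← hZr i, ← hZr j, hZ])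
    have h2 : i.1.2 = j.1.2 := by
      have h := congrArg (fun A : AddSubgroup 𝕍 => (A : Set 𝕍)) hX
      simp only [hXr] at h
      rw [h1] at h
      exact Subtype.ext (smul_left_cancel _
        ((Set.image_injective.2 (smul_right_injective 𝕍 (tf j.1.1).ne_zero)) h))
    have hp : i.1 = j.1 := Prod.ext h1 h2
    refine Prod.ext hp (hinj _ _ ?_)
    obtain ⟨x, hx', c, hc⟩ := hij
    refine ⟨x, hx', c, ?_⟩
    simpa [rep, hp, mul_assoc] using hc
  rw [Nat.card_prod, Nat.card_prod] at hfin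
  refine le_trans (le_of_eq ?_) hfin
  rw [cz, dx, orbN]
  ring

/-- the trivial case -/
theorem osz_ge_one (H : Subgroup Sp) {v : 𝕍} (hv : v ≠ 0) :
    cz H v * dx H v * orbN v (Xs H v : Set 𝕍) ≤ osz H hv := by
  have h : ∀ A : Subgroup Sp, cj 1 A = A := fun A => by ext; simp [mem_cj]
  have := osz_ge_orbits H hv (fun _ : Unit => (1 : Sp)) (fun _ => by rw [h]) (fun _ => by rw [h])
    (fun _ => (stabP hv).one_mem) (fun _ _ _ => rfl)
  simpa using this

/-! ### Counting scalars -/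

/-- annihilator in the field -/
noncomputable def AnnF (Z : Set F) : Set F := {μ | ∀ c ∈ Z, eChar F (μ * c) = 1}

theorem card_AnnF (Z : AddSubgroup F) : Nat.card (AnnF (Z : Set F)) * Nat.card Z = Fintype.card F := by
  classical
  haveI : Fintype Z := Fintype.ofFinite _
  have hrow : ∀ μ : F, ∑ c : Z, eChar F (μ * c) =
      if μ ∈ AnnF (Z : Set F) then (Nat.card Z : ℂ) else 0 := by
    intro μ
    split_ifs with h
    · rw [Finset.sum_congr rfl (fun (c : Z) _ => h c c.2)]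
      simp [Nat.card_eq_fintype_card]
    · let f : Z →+ F :=
        { toFun := fun c => μ * c
          map_zero' := by simp
          map_add' := fun a b => by simp [mul_add] }
      refine sum_comp_eq_zero f ?_
      by_contra hc
      push Not at hc
      exact h fun c hc' => hc ⟨c, hc'⟩
  have hcol : ∀ c : Z, ∑ μ : F, eChar F (μ * c) = if c = 0 then (Fintype.card F : ℂ) else 0 := by
    intro c
    split_ifs with h
    · simp [h]
    · let f : F →+ F :=
        { toFun := fun μ => μ * c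
          map_zero' := by simp
          map_add' := fun a b => by simp [add_mul] }
      refine sum_comp_eq_zero f ?_
      obtain ⟨x, hx⟩ := eChar_exists_ne (a := (c : F)) (fun h0 => h (Subtype.ext h0))
      exact ⟨x, by show eChar F (x * (c : F)) ≠ 1; rwa [mul_comm]⟩
  have hsum : ∑ μ : F, ∑ c : Z, eChar F (μ * c) = ∑ c : Z, ∑ μ : F, eChar F (μ * c) :=
    Finset.sum_comm
  rw [Finset.sum_congr rfl (fun μ _ => hrow μ), Finset.sum_congr rfl (fun c _ => hcol c),
    Finset.sum_ite_eq' Finset.univ (0 : Z), if_pos (Finset.mem_univ _), Finset.sum_ite,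
    Finset.sum_const_zero, add_zero, Finset.sum_const, nsmul_eq_mul, ← Nat.cast_mul] at hsum
  rw [← Nat.cast_injective hsum, Nat.card_eq_fintype_card (α := AnnF (Z : Set F)),
    Fintype.card_subtype]

/-- the squares of units -/
noncomputable abbrev sqU (F : Type*) [Field F] : Subgroup Fˣ := (powMonoidHom 2 : Fˣ →* Fˣ).range

theorem cz_key (H : Subgroup Sp) (v : 𝕍) (hZ : Zs H v ≠ ⊤) :
    Nat.card (sqU F) ≤ Nat.card (OZ H v) * ((Zs H v).index - 1) := by
  classical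
  set Z := Zs H v
  have hA : Nat.card (AnnF (Z : Set F)) = Z.index := by
    have h := card_AnnF Z
    have h' := AddSubgroup.card_mul_index Z
    rw [Nat.card_eq_fintype_card (α := F)] at h'
    refine Nat.eq_of_mul_eq_mul_right (Nat.card_pos (α := Z)) ?_
    rw [h, ← h', mul_comm]
  have hi : 2 ≤ Z.index := by
    have h0 : Z.index ≠ 0 := AddSubgroup.FiniteIndex.index_ne_zero
    have h1 : Z.index ≠ 1 := fun h => hZ (AddSubgroup.index_eq_one.1 h)
    omega
  obtain ⟨μ₀, hμ₀, hμ₀'⟩ : ∃ μ ∈ AnnF (Z : Set F), μ ≠ 0 := by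
    by_contra hc
    push Not at hc
    have : AnnF (Z : Set F) ⊆ {0} := hc
    have := Set.ncard_le_ncard this
    rw [Set.ncard_singleton, ← Nat.card_coe_set_eq, hA] at this
    omega
  let R : Set F := MulAction.orbit (sqU F) μ₀
  have hR : R.ncard = Nat.card (sqU F) := by
    rw [← Nat.card_coe_set_eq]
    refine Nat.card_congr (Equiv.ofBijective (fun s : sqU F => (⟨s • μ₀, s, rfl⟩ : R)) ⟨?_, ?_⟩).symm
    · intro a b h
      exact Subtype.ext (Units.ext (mul_right_cancel₀ hμ₀' (congrArg Subtype.val h)))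
    · rintro ⟨_, s, rfl⟩
      exact ⟨s, rfl⟩
  have hc := cover (G := sqU F) R (fun g x ⟨s, hs⟩ => ⟨g * s, by
      show (g * s) • μ₀ = g • x
      rw [mul_smul, ← hs]⟩) (AnnF (Z : Set F)) hμ₀
    (fun x hx => hx)
  rw [hR] at hc
  refine hc.trans (Nat.mul_le_mul ?_ ?_)
  · let Φ : OZ H v → MulAction.orbit (sqU F) (AnnF (Z : Set F)) := fun W => ⟨AnnF (W : Set F), by
      obtain ⟨t, ht⟩ := W.2
      refine ⟨⟨(t⁻¹) ^ 2, t⁻¹, rfl⟩, ?_⟩
      rw [← ht]
      ext μ
      constructor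
      · rintro ⟨x, hx, rfl⟩ _ ⟨c, hc, rfl⟩
        show eChar F ((((t⁻¹ ^ 2 : Fˣ) : F) * x) * ((t : F) ^ 2 * c)) = 1
        rw [← hx c hc, Units.val_pow_eq_pow_val, Units.val_inv_eq_inv_val]
        congr 1
        field_simp
      · intro h
        refine ⟨(t : F) ^ 2 * μ, fun c hc => ?_, ?_⟩
        · rw [← h ((t : F) ^ 2 • c) ⟨c, hc, rfl⟩, smul_eq_mul]
          congr 1
          ring
        · show ((t⁻¹ ^ 2 : Fˣ) : F) * ((t : F) ^ 2 * μ) = μ
          rw [Units.val_pow_eq_pow_val, Units.val_inv_eq_inv_val]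
          field_simp⟩
    refine Nat.card_le_card_of_surjective Φ ?_
    rintro ⟨_, ⟨s, t, rfl⟩, rfl⟩
    refine ⟨⟨((t⁻¹ : Fˣ) : F) ^ 2 • (Z : Set F), t⁻¹, rfl⟩, Subtype.ext ?_⟩
    ext μ
    constructor
    · intro h
      refine ⟨((t⁻¹ : Fˣ) : F) ^ 2 * μ, fun c hc => ?_, ?_⟩
      · rw [← h _ ⟨c, hc, rfl⟩]
        congr 1
        show _ = μ * (((t⁻¹ : Fˣ) : F) ^ 2 * c)
        ring
      · show ((t ^ 2 : Fˣ) : F) * (((t⁻¹ : Fˣ) : F) ^ 2 * μ) = μ
        rw [Units.val_pow_eq_pow_val, Units.val_inv_eq_inv_val]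
        field_simp
    · rintro ⟨x, hx, rfl⟩ _ ⟨c, hc, rfl⟩
      show eChar F ((((t ^ 2 : Fˣ) : F) * x) * (((t⁻¹ : Fˣ) : F) ^ 2 * c)) = 1
      rw [← hx c hc, Units.val_pow_eq_pow_val, Units.val_inv_eq_inv_val]
      congr 1
      field_simp
  · have hsub : AnnF (Z : Set F) ∩ R ⊆ AnnF (Z : Set F) \ {0} := by
      rintro x ⟨hx, s, rfl⟩
      exact ⟨hx, mul_ne_zero (Units.ne_zero _) hμ₀'⟩
    refine (Set.ncard_le_ncard hsub).trans ?_
    rw [Set.ncard_sdiff_singleton_of_mem (by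
      intro c _
      rw [zero_mul, AddChar.map_zero_eq_one]), ← Nat.card_coe_set_eq, hA]

theorem card_sqU_mul : Fintype.card F - 1 ≤ 2 * Nat.card (sqU F) := by
  classical
  have h := Subgroup.card_eq_card_quotient_mul_card_subgroup (powMonoidHom 2 : Fˣ →* Fˣ).ker
  rw [Nat.card_congr (QuotientGroup.quotientKerEquivRange _).toEquiv,
    Nat.card_eq_fintype_card (α := Fˣ), Fintype.card_units] at h
  rw [h]
  have hk : Nat.card (powMonoidHom 2 : Fˣ →* Fˣ).ker ≤ 2 := by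
    have hsub : ((powMonoidHom 2 : Fˣ →* Fˣ).ker : Set Fˣ) ⊆ {1, -1} := by
      intro u hu
      have h' : (u : F) ^ 2 = 1 := by
        rw [← Units.val_pow_eq_pow_val, show u ^ 2 = 1 from hu, Units.val_one]
      rcases sq_eq_one_iff.1 h' with h' | h'
      · left; exact Units.ext h'
      · right; exact Units.ext h'
    refine ((Nat.card_coe_set_eq _).le.trans (Set.ncard_le_ncard hsub (Set.toFinite _))).trans ?_
    exact (Set.ncard_insert_le _ _).trans (by rw [Set.ncard_singleton])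
  calc Nat.card (sqU F) * Nat.card (powMonoidHom 2 : Fˣ →* Fˣ).ker
      ≤ Nat.card (sqU F) * 2 := Nat.mul_le_mul_left _ hk
    _ = _ := mul_comm _ _

theorem card_sqU_two [CharP F 2] : Nat.card (sqU F) = Fintype.card F - 1 := by
  classical
  rw [← Fintype.card_units, ← Nat.card_eq_fintype_card]
  refine Nat.card_congr (Equiv.ofBijective (fun u : Fˣ => (⟨u ^ 2, u, rfl⟩ : sqU F)) ⟨?_, ?_⟩).symm
  · intro a b h
    refine Units.ext (CharTwo.sq_injective ?_)
    show (a : F) ^ 2 = (b : F) ^ 2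
    rw [← Units.val_pow_eq_pow_val, ← Units.val_pow_eq_pow_val]
    exact congrArg (fun s : sqU F => ((s : Fˣ) : F)) h
  · rintro ⟨_, u, rfl⟩
    exact ⟨u, rfl⟩

theorem Zs_index_ge {H : Subgroup Sp} {v : 𝕍} (hv : ¬ Full H v) : 2 ≤ (Zs H v).index := by
  have h0 : (Zs H v).index ≠ 0 := AddSubgroup.FiniteIndex.index_ne_zero
  have h1 : (Zs H v).index ≠ 1 := fun h => hv fun c => by
    have : c ∈ Zs H v := by rw [AddSubgroup.index_eq_one.1 h]; trivial
    exact this
  omega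

theorem Zs_ne_top {H : Subgroup Sp} {v : 𝕍} (hv : ¬ Full H v) : Zs H v ≠ ⊤ := fun h => by
  have := Zs_index_ge hv
  rw [h, AddSubgroup.index_top] at this
  omega

theorem OZ_pos (H : Subgroup Sp) (v : 𝕍) : 1 ≤ Nat.card (OZ H v) := by
  haveI : Nonempty (OZ H v) := ⟨⟨_, 1, rfl⟩⟩
  exact Nat.card_pos

theorem two_mul_cz {H : Subgroup Sp} {v : 𝕍} (hv : ¬ Full H v) :
    Fintype.card F + 1 ≤ 2 * cz H v := by
  have h1 := (card_sqU_mul (F := F)).trans (Nat.mul_le_mul_left 2 (cz_key H v (Zs_ne_top hv)))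
  have h2 := OZ_pos H v
  have h3 := Zs_index_ge hv
  rw [cz]
  obtain ⟨j, hj⟩ : ∃ j, (Zs H v).index = j + 1 := ⟨_, (Nat.sub_add_cancel (by omega)).symm⟩
  rw [hj, Nat.add_sub_cancel] at h1
  rw [hj, mul_add, mul_one]
  have := Fintype.card_pos (α := F)
  omega

theorem cz_even [CharP F 2] {H : Subgroup Sp} {v : 𝕍} (hv : ¬ Full H v) :
    Fintype.card F ≤ cz H v := by
  have h1 := cz_key H v (Zs_ne_top hv)
  rw [card_sqU_two] at h1
  have h2 := OZ_pos H v
  have h3 := Zs_index_ge hv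
  rw [cz]
  obtain ⟨j, hj⟩ : ∃ j, (Zs H v).index = j + 1 := ⟨_, (Nat.sub_add_cancel (by omega)).symm⟩
  rw [hj, Nat.add_sub_cancel] at h1
  rw [hj, mul_add, mul_one]
  have := Fintype.card_pos (α := F)
  omega

theorem cz_even_ne_bot [CharP F 2] {H : Subgroup Sp} {v : 𝕍} (hv : ¬ Full H v)
    (hZ : Zs H v ≠ ⊥) : Fintype.card F + 2 ≤ cz H v := by
  have hle := cz_even hv
  have h3 := Zs_index_ge hv
  have h4 := AddSubgroup.card_mul_index (Zs H v)
  rw [Nat.card_eq_fintype_card (α := F)] at h4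
  have hZ1 : 2 ≤ Nat.card (Zs H v) := by
    have h0 : 0 < Nat.card (Zs H v) := Nat.card_pos
    have h1 : Nat.card (Zs H v) ≠ 1 := fun h => hZ (AddSubgroup.eq_bot_of_card_eq _ h)
    omega
  -- `cz` and `q` are multiples of the index, and `cz ≠ q`
  have hne : cz H v ≠ Fintype.card F := by
    intro he
    have h1 := cz_key H v (Zs_ne_top hv)
    rw [card_sqU_two] at h1
    rw [cz, ← h4] at he
    have he' : Nat.card (OZ H v) = Nat.card (Zs H v) :=
      Nat.eq_of_mul_eq_mul_right (by omega) he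
    rw [he', ← h4, Nat.mul_sub, mul_one] at h1
    have : Nat.card (Zs H v) * 2 ≤ Nat.card (Zs H v) * (Zs H v).index :=
      Nat.mul_le_mul_left _ h3
    omega
  rw [cz, ← h4] at hle hne ⊢
  have hlt : Nat.card (Zs H v) < Nat.card (OZ H v) := by
    by_contra hc
    have := Nat.mul_le_mul_right (Zs H v).index (Nat.le_of_not_lt hc)
    omega
  have := Nat.mul_le_mul_right (Zs H v).index (Nat.succ_le_of_lt hlt)
  rw [Nat.succ_mul] at this
  omega

end Cfsg.Agent.Symplectic.MinGen
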