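import Cfsg.Agent.Symplectic.Order
import Cfsg.Agent.Symplectic.Simple

/-! Subgroups of small index in `Sp_2m(2)`. -/

set_option autoImplicit false
set_option maxHeartbeats 1000000
set_option linter.unusedSectionVars false

namespace Cfsg.Agent.Symplectic.MinTwo

open scoped Matrix
open Cfsg.Agent.Symplectic

variable {m : ℕ} {F : Type*} [Field F] [Fintype F]

local notation "𝕍" => (Fin m ⊕ Fin m → F)
local notation "sf" => Cfsg.sympForm m F
local notation "Sp" => Matrix.symplecticGroup (Fin m) F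

theorem zero_or_one (hF : Fintype.card F = 2) (a : F) : a = 0 ∨ a = 1 := by
  classical
  by_contra h
  push Not at h
  have : ({0, 1, a} : Finset F).card ≤ 2 := hF ▸ Finset.card_le_univ _
  rw [Finset.card_insert_of_notMem (by simp [h.1.symm]),
    Finset.card_insert_of_notMem (by simp [h.2.symm]), Finset.card_singleton] at this
  omega

theorem one_add_one (hF : Fintype.card F = 2) : (1 : F) + 1 = 0 := by
  rcases zero_or_one hF ((1 : F) + 1) with h | h
  · exact h
  · exact absurd (add_left_cancel (h.trans (add_zero 1).symm)) one_ne_zero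

theorem charP_two (hF : Fintype.card F = 2) : CharP F 2 :=
  ringChar.of_eq (CharP.ringChar_of_prime_eq_zero Nat.prime_two (by
    push_cast; rw [← one_add_one_eq_two]; exact one_add_one hF))

theorem add_self' (hF : Fintype.card F = 2) (u : Fin m ⊕ Fin m → F) : u + u = 0 := by
  funext i
  rw [Pi.add_apply, ← two_mul, ← one_add_one_eq_two, one_add_one hF, zero_mul, Pi.zero_apply]

theorem inv_fix {g : Sp} {v : 𝕍} (h : (g : Mat m F) *ᵥ v = v) :
    ((g⁻¹ : Sp) : Mat m F) *ᵥ v = v := by
  calc ((g⁻¹ : Sp) : Mat m F) *ᵥ v = ((g⁻¹ : Sp) : Mat m F) *ᵥ ((g : Mat m F) *ᵥ v) := by rw [h]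
    _ = v := by
      rw [Matrix.mulVec_mulVec, ← Submonoid.coe_mul, inv_mul_cancel, Submonoid.coe_one,
        Matrix.one_mulVec]

/-! ### The parabolic radical at a vector -/

/-- an element of the radical at `v` -/
noncomputable def El (v x : Fin m ⊕ Fin m → F) (c : F) : Matrix.symplecticGroup (Fin m) F :=
  S x v 1 * T v c

theorem El_mulVec {v x : 𝕍} (h : sf v x = 0) (c : F) (y : 𝕍) :
    (El v x c : Mat m F) *ᵥ y =
      y + (sf y x + c * sf y v) • v + (sf y v) • x := by
  have hxv : sf x v = 0 := by rw [sf_swap, h, neg_zero]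
  rw [El, Submonoid.coe_mul, ← Matrix.mulVec_mulVec, T_mulVec, S_mulVec hxv]
  simp only [sf_add_left, sf_smul_left, h, sf_self, mul_zero, add_zero, one_mul]
  module

theorem El_mul {v x y : 𝕍} (hx : sf v x = 0) (hy : sf v y = 0) (c d : F) :
    El v x c * El v y d = El v (x + y) (c + d + sf y x) := by
  have hxy : sf v (x + y) = 0 := by rw [sf_add_right, hx, hy, add_zero]
  have hyv : sf y v = 0 := by rw [sf_swap, hy, neg_zero]
  refine sp_ext fun z => ?_
  rw [Submonoid.coe_mul, ← Matrix.mulVec_mulVec, El_mulVec hx, El_mulVec hy, El_mulVec hxy]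
  simp only [sf_add_left, sf_add_right, sf_smul_left, hx, hyv, sf_self, mul_zero, add_zero]
  module

theorem El_zero (v : 𝕍) (c : F) : El v 0 c = T v c := by
  refine sp_ext fun y => ?_
  have h0 : sf v (0 : 𝕍) = 0 := by simpa using sf_smul_right (0 : F) v v
  have h1 : sf y (0 : 𝕍) = 0 := by simpa using sf_smul_right (0 : F) y y
  rw [El_mulVec h0, T_mulVec, h1, smul_zero, add_zero, zero_add]

theorem El_conj (g : Sp) (v x : 𝕍) (c : F) :
    g * El v x c * g⁻¹ = El ((g : Mat m F) *ᵥ v) ((g : Mat m F) *ᵥ x) c := by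
  simp only [El, S, ← T_conj, ← Matrix.mulVec_add]
  group

theorem El_one (hF : Fintype.card F = 2) (v x : 𝕍) : El v x 1 = T (x + v) 1 * T x 1 := by
  have hn : (-1 : F) = 1 := by
    haveI := charP_two hF
    exact CharTwo.neg_eq 1
  rw [El, S, hn, mul_assoc, T_mul, one_add_one hF, T_zero, mul_one]

theorem T_sq (hF : Fintype.card F = 2) (v : 𝕍) : T v (1 : F) * T v 1 = 1 := by
  rw [T_mul, one_add_one hF, T_zero]

theorem T_comm {v w : 𝕍} (h : sf v w = 0) (c d : F) : T v c * T w d = T w d * T v c := by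
  have h' : sf w v = 0 := by rw [sf_swap, h, neg_zero]
  refine sp_ext fun y => ?_
  simp only [Submonoid.coe_mul, ← Matrix.mulVec_mulVec, T_mulVec, sf_add_left, sf_smul_left, h, h',
    mul_zero, add_zero]
  module

/-- Witt transitivity on the vectors orthogonal to `v`, outside its span -/
theorem transitive_perp {v x y : 𝕍} (hx : LinearIndependent F ![v, x])
    (hy : LinearIndependent F ![v, y]) (hvx : sf v x = 0) (hvy : sf v y = 0) :
    ∃ g : Sp, (g : Mat m F) *ᵥ v = v ∧ (g : Mat m F) *ᵥ x = y := by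
  have hxv : sf x v = 0 := by rw [sf_swap, hvx, neg_zero]
  have hyv : sf y v = 0 := by rw [sf_swap, hvy, neg_zero]
  obtain ⟨g, hg⟩ := exists_sp_map ![v, x] ![v, y] hx hy (fun i j => by
    fin_cases i <;> fin_cases j <;> simp [sf_self, hvx, hvy, hxv, hyv])
  exact ⟨g, hg 0, hg 1⟩

/-- the image of `H ∩ Q_v` modulo the transvections -/
def rad (hF : Fintype.card F = 2) (H : Subgroup (Matrix.symplecticGroup (Fin m) F))
    (v : Fin m ⊕ Fin m → F) : Submodule F (Fin m ⊕ Fin m → F) where
  carrier := {x | Cfsg.sympForm m F v x = 0 ∧ ∃ c, El v x c ∈ H}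
  zero_mem' := ⟨by simpa using sf_smul_right (0 : F) v v, 0, by rw [El_zero, T_zero]; exact H.one_mem⟩
  add_mem' := fun {x y} ⟨hx, c, hc⟩ ⟨hy, d, hd⟩ =>
    ⟨by rw [sf_add_right, hx, hy, add_zero], _, by
      have := H.mul_mem hc hd; rwa [El_mul hx hy] at this⟩
  smul_mem' := fun a x hx => by
    rcases zero_or_one hF a with rfl | rfl
    · rw [zero_smul]
      exact ⟨by simpa using sf_smul_right (0 : F) v v, 0, by rw [El_zero, T_zero]; exact H.one_mem⟩
    · rwa [one_smul]

/-- subgroups without transvections and of small index meet every radical in a big subgroup -/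
theorem exists_El_mem (hF : Fintype.card F = 2) (hm : 3 ≤ m) (H : Subgroup Sp)
    (hn : H.index < 2 ^ (m - 1) * (2 ^ m - 1)) (hT : ∀ v : 𝕍, v ≠ 0 → T v (1 : F) ∉ H)
    {v : 𝕍} (hv : v ≠ 0) {x : 𝕍} (hx : sf v x = 0) : ∃ c, El v x c ∈ H := by
  classical
  haveI := charP_two hF
  by_contra hcon
  set X := rad hF H v with hXdef
  set B := spB m F
  set P := B.orthogonal (Submodule.span F {v}) with hPdef
  have hmemP : ∀ z, z ∈ P ↔ sf v z = 0 := fun z => by
    rw [hPdef, LinearMap.BilinForm.mem_orthogonal_iff]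
    constructor
    · intro h
      exact (spB_apply v z).symm.trans (h v (Submodule.mem_span_singleton_self v))
    · intro h y hy
      obtain ⟨a, rfl⟩ := Submodule.mem_span_singleton.1 hy
      show B (a • v) z = 0
      rw [map_smul, LinearMap.smul_apply, spB_apply, h, smul_zero]
  have hXP : X ≤ P := fun z hz => (hmemP z).2 hz.1
  have hxX : x ∉ X := fun h => hcon h.2
  have hvX : v ∈ X := by
    refine ⟨sf_self v, 0, ?_⟩
    have : El v v (0 : F) = 1 := by
      refine sp_ext fun y => ?_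
      rw [El_mulVec (sf_self v), zero_mul, add_zero, add_assoc, ← add_smul, CharTwo.add_self_eq_zero,
        zero_smul, add_zero, Submonoid.coe_one, Matrix.one_mulVec]
    rw [this]; exact H.one_mem
  have hV : Module.finrank F 𝕍 = 2 * m := by simp [two_mul]
  have hdP : Module.finrank F P = 2 * m - 1 := by
    rw [hPdef, LinearMap.BilinForm.finrank_orthogonal (spB_nondeg m F), finrank_span_singleton hv, hV]
  set d := Module.finrank F X
  have hd : d < 2 * m - 1 := hdP ▸ Submodule.finrank_lt_finrank_of_lt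
    (lt_of_le_of_ne hXP fun h => hxX (h ▸ (hmemP x).2 hx))
  set Y := B.orthogonal X
  have hdY : Module.finrank F Y = 2 * m - d := by
    rw [LinearMap.BilinForm.finrank_orthogonal (spB_nondeg m F), hV]
  have hmemY : ∀ z, z ∈ Y ↔ ∀ u ∈ X, sf u z = 0 := fun z => by
    rw [LinearMap.BilinForm.mem_orthogonal_iff]
    exact ⟨fun h u hu => (spB_apply u z).symm.trans (h u hu),
      fun h u hu => (spB_apply u z).trans (h u hu)⟩
  have hYP : Y ≤ P := fun z hz => (hmemP z).2 ((hmemY z).1 hz v hvX)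
  have hcardY : Nat.card Y = 2 ^ (2 * m - d) := by
    rw [Module.natCard_eq_pow_finrank (K := F), hdY, Nat.card_eq_fintype_card, hF]
  -- the orbit of `X` under the stabiliser of `v`
  let Gv := {g : Sp // (g : Mat m F) *ᵥ v = v}
  let img : Gv → Set 𝕍 := fun g => (fun z => (g.1 : Mat m F) *ᵥ z) '' (X : Set 𝕍)
  let O := Set.range img
  haveI : Fintype Sp := Fintype.ofFinite _
  haveI : Finite O := Set.finite_range img
  haveI : Fintype O := Fintype.ofFinite O
  choose rep hrep using fun o : O => o.2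
  have hinv : ∀ h ∈ H, (h : Mat m F) *ᵥ v = v → ∀ z ∈ X, (h : Mat m F) *ᵥ z ∈ X := by
    intro h hh hhv z hz
    obtain ⟨c, hc⟩ := hz.2
    refine ⟨by rw [← hz.1]; conv_lhs => rw [← hhv]; rw [sf_invariant], c, ?_⟩
    have := H.mul_mem (H.mul_mem hh hc) (H.inv_mem hh)
    rwa [El_conj, hhv] at this
  have hEl : ∀ z, sf v z = 0 → ∀ c, (El v z c : Mat m F) *ᵥ v = v ∧
      ∀ u ∈ X, (El v z c : Mat m F) *ᵥ u ∈ X := by
    intro z hz c
    refine ⟨?_, fun u hu => ?_⟩
    · rw [El_mulVec hz, sf_self, mul_zero, add_zero, hz, zero_smul, add_zero, zero_smul, add_zero]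
    · have huv : sf u v = 0 := by rw [sf_swap, hu.1, neg_zero]
      rw [El_mulVec hz, huv, zero_smul, add_zero]
      exact X.add_mem hu (X.smul_mem _ hvX)
  -- cosets
  let C := P ⧸ (X.comap P.subtype)
  haveI : Fintype C := Fintype.ofFinite C
  let out : C → P := fun c => c.out
  let φ : O × C × F → Sp ⧸ H := fun p =>
    QuotientGroup.mk ((rep p.1).1 * El v (out p.2.1 : 𝕍) p.2.2)
  have hφ : Function.Injective φ := by
    rintro ⟨o, a, c⟩ ⟨o', a', c'⟩ hpq
    have hh := QuotientGroup.eq.1 hpq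
    set z : 𝕍 := (out a : 𝕍)
    set z' : 𝕍 := (out a' : 𝕍)
    have hz : sf v z = 0 := (hmemP _).1 (out a).2
    have hz' : sf v z' = 0 := (hmemP _).1 (out a').2
    set k := ((rep o).1 * El v z c)⁻¹ * ((rep o').1 * El v z' c') with hk
    have hkv : (k : Mat m F) *ᵥ v = v := by
      have h1 : (((rep o).1 * El v z c : Sp) : Mat m F) *ᵥ v = v := by
        rw [Submonoid.coe_mul, ← Matrix.mulVec_mulVec, (hEl z hz c).1, (rep o).2]
      have h2 : (((rep o').1 * El v z' c' : Sp) : Mat m F) *ᵥ v = v := by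
        rw [Submonoid.coe_mul, ← Matrix.mulVec_mulVec, (hEl z' hz' c').1, (rep o').2]
      rw [hk, Submonoid.coe_mul, ← Matrix.mulVec_mulVec, h2]
      exact inv_fix h1
    have hoo : o = o' := by
      have key : ∀ o o' : O, ∀ (z z' : 𝕍) (hz : sf v z = 0) (hz' : sf v z' = 0) (c c' : F),
          ((rep o).1 * El v z c)⁻¹ * ((rep o').1 * El v z' c') ∈ H →
          ((((rep o).1 * El v z c)⁻¹ * ((rep o').1 * El v z' c') : Sp) : Mat m F) *ᵥ v = v →
          (o' : Set 𝕍) ⊆ o := by
        intro o o' z z' hz hz' c c' hmem hfix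
        rw [← hrep o, ← hrep o']
        rintro _ ⟨u, hu, rfl⟩
        set k := ((rep o).1 * El v z c)⁻¹ * ((rep o').1 * El v z' c') with hk
        have h1 : ((El v z' c')⁻¹ : Sp) = El v z' (c' + sf z' z') := by
          refine inv_eq_of_mul_eq_one_right ?_
          rw [El_mul hz' hz', add_self' hF z', El_zero, sf_self]
          rw [add_zero, add_zero, CharTwo.add_self_eq_zero, T_zero]
        refine ⟨(El v z c : Mat m F) *ᵥ ((k : Mat m F) *ᵥ (((El v z' c')⁻¹ : Sp) : Mat m F) *ᵥ u),
          (hEl z hz c).2 _ (hinv k hmem hfix _ (by rw [h1]; exact (hEl z' hz' _).2 u hu)), ?_⟩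
        show ((rep o).1 : Mat m F) *ᵥ _ = ((rep o').1 : Mat m F) *ᵥ u
        simp only [Matrix.mulVec_mulVec, ← Submonoid.coe_mul]
        congr 2
        rw [hk]
        group
      refine Subtype.ext (Set.Subset.antisymm ?_ (key o o' z z' hz hz' c c' hh hkv))
      refine key o' o z' z hz' hz c' c ?_ ?_
      · have := H.inv_mem hh
        rwa [mul_inv_rev, inv_inv] at this
      · have := inv_fix hkv
        rwa [hk, mul_inv_rev, inv_inv] at this
    subst hoo
    have hmem : (El v z c)⁻¹ * El v z' c' ∈ H := by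
      have e : k = (El v z c)⁻¹ * El v z' c' := by rw [hk]; group
      rw [← e]; exact hh
    have hinvEl : (El v z c)⁻¹ = El v z c := inv_eq_of_mul_eq_one_right (by
      rw [El_mul hz hz, add_self' hF z, El_zero, sf_self, add_zero,
        CharTwo.add_self_eq_zero, T_zero])
    rw [hinvEl, El_mul hz hz'] at hmem
    have haa : a = a' := by
      have : (Submodule.Quotient.mk (out a) : C) = Submodule.Quotient.mk (out a') :=
        (Submodule.Quotient.eq _).2 (by
          rw [Submodule.mem_comap]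
          show z - z' ∈ X
          rw [sub_eq_add_neg, show -z' = z' from neg_eq_of_add_eq_zero_left (add_self' hF z')]
          exact ⟨by rw [sf_add_right, hz, hz', add_zero], _, hmem⟩)
      simpa [out, Submodule.Quotient.mk_out] using this
    subst haa
    rw [show z' = z from rfl, add_self' hF z, El_zero, sf_self, add_zero] at hmem
    have hcc : c = c' := by
      rcases zero_or_one hF (c + c') with h | h
      · exact CharTwo.add_eq_zero.1 h
      · exact absurd (h ▸ hmem) (hT v hv)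
    rw [hcc]
  have hcount := Nat.card_le_card_of_injective φ hφ
  rw [Nat.card_prod, Nat.card_prod, Nat.card_eq_fintype_card (α := F), hF,
    ← Subgroup.index_eq_card] at hcount
  have hC : Nat.card C = 2 ^ (2 * m - 1 - d) := by
    rw [Module.natCard_eq_pow_finrank (K := F), Nat.card_eq_fintype_card, hF]
    congr 1
    have h := Submodule.finrank_quotient_add_finrank (X.comap P.subtype)
    rw [(Submodule.comapSubtypeEquivOfLe hXP).finrank_eq, hdP] at h
    have : Module.finrank F C = Module.finrank F (P ⧸ X.comap P.subtype) := rfl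
    omega
  -- the orbit covers all vectors orthogonal to `v`
  have hspanv : ∀ u, u ∈ Submodule.span F {v} ↔ u = 0 ∨ u = v := fun u => by
    rw [Submodule.mem_span_singleton]
    constructor
    · rintro ⟨a, rfl⟩
      rcases zero_or_one hF a with rfl | rfl <;> simp
    · rintro (rfl | rfl)
      · exact ⟨0, zero_smul _ _⟩
      · exact ⟨1, one_smul _ _⟩
  have hlv : Submodule.span F {v} ≤ Y := by
    rw [Submodule.span_le, Set.singleton_subset_iff]
    exact (hmemY v).2 fun u hu => by rw [sf_swap, hu.1, neg_zero]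
  have hY2 : 4 ≤ Nat.card Y := by
    rw [hcardY]
    calc 4 = 2 ^ 2 := rfl
      _ ≤ _ := Nat.pow_le_pow_right two_pos (by omega)
  have hli : ∀ u, u ∉ Submodule.span F {v} → LinearIndependent F ![v, u] := fun u hu => by
    rw [LinearIndependent.pair_iff' hv]
    intro a ha
    exact hu (Submodule.mem_span_singleton.2 ⟨a, ha⟩)
  obtain ⟨y₀, hy₀, hy₀'⟩ : ∃ y ∈ Y, y ∉ Submodule.span F {v} := by
    by_contra hc
    push Not at hc
    have := Submodule.finrank_mono (show Y ≤ Submodule.span F {v} from hc)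
    rw [hdY, finrank_span_singleton hv] at this
    omega
  let R := {u : 𝕍 // u ∈ P ∧ u ∉ Submodule.span F {v}}
  let R₀ := {u : 𝕍 // u ∈ Y ∧ u ∉ Submodule.span F {v}}
  have hg : ∀ u : R, ∃ g : Gv, (g.1 : Mat m F) *ᵥ y₀ = u.1 := fun u => by
    obtain ⟨g, hg1, hg2⟩ := transitive_perp (hli _ hy₀') (hli _ u.2.2)
      ((hmemP _).1 (hYP hy₀)) ((hmemP _).1 u.2.1)
    exact ⟨⟨g, hg1⟩, hg2⟩
  choose gu hgu using hg
  let pb : R → O × R₀ := fun u =>
    (⟨img (gu u), gu u, rfl⟩,
      ⟨(((rep ⟨img (gu u), gu u, rfl⟩).1⁻¹ : Sp) : Mat m F) *ᵥ u.1, by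
        set o : O := ⟨img (gu u), gu u, rfl⟩
        set r := rep o
        refine ⟨(hmemY _).2 fun z hz => ?_, fun h => u.2.2 ?_⟩
        · have hz' : (r.1 : Mat m F) *ᵥ z ∈ img (gu u) :=
            (hrep o).subset ⟨z, hz, rfl⟩
          obtain ⟨z₁, hz₁, he⟩ := hz'
          have e0 : sf ((r.1 : Mat m F) *ᵥ z)
              ((r.1 : Mat m F) *ᵥ ((((r.1)⁻¹ : Sp) : Mat m F) *ᵥ u.1)) = 0 := by
            rw [← he, Matrix.mulVec_mulVec (M := (r.1 : Mat m F)), ← Submonoid.coe_mul,
              mul_inv_cancel, Submonoid.coe_one, Matrix.one_mulVec, ← hgu u, sf_invariant]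
            exact (hmemY _).1 hy₀ z₁ hz₁
          rwa [sf_invariant] at e0
        · obtain ⟨a, ha⟩ := Submodule.mem_span_singleton.1 h
          refine Submodule.mem_span_singleton.2 ⟨a, ?_⟩
          have := congrArg (fun w => (r.1 : Mat m F) *ᵥ w) ha
          simp only [Matrix.mulVec_smul, Matrix.mulVec_mulVec, ← Submonoid.coe_mul, mul_inv_cancel,
            Submonoid.coe_one, Matrix.one_mulVec, r.2] at this
          exact this⟩)
  have hpb : Function.Injective pb := by
    intro u u' h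
    have h1 := congrArg Prod.fst h
    have h2 := congrArg (fun p => (p.2 : R₀).1) h
    simp only [pb] at h1 h2
    rw [← h1] at h2
    apply Subtype.ext
    have := congrArg (fun w => ((rep ⟨img (gu u), gu u, rfl⟩).1 : Mat m F) *ᵥ w) h2
    simpa only [Matrix.mulVec_mulVec, ← Submonoid.coe_mul, mul_inv_cancel, Submonoid.coe_one,
      Matrix.one_mulVec] using this
  have hcov := Nat.card_le_card_of_injective pb hpb
  have hdiff : ∀ Z : Submodule F 𝕍, Submodule.span F {v} ≤ Z →
      Nat.card {u : 𝕍 // u ∈ Z ∧ u ∉ Submodule.span F {v}} = Nat.card Z - 2 := by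
    intro Z hZ
    have h1 : Nat.card {u : 𝕍 // u ∈ Z ∧ u ∉ Submodule.span F {v}} =
        ((Z : Set 𝕍) \ (Submodule.span F {v} : Set 𝕍)).ncard := Nat.card_coe_set_eq _
    rw [h1, Set.ncard_sdiff (SetLike.coe_subset_coe.mpr hZ), ← Nat.card_coe_set_eq,
      ← Nat.card_coe_set_eq]
    simp only [SetLike.coe_sort_coe]
    rw [Module.natCard_eq_pow_finrank (K := F) (V := Submodule.span F {v}),
      finrank_span_singleton hv, Nat.card_eq_fintype_card (α := F), hF, pow_one]
  have hPc : Nat.card P = 2 ^ (2 * m - 1) := by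
    rw [Module.natCard_eq_pow_finrank (K := F), hdP, Nat.card_eq_fintype_card, hF]
  rw [Nat.card_prod, show Nat.card R = Nat.card P - 2 from hdiff P (le_trans hlv hYP),
    show Nat.card R₀ = Nat.card Y - 2 from hdiff Y hlv, hPc, hcardY] at hcov
  rw [hC] at hcount
  have ho : 1 ≤ Nat.card O := by
    haveI : Nonempty O := ⟨⟨img ⟨1, by simp⟩, ⟨1, by simp⟩, rfl⟩⟩
    exact Nat.card_pos
  have e1 : 2 ^ (2 * m - d) = 2 * 2 ^ (2 * m - 1 - d) := by
    rw [← pow_succ', show 2 * m - 1 - d + 1 = 2 * m - d by omega]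
  have e2 : 2 ^ (2 * m - 1) = 2 ^ (m - 1) * 2 ^ m := by
    rw [← pow_add, show m - 1 + m = 2 * m - 1 by omega]
  have e3 : 2 ^ (m - 1) * (2 ^ m - 1) ≤ 2 ^ (2 * m - 1) - 1 := by
    rw [Nat.mul_sub, mul_one, ← e2]
    have := Nat.one_le_two_pow (n := m - 1)
    omega
  rw [e1] at hcov
  have hb : Nat.card O * (2 * 2 ^ (2 * m - 1 - d) - 2) + Nat.card O * 2 =
      Nat.card O * (2 ^ (2 * m - 1 - d) * 2) := by
    rw [← mul_add, Nat.sub_add_cancel (by have := Nat.one_le_two_pow (n := 2 * m - 1 - d); omega),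
      mul_comm 2]
  omega

/-- the transitive case is impossible -/
theorem false_of_no_transvection (hF : Fintype.card F = 2) (hm : 3 ≤ m) (H : Subgroup Sp)
    (hn : H.index < 2 ^ (m - 1) * (2 ^ m - 1)) (hT : ∀ v : 𝕍, v ≠ 0 → T v (1 : F) ∉ H) :
    False := by
  classical
  haveI := charP_two hF
  have hcomm : ∀ {a b : 𝕍}, sf a b = 0 → sf b a = 0 := fun h => by rw [sf_swap, h, neg_zero]
  have hdbl := add_self' (m := m) hF
  have hcancel : ∀ a b : 𝕍, a + b + b = a := fun a b => by rw [add_assoc, hdbl, add_zero]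
  -- related pairs
  let B : 𝕍 → 𝕍 → Prop := fun a b => T a (1 : F) * T b 1 ∈ H
  have hsym : ∀ {a b : 𝕍}, sf a b = 0 → B a b → B b a := fun h hb => by
    show _ ∈ H
    rw [T_comm (hcomm h)]; exact hb
  have htrans : ∀ {a b c : 𝕍}, B a b → B b c → B a c := fun {a b c} h1 h2 => by
    show _ ∈ H
    have := H.mul_mem h1 h2
    rwa [mul_assoc, ← mul_assoc (T b 1) (T b 1), T_sq hF, one_mul] at this
  -- `El v x 1` and related pairs
  have hfwd : ∀ {v x : 𝕍}, sf v x = 0 → El v x 1 ∈ H → B x (x + v) := fun {v x} h he => by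
    rw [El_one hF] at he
    exact hsym (by rw [sf_add_left, sf_self, zero_add, h]) he
  have hzero : ∀ {v x : 𝕍}, El v x (0 : F) ∈ H → T (x + v) 1 * T x 1 * T v 1 ∈ H := fun {v x} h => by
    have h1 : El v x (0 : F) * T v 1 = El v x 1 := by simp only [El]; rw [mul_assoc, T_mul, zero_add]
    rw [El_one hF, ← eq_mul_inv_iff_mul_eq, inv_eq_of_mul_eq_one_right (T_sq hF v)] at h1
    rwa [h1] at h
  have hadd : ∀ {a b : 𝕍}, sf a b = 0 → b ≠ 0 → a + b ≠ 0 → B a b → B a (a + b) := by
    intro a b hab hb0 hab0 h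
    obtain ⟨c, hc⟩ := exists_El_mem hF hm H hn hT hb0 (hcomm hab)
    rcases zero_or_one hF c with rfl | rfl
    · exfalso
      have := H.mul_mem (hzero hc) (H.inv_mem h)
      rw [mul_assoc (T (a + b) 1), mul_inv_cancel_right] at this
      exact hT _ hab0 this
    · exact hfwd (hcomm hab) hc
  -- existence of a related pair
  obtain ⟨v, x₀, hv, hvx₀, hx₀⟩ : ∃ v x : 𝕍, v ≠ 0 ∧ sf v x = 0 ∧ El v x 1 ∈ H := by
    by_contra hcon
    push Not at hcon
    let e : Fin m → 𝕍 := fun i => ev i
    let f : Fin m → 𝕍 := fun i => Pi.single (Sum.inr i) 1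
    let v : 𝕍 := e ⟨0, by omega⟩
    let a : 𝕍 := e ⟨1, by omega⟩
    let b : 𝕍 := f ⟨1, by omega⟩
    have hv : v ≠ 0 := ev_ne_zero _
    have hva : sf v a = 0 := sf_ev _ _
    have hvb : sf v b = 0 := by simp [v, b, e, f, ev, sympForm_eq, Pi.single_apply]
    have hab : sf b a = 1 := by simp [a, b, e, f, ev, sympForm_eq, Pi.single_apply]
    have h0 : ∀ {z}, sf v z = 0 → El v z (0 : F) ∈ H := fun {z} hz => by
      obtain ⟨c, hc⟩ := exists_El_mem hF hm H hn hT hv hz
      rcases zero_or_one hF c with rfl | rfl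
      · exact hc
      · exact absurd hc (hcon v z hv hz)
    have := H.mul_mem (h0 hva) (h0 hvb)
    rw [El_mul hva hvb, hab, add_zero, zero_add] at this
    exact hcon v _ hv (by rw [sf_add_right, hva, hvb, add_zero]) this
  have hx0 : x₀ ≠ 0 := by
    rintro rfl
    rw [El_zero] at hx₀
    exact hT v hv hx₀
  have hxv : x₀ + v ≠ 0 := by
    intro h
    rw [show x₀ = v from by rw [← hcancel x₀ v, h, zero_add], El_one hF, hdbl] at hx₀
    have e0 : T (0 : 𝕍) (1 : F) = 1 := sp_ext fun y => by simp [T_mulVec]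
    rw [e0, one_mul] at hx₀
    exact hT v hv hx₀
  have hBxv : B v x₀ := by
    have h1 : B x₀ (x₀ + v) := hfwd hvx₀ hx₀
    have h2 := hadd (by rw [sf_add_right, sf_self, zero_add, hcomm hvx₀]) hxv
      (by rw [← add_assoc, hdbl, zero_add]; exact hv) h1
    rw [← add_assoc, hdbl, zero_add] at h2
    exact hsym (hcomm hvx₀) h2
  have hli : LinearIndependent F ![v, x₀] := by
    rw [LinearIndependent.pair_iff' hv]
    intro c hc
    rcases zero_or_one hF c with rfl | rfl
    · exact hx0 (by rw [← hc, zero_smul])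
    · exact hxv (by rw [← hc, one_smul, hdbl])
  -- a vector completing the pair to a plane
  obtain ⟨y, hy, hyn⟩ : ∃ y, y ∈ perp ![v, x₀] ∧ y ∉ Submodule.span F (Set.range ![v, x₀]) := by
    by_contra hc
    push Not at hc
    have := Submodule.finrank_mono
      (show perp ![v, x₀] ≤ Submodule.span F (Set.range ![v, x₀]) from hc)
    rw [finrank_perp hli, finrank_span_eq_card hli, Fintype.card_fin] at this
    omega
  obtain ⟨y, hy, hyn, hBy⟩ : ∃ y, y ∈ perp ![v, x₀] ∧
      y ∉ Submodule.span F (Set.range ![v, x₀]) ∧ B v y := by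
    have hne : ∀ {y}, y ∉ Submodule.span F (Set.range ![v, x₀]) → y ≠ 0 ∧ v + y ≠ 0 := fun {y} h =>
      ⟨fun h0 => h (h0 ▸ Submodule.zero_mem _), fun h0 => h (by
        rw [show y = v from by rw [← zero_add y, ← h0, hcancel]]
        exact Submodule.subset_span ⟨0, rfl⟩)⟩
    have hxmem : x₀ ∈ perp ![v, x₀] := mem_perp.mpr fun i => by
      fin_cases i
      · exact hvx₀
      · exact sf_self _
    have hxs : x₀ ∈ Submodule.span F (Set.range ![v, x₀]) := Submodule.subset_span ⟨1, rfl⟩
    have hB : ∀ {y}, sf v y = 0 → y ≠ 0 → v + y ≠ 0 → El v y 1 ∈ H → B v y := by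
      intro y hvy hy0 hvy0 he
      have h1 := hfwd hvy he
      have hyv : y + v ≠ 0 := by rwa [add_comm]
      have h2 := hadd (by rw [sf_add_right, sf_self, zero_add, hcomm hvy]) hyv
        (by rw [← add_assoc, hdbl, zero_add]; exact hv) h1
      rw [← add_assoc, hdbl, zero_add] at h2
      exact hsym (hcomm hvy) h2
    have hvy : sf v y = 0 := mem_perp.mp hy 0
    obtain ⟨c, hc⟩ := exists_El_mem hF hm H hn hT hv hvy
    rcases zero_or_one hF c with rfl | rfl
    · refine ⟨x₀ + y, Submodule.add_mem _ hxmem hy, fun h => hyn (by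
        have := Submodule.sub_mem _ h hxs
        rwa [add_sub_cancel_left] at this), ?_⟩
      have hy' : x₀ + y ∉ Submodule.span F (Set.range ![v, x₀]) := fun h => hyn (by
        have := Submodule.sub_mem _ h hxs
        rwa [add_sub_cancel_left] at this)
      have hxy : sf y x₀ = 0 := hcomm (mem_perp.mp hy 1)
      have := H.mul_mem hx₀ hc
      rw [El_mul hvx₀ hvy, hxy, add_zero, add_zero] at this
      exact hB (by rw [sf_add_right, hvx₀, hvy, add_zero]) (hne hy').1 (hne hy').2 this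
    · exact ⟨y, hy, hyn, hB hvy (hne hyn).1 (hne hyn).2 hc⟩
  -- the plane gives the contradiction
  have hvy : sf v y = 0 := mem_perp.mp hy 0
  have hxy : sf x₀ y = 0 := mem_perp.mp hy 1
  have hy0 : y ≠ 0 := fun h => hyn (h ▸ Submodule.zero_mem _)
  have hvy0 : v + y ≠ 0 := fun h0 => hyn (by
    rw [show y = v from by rw [← zero_add y, ← h0, hcancel]]
    exact Submodule.subset_span ⟨0, rfl⟩)
  have hxy0 : x₀ + y ≠ 0 := fun h0 => hyn (by
    rw [show y = x₀ from by rw [← zero_add y, ← h0, hcancel]]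
    exact Submodule.subset_span ⟨1, rfl⟩)
  have hxvy0 : x₀ + (v + y) ≠ 0 := fun h0 => hyn (by
    rw [show y = x₀ + v from by rw [← zero_add y, ← h0, ← add_assoc, hcancel]]
    exact Submodule.add_mem _ (Submodule.subset_span ⟨1, rfl⟩) (Submodule.subset_span ⟨0, rfl⟩))
  have hxvy : sf x₀ (v + y) = 0 := by rw [sf_add_right, hcomm hvx₀, hxy, add_zero]
  -- at `x₀`, the lines to `v`, `y`, `v + y` cannot all be related
  have hBxy : B x₀ y := htrans (hsym hvx₀ hBxv) hBy
  have hBvy' : B v (v + y) := hadd hvy hy0 hvy0 hBy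
  have hBxvy : B x₀ (v + y) := htrans (hsym hvx₀ hBxv) hBvy'
  have hone : ∀ {b}, sf x₀ b = 0 → b ≠ 0 → x₀ + b ≠ 0 → B x₀ b → El x₀ b 1 ∈ H := by
    intro b hxb hb0 hxb0 hb
    obtain ⟨c, hc⟩ := exists_El_mem hF hm H hn hT hx0 hxb
    rcases zero_or_one hF c with rfl | rfl
    · exfalso
      have := H.mul_mem (hzero hc) (H.inv_mem (hsym hxb hb))
      rw [mul_assoc (T (b + x₀) 1), mul_inv_cancel_right] at this
      exact hT _ (by rwa [add_comm]) this
    · exact hc
  have k1 := hone (hcomm hvx₀) hv hxv (hsym hvx₀ hBxv)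
  have k2 := hone hxy hy0 hxy0 hBxy
  have k3 := hone hxvy hvy0 hxvy0 hBxvy
  have := H.mul_mem (H.mul_mem k1 k2) k3
  rw [El_mul (hcomm hvx₀) hxy, hcomm hvy, add_zero, one_add_one hF,
    El_mul (by rw [sf_add_right, hcomm hvx₀, hxy, add_zero]) hxvy, hdbl, El_zero, sf_self, add_zero,
    zero_add] at this
  exact hT x₀ hx0 this

end Cfsg.Agent.Symplectic.MinTwo
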