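import Cfsg.Agent.Symplectic.MinIndexTwo

/-! Intransitive subgroups of `Sp_2m(2)`: the rank bound. -/

set_option autoImplicit false
set_option maxHeartbeats 1000000
set_option linter.unusedSectionVars false

namespace Cfsg.Agent.Symplectic.MinTwo

open scoped Matrix
open Cfsg.Agent.Symplectic

variable {m : ℕ} {F : Type*} [Field F] [Fintype F]

local notation "𝕍" => (Fin m ⊕ Fin m → F)
local notation "sf" => Cfsg.sympForm m F
local notation "Sp" => Matrix.symplecticGroup (Fin m) F

/-- the non-zero vectors -/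
abbrev Vz (m : ℕ) (F : Type*) [Field F] := {v : Fin m ⊕ Fin m → F // v ≠ 0}

noncomputable instance instFintypeVz : Fintype (Vz m F) := Fintype.ofFinite _

/-- the sign of a field element -/
noncomputable def sgn (a : F) : ℚ := by classical exact if a = 0 then 1 else -1

theorem sgn_zero : sgn (0 : F) = 1 := by simp [sgn]

theorem sgn_add (hF : Fintype.card F = 2) (a b : F) : sgn (a + b) = sgn a * sgn b := by
  have h := one_add_one hF
  rcases zero_or_one hF a with rfl | rfl <;> rcases zero_or_one hF b with rfl | rfl <;>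
    simp [sgn, h]

/-- a character sum -/
theorem sum_sgn (hF : Fintype.card F = 2) (x : 𝕍) (hx : x ≠ 0) :
    ∑ y : 𝕍, sgn (sf x y) = 0 := by
  obtain ⟨y₁, hy₁⟩ := sf_exists_one hx
  have h1 : ∑ y : 𝕍, sgn (sf x y) = - ∑ y : 𝕍, sgn (sf x y) := by
    conv_lhs => rw [← Equiv.sum_comp (Equiv.addRight y₁)]
    rw [← Finset.sum_neg_distrib]
    refine Finset.sum_congr rfl fun y _ => ?_
    rw [Equiv.coe_addRight, sf_add_right, hy₁, sgn_add hF]
    simp [sgn]
  linarith

theorem sum_sgn_nz (hF : Fintype.card F = 2) (x : 𝕍) (hx : x ≠ 0) :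
    ∑ y : Vz m F, sgn (sf x y.1) = -1 := by
  classical
  have h := sum_sgn hF x hx
  rw [← Finset.add_sum_erase _ _ (Finset.mem_univ (0 : 𝕍))] at h
  rw [show sf x 0 = 0 by simpa using sf_smul_right (0 : F) x x, sgn_zero] at h
  rw [← Finset.sum_subtype (Finset.univ.erase (0 : 𝕍)) (by simp) (fun y => sgn (sf x y))]
  linarith

theorem card_Vz (hF : Fintype.card F = 2) : (Fintype.card (Vz m F) : ℚ) = 4 ^ m - 1 := by
  classical
  rw [Fintype.card_subtype_compl, Fintype.card_subtype_eq, Fintype.card_fun, Fintype.card_sum,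
    Fintype.card_fin, hF, Nat.cast_sub Nat.one_le_two_pow]
  push_cast
  rw [← two_mul, pow_mul]
  norm_num

/-- a subgroup which is not transitive on non-zero vectors has large index -/
theorem index_ge_of_intransitive (hF : Fintype.card F = 2) (hm : 1 ≤ m) (H : Subgroup Sp)
    (v₀ u₀ : Vz m F) (hne : ∀ h ∈ H, (h : Mat m F) *ᵥ v₀.1 ≠ u₀.1) :
    2 ^ (m - 1) * (2 ^ m - 1) ≤ H.index := by
  classical
  haveI := charP_two hF
  haveI : Fintype Sp := Fintype.ofFinite _
  haveI : Fintype (Sp ⧸ H) := Fintype.ofFinite _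
  -- the incidence matrix of translates of an orbit
  let O : 𝕍 → Prop := fun x => ∃ h ∈ H, (h : Mat m F) *ᵥ v₀.1 = x
  have hOinv : ∀ h ∈ H, ∀ x, O ((h : Mat m F) *ᵥ x) ↔ O x := by
    intro h hh x
    constructor
    · rintro ⟨k, hk, he⟩
      refine ⟨h⁻¹ * k, H.mul_mem (H.inv_mem hh) hk, ?_⟩
      rw [Submonoid.coe_mul, ← Matrix.mulVec_mulVec, he, Matrix.mulVec_mulVec, ← Submonoid.coe_mul,
        inv_mul_cancel, Submonoid.coe_one, Matrix.one_mulVec]
    · rintro ⟨k, hk, rfl⟩
      exact ⟨h * k, H.mul_mem hh hk, by rw [Submonoid.coe_mul, Matrix.mulVec_mulVec]⟩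
  let M : Matrix (Sp ⧸ H) (Vz m F) ℚ :=
    Matrix.of fun α x => if O (((Quotient.out α)⁻¹ : Sp) *ᵥ x.1) then 1 else 0
  have hMrep : ∀ (k : Sp) (x : Vz m F),
      M (QuotientGroup.mk k) x = if O (((k⁻¹ : Sp) : Mat m F) *ᵥ x.1) then 1 else 0 := by
    intro k x
    obtain ⟨h, hh⟩ := QuotientGroup.mk_out_eq_mul H k
    show (if O (((Quotient.out (QuotientGroup.mk k : Sp ⧸ H))⁻¹ : Sp) *ᵥ x.1) then (1 : ℚ) else 0) = _
    rw [hh, mul_inv_rev, Submonoid.coe_mul, ← Matrix.mulVec_mulVec]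
    exact if_congr (hOinv _ (H.inv_mem h.2) _) rfl rfl
  let act : Sp → Vz m F → Vz m F := fun g x => ⟨(g : Mat m F) *ᵥ x.1, sp_mulVec_ne_zero g x.2⟩
  let K := Mᵀ * M
  have hKinv : ∀ g x y, K (act g x) (act g y) = K x y := by
    intro g x y
    simp only [K, Matrix.mul_apply, Matrix.transpose_apply]
    rw [← Equiv.sum_comp (MulAction.toPerm g : Equiv.Perm (Sp ⧸ H))]
    refine Finset.sum_congr rfl fun α _ => ?_
    induction α using QuotientGroup.induction_on with
    | H k =>
      show M (QuotientGroup.mk (g * k)) _ * M (QuotientGroup.mk (g * k)) _ = _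
      simp only [hMrep, act, mul_inv_rev, Submonoid.coe_mul, ← Matrix.mulVec_mulVec]
      simp only [Matrix.mulVec_mulVec (M := ((g⁻¹ : Sp) : Mat m F)), ← Submonoid.coe_mul,
        inv_mul_cancel, Submonoid.coe_one, Matrix.one_mulVec]
  have hne01 : ∀ x y : Vz m F, x ≠ y → LinearIndependent F ![x.1, y.1] := fun x y hxy => by
    rw [LinearIndependent.pair_iff' x.2]
    intro c hc
    rcases zero_or_one hF c with rfl | rfl
    · exact y.2 (by rw [← hc, zero_smul])
    · exact hxy (Subtype.ext (by rw [← hc, one_smul]))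
  have hKdiag : ∀ x, K x x = K v₀ v₀ := fun x => by
    obtain ⟨g, hg⟩ := sp_transitive v₀.2 x.2
    rw [← hKinv g v₀ v₀, show act g v₀ = x from Subtype.ext hg]
  have hKoff : ∀ x y x' y', x ≠ y → x' ≠ y' → sf x.1 y.1 = sf x'.1 y'.1 → K x y = K x' y' := by
    intro x y x' y' h h' he
    obtain ⟨g, hg⟩ := exists_sp_map ![x.1, y.1] ![x'.1, y'.1] (hne01 x y h) (hne01 x' y' h')
      (fun i j => by
        fin_cases i <;> fin_cases j <;>
          simp [sf_self, he, sf_swap y.1 x.1, sf_swap y'.1 x'.1])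
    rw [← hKinv g x y, show act g x = x' from Subtype.ext (hg 0),
      show act g y = y' from Subtype.ext (hg 1)]
  obtain ⟨kp, hkp⟩ : ∃ kp, ∀ x y : Vz m F, x ≠ y → sf x.1 y.1 = 0 → K x y = kp := by
    by_cases h : ∃ x y : Vz m F, x ≠ y ∧ sf x.1 y.1 = 0
    · obtain ⟨x', y', h', he'⟩ := h
      exact ⟨K x' y', fun x y h he => hKoff x y x' y' h h' (he.trans he'.symm)⟩
    · push Not at h
      exact ⟨0, fun x y hxy he => absurd he (h x y hxy)⟩
  obtain ⟨kn, hkn⟩ : ∃ kn, ∀ x y : Vz m F, x ≠ y → sf x.1 y.1 = 1 → K x y = kn := by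
    by_cases h : ∃ x y : Vz m F, x ≠ y ∧ sf x.1 y.1 = 1
    · obtain ⟨x', y', h', he'⟩ := h
      exact ⟨K x' y', fun x y h he => hKoff x y x' y' h h' (he.trans he'.symm)⟩
    · push Not at h
      exact ⟨0, fun x y hxy he => absurd he (h x y hxy)⟩
  set α := K v₀ v₀ - kp with hα
  set β := (kp - kn) / 2 with hβ
  set γ := (kp + kn) / 2 with hγ
  let S : Matrix (Vz m F) (Vz m F) ℚ := Matrix.of fun x y => sgn (sf x.1 y.1)
  let J : Matrix (Vz m F) (Vz m F) ℚ := Matrix.of fun _ _ => 1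
  have hK : K = α • 1 + β • S + γ • J := by
    ext x y
    simp only [Matrix.add_apply, Matrix.smul_apply, smul_eq_mul, Matrix.one_apply, S, J,
      Matrix.of_apply, mul_one]
    by_cases hxy : x = y
    · subst hxy
      rw [hKdiag, if_pos rfl, sf_self, sgn_zero, hα, hβ, hγ]
      ring
    · rw [if_neg hxy, mul_zero, zero_add]
      rcases zero_or_one hF (sf x.1 y.1) with h | h
      · rw [hkp x y hxy h, h, sgn_zero, hβ, hγ]; ring
      · rw [hkn x y hxy h, h, hβ, hγ]; simp [sgn]; ring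
  -- the algebra spanned by `1`, `S`, `J`
  set N : ℚ := 4 ^ m - 1 with hN
  have hN0 : N ≠ 0 := by
    have : (4 : ℚ) ^ 1 ≤ 4 ^ m := pow_le_pow_right₀ (by norm_num) hm
    rw [hN]; linarith [this]
  have hsym : ∀ x y : Vz m F, sgn (sf y.1 x.1) = sgn (sf x.1 y.1) := fun x y => by
    rw [sf_swap, CharTwo.neg_eq]
  have hJJ : J * J = N • J := by
    ext x z
    simp [J, Matrix.mul_apply, ← card_Vz (m := m) hF, hN]
  have hSJ : S * J = -J := by
    ext x z
    simp [S, J, Matrix.mul_apply, sum_sgn_nz hF x.1 x.2]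
  have hJS : J * S = -J := by
    ext x z
    simp only [S, J, Matrix.mul_apply, Matrix.of_apply, one_mul, Matrix.neg_apply]
    rw [Finset.sum_congr rfl (fun y _ => hsym z y), sum_sgn_nz hF z.1 z.2]
  have hSS : S * S = (4 : ℚ) ^ m • (1 : Matrix (Vz m F) (Vz m F) ℚ) - J := by
    ext x z
    simp only [S, J, Matrix.mul_apply, Matrix.of_apply, Matrix.sub_apply, Matrix.smul_apply,
      Matrix.one_apply, smul_eq_mul]
    have hterm : ∀ y : Vz m F,
        sgn (sf x.1 y.1) * sgn (sf y.1 z.1) = sgn (sf (x.1 + z.1) y.1) := fun y => by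
      rw [sf_add_left, sgn_add hF, hsym z y]
    rw [Finset.sum_congr rfl (fun y _ => hterm y)]
    by_cases hxz : x = z
    · subst hxz
      rw [if_pos rfl, add_self' hF, mul_one]
      have : ∀ y : Vz m F, sgn (sf (0 : 𝕍) y.1) = 1 := fun y => by
        rw [show sf (0 : 𝕍) y.1 = 0 by simpa using sf_smul_left (0 : F) y.1 y.1, sgn_zero]
      simp [this, ← card_Vz (m := m) hF, hN]
    · rw [if_neg hxz, mul_zero, zero_sub]
      exact sum_sgn_nz hF _ fun h => hxz (Subtype.ext (by
        calc x.1 = x.1 + z.1 + z.1 := by rw [add_assoc, add_self' hF, add_zero]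
          _ = z.1 := by rw [h, zero_add]))
  -- the eigen-projections
  let P := N⁻¹ • J
  let A := (1 : Matrix (Vz m F) (Vz m F) ℚ) - P
  let B := S + P
  have hPP : P * P = P := by
    simp [P, Matrix.smul_mul, Matrix.mul_smul, hJJ, smul_smul, inv_mul_cancel₀ hN0]
  have hSP : S * P = -P := by simp [P, Matrix.mul_smul, hSJ]
  have hPS : P * S = -P := by simp [P, Matrix.smul_mul, hJS]
  have hJ : J = N • P := by simp [P, smul_smul, mul_inv_cancel₀ hN0]
  have hPA : P * A = 0 := by simp [A, mul_sub, hPP]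
  have hAP : A * P = 0 := by simp [A, sub_mul, hPP]
  have hPB : P * B = 0 := by simp [B, mul_add, hPS, hPP]
  have hBP : B * P = 0 := by simp [B, add_mul, hSP, hPP]
  have hAA : A * A = A := by simp [A, sub_mul, mul_sub, hPP]
  have hSA : S * A = B := by simp [A, B, mul_sub, hSP, sub_neg_eq_add]
  have hAB : A * B = B := by simp [A, sub_mul, hPB]
  have hBA : B * A = B := by simp [A, mul_sub, hBP]
  have hSB : S * B = (4 : ℚ) ^ m • A := by
    simp only [B, A, mul_add, hSS, hSP, hJ, smul_sub]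
    rw [hN, sub_smul, one_smul]
    abel
  have hBB : B * B = (4 : ℚ) ^ m • A := by
    nth_rewrite 1 [show B = S + P from rfl]
    rw [add_mul, hSB, hPB, add_zero]
  have hKA : K * A = α • A + β • B := by
    simp [hK, add_mul, Matrix.smul_mul, hSA, hJ, hPA]
  have hKB : K * B = α • B + (β * 4 ^ m) • A := by
    simp [hK, add_mul, Matrix.smul_mul, hSB, hJ, hPB, smul_smul]
  have h4 : (4 : ℚ) ^ m = 2 ^ m * 2 ^ m := by rw [← mul_pow]; norm_num
  have h2m : (2 : ℚ) ^ m ≠ 0 := by positivity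
  let E : ℚ → Matrix (Vz m F) (Vz m F) ℚ := fun e => (1 / 2 : ℚ) • A + (e / (2 * 2 ^ m)) • B
  have hEE : ∀ e : ℚ, e * e = 1 → E e * E e = E e := by
    intro e he
    simp only [E, add_mul, mul_add, Matrix.smul_mul, Matrix.mul_smul, hAA, hAB, hBA, hBB, smul_smul]
    simp only [h4]
    rcases mul_self_eq_one_iff.1 he with rfl | rfl <;> match_scalars <;> field_simp <;> ring
  have hKE : ∀ e : ℚ, e * e = 1 → K * E e = (α + e * β * 2 ^ m) • E e := by
    intro e he
    simp only [E, mul_add, Matrix.mul_smul, hKA, hKB, smul_add, smul_smul]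
    simp only [h4]
    rcases mul_self_eq_one_iff.1 he with rfl | rfl <;> match_scalars <;> field_simp <;> ring
  -- positivity
  have hK0 : ∀ x y, 0 ≤ K x y := fun x y => by
    simp only [K, Matrix.mul_apply, Matrix.transpose_apply, M, Matrix.of_apply]
    exact Finset.sum_nonneg fun α _ => by split_ifs <;> norm_num
  have hv1 : M (QuotientGroup.mk (1 : Sp)) v₀ = 1 := by
    rw [hMrep, if_pos ⟨1, H.one_mem, by simp⟩]
  have hu1 : M (QuotientGroup.mk (1 : Sp)) u₀ = 0 := by
    rw [hMrep, if_neg]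
    rintro ⟨h, hh, he⟩
    exact hne h hh (by simpa using he)
  have hkk : K v₀ u₀ < K v₀ v₀ := by
    simp only [K, Matrix.mul_apply, Matrix.transpose_apply]
    refine Finset.sum_lt_sum (fun a _ => ?_) ⟨QuotientGroup.mk (1 : Sp), Finset.mem_univ _, ?_⟩
    · simp only [M, Matrix.of_apply]; split_ifs <;> norm_num
    · rw [hv1, hu1]; norm_num
  have hKpos : 0 < K v₀ v₀ := lt_of_le_of_lt (hK0 _ _) hkk
  have hrow : K * P = (α - β + γ * N) • P := by
    simp only [hK, add_mul, Matrix.smul_mul, one_mul, hSP, hJ, hPP, smul_neg, smul_smul]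
    match_scalars
    ring
  have hrow0 : α - β + γ * N ≠ 0 := by
    intro h0
    rw [h0, zero_smul] at hrow
    have h1 := congrFun (congrFun hrow v₀) v₀
    simp only [P, Matrix.mul_smul, Matrix.smul_apply, Matrix.mul_apply, J, Matrix.of_apply, mul_one,
      Matrix.zero_apply, smul_eq_mul] at h1
    have hpos : 0 < ∑ y, K v₀ y :=
      lt_of_lt_of_le hKpos (Finset.single_le_sum (fun y _ => hK0 v₀ y) (Finset.mem_univ v₀))
    rw [← Finset.sum_mul] at h1
    rcases mul_eq_zero.1 h1 with h1 | h1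
    · linarith
    · exact hN0 (inv_eq_zero.1 h1)
  obtain ⟨e, he, hlam⟩ : ∃ e : ℚ, e * e = 1 ∧ α + e * β * 2 ^ m ≠ 0 := by
    by_contra hcon
    push Not at hcon
    have h1 := hcon 1 (one_mul 1)
    have h2 := hcon (-1) (by norm_num)
    have ha : α = 0 := by linarith
    have hb : β = 0 := by
      rcases mul_eq_zero.1 (show β * 2 ^ m = 0 by linarith) with h | h
      · exact h
      · exact absurd h h2m
    have hKJ : ∀ x y, K x y = γ := fun x y => by rw [hK, ha, hb]; simp [J]
    rw [hKJ, hKJ] at hkk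
    exact lt_irrefl _ hkk
  -- rank and trace
  let Pr := E e + P
  have hEP : E e * P = 0 := by simp [E, add_mul, Matrix.smul_mul, hAP, hBP]
  have hPE : P * E e = 0 := by simp [E, mul_add, Matrix.mul_smul, hPA, hPB]
  have hidem : Pr * Pr = Pr := by
    simp [Pr, add_mul, mul_add, hEE e he, hEP, hPE, hPP]
  have hfac : Pr = K * ((α + e * β * 2 ^ m)⁻¹ • E e + (α - β + γ * N)⁻¹ • P) := by
    rw [mul_add, Matrix.mul_smul, Matrix.mul_smul, hKE e he, hrow, smul_smul, smul_smul,
      inv_mul_cancel₀ hlam, inv_mul_cancel₀ hrow0, one_smul, one_smul]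
  have hrank : Pr.rank ≤ H.index := by
    rw [hfac]
    refine (Matrix.rank_mul_le_left _ _).trans ((Matrix.rank_mul_le_right _ _).trans ?_)
    rw [Subgroup.index_eq_card, Nat.card_eq_fintype_card]
    exact Matrix.rank_le_card_height M
  have htr : Pr.trace = (Pr.rank : ℚ) := by
    have hproj : LinearMap.IsProj (LinearMap.range (Matrix.toLin' Pr)) (Matrix.toLin' Pr) := by
      refine ⟨fun x => LinearMap.mem_range_self _ x, ?_⟩
      rintro x ⟨y, rfl⟩
      rw [← LinearMap.comp_apply, ← Matrix.toLin'_mul, hidem]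
    have h := hproj.trace
    rw [Matrix.trace_toLin'_eq] at h
    rw [h]
    rfl
  have htrJ : J.trace = N := by
    simp [J, Matrix.trace, ← card_Vz (m := m) hF, hN]
  have htrS : S.trace = N := by
    simp [S, Matrix.trace, sgn_zero, sf_self, ← card_Vz (m := m) hF, hN]
  have htr1 : (1 : Matrix (Vz m F) (Vz m F) ℚ).trace = N := by
    rw [Matrix.trace_one, card_Vz hF]
  have htrP : P.trace = 1 := by
    simp [P, Matrix.trace_smul, htrJ, inv_mul_cancel₀ hN0]
  have hval : Pr.trace = 4 ^ m / 2 + e * 2 ^ m / 2 := by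
    simp only [Pr, E, A, B, Matrix.trace_add, Matrix.trace_smul, Matrix.trace_sub, htrS, htr1, htrP,
      smul_eq_mul]
    rw [hN]
    field_simp
    rw [h4]
    ring
  have hb : ((2 ^ (m - 1) * (2 ^ m - 1) : ℕ) : ℚ) ≤ Pr.rank := by
    rw [← htr, hval, Nat.cast_mul, Nat.cast_sub Nat.one_le_two_pow]
    push_cast
    have hp : (2 : ℚ) ^ m = 2 * 2 ^ (m - 1) := by rw [← pow_succ', Nat.sub_add_cancel hm]
    have he1 : -1 ≤ e := by nlinarith
    rw [h4, hp]
    nlinarith [mul_le_mul_of_nonneg_right he1 (le_of_lt (pow_pos (show (0:ℚ) < 2 by norm_num) (m - 1)))]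
  exact (Nat.cast_le.1 hb).trans hrank

end Cfsg.Agent.Symplectic.MinTwo
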