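import Cfsg.Agent.Orthogonal.Order
import Cfsg.Agent.Orthogonal.Dickson
import Cfsg.Agent.Orthogonal.MaxTSFamily

/-! Pointwise stabilisers in orthogonal groups in characteristic two. -/

set_option autoImplicit false
set_option maxHeartbeats 1000000
set_option linter.unusedSectionVars false

namespace Cfsg.Agent.Symplectic.OrthTwo

open QuadraticMap Module
open Cfsg.Agent.Orthogonal
open Cfsg.Agent.Orthogonal.IsFrame

variable {F V : Type*} [Field F] [AddCommGroup V] [Module F V] [FiniteDimensional F V]
variable {Q : QuadraticForm F V}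

/-- pairings with an independent family take all values -/
theorem exists_polar_values (hQ : Nondeg Q) {ι : Type*} [Fintype ι] {v : ι → V}
    (hv : LinearIndependent F v) (c : ι → F) : ∃ u, ∀ i, polar Q (v i) u = c i := by
  classical
  let L : V →ₗ[F] (ι → F) := LinearMap.pi fun i => Q.polarBilin (v i)
  have hker : LinearMap.ker L = Orthogonal.perp Q (Submodule.span F (Set.range v)) := by
    ext u
    rw [LinearMap.mem_ker]
    constructor
    · intro h w hw
      induction hw using Submodule.span_induction with
      | mem y hy => obtain ⟨i, rfl⟩ := hy; exact congrFun h i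
      | zero => exact polar_zero_left (Q := Q) u
      | add y z _ _ hy hz => rw [polar_add_left, hy, hz, add_zero]
      | smul a y _ hy => rw [polar_smul_left', hy, mul_zero]
    · intro h
      exact funext fun i => h _ (Submodule.subset_span ⟨i, rfl⟩)
  have h1 := LinearMap.finrank_range_add_finrank_ker L
  have h2 := hQ.finrank_add_perp (Submodule.span F (Set.range v))
  rw [finrank_span_eq_card hv] at h2
  rw [hker] at h1
  have hsurj : Function.Surjective L := LinearMap.range_eq_top.mp
    (Submodule.eq_top_of_finrank_eq (by rw [Module.finrank_pi]; omega))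
  obtain ⟨u, hu⟩ := hsurj c
  exact ⟨u, fun i => congrFun hu i⟩

theorem mem_perp_range {ι : Type*} {v : ι → V} {u : V} :
    u ∈ Orthogonal.perp Q (Submodule.span F (Set.range v)) ↔ ∀ i, polar Q (v i) u = 0 := by
  refine ⟨fun h i => h _ (Submodule.subset_span ⟨i, rfl⟩), fun h w hw => ?_⟩
  induction hw using Submodule.span_induction with
  | mem y hy => obtain ⟨i, rfl⟩ := hy; exact h i
  | zero => exact polar_zero_left (Q := Q) u
  | add y z _ _ hy hz => rw [polar_add_left, hy, hz, add_zero]
  | smul a y _ hy => rw [polar_smul_left', hy, mul_zero]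

/-- a totally singular family has a dual totally singular family -/
theorem exists_dual [CharP F 2] (hQ : Nondeg Q) {r : ℕ} {κ : Type*} [Fintype κ] {a : Fin r → V}
    {x : κ → V} (hli : LinearIndependent F (Sum.elim a x)) (hqa : ∀ i, Q (a i) = 0)
    (hpa : ∀ i j, polar Q (a i) (a j) = 0) (hax : ∀ i j, polar Q (a i) (x j) = 0) :
    ∃ f, IsFrame Q a f ∧ ∀ j, x j ∈ kernel Q a f := by
  classical
  choose u hu using fun j : Fin r =>
    exists_polar_values hQ hli (Sum.elim (Pi.single j 1) 0)
  have hua : ∀ i j, polar Q (a i) (u j) = if i = j then 1 else 0 := fun i j => by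
    have h := hu j (Sum.inl i); simpa [Pi.single_apply] using h
  have hua' : ∀ i j, polar Q (u j) (a i) = if i = j then 1 else 0 := fun i j => by
    rw [polar_comm, hua]
  have hux : ∀ k j, polar Q (x k) (u j) = 0 := fun k j => by
    have h := hu j (Sum.inr k); simpa using h
  let X : Fin r → Fin r → F := fun i j =>
    if i < j then polar Q (u i) (u j) else if i = j then Q (u j) else 0
  let f : Fin r → V := fun j => u j + ∑ i, X i j • a i
  have hsum_a : ∀ k j, polar Q (a k) (∑ i, X i j • a i) = 0 := fun k j => by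
    rw [← polarBilin_apply', map_sum]
    exact Finset.sum_eq_zero fun i _ => by rw [map_smul, polarBilin_apply', hpa, smul_zero]
  have hsum_u : ∀ k j, polar Q (u k) (∑ i, X i j • a i) = X k j := fun k j => by
    rw [← polarBilin_apply', map_sum, Finset.sum_eq_single k (fun i _ hik => by
      rw [map_smul, polarBilin_apply', hua', if_neg hik, smul_zero])
      (fun h => absurd (Finset.mem_univ _) h), map_smul, polarBilin_apply', hua', if_pos rfl]
    simp
  have hsum_x : ∀ k j, polar Q (x k) (∑ i, X i j • a i) = 0 := fun k j => by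
    rw [← polarBilin_apply', map_sum]
    exact Finset.sum_eq_zero fun i _ => by
      rw [map_smul, polarBilin_apply', polar_comm, hax, smul_zero]
  have hQsum : ∀ j, Q (∑ i, X i j • a i) = 0 := by
    intro j
    have key : ∀ S : Finset (Fin r), Q (∑ i ∈ S, X i j • a i) = 0 := by
      intro S
      induction S using Finset.induction_on with
      | empty => simp
      | insert i S hi ih =>
        rw [Finset.sum_insert hi, map_add_polar, qmap_smul, hqa, ih, polar_smul_left',
          ← polarBilin_apply' Q (a i), map_sum, Finset.sum_eq_zero fun k _ => by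
            rw [map_smul, polarBilin_apply', hpa, smul_zero]]
        simp
    exact key Finset.univ
  have hfk : ∀ k j, polar Q (f k) (f j) = polar Q (u k) (u j) + X k j + X j k := fun k j => by
    show polar Q (u k + _) (u j + _) = _
    rw [polar_add_left, polar_add_right, polar_add_right, hsum_u, polar_comm Q (∑ i, X i k • a i) (u j), hsum_u]
    have : polar Q (∑ i, X i k • a i) (∑ i, X i j • a i) = 0 := by
      rw [← polarBilin_apply', map_sum]
      refine Finset.sum_eq_zero fun i _ => ?_
      rw [map_smul, polarBilin_apply', polar_comm, hsum_a, smul_zero]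
    rw [this]; ring
  refine ⟨f, ⟨hqa, fun j => ?_, fun i j => ?_, hpa, fun i j => ?_⟩, fun k => ?_⟩
  · show Q (u j + _) = 0
    rw [map_add_polar, hQsum, hsum_u]
    simp [X, CharTwo.add_self_eq_zero]
  · show polar Q (a i) (u j + _) = _
    rw [polar_add_right, hsum_a, add_zero, hua]
  · rw [hfk]
    rcases lt_trichotomy i j with h | h | h
    · simp [X, h, h.not_gt, h.ne', CharTwo.add_self_eq_zero]
    · subst h
      simp [X, polar_self', CharTwo.two_eq_zero, CharTwo.add_self_eq_zero]
    · simp [X, h, h.not_gt, h.ne', CharTwo.add_self_eq_zero, polar_comm Q (u j) (u i)]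
  · refine mem_kernel.2 ⟨fun i => hax i k, fun j => ?_⟩
    show polar Q (u j + _) (x k) = 0
    rw [polar_add_left, polar_comm, hux, polar_comm, hsum_x, add_zero]

/-- the isometries fixing a family -/
abbrev Fix (Q : QuadraticForm F V) {ι : Type*} (v : ι → V) : Type _ :=
  {g : O Q // ∀ i, (g : V ≃ₗ[F] V) (v i) = v i}

theorem finite_O [Finite F] (Q : QuadraticForm F V) : Finite (O Q) := by
  haveI : Finite V := Module.finite_of_finite F
  exact Finite.of_injective (fun g : O Q => ((g : V ≃ₗ[F] V) : V → V))
    fun g h hgh => O.ext_app (congrFun hgh)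

/-- orbit counting -/
theorem card_fix_orbit [Finite F] {ι : Type*} (v : ι → V) (b : V) :
    Nat.card (Fix Q v) = Nat.card {b' : V // ∃ g : Fix Q v, (g.1 : V ≃ₗ[F] V) b = b'} *
      Nat.card {g : Fix Q v // (g.1 : V ≃ₗ[F] V) b = b} := by
  classical
  haveI := finite_O Q
  let π : Fix Q v → {b' : V // ∃ g : Fix Q v, (g.1 : V ≃ₗ[F] V) b = b'} := fun g => ⟨_, g, rfl⟩
  haveI : Finite V := Module.finite_of_finite F
  haveI := Fintype.ofFinite {b' : V // ∃ g : Fix Q v, (g.1 : V ≃ₗ[F] V) b = b'}
  rw [← Nat.card_congr (Equiv.sigmaFiberEquiv π), Nat.card_sigma,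
    Nat.card_eq_fintype_card (α := {b' : V // ∃ g : Fix Q v, (g.1 : V ≃ₗ[F] V) b = b'}),
    ← Finset.card_univ, ← smul_eq_mul, ← Finset.sum_const]
  refine Finset.sum_congr rfl fun w _ => ?_
  obtain ⟨g₀, hg₀⟩ := w.2
  have hinv : ∀ (g : O Q) x y, (g : V ≃ₗ[F] V) x = y → ((g⁻¹ : O Q) : V ≃ₗ[F] V) y = x :=
    fun g x y h => (LinearEquiv.symm_apply_eq _).mpr h.symm
  refine Nat.card_congr
    { toFun := fun g => ⟨⟨g₀.1⁻¹ * g.1.1, fun i => ?_⟩, ?_⟩
      invFun := fun g => ⟨⟨g₀.1 * g.1.1, fun i => ?_⟩, Subtype.ext ?_⟩
      left_inv := fun g => Subtype.ext (Subtype.ext (mul_inv_cancel_left _ _))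
      right_inv := fun g => Subtype.ext (Subtype.ext (inv_mul_cancel_left _ _)) }
  · rw [Subgroup.coe_mul, mul_app, g.1.2 i]
    exact hinv _ _ _ (g₀.2 i)
  · show (((g₀.1⁻¹ * g.1.1 : O Q) : V ≃ₗ[F] V)) b = b
    rw [Subgroup.coe_mul, mul_app]
    exact hinv _ _ _ (hg₀.trans (congrArg Subtype.val g.2).symm)
  · rw [Subgroup.coe_mul, mul_app, g.1.2 i, g₀.2 i]
  · show ((g₀.1 * g.1.1 : O Q) : V ≃ₗ[F] V) b = w.1
    rw [Subgroup.coe_mul, mul_app, g.2, hg₀]

/-- one step of the chain -/
theorem card_fix_step [Finite F] (hQ : Nondeg Q) {ι : Type*} [Fintype ι] {v : ι → V}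
    (hv : LinearIndependent F v) (i₀ : ι) (b : V) (hq : Q (v i₀) = 0)
    (h0 : ∀ i, polar Q (v i₀) (v i) = 0) (h1 : polar Q (v i₀) b = 1) :
    Nat.card (Fix Q v) = Nat.card F ^ (finrank F V - Fintype.card ι - 1) *
      Nat.card {g : Fix Q v // (g.1 : V ≃ₗ[F] V) b = b} := by
  classical
  rw [card_fix_orbit v b]
  congr 1
  set Y := Orthogonal.perp Q (Submodule.span F (Set.range v))
  have hnot : ∀ b', polar Q (v i₀) b' = 1 → b' ∉ Submodule.span F (Set.range v) := by
    intro b' hb' hmem
    have hle : v i₀ ∈ Y := mem_perp_range.2 fun i => by rw [polar_comm, h0]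
    have := hle b' hmem
    rw [polar_comm, hb'] at this
    exact one_ne_zero this
  have horb : ∀ b', (∃ g : Fix Q v, (g.1 : V ≃ₗ[F] V) b = b') ↔
      b' - b ∈ Y ∧ Q (b' - b) + polar Q b (b' - b) = 0 := by
    intro b'
    have hQb : Q b' = Q b + (Q (b' - b) + polar Q b (b' - b)) := by
      conv_lhs => rw [← add_sub_cancel b b', map_add_polar]
      ring
    constructor
    · rintro ⟨g, rfl⟩
      refine ⟨mem_perp_range.2 fun i => ?_, ?_⟩
      · rw [polar_sub_right]
        conv_lhs => arg 1; rw [← g.2 i, O.polar_app]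
        rw [sub_self]
      · rw [O.map_app] at hQb
        linear_combination -hQb
    · rintro ⟨hY, hval⟩
      have hpol : ∀ i, polar Q (v i) b' = polar Q (v i) b := fun i => by
        have := mem_perp_range.1 hY i
        rwa [polar_sub_right, sub_eq_zero] at this
      have hli : LinearIndependent F (fun o : Option ι => Option.elim o b v) :=
        linearIndependent_option.2 ⟨hv, hnot b h1⟩
      have hli' : LinearIndependent F (fun o : Option ι => Option.elim o b' v) :=
        linearIndependent_option.2 ⟨hv, hnot b' ((hpol i₀).trans h1)⟩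
      obtain ⟨g, hg⟩ := exists_map_family hQ hli hli' (fun o => by
        cases o with
        | none => show Q b' = Q b; rw [hQb, hval, add_zero]
        | some i => rfl) (fun o o' hoo => by
        cases o with
        | none => cases o' with
          | none => exact absurd rfl hoo
          | some i =>
            show polar Q b' (v i) = polar Q b (v i)
            rw [polar_comm, hpol, polar_comm]
        | some i => cases o' with
          | none => exact hpol i
          | some j => rfl)
      exact ⟨⟨g, fun i => hg (some i)⟩, hg none⟩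
  have ha : v i₀ ∈ Y := mem_perp_range.2 fun i => by rw [polar_comm, h0]
  let val : Y → F := fun y => Q (y : V) + polar Q b (y : V)
  have hval : ∀ (y : Y) (c : F), val (y + c • ⟨v i₀, ha⟩) = val y + c := fun y c => by
    have hy : polar Q (y : V) (v i₀) = 0 := by rw [polar_comm]; exact mem_perp_range.1 y.2 i₀
    show Q ((y : V) + c • v i₀) + polar Q b ((y : V) + c • v i₀) = _
    rw [map_add_polar, qmap_smul, hq, polar_smul_right', hy, polar_add_right, polar_smul_right',
      polar_comm Q b (v i₀), h1]
    ring
  have e : Y ≃ {y : Y // val y = 0} × F :=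
    { toFun := fun y => (⟨y + (-val y) • ⟨v i₀, ha⟩, by rw [hval, add_neg_cancel]⟩, val y)
      invFun := fun p => p.1.1 + p.2 • ⟨v i₀, ha⟩
      left_inv := fun y => by simp [add_assoc, ← add_smul]
      right_inv := fun p => by
        refine Prod.ext (Subtype.ext ?_) ?_
        · simp only [hval, p.1.2, zero_add]
          rw [add_assoc, ← add_smul, add_neg_cancel, zero_smul, add_zero]
        · simp only [hval, p.1.2, zero_add] }
  have hY := hQ.finrank_add_perp (Submodule.span F (Set.range v))
  rw [finrank_span_eq_card hv] at hY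
  have hY1 : 1 ≤ finrank F Y := by
    have hne : (⟨v i₀, ha⟩ : Y) ≠ 0 := fun h => hv.ne_zero i₀ (congrArg Subtype.val h)
    exact Module.finrank_pos_iff_exists_ne_zero.2 ⟨_, hne⟩
  have hc := Nat.card_congr e
  rw [Nat.card_prod, natCard_eq_pow, show finrank F Y = (finrank F Y - 1) + 1 by omega,
    pow_succ] at hc
  have horb' : Nat.card {b' : V // ∃ g : Fix Q v, (g.1 : V ≃ₗ[F] V) b = b'} =
      Nat.card {y : Y // val y = 0} := by
    refine Nat.card_congr
      { toFun := fun b' => ⟨⟨b'.1 - b, ((horb b'.1).1 b'.2).1⟩, ((horb b'.1).1 b'.2).2⟩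
        invFun := fun y => ⟨(y.1 : V) + b, (horb _).2 (by
          rw [add_sub_cancel_right]; exact ⟨y.1.2, y.2⟩)⟩
        left_inv := fun b' => Subtype.ext (sub_add_cancel _ _)
        right_inv := fun y => Subtype.ext (Subtype.ext (add_sub_cancel_right _ _)) }
  have hq0 : 0 < Nat.card F := Nat.card_pos
  rw [horb', ← Nat.eq_of_mul_eq_mul_right hq0 hc]
  congr 1
  have : finrank F V = Fintype.card ι + finrank F Y := hY.symm
  omega

theorem frame_family_li {r : ℕ} {κ : Type*} [Fintype κ] {a f : Fin r → V} {x : κ → V} (hQ : Nondeg Q)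
    (h : IsFrame Q a f) (hx : LinearIndependent F x) (hxU : ∀ j, x j ∈ kernel Q a f) :
    LinearIndependent F (Sum.elim (Sum.elim a f) x) := by
  refine h.linearIndependent.sum_type hx ?_
  refine Disjoint.mono_right ?_ (h.isCompl_kernel hQ).1
  rw [Submodule.span_le]
  rintro _ ⟨j, rfl⟩
  exact hxU j

/-- the chain down to the orthogonal of the frame -/
theorem card_fix_chain [Finite F] (hQ : Nondeg Q) {r : ℕ} {κ : Type*} [Fintype κ] {a f : Fin r → V}
    {x : κ → V} (h : IsFrame Q a f) (hx : LinearIndependent F x) (hxU : ∀ j, x j ∈ kernel Q a f) :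
    Nat.card (Fix Q (Sum.elim a x)) =
      (∏ i ∈ Finset.range r, Nat.card F ^ (finrank F V - (r + i + Fintype.card κ) - 1)) *
        Nat.card (Fix Q (Sum.elim (Sum.elim a f) x)) := by
  classical
  have hall := frame_family_li hQ h hx hxU
  suffices key : ∀ k (hk : k ≤ r), Nat.card (Fix Q (Sum.elim a x)) =
      (∏ i ∈ Finset.range k, Nat.card F ^ (finrank F V - (r + i + Fintype.card κ) - 1)) *
        Nat.card (Fix Q (Sum.elim (Sum.elim a (fun i : Fin k => f (Fin.castLE hk i))) x)) by
    simpa using key r le_rfl
  intro k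
  induction k with
  | zero =>
    intro hk
    rw [Finset.range_zero, Finset.prod_empty, one_mul]
    refine Nat.card_congr (Equiv.subtypeEquivRight fun g => ⟨fun hg => ?_, fun hg => ?_⟩)
    · rintro ((i | i) | j)
      · exact hg (Sum.inl i)
      · exact i.elim0
      · exact hg (Sum.inr j)
    · rintro (i | j)
      · exact hg (Sum.inl (Sum.inl i))
      · exact hg (Sum.inr j)
  | succ k ih =>
    intro hk
    rw [ih (by omega), Finset.prod_range_succ, mul_assoc]
    congr 1
    set v := Sum.elim (Sum.elim a (fun i : Fin k => f (Fin.castLE (by omega : k ≤ r) i))) x with hvdef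
    have hv : LinearIndependent F v := by
      have hinj : Function.Injective
          (Sum.map (Sum.map (id : Fin r → Fin r) (Fin.castLE (by omega : k ≤ r))) (id : κ → κ)) :=
        (Function.Injective.sumMap Function.injective_id (Fin.castLE_injective _)).sumMap
          Function.injective_id
      convert hall.comp _ hinj using 1
      funext o
      rcases o with (i | i) | j <;> rfl
    let k₀ : Fin r := ⟨k, hk⟩
    rw [card_fix_step hQ hv (Sum.inl (Sum.inl k₀)) (f k₀) (h.qe _) ?_ (by simp [v, h.ef])]
    · rw [show Fintype.card ((Fin r ⊕ Fin k) ⊕ κ) = r + k + Fintype.card κ by simp]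
      congr 1
      refine Nat.card_congr (Equiv.trans (Equiv.subtypeSubtypeEquivSubtypeInter
        (fun g : O Q => ∀ i, (g : V ≃ₗ[F] V) (v i) = v i)
        (fun g : O Q => (g : V ≃ₗ[F] V) (f k₀) = f k₀))
        (Equiv.subtypeEquivRight fun g => ⟨fun hg => ?_, fun hg => ⟨?_, ?_⟩⟩))
      · rintro ((i | i) | j)
        · exact hg.1 (Sum.inl (Sum.inl i))
        · induction i using Fin.lastCases with
          | last => exact hg.2
          | cast i => exact hg.1 (Sum.inl (Sum.inr i))
        · exact hg.1 (Sum.inr j)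
      · rintro ((i | i) | j)
        · exact hg (Sum.inl (Sum.inl i))
        · exact hg (Sum.inl (Sum.inr i.castSucc))
        · exact hg (Sum.inr j)
      · exact hg (Sum.inl (Sum.inr (Fin.last k)))
    · rintro ((i | i) | j)
      · exact h.ee _ _
      · show polar Q (a k₀) (f _) = 0
        rw [h.ef, if_neg]
        intro he
        have := congrArg Fin.val he
        simp [k₀] at this
        omega
      · exact (mem_kernel.1 (hxU j)).1 _

theorem prod_chain {q n r d u : ℕ} (hn : n = 2 * r + u) (hd : d ≤ u) :
    ∏ i ∈ Finset.range r, q ^ (n - (r + i + d) - 1) = q ^ (r.choose 2 + r * (u - d)) := by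
  rw [Finset.prod_pow_eq_pow_sum]
  congr 1
  have h : ∀ i ∈ Finset.range r, n - (r + i + d) - 1 = (r - 1 - i) + (u - d) := fun i hi => by
    have := Finset.mem_range.mp hi
    omega
  rw [Finset.sum_congr rfl h, Finset.sum_add_distrib, Finset.sum_range_reflect (fun i => i) r,
    Finset.sum_range_id, Finset.sum_const, Finset.card_range, smul_eq_mul, Nat.choose_two_right]

/-- fixing the frame, one works in its orthogonal -/
theorem card_fix_frame (hQ : Nondeg Q) {r : ℕ} {κ : Type*} {a f : Fin r → V} {x : κ → V}
    (h : IsFrame Q a f) (y : κ → kernel Q a f) (hy : ∀ j, (y j : V) = x j) :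
    Nat.card (Fix Q (Sum.elim (Sum.elim a f) x)) = Nat.card (Fix (restr Q (kernel Q a f)) y) := by
  have hU := h.nondeg_kernel hQ
  have hperp : Orthogonal.perp Q (kernel Q a f) = hspan (F := F) a f := hQ.perp_perp _
  let φ : Fix (restr Q (kernel Q a f)) y → Fix Q (Sum.elim (Sum.elim a f) x) := fun c =>
    ⟨extendO hQ hU c.1, by
      rintro (i | j)
      · refine extendO_app_perp hQ hU _ ?_
        rw [hperp]
        exact Submodule.subset_span ⟨i, rfl⟩
      · show (extendO hQ hU c.1 : V ≃ₗ[F] V) (x j) = x j
        rw [← hy, extendO_app, c.2 j]⟩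
  refine (Nat.card_eq_of_bijective φ ⟨fun c c' hcc => Subtype.ext (extendO_injective hQ hU
    (congrArg Subtype.val hcc)), fun g => ?_⟩).symm
  have hmem : g.1 ∈ (extendO hQ hU).range := by
    rw [mem_range_extendO]
    intro z hz
    rw [hperp] at hz
    induction hz using Submodule.span_induction with
    | mem w hw => obtain ⟨i, rfl⟩ := hw; exact g.2 (Sum.inl i)
    | zero => exact map_zero _
    | add w w' _ _ hw hw' => rw [map_add, hw, hw']
    | smul c w _ hw => rw [map_smul, hw]
  obtain ⟨c, hc⟩ := hmem
  refine ⟨⟨c, fun j => Subtype.ext ?_⟩, Subtype.ext hc⟩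
  rw [← extendO_app hQ hU, hc, hy]
  exact g.2 (Sum.inr j)

/-- frames extend to frames with anisotropic kernel -/
theorem frame_extend (hQ : Nondeg Q) [Finite F] {r w : ℕ} {a f : Fin r → V} (h : IsFrame Q a f)
    {e₀ f₀ : Fin w → V} (h₀ : IsFrame Q e₀ f₀) (ha₀ : Aniso Q (kernel Q e₀ f₀)) :
    r ≤ w ∧ ∃ e' f' : Fin (w - r) → kernel Q a f,
      IsFrame (restr Q (kernel Q a f)) e' f' ∧
        Aniso (restr Q (kernel Q a f)) (kernel (restr Q (kernel Q a f)) e' f') := by
  obtain ⟨k, e', f', h', ha'⟩ := (h.nondeg_kernel hQ).exists_frame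
  let E : Fin (r + k) → V := Fin.append a (fun i => (e' i : V))
  let G : Fin (r + k) → V := Fin.append f (fun i => (f' i : V))
  have hk1 : ∀ (i : Fin r) (z : kernel Q a f), polar Q (a i) (z : V) = 0 :=
    fun i z => (mem_kernel.1 z.2).1 i
  have hk2 : ∀ (i : Fin r) (z : kernel Q a f), polar Q (f i) (z : V) = 0 :=
    fun i z => (mem_kernel.1 z.2).2 i
  have hE : IsFrame Q E G := by
    refine ⟨fun i => ?_, fun i => ?_, fun i j => ?_, fun i j => ?_, fun i j => ?_⟩
    · induction i using Fin.addCases with
      | left i => simp [E, h.qe]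
      | right i => simpa [E] using h'.qe i
    · induction i using Fin.addCases with
      | left i => simp [G, h.qf]
      | right i => simpa [G] using h'.qf i
    all_goals induction i using Fin.addCases with
      | left i => induction j using Fin.addCases with
        | left j => simp [E, G, h.ef, h.ee, h.ff, Fin.ext_iff]
        | right j =>
          simp [E, G, hk1, hk2, Fin.ext_iff]
          try omega
      | right i => induction j using Fin.addCases with
        | left j =>
          simp [E, G, polar_comm (⇑Q) _ (a j), polar_comm (⇑Q) _ (f j), hk1, hk2, Fin.ext_iff]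
          try omega
        | right j => simp [E, G, ← polar_restr, h'.ef, h'.ee, h'.ff, Fin.ext_iff]
  have haE : Aniso Q (kernel Q E G) := by
    intro z hz hQz
    obtain ⟨h1, h2⟩ := mem_kernel.1 hz
    have hzU : z ∈ kernel Q a f := mem_kernel.2
      ⟨fun i => by simpa [E] using h1 (Fin.castAdd k i),
        fun i => by simpa [G] using h2 (Fin.castAdd k i)⟩
    have := ha' ⟨z, hzU⟩ (mem_kernel.2 ⟨fun i => by
      rw [polar_restr]; simpa [E] using h1 (Fin.natAdd r i), fun i => by
      rw [polar_restr]; simpa [G] using h2 (Fin.natAdd r i)⟩) hQz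
    exact congrArg Subtype.val this
  have hlen := frame_length_eq hQ hE haE h₀ ha₀
  obtain rfl : k = w - r := by omega
  exact ⟨by omega, e', f', h', ha'⟩

end Cfsg.Agent.Symplectic.OrthTwo
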