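import Cfsg.Agent.Symplectic.RationalOdd

/-! Characteristic two: a transvection subgroup over a rational structure determines the vector. -/

set_option autoImplicit false

namespace Cfsg.Agent.Symplectic

open scoped MatrixGroups Matrix
open Matrix Cfsg.Agent.H95

variable {ι : Type} [Fintype ι] [DecidableEq ι] {F : Type*} [Field F]
  {f : (ι → F) → (ι → F) → F} {F₀ : Subfield F} {V₀ : AddSubgroup (ι → F)}
  {M : Subgroup (GL ι F)}

namespace RatForm

variable (R : RatForm f F₀ V₀) (hS : ∀ c ∈ F₀, InA R.symp V₀ M c)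
include hS

set_option maxHeartbeats 1000000 in
/-- A new parameter from two orthogonal rational planes. -/
theorem two_param [CharP F 2] (hn : 6 ≤ Fintype.card ι) {w : ι → F}
    (hw : rt R.symp w 1 ∈ M) {a a' u u' : ι → F} (ha : a ∈ V₀) (ha' : a' ∈ V₀) (hu : u ∈ V₀)
    (hu' : u' ∈ V₀) (hA : f a a' = 1) (hU : f u u' = 1) (au : f a u = 0) (au' : f a u' = 0)
    (a'u : f a' u = 0) (a'u' : f a' u' = 0) :
    InA R.symp V₀ M ((f w a * f w u) ^ 2) := by
  have hf := R.symp
  have two : (2 : F) = 0 := CharTwo.two_eq_zero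
  have sy : ∀ x y : ι → F, f x y = f y x := fun x y => by rw [f_skew hf, CharTwo.neg_eq]
  have th1 : ∀ {x y : ι → F}, x ∈ V₀ → y ∈ V₀ → th hf x y 1 ∈ M := fun hx hy =>
    th_mem (hS 1 F₀.one_mem) hx hy
  obtain ⟨v, hv, v', hv', hV, vu, vu', va, va', v'u, v'u', v'a, v'a'⟩ :=
    R.exists_plane₂ hn hu hu' ha ha' hU hA au au' a'u a'u'
  have uv : f u v = 0 := f_symm_zero hf vu
  have uv' : f u v' = 0 := f_symm_zero hf v'u
  have u'v : f u' v = 0 := f_symm_zero hf vu'
  have u'v' : f u' v' = 0 := f_symm_zero hf v'u'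
  have av : f a v = 0 := f_symm_zero hf va
  have av' : f a v' = 0 := f_symm_zero hf v'a
  have a'v : f a' v = 0 := f_symm_zero hf va'
  have a'v' : f a' v' = 0 := f_symm_zero hf v'a'
  have ua : f u a = 0 := f_symm_zero hf au
  have u'a : f u' a = 0 := f_symm_zero hf au'
  have ua' : f u a' = 0 := f_symm_zero hf a'u
  have u'a' : f u' a' = 0 := f_symm_zero hf a'u'
  have V'v : f v' v = 1 := by rw [sy, hV]
  have U'u : f u' u = 1 := by rw [sy, hU]
  have A'a : f a' a = 1 := by rw [sy, hA]
  set p := f w v with hp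
  set q := f w u with hq
  set μ := f w a with hμ
  set z := p • u + q • v with hz
  have wz : f w z = 0 := by
    rw [hz, f_add_right hf, f_smul_right hf, f_smul_right hf, ← hp, ← hq]
    linear_combination (p * q) * two
  have za : f z a = 0 := by rw [hz, f_add_left hf, f_smul_left hf, f_smul_left hf, ua, va]; ring
  have az : f a z = 0 := f_symm_zero hf za
  have zu : f z u = 0 := by
    rw [hz, f_add_left hf, f_smul_left hf, f_smul_left hf, f_self hf, vu]; ring
  have uz : f u z = 0 := f_symm_zero hf zu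
  -- `k`
  have hk : th hf w z 1 * rt hf z 1 ∈ M := by
    have h1 := M.mul_mem hw (conj_mem (th1 hu hv) hw)
    rw [conj_rt hf (th_mem_iso hf _ _ _), th_mulVec hf uv] at h1
    convert h1 using 1
    refine gl_ext fun x => ?_
    rw [show w + (1 * f w u) • v + (1 * f w v) • u = w + z by rw [hz, ← hp, ← hq]; module]
    simp only [mul_mulVec, rt_mulVec hf, th_mulVec hf wz, f_add_left hf, f_add_right hf,
      f_smul_left hf, f_self hf, wz, f_symm_zero hf wz]
    match_scalars <;> grind
  -- `k2`
  set c1 := μ ^ 2 * q with hc1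
  have hk2 : th hf a z μ * rt hf z (μ ^ 2) ∈ M := by
    have h1 := M.mul_mem (conj_mem (R.rt1_mem hS ha) hk) hk
    have h : f (w + μ • a) z = 0 := by
      rw [f_add_left hf, f_smul_left hf, wz, az]; ring
    rw [show ∀ g x y : GL ι F, g * (x * y) * g⁻¹ = g * x * g⁻¹ * (g * y * g⁻¹) from
        fun g x y => by group, conj_th hf (rt_mem_iso hf _ _), conj_rt hf (rt_mem_iso hf _ _),
      rt_fix hf za, rt_mulVec hf a 1 w, ← hμ, one_mul] at h1
    convert h1 using 1
    refine gl_ext fun x => ?_
    simp only [mul_mulVec, rt_mulVec hf, th_mulVec hf wz, th_mulVec hf h, th_mulVec hf az,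
      f_add_left hf, f_add_right hf, f_smul_left hf, f_smul_right hf, f_self hf, wz,
      f_symm_zero hf wz, az, za, sy a w, ← hμ]
    match_scalars <;> grind
  -- `D`
  set c := μ ^ 2 * q ^ 2 with hc
  have hD : rt hf a c * th hf a z c1 ∈ M := by
    have h1 := M.mul_mem hk2 (conj_mem (th1 ha hv') hk2)
    have ea : (th hf a v' 1 : Matrix ι ι F) *ᵥ a = a := by
      rw [th_mulVec hf av', f_self hf, av']; module
    have eu : (th hf a v' 1 : Matrix ι ι F) *ᵥ u = u := by
      rw [th_mulVec hf av', ua, uv']; module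
    have ev : (th hf a v' 1 : Matrix ι ι F) *ᵥ v = v + a := by
      rw [th_mulVec hf av', va, hV]; module
    have ez : (th hf a v' 1 : Matrix ι ι F) *ᵥ z = z + q • a := by
      rw [hz, mulVec_add, mulVec_smul, mulVec_smul, eu, ev]; module
    have h : f a (z + q • a) = 0 := by rw [f_add_right hf, f_smul_right hf, az, f_self hf]; ring
    rw [show ∀ g x y : GL ι F, g * (x * y) * g⁻¹ = g * x * g⁻¹ * (g * y * g⁻¹) from
        fun g x y => by group, conj_th hf (th_mem_iso hf _ _ _), conj_rt hf (th_mem_iso hf _ _ _),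
      ea, ez] at h1
    convert h1 using 1
    refine gl_ext fun x => ?_
    simp only [hc, hc1, mul_mulVec, rt_mulVec hf, th_mulVec hf az, th_mulVec hf h,
      f_add_left hf, f_add_right hf, f_smul_left hf, f_smul_right hf, f_self hf, az, za]
    match_scalars <;> grind
  have ez2 : ∀ {g : GL ι F} {d : ι → F}, (g : Matrix ι ι F) *ᵥ u = u →
      (g : Matrix ι ι F) *ᵥ v = v + d → (g : Matrix ι ι F) *ᵥ z = z + q • d := by
    intro g d e1 e2
    rw [hz, mulVec_add, mulVec_smul, mulVec_smul, e1, e2]; module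
  -- `th a u c`
  have hau : th hf a u c ∈ M := by
    have h1 := M.mul_mem hD (conj_mem (th1 hu hv') hD)
    have ea : (th hf u v' 1 : Matrix ι ι F) *ᵥ a = a := by
      rw [th_mulVec hf uv', au, av']; module
    have eu : (th hf u v' 1 : Matrix ι ι F) *ᵥ u = u := by
      rw [th_mulVec hf uv', f_self hf, uv']; module
    have ev : (th hf u v' 1 : Matrix ι ι F) *ᵥ v = v + u := by
      rw [th_mulVec hf uv', vu, hV]; module
    have h : f a (z + q • u) = 0 := by rw [f_add_right hf, f_smul_right hf, az, au]; ring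
    rw [show ∀ g x y : GL ι F, g * (x * y) * g⁻¹ = g * x * g⁻¹ * (g * y * g⁻¹) from
        fun g x y => by group, conj_th hf (th_mem_iso hf _ _ _), conj_rt hf (th_mem_iso hf _ _ _),
      ea, ez2 eu ev] at h1
    convert h1 using 1
    refine gl_ext fun x => ?_
    simp only [hc, hc1, mul_mulVec, rt_mulVec hf, th_mulVec hf az, th_mulVec hf h, th_mulVec hf au,
      f_add_left hf, f_add_right hf, f_smul_left hf, f_smul_right hf, f_self hf, az, za, au, ua, uz, zu]
    match_scalars <;> grind
  -- `th a v c`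
  have hav : th hf a v c ∈ M := by
    have h1 := M.mul_mem hau (conj_mem (th1 hv hu') hau)
    have ea : (th hf v u' 1 : Matrix ι ι F) *ᵥ a = a := by
      rw [th_mulVec hf vu', av, au']; module
    have eu : (th hf v u' 1 : Matrix ι ι F) *ᵥ u = u + v := by
      rw [th_mulVec hf vu', uv, hU]; module
    have h : f a (u + v) = 0 := by rw [f_add_right hf, au, av, add_zero]
    rw [conj_th hf (th_mem_iso hf _ _ _), ea, eu] at h1
    convert h1 using 1
    refine gl_ext fun x => ?_
    simp only [mul_mulVec, th_mulVec hf av, th_mulVec hf h, th_mulVec hf au,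
      f_add_left hf, f_add_right hf, f_smul_left hf, f_self hf, au, ua, av, va]
    match_scalars <;> grind
  -- `E`
  have hE : rt hf a c * th hf a u (c1 * p) ∈ M := by
    have h1 := M.mul_mem hD hav
    convert h1 using 1
    refine gl_ext fun x => ?_
    simp only [hc, hc1, mul_mulVec, rt_mulVec hf, th_mulVec hf az, th_mulVec hf au,
      th_mulVec hf av, f_add_left hf, f_add_right hf, f_smul_left hf, f_smul_right hf, f_self hf,
      au, ua, av, va, az, za]
    simp only [hz, f_add_right hf, f_smul_right hf, f_self hf, vu, uv, av, au, va, ua]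
    match_scalars <;> grind
  have hau0 : a ≠ 0 := by rintro rfl; simp [f_zero_left hf] at hA
  have hu0 : u ≠ 0 := by rintro rfl; simp [f_zero_left hf] at hU
  have hfinal : rt hf u c ∈ M := by
    have h1 := M.mul_mem (M.mul_mem (conj_mem (th1 hu ha') hE) hE) hau
    have ea : (th hf u a' 1 : Matrix ι ι F) *ᵥ a = a + u := by
      rw [th_mulVec hf ua', au, hA]; module
    have eu : (th hf u a' 1 : Matrix ι ι F) *ᵥ u = u := by
      rw [th_mulVec hf ua', f_self hf, ua']; module
    have h : f (a + u) u = 0 := by rw [f_add_left hf, au, f_self hf, add_zero]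
    rw [show ∀ g x y : GL ι F, g * (x * y) * g⁻¹ = g * x * g⁻¹ * (g * y * g⁻¹) from
        fun g x y => by group, conj_th hf (th_mem_iso hf _ _ _), conj_rt hf (th_mem_iso hf _ _ _),
      ea, eu] at h1
    convert h1 using 1
    refine gl_ext fun x => ?_
    simp only [mul_mulVec, rt_mulVec hf, th_mulVec hf au, th_mulVec hf h, f_add_left hf,
      f_add_right hf, f_smul_left hf, f_self hf, au, ua]
    match_scalars <;> grind
  rw [mul_pow]
  exact inA_of_one R hS hu hu0 hfinal

/-- If no new parameters occur, then the vector is rational. -/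
theorem two_rational [CharP F 2] [Finite F] (hn : 6 ≤ Fintype.card ι)
    (hA : ∀ a, InA R.symp V₀ M a → a ∈ F₀) {w : ι → F} (hw : rt R.symp w 1 ∈ M) : w ∈ V₀ := by
  have hf := R.symp
  have hsq : ∀ x : F, x ^ 2 ∈ F₀ → x ∈ F₀ := by
    intro x hx
    obtain ⟨s, hs⟩ := ((Finite.injective_iff_surjective
      (f := fun s : F₀ => s ^ 2)).1 (fun a b h => by
        apply Subtype.ext
        exact frobenius_inj F 2 (congrArg Subtype.val h))) ⟨x ^ 2, hx⟩
    have : (s : F) = x := frobenius_inj F 2 (congrArg Subtype.val hs)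
    exact this ▸ s.2
  refine R.dual w fun u hu => ?_
  rcases eq_or_ne u 0 with rfl | hu0
  · rw [f_zero_right hf]; exact F₀.zero_mem
  obtain ⟨u', hu', hU⟩ := R.exists_partner hu hu0
  obtain ⟨x, hx, x', hx', hX, xu, xu', x'u, x'u'⟩ := R.exists_plane hn hu hu' hU
  have p1 := hsq _ (hA _ (R.two_param hS hn hw hx hx' hu hu' hX hU xu xu' x'u x'u'))
  have p2 := hsq _ (hA _ (R.two_param hS hn hw (V₀.add_mem hx hu) hx' hu (V₀.sub_mem hu' hx')
    (by rw [f_add_left hf, hX, f_symm_zero hf x'u, add_zero])
    (by rw [f_sub_right hf, hU, f_symm_zero hf x'u, sub_zero])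
    (by rw [f_add_left hf, xu, f_self hf, add_zero])
    (by rw [f_add_left hf, f_sub_right hf, f_sub_right hf, xu', hX, hU, f_symm_zero hf x'u]; ring)
    x'u (by rw [f_sub_right hf, x'u', f_self hf, sub_zero])))
  refine hsq _ ?_
  have := F₀.sub_mem p2 p1
  rw [f_add_right hf] at this
  convert this using 1
  ring

end RatForm

end Cfsg.Agent.Symplectic
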