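import Cfsg.Agent.Symplectic.RationalBasic
import Cfsg.Agent.H95.SubspaceStab

/-! A symplectic form with a skew-adjoint square root of a non-square: rotations of complex lines. -/

set_option autoImplicit false

namespace Cfsg.Agent.Symplectic

open scoped MatrixGroups Matrix
open Matrix Cfsg.Agent.H95

variable {ι : Type} [Fintype ι] [DecidableEq ι] {F : Type*} [Field F]

/-- `j` is skew-adjoint with non-square square `d`. -/
structure SkewStr (f : (ι → F) → (ι → F) → F) (j : Matrix ι ι F) (d : F) : Prop where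
  symp : Geo.IsSymplecticForm f
  sq : ∀ x, j *ᵥ (j *ᵥ x) = d • x
  nsq : ∀ s : F, s ^ 2 ≠ d
  skew : ∀ x y, f (j *ᵥ x) y = -f x (j *ᵥ y)

/-- a vector orthogonal to a subspace, pairing to one with a vector outside -/
theorem exists_sep {f : (ι → F) → (ι → F) → F} (hf : Geo.IsSymplecticForm f)
    (U : Submodule F (ι → F)) {v : ι → F} (hv : v ∉ U) :
    ∃ z, (∀ w ∈ U, f w z = 0) ∧ f v z = 1 := by
  obtain ⟨φ, h1, h2⟩ := exists_covec U hv
  obtain ⟨c, hc⟩ := exists_dv hf φ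
  exact ⟨c, fun w hw => by rw [← dv_dot hf, hc, h2 w hw], by rw [← dv_dot hf, hc, h1]⟩

variable {f : (ι → F) → (ι → F) → F} {j : Matrix ι ι F} {d : F}

namespace SkewStr

variable (C : SkewStr f j d)
include C

theorem f_jj (x y : ι → F) : f (j *ᵥ x) (j *ᵥ y) = -(d * f x y) := by
  rw [C.skew, C.sq, f_smul_right C.symp]

theorem h_symm (x y : ι → F) : f x (j *ᵥ y) = f y (j *ᵥ x) := by
  rw [f_skew C.symp x, C.skew, neg_neg]

theorem d_ne : d ≠ 0 := fun h => C.nsq 0 (by rw [h]; ring)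

theorem den_ne (t : F) : 1 - d * t ^ 2 ≠ 0 := by
  intro h
  rcases eq_or_ne t 0 with rfl | ht
  · simp at h
  · exact C.nsq t⁻¹ (by field_simp; linear_combination h)

theorem norm_ne {a : ι → F} (h : f a (j *ᵥ a) ≠ 0) : a ≠ 0 := by
  rintro rfl; exact h (f_zero_left C.symp _)

/-- `j x` is never proportional to `x` -/
theorem j_ne_smul {x : ι → F} (hx : x ≠ 0) (s : F) : j *ᵥ x ≠ s • x := by
  intro h
  have h1 := C.sq x
  rw [h, mulVec_smul, h, smul_smul] at h1
  have : (s * s - d) • x = 0 := by rw [sub_smul, h1, sub_self]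
  exact C.nsq s (by linear_combination (smul_eq_zero.1 this).resolve_right hx)

end SkewStr

/-- projection to the line of `a` -/
def cproj (f : (ι → F) → (ι → F) → F) (j : Matrix ι ι F) (a x : ι → F) : ι → F :=
  (f a (j *ᵥ a))⁻¹ • (f x (j *ᵥ a) • a - f x a • (j *ᵥ a))

/-- rotation parameter -/
def cα (d t : F) : F := (1 + d * t ^ 2) / (1 - d * t ^ 2)

/-- rotation parameter -/
def cβ (d t : F) : F := 2 * t / (1 - d * t ^ 2)

theorem neg2_apply (hf : Geo.IsSymplecticForm f) {u v : ι → F} (h : f u v = 1) (x : ι → F) :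
    (neg2 hf u v : Matrix ι ι F) *ᵥ x = x - (2 : F) • (f x v • u - f x u • v) := by
  have e : x = (x - (f x v • u - f x u • v)) + (f x v • u - f x u • v) := by abel
  have p1 : f (x - (f x v • u - f x u • v)) u = 0 := by
    simp only [f_sub_left hf, f_smul_left hf, f_self hf, f_skew hf v u, h]; ring
  have p2 : f (x - (f x v • u - f x u • v)) v = 0 := by
    simp only [f_sub_left hf, f_smul_left hf, f_self hf, h]; ring
  conv_lhs => rw [e]
  rw [mulVec_add, neg2_fix hf p1 p2, mulVec_sub, mulVec_smul, mulVec_smul, neg2_left hf h,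
    neg2_right hf h]
  module

namespace SkewStr

variable (C : SkewStr f j d)

/-- rotation of the line of `a` -/
def rot (a : ι → F) (t : F) : GL ι F :=
  rt C.symp a (-(d * t) / f a (j *ᵥ a)) * rt C.symp (j *ᵥ a) (cβ d t / f a (j *ᵥ a)) *
    rt C.symp a (-(d * t) / f a (j *ᵥ a))

include C

theorem rot_mem_iso (a : ι → F) (t : F) : C.rot a t ∈ isoGrp f :=
  Subgroup.mul_mem _ (Subgroup.mul_mem _ (rt_mem_iso _ _ _) (rt_mem_iso _ _ _)) (rt_mem_iso _ _ _)

theorem rot_fix {a x : ι → F} (h1 : f x a = 0) (h2 : f x (j *ᵥ a) = 0) (t : F) :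
    (C.rot a t : Matrix ι ι F) *ᵥ x = x := by
  simp only [rot, mul_mulVec, rt_fix C.symp h1, rt_fix C.symp h2]

theorem rot_left {a : ι → F} (ha : f a (j *ᵥ a) ≠ 0) (t : F) :
    (C.rot a t : Matrix ι ι F) *ᵥ a = cα d t • a + cβ d t • (j *ᵥ a) := by
  have hd := C.den_ne t
  have hd' : 1 - t ^ 2 * d ≠ 0 := by rwa [mul_comm]
  simp only [rot, mul_mulVec, rt_mulVec C.symp, f_add_left C.symp, f_smul_left C.symp,
    f_self C.symp, f_skew C.symp (j *ᵥ a) a, cα, cβ]
  match_scalars <;> field_simp <;> ring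

theorem rot_right {a : ι → F} (ha : f a (j *ᵥ a) ≠ 0) (t : F) :
    (C.rot a t : Matrix ι ι F) *ᵥ (j *ᵥ a) =
      (d * cβ d t) • a + cα d t • (j *ᵥ a) := by
  have hd := C.den_ne t
  have hd' : 1 - t ^ 2 * d ≠ 0 := by rwa [mul_comm]
  simp only [rot, mul_mulVec, rt_mulVec C.symp, f_add_left C.symp, f_smul_left C.symp,
    f_self C.symp, f_skew C.symp (j *ᵥ a) a, cα, cβ]
  match_scalars <;> field_simp <;> ring

theorem cproj_orth_left {a : ι → F} (ha : f a (j *ᵥ a) ≠ 0) (x : ι → F) :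
    f (x - cproj f j a x) a = 0 := by
  simp only [cproj, f_sub_left C.symp, f_smul_left C.symp, f_self C.symp,
    f_skew C.symp (j *ᵥ a) a]
  field_simp
  ring

theorem cproj_orth_right {a : ι → F} (ha : f a (j *ᵥ a) ≠ 0) (x : ι → F) :
    f (x - cproj f j a x) (j *ᵥ a) = 0 := by
  simp only [cproj, f_sub_left C.symp, f_smul_left C.symp, f_self C.symp]
  field_simp
  ring

theorem j_cproj (a x : ι → F) : j *ᵥ cproj f j a x = cproj f j a (j *ᵥ x) := by
  simp only [cproj, mulVec_smul, mulVec_sub, C.sq, C.f_jj, C.skew]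
  module

theorem rot_apply {a : ι → F} (ha : f a (j *ᵥ a) ≠ 0) (t : F) (x : ι → F) :
    (C.rot a t : Matrix ι ι F) *ᵥ x =
      x + (cα d t - 1) • cproj f j a x + cβ d t • (j *ᵥ cproj f j a x) := by
  conv_lhs => rw [← sub_add_cancel x (cproj f j a x)]
  rw [mulVec_add, C.rot_fix (C.cproj_orth_left ha x) (C.cproj_orth_right ha x)]
  simp only [cproj, mulVec_smul, mulVec_sub, C.rot_left ha, C.rot_right ha, C.sq]
  module

theorem rot_comm {a : ι → F} (ha : f a (j *ᵥ a) ≠ 0) (t : F) (x : ι → F) :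
    j *ᵥ ((C.rot a t : Matrix ι ι F) *ᵥ x) = (C.rot a t : Matrix ι ι F) *ᵥ (j *ᵥ x) := by
  rw [C.rot_apply ha, C.rot_apply ha, mulVec_add, mulVec_add, mulVec_smul, mulVec_smul,
    C.j_cproj a x]

theorem refl_apply {a : ι → F} (ha : f a (j *ᵥ a) ≠ 0) (x : ι → F) :
    (neg2 C.symp a ((f a (j *ᵥ a))⁻¹ • (j *ᵥ a)) : Matrix ι ι F) *ᵥ x =
      x - (2 : F) • cproj f j a x := by
  rw [neg2_apply C.symp (by rw [f_smul_right C.symp, inv_mul_cancel₀ ha])]
  simp only [cproj, f_smul_right C.symp]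
  module

theorem refl_comm {a : ι → F} (ha : f a (j *ᵥ a) ≠ 0) (x : ι → F) :
    j *ᵥ ((neg2 C.symp a ((f a (j *ᵥ a))⁻¹ • (j *ᵥ a)) : Matrix ι ι F) *ᵥ x) =
      (neg2 C.symp a ((f a (j *ᵥ a))⁻¹ • (j *ᵥ a)) : Matrix ι ι F) *ᵥ (j *ᵥ x) := by
  rw [C.refl_apply ha, C.refl_apply ha, mulVec_sub, mulVec_smul, C.j_cproj a x]

/-- an anisotropic vector in the orthogonal of a line, off another vector -/
theorem exists_aniso (h2 : (2 : F) ≠ 0) (hn : 6 ≤ Fintype.card ι) {u v : ι → F}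
    (hv : v ∉ Submodule.span F {u, j *ᵥ u}) :
    ∃ b, f b (j *ᵥ b) ≠ 0 ∧ f u b = 0 ∧ f u (j *ᵥ b) = 0 ∧ (f v b ≠ 0 ∨ f v (j *ᵥ b) ≠ 0) := by
  have hf := C.symp
  set U := Submodule.span F ({u, j *ᵥ u} : Set (ι → F)) with hU
  have perp : ∀ z, (∀ w ∈ U, f w z = 0) → f u z = 0 ∧ f u (j *ᵥ z) = 0 := fun z hz =>
    ⟨hz _ (Submodule.subset_span (by simp)), by
      rw [← neg_eq_zero, ← C.skew]; exact hz _ (Submodule.subset_span (by simp))⟩
  obtain ⟨z, hz, hvz⟩ := exists_sep hf U hv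
  obtain ⟨z1, z2⟩ := perp z hz
  -- an anisotropic vector orthogonal to `u` and `j u`
  obtain ⟨c, c0, c1, c2⟩ : ∃ c, f c (j *ᵥ c) ≠ 0 ∧ f u c = 0 ∧ f u (j *ᵥ c) = 0 := by
    by_contra hcon
    push Not at hcon
    let L : (ι → F) →ₗ[F] (Fin 2 → F) :=
      { toFun := fun x => ![f u x, f u (j *ᵥ x)]
        map_add' := fun x y => by ext i; fin_cases i <;> simp [f_add_right hf, mulVec_add]
        map_smul' := fun t x => by ext i; fin_cases i <;> simp [f_smul_right hf, mulVec_smul] }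
    have hker : ∀ x, x ∈ L.ker → f u x = 0 ∧ f u (j *ᵥ x) = 0 := fun x hx =>
      ⟨congrFun (LinearMap.mem_ker.1 hx) 0, congrFun (LinearMap.mem_ker.1 hx) 1⟩
    have htot : ∀ x ∈ L.ker, ∀ y ∈ L.ker, f x (j *ᵥ y) = 0 := by
      intro x hx y hy
      have q : ∀ x ∈ L.ker, f x (j *ᵥ x) = 0 := fun x hx => by
        by_contra h
        exact hcon x h (hker x hx).1 (hker x hx).2
      have := q _ (L.ker.add_mem hx hy)
      simp only [mulVec_add, f_add_left hf, f_add_right hf, q x hx, q y hy, C.h_symm y x] at this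
      exact (mul_eq_zero.1 (show (2 : F) * f x (j *ᵥ y) = 0 by linear_combination this)).resolve_left h2
    obtain ⟨w, hw, hwU⟩ : ∃ w ∈ L.ker, w ∉ U := by
      by_contra h
      push Not at h
      have h1 := Submodule.finrank_mono (show L.ker ≤ U from h)
      have h3 := LinearMap.finrank_range_add_finrank_ker L
      have h4 := Submodule.finrank_le (LinearMap.range L)
      rw [Module.finrank_fintype_fun_eq_card] at h3
      rw [Module.finrank_fin_fun] at h4
      classical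
      have h5 := finrank_span_finset_le_card (R := F) ({u, j *ᵥ u} : Finset (ι → F))
      rw [Set.finrank, Finset.coe_insert, Finset.coe_singleton, ← hU] at h5
      have h6 := (Finset.card_le_two (a := u) (b := j *ᵥ u))
      omega
    obtain ⟨y, hy, hwy⟩ := exists_sep hf U hwU
    obtain ⟨y1, y2⟩ := perp y hy
    have hy' : d⁻¹ • (j *ᵥ y) ∈ L.ker := LinearMap.mem_ker.2 (by
      ext i; fin_cases i <;> simp [L, f_smul_right hf, mulVec_smul, C.sq, y1, y2])
    have := htot w hw _ hy'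
    rw [mulVec_smul, C.sq, smul_smul, inv_mul_cancel₀ C.d_ne, one_smul, hwy] at this
    exact one_ne_zero this
  by_cases hc : f v c ≠ 0 ∨ f v (j *ᵥ c) ≠ 0
  · exact ⟨c, c0, c1, c2, hc⟩
  push Not at hc
  by_cases hzz : f z (j *ᵥ z) ≠ 0
  · exact ⟨z, hzz, z1, z2, .inl (by rw [hvz]; exact one_ne_zero)⟩
  push Not at hzz
  by_cases hp : f (z + c) (j *ᵥ (z + c)) ≠ 0
  · exact ⟨z + c, hp, by simp [f_add_right hf, z1, c1], by simp [mulVec_add, f_add_right hf, z2, c2],
      .inl (by simp [f_add_right hf, hvz, hc.1])⟩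
  push Not at hp
  refine ⟨z - c, fun hm => c0 ?_, by simp [f_sub_right hf, z1, c1],
    by simp [mulVec_sub, f_sub_right hf, z2, c2], .inl (by simp [f_sub_right hf, hvz, hc.1])⟩
  simp only [mulVec_add, mulVec_sub, f_add_left hf, f_add_right hf, f_sub_left hf, f_sub_right hf,
    hzz, C.h_symm c z] at hp hm
  exact (mul_eq_zero.1 (show (2 : F) * f c (j *ᵥ c) = 0 by linear_combination hp + hm)).resolve_left h2

end SkewStr

end Cfsg.Agent.Symplectic
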